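/-
helper903: semilinear interface for the classical rows of S5762.

`Sep...` are the geometric statements ("a p-group `Γ` of semilinear maps meets some conjugate only in scalars");
`good_of_sep` is the abstract translation to `SylMeet.Meet`.
Semilinear maps are elements of `Equiv.Perm V` (group law: composition).
-/
import Mathlib
import Cfsg.Prelude.Def_ClassicalGeometry
import Cfsg.Agent.H903.SylMeet
set_option linter.all false

set_option autoImplicit false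

namespace Cfsg.Agent.H903.SylSemi

open Cfsg.Agent.H903.SylMeet

/-- `y` is semilinear with companion automorphism `θ`. -/
def Semi (F : Type*) [Field F] {V : Type*} [AddCommGroup V] [Module F V] (y : Equiv.Perm V)
    (θ : F ≃+* F) : Prop :=
  (∀ u v, y (u + v) = y u + y v) ∧ ∀ (a : F) (v : V), y (a • v) = θ a • y v

/-- The scalar maps. -/
def scal (F : Type*) [Field F] (V : Type*) [AddCommGroup V] [Module F V] : Fˣ →* Equiv.Perm V :=
  MulAction.toPermHom Fˣ V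

@[simp] theorem scal_apply {F : Type*} [Field F] {V : Type*} [AddCommGroup V] [Module F V] (a : Fˣ)
    (v : V) : scal F V a v = (a : F) • v := rfl

section defs

variable (p : ℕ) (F : Type*) [Field F]

/-- The common shape: `Γ` ranges over the `p`-groups of permutations of `V` all of whose elements satisfy
`Y` (semilinear of the right kind) and which contain the scalars of `p`-power order; some `g` satisfying `X` has the
property that `y ∈ Γ` and `g y g⁻¹ ∈ F^* Γ` imply that `y` is a scalar. -/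
def Sep (V : Type*) [AddCommGroup V] [Module F V] (Y X : Equiv.Perm V → Prop) : Prop :=
  ∀ Γ : Subgroup (Equiv.Perm V), IsPGroup p Γ → (∀ y ∈ Γ, Y y) →
    (∀ a : Fˣ, (∃ k : ℕ, a ^ p ^ k = 1) → scal F V a ∈ Γ) →
    ∃ g : Equiv.Perm V, X g ∧
      ∀ y ∈ Γ, (∃ a : Fˣ, scal F V a * (g * y * g⁻¹) ∈ Γ) → ∃ b : Fˣ, y = scal F V b

/-- Linear of determinant one. -/
def IsSLMap (V : Type*) [AddCommGroup V] [Module F V] (g : Equiv.Perm V) : Prop :=
  ∃ f : V →ₗ[F] V, (∀ v, f v = g v) ∧ LinearMap.det f = 1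

/-- The statement for `PSL`. -/
def SepSL (V : Type*) [AddCommGroup V] [Module F V] : Prop :=
  Sep p F V (fun y => ∃ θ, Semi F y θ) (IsSLMap F V)

/-- Semisimilitudes of the symplectic form. -/
def SemiSp (m : ℕ) (y : Equiv.Perm (Fin m ⊕ Fin m → F)) : Prop :=
  ∃ (θ : F ≃+* F) (τ : F), τ ≠ 0 ∧ Semi F y θ ∧
    ∀ u v, Cfsg.sympForm m F (y u) (y v) = τ * θ (Cfsg.sympForm m F u v)

/-- Linear isometries of the symplectic form. -/
def IsSpMap (m : ℕ) (g : Equiv.Perm (Fin m ⊕ Fin m → F)) : Prop :=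
  Semi F g (RingEquiv.refl F) ∧
    ∀ u v, Cfsg.sympForm m F (g u) (g v) = Cfsg.sympForm m F u v

/-- The statement for `PSp`. -/
def SepSp (m : ℕ) : Prop :=
  Sep p F (Fin m ⊕ Fin m → F) (SemiSp F m) (IsSpMap F m)

/-- Semisimilitudes of the hermitian form. -/
def SemiU (n q : ℕ) (y : Equiv.Perm (Fin n → F)) : Prop :=
  ∃ (θ : F ≃+* F) (τ : F), τ ≠ 0 ∧ Semi F y θ ∧
    ∀ u v, Cfsg.hermForm n F q (y u) (y v) = τ * θ (Cfsg.hermForm n F q u v)

/-- Linear isometries of the hermitian form of determinant one. -/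
def IsSUMap (n q : ℕ) (g : Equiv.Perm (Fin n → F)) : Prop :=
  IsSLMap F (Fin n → F) g ∧ ∀ u v, Cfsg.hermForm n F q (g u) (g v) = Cfsg.hermForm n F q u v

/-- The statement for `PSU`. -/
def SepSU (n q : ℕ) : Prop :=
  Sep p F (Fin n → F) (SemiU F n q) (IsSUMap F n q)

variable {ι : Type} [Fintype ι] [DecidableEq ι]

/-- Semisimilarities of a quadratic form given as a function. -/
def SemiO (Q : (ι → F) → F) (y : Equiv.Perm (ι → F)) : Prop :=
  ∃ (θ : F ≃+* F) (c : F), c ≠ 0 ∧ Semi F y θ ∧ ∀ v, Q (y v) = c * θ (Q v)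

/-- Maps given by elements of `Ω(Q)`. -/
def IsOmegaMap (Q : (ι → F) → F) (g : Equiv.Perm (ι → F)) : Prop :=
  ∃ s : ↥(Cfsg.Omega F Q), ∀ v : ι → F,
    g v = Matrix.mulVec (((s : ↥(Cfsg.isometryGroup F Q)) : Matrix.GeneralLinearGroup ι F) : Matrix ι ι F) v

/-- The statement for `PΩ`. -/
def SepO (Q : (ι → F) → F) : Prop :=
  Sep p F (ι → F) (SemiO F Q) (IsOmegaMap F Q)

end defs

section translation

variable {p : ℕ} [Fact p.Prime] {F : Type*} [Field F] {V : Type*} [AddCommGroup V] [Module F V]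
  [Finite V] {T : Type*} [Group T] {X : Type*} [Group X]

/-- The permutation `y` of `V` induces the automorphism `β` of `T = π(X)`. -/
def Ind (π : X →* T) (ρ : X →* Equiv.Perm V) (y : Equiv.Perm V) (β : MulAut T) : Prop :=
  ∀ s : X, ∃ s' : X, ρ s' = y * ρ s * y⁻¹ ∧ β (π s) = π s'

omit [Finite V] [AddCommGroup V] in
theorem Ind.mul {π : X →* T} {ρ : X →* Equiv.Perm V} {y y' : Equiv.Perm V} {β β' : MulAut T}
    (h : Ind π ρ y β) (h' : Ind π ρ y' β') : Ind π ρ (y * y') (β * β') := by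
  intro s
  obtain ⟨s', h1, h2⟩ := h' s
  obtain ⟨s'', h3, h4⟩ := h s'
  refine ⟨s'', ?_, ?_⟩
  · rw [h3, h1]; group
  · rw [MulAut.mul_apply, h2, h4]

omit [Finite V] [AddCommGroup V] in
theorem Ind.one (π : X →* T) (ρ : X →* Equiv.Perm V) : Ind π ρ (1 : Equiv.Perm V) (1 : MulAut T) :=
  fun s => ⟨s, by group, rfl⟩

omit [Finite V] [AddCommGroup V] in
theorem Ind.pow {π : X →* T} {ρ : X →* Equiv.Perm V} {y : Equiv.Perm V} {β : MulAut T}
    (h : Ind π ρ y β) (n : ℕ) : Ind π ρ (y ^ n) (β ^ n) := by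
  induction n with
  | zero => simpa using Ind.one π ρ
  | succ n ih => rw [pow_succ, pow_succ]; exact ih.mul h

omit [Finite V] [AddCommGroup V] in
theorem Ind.conj (π : X →* T) (ρ : X →* Equiv.Perm V) (g : X) :
    Ind π ρ (ρ g) (MulAut.conj (π g)) :=
  fun s => ⟨g * s * g⁻¹, by simp, by simp [MulAut.conj_apply]⟩

omit [Finite V] [AddCommGroup V] in
theorem Ind.unique {π : X →* T} {ρ : X →* Equiv.Perm V} (hπ : Function.Surjective π)
    (hρ : Function.Injective ρ) {y : Equiv.Perm V} {β β' : MulAut T}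
    (h : Ind π ρ y β) (h' : Ind π ρ y β') : β = β' := by
  ext t
  obtain ⟨s, rfl⟩ := hπ t
  obtain ⟨s', h1, h2⟩ := h s
  obtain ⟨s'', h3, h4⟩ := h' s
  rw [h2, h4, hρ (h1.trans h3.symm)]

omit [AddCommGroup V] in
theorem Ind.inv [Finite T] {π : X →* T} {ρ : X →* Equiv.Perm V} {y : Equiv.Perm V} {β : MulAut T}
    (h : Ind π ρ y β) : Ind π ρ y⁻¹ β⁻¹ := by
  have h1 := h.pow (orderOf y * orderOf β - 1)
  have hy := orderOf_pos y
  have hβ := orderOf_pos β
  have e1 : y ^ (orderOf y * orderOf β - 1) = y⁻¹ := by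
    rw [eq_inv_iff_mul_eq_one, ← pow_succ, Nat.sub_add_cancel (Nat.mul_pos hy hβ), pow_mul,
      pow_orderOf_eq_one, one_pow]
  have e2 : β ^ (orderOf y * orderOf β - 1) = β⁻¹ := by
    rw [eq_inv_iff_mul_eq_one, ← pow_succ, Nat.sub_add_cancel (Nat.mul_pos hy hβ), mul_comm,
      pow_mul, pow_orderOf_eq_one, one_pow]
  rwa [e1, e2] at h1

/-- **Translation.** `T = π(X)`, `X` acts faithfully by linear maps on `V` (through `ρ`); every element of the
`p`-group `P ≤ Aut T` is induced by a semilinear map satisfying `Y`; a map satisfying `Y` which induces the identity is a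
scalar. Then the geometric statement `Sep` gives the group theoretic one. -/
theorem good_of_sep [Finite T] {π : X →* T} (hπ : Function.Surjective π) {ρ : X →* Equiv.Perm V}
    (hρ : Function.Injective ρ) {Y : Equiv.Perm V → Prop}
    (hY1 : Y 1) (hYmul : ∀ y y', Y y → Y y' → Y (y * y')) (hYscal : ∀ a : Fˣ, Y (scal F V a))
    (hYsemi : ∀ y, Y y → ∃ θ, Semi F y θ)
    (hρlin : ∀ s : X, Semi F (ρ s) (RingEquiv.refl F)) (hYρ : ∀ s : X, Y (ρ s))
    {P : Subgroup (MulAut T)} (hP : IsPGroup p P)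
    (hind : ∀ β ∈ P, ∃ y, Y y ∧ Ind π ρ y β)
    (huniq : ∀ y, Y y → Ind π ρ y 1 → ∃ a : Fˣ, y = scal F V a)
    {X' : Equiv.Perm V → Prop} (hX' : ∀ g, X' g → ∃ s : X, ρ s = g)
    (hsep : Sep p F V Y X') :
    ∃ x : T, ∀ y ∈ P, MulAut.conj x * y * (MulAut.conj x)⁻¹ ∈ P → y = 1 := by
  classical
  have hYpow : ∀ y, Y y → ∀ n : ℕ, Y (y ^ n) := by
    intro y hy n
    induction n with
    | zero => simpa using hY1
    | succ n ih => rw [pow_succ]; exact hYmul _ _ ih hy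
  have hYinv : ∀ y, Y y → Y y⁻¹ := by
    intro y hy
    have e1 : y ^ (orderOf y - 1) = y⁻¹ := by
      rw [eq_inv_iff_mul_eq_one, ← pow_succ, Nat.sub_add_cancel (orderOf_pos y),
        pow_orderOf_eq_one]
    rw [← e1]; exact hYpow _ hy _
  -- scalars induce the identity
  have hscal : ∀ a : Fˣ, Ind π ρ (scal F V a) 1 := by
    intro a s
    refine ⟨s, ?_, rfl⟩
    rw [eq_mul_inv_iff_mul_eq]
    ext v
    simp only [Equiv.Perm.mul_apply, scal_apply]
    exact (hρlin s).2 _ _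
  let Γh : Subgroup (Equiv.Perm V) :=
    { carrier := {y | Y y ∧ ∃ β ∈ P, Ind π ρ y β}
      mul_mem' := by
        rintro y y' ⟨h1, β, h2, h3⟩ ⟨h1', β', h2', h3'⟩
        exact ⟨hYmul _ _ h1 h1', β * β', P.mul_mem h2 h2', h3.mul h3'⟩
      one_mem' := ⟨hY1, 1, P.one_mem, Ind.one π ρ⟩
      inv_mem' := by
        rintro y ⟨h1, β, h2, h3⟩
        exact ⟨hYinv _ h1, β⁻¹, P.inv_mem h2, h3.inv⟩ }
  have hmem : ∀ y, y ∈ Γh ↔ Y y ∧ ∃ β ∈ P, Ind π ρ y β := fun y => Iff.rfl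
  have hch : ∀ y : Γh, ∃ β : P, Ind π ρ (y : Equiv.Perm V) (β : MulAut T) := by
    rintro ⟨y, h1, β, h2, h3⟩
    exact ⟨⟨β, h2⟩, h3⟩
  choose ψ0 hψ0 using hch
  let ψ : Γh →* P := MonoidHom.mk' ψ0 (by
    intro a b
    apply Subtype.ext
    exact Ind.unique hπ hρ (hψ0 (a * b)) ((hψ0 a).mul (hψ0 b)))
  have hψ : ∀ y : Γh, Ind π ρ (y : Equiv.Perm V) (ψ y : MulAut T) := hψ0
  have hψs : Function.Surjective ψ := by
    rintro ⟨β, hβ⟩
    obtain ⟨y, hy, hyβ⟩ := hind β hβ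
    refine ⟨⟨y, hy, β, hβ, hyβ⟩, ?_⟩
    apply Subtype.ext
    exact Ind.unique hπ hρ (hψ _) hyβ
  let S : Sylow p Γh := default
  have hSmap : (S : Subgroup Γh).map ψ = ⊤ := by
    have h1 : ((S.mapSurjective hψs : Sylow p P) : Subgroup P) = (S : Subgroup Γh).map ψ :=
      Sylow.coe_mapSurjective hψs S
    rw [← h1]
    have htop : IsPGroup p (⊤ : Subgroup P) := hP.of_equiv Subgroup.topEquiv.symm
    exact ((S.mapSurjective hψs).3 htop le_top).symm
  -- the normal subgroup of `p`-power scalars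
  let N : Subgroup Γh :=
    { carrier := {y | ∃ a : Fˣ, (y : Equiv.Perm V) = scal F V a ∧ ∃ k : ℕ, a ^ p ^ k = 1}
      mul_mem' := by
        rintro y y' ⟨a, h1, k, h2⟩ ⟨a', h1', k', h2'⟩
        refine ⟨a * a', by rw [Subgroup.coe_mul, h1, h1', map_mul], k + k', ?_⟩
        rw [mul_pow, pow_add, pow_mul, h2, one_pow, one_mul, mul_comm (p ^ k), pow_mul, h2', one_pow]
      one_mem' := ⟨1, by simp, 0, by simp⟩
      inv_mem' := by
        rintro y ⟨a, h1, k, h2⟩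
        exact ⟨a⁻¹, by rw [Subgroup.coe_inv, h1, map_inv], k, by rw [inv_pow, h2, inv_one]⟩ }
  have hNn : N.Normal := ⟨by
    rintro y ⟨a, h1, k, h2⟩ g
    obtain ⟨θ, hθ⟩ := hYsemi _ g.2.1
    refine ⟨Units.map θ.toMonoidHom a, ?_, k, by rw [← map_pow, h2, map_one]⟩
    rw [Subgroup.coe_mul, Subgroup.coe_mul, h1, Subgroup.coe_inv, mul_inv_eq_iff_eq_mul]
    ext v
    simp only [Equiv.Perm.mul_apply, scal_apply]
    exact hθ.2 _ _⟩
  have hNp : IsPGroup p N := by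
    rintro ⟨y, a, h1, k, h2⟩
    refine ⟨k, ?_⟩
    apply Subtype.ext
    apply Subtype.ext
    simp only [SubmonoidClass.coe_pow, OneMemClass.coe_one]
    rw [h1, ← map_pow, h2, map_one]
  have hNS : N ≤ (S : Subgroup Γh) := by
    have h1 : IsPGroup p ((S : Subgroup Γh) ⊔ N : Subgroup Γh) := S.2.to_sup_of_normal_right hNp
    have h2 := S.3 h1 le_sup_left
    rw [← h2]; exact le_sup_right
  let Γ : Subgroup (Equiv.Perm V) := (S : Subgroup Γh).map Γh.subtype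
  have hΓ : ∀ y, y ∈ Γ ↔ ∃ h : y ∈ Γh, (⟨y, h⟩ : Γh) ∈ S := by
    intro y
    constructor
    · rintro ⟨z, hz, rfl⟩
      exact ⟨z.2, hz⟩
    · rintro ⟨h, hz⟩
      exact ⟨⟨y, h⟩, hz, rfl⟩
  obtain ⟨g, hg, hsepg⟩ := hsep Γ (S.2.map _) (fun y hy => by
      obtain ⟨h, -⟩ := (hΓ y).1 hy
      exact h.1) (fun a ha => by
      have h1 : scal F V a ∈ Γh := ⟨hYscal a, 1, P.one_mem, hscal a⟩
      exact (hΓ _).2 ⟨h1, hNS ⟨a, rfl, ha⟩⟩)
  obtain ⟨s, rfl⟩ := hX' g hg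
  refine ⟨π s, fun β hβ hβ' => ?_⟩
  have hlift : ∀ β ∈ P, ∃ y ∈ Γ, Ind π ρ y β := by
    intro β hβ
    have h1 : (⟨β, hβ⟩ : P) ∈ (S : Subgroup Γh).map ψ := hSmap ▸ Subgroup.mem_top _
    obtain ⟨y, hy, hyβ⟩ := h1
    refine ⟨y, (hΓ _).2 ⟨y.2, hy⟩, ?_⟩
    have h2 := hψ y
    rw [hyβ] at h2
    exact h2
  obtain ⟨y, hy, hyβ⟩ := hlift β hβ
  obtain ⟨y', hy', hyβ'⟩ := hlift _ hβ'
  have h1 : Ind π ρ (ρ s * y * (ρ s)⁻¹) (MulAut.conj (π s) * β * (MulAut.conj (π s))⁻¹) :=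
    ((Ind.conj π ρ s).mul hyβ).mul (Ind.conj π ρ s).inv
  have hYy : Y y := by
    obtain ⟨h, -⟩ := (hΓ y).1 hy
    exact h.1
  have hYy' : Y y' := by
    obtain ⟨h, -⟩ := (hΓ y').1 hy'
    exact h.1
  have h2 : Ind π ρ (y' * (ρ s * y * (ρ s)⁻¹)⁻¹) 1 := by
    have h3 := hyβ'.mul h1.inv
    rwa [mul_inv_cancel] at h3
  obtain ⟨a, ha⟩ := huniq _ (hYmul _ _ hYy' (hYinv _ (hYmul _ _ (hYmul _ _ (hYρ s) hYy)
    (hYinv _ (hYρ s))))) h2
  obtain ⟨b, hb⟩ := hsepg y hy ⟨a, by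
    rw [← ha]
    have : y' * (ρ s * y * (ρ s)⁻¹)⁻¹ * (ρ s * y * (ρ s)⁻¹) = y' := by group
    rw [this]; exact hy'⟩
  exact Ind.unique hπ hρ hyβ (hb ▸ hscal b)

end translation

end Cfsg.Agent.H903.SylSemi
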