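import Mathlib
import Cfsg.Agent.H935.Meet.Base_m3
import Cfsg.Agent.H728.Syl3.Mono
import Cfsg.Agent.H458.B3.Sp
import Cfsg.Agent.H749.BlockOrth_m3
import Cfsg.Agent.S0277
import Cfsg.Agent.LieClassical.SUBasic
import Cfsg.Agent.S0908
import Cfsg.Agent.S0914
import Cfsg.Agent.S0956
import Cfsg.Agent.S0906
import Cfsg.Agent.Blocks.ExistsModular
import Cfsg.Agent.ClassicalGeometry.SLTwoFour
import Cfsg.Agent.GTwoOdd.HexField_m3
import Cfsg.Agent.H763.PsaRows
import Cfsg.Agent.H126.S74.OmInv
import Cfsg.Agent.H68.MeetThThreeData_m3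
import Cfsg.Agent.S2544
import Cfsg.Agent.S2545
import Cfsg.Agent.S2546
import Cfsg.Agent.S2547
import Cfsg.Agent.S2548
import Cfsg.Agent.S2549
import Cfsg.Agent.S2311
import Cfsg.Agent.S2327
import Cfsg.Agent.S2326
import Cfsg.Agent.Nodes.NormalForm
import Cfsg.Agent.Cit.CloGlue_m3
import Cfsg.Agent.ChevalleyStructure.FastFinal
import Cfsg.Agent.Nodes.RGDChev
import Cfsg.Agent.Nodes.RGDFold
import Cfsg.Agent.H172.SIComm
import Cfsg.Agent.H172.SITw_m3
import Cfsg.Agent.S1092
import Cfsg.Agent.S1093
import Cfsg.Agent.H101.RealOdd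
import Cfsg.Agent.KFacts.FiTTh.BasInv
import Cfsg.Agent.H972.RO
import Cfsg.Agent.H839.SeventeenMain_m3
import Cfsg.Agent.KFacts.FiTTh.Has
import Cfsg.Agent.H729.PairHe
import Cfsg.Agent.H547.SelfCent.He
import Cfsg.Agent.SigZeroHN.Main
import Cfsg.Agent.H843.N29
import Cfsg.Agent.H547.SelfCent.Base
import Cfsg.Agent.H701.SporFi24
import Cfsg.Agent.FastGrp
import Cfsg.Agent.Prune
set_option linter.all false

section
prune_inst 0x7f00000000000000000000000000000000000000000000000000000000000000000000000000000000000000000000000000000000000000000000000000000000000000000000000000000000000000003fffffffffffffffffffffffffffbeffbdffffffff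

section
prune_inst 0xfefafbaaf8b5dfdfff7e7ff699cffc3b801fffe6dff94b7fe0ebdf0b9f030009e16ba50de010fc0ed7e01410b87853fb7eeedfe06bd87ffffd1ff45ffb6e0ff5f7bd0051d688340f3c2fff63f0778e7f000000000000000000000000000000000200000000

-- part: H728/Meet2/Psl
section
prune_inst 0x10100110348002000000000240001c03b2000000000b0800800200040581242009402620b20004000002000400300048110200100200000000000000091d00a0800080001100a00c040009800080000000000000000000000000000000000000000000000
set_option linter.all false
open scoped Cfsg.Agent.FastGrp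

-- part: H728/Meet2/Frame
section
/-!
# Block monomial maps (helper728)

`V = (I → W) × U`.

* `bm σ A D` : `(u, w) ↦ (k ↦ A k (u (σ⁻¹ k)), D w)`;
* `BM` : the group of these maps; `card_BM` : its order;
* `bl M c c'` : the linear map with the blocks `M`, `c`, `c'`, and 1 in the last place;
* `rel_of_comm` : the relations between the blocks when `x y = y' x`, `x` a block matrix, `y`, `y'` monomial.
-/

set_option autoImplicit false

namespace Cfsg.Agent.H728.Meet2

open Equiv Module

section frame

variable {F : Type*} [Field F] {I : Type*} {W U : Type*} [AddCommGroup W] [Module F W] [AddCommGroup U] [Module F U]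

/-- the block monomial map -/
def bm (σ : Perm I) (A : I → (W ≃ₗ[F] W)) (D : U ≃ₗ[F] U) : ((I → W) × U) ≃ₗ[F] ((I → W) × U) where
  toFun v := (fun k => A k (v.1 (σ.symm k)), D v.2)
  invFun v := (fun k => (A (σ k)).symm (v.1 (σ k)), D.symm v.2)
  left_inv v := Prod.ext (funext fun k => by simp) (by simp)
  right_inv v := Prod.ext (funext fun k => by simp) (by simp)
  map_add' u v := Prod.ext (funext fun k => by simp) (by simp only [_root_.Prod.snd_add, _root_.map_add, _root_.Prod.mk_add_mk])
  map_smul' a v := Prod.ext (funext fun k => by simp) (by simp only [_root_.Prod.smul_snd, _root_.map_smul, _root_.RingHom.id_apply, _root_.Prod.smul_mk])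

theorem bm_fst (σ : Perm I) (A : I → (W ≃ₗ[F] W)) (D : U ≃ₗ[F] U) (v : (I → W) × U) (k : I) :
    (bm σ A D v).1 k = A k (v.1 (σ.symm k)) := rfl

theorem bm_snd (σ : Perm I) (A : I → (W ≃ₗ[F] W)) (D : U ≃ₗ[F] U) (v : (I → W) × U) :
    (bm σ A D v).2 = D v.2 := rfl

theorem bm_mul (σ σ' : Perm I) (A A' : I → (W ≃ₗ[F] W)) (D D' : U ≃ₗ[F] U) :
    bm σ A D * bm σ' A' D' = bm (σ * σ') (fun k => A k * A' (σ.symm k)) (D * D') :=
  LinearEquiv.ext fun _ => rfl

theorem bm_one : bm (F := F) (1 : Perm I) (1 : I → (W ≃ₗ[F] W)) (1 : U ≃ₗ[F] U) = 1 :=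
  LinearEquiv.ext fun _ => rfl

/-- the block monomial group -/
def BM (F I W U : Type*) [Field F] [AddCommGroup W] [Module F W] [AddCommGroup U] [Module F U] :
    Subgroup (((I → W) × U) ≃ₗ[F] ((I → W) × U)) where
  carrier := {g | ∃ σ A D, g = bm σ A D}
  mul_mem' := by
    rintro _ _ ⟨σ, A, D, rfl⟩ ⟨σ', A', D', rfl⟩
    exact ⟨_, _, _, bm_mul σ σ' A A' D D'⟩
  one_mem' := ⟨1, 1, 1, bm_one.symm⟩
  inv_mem' := by
    rintro _ ⟨σ, A, D, rfl⟩
    refine ⟨σ⁻¹, fun k => (A (σ k))⁻¹, D⁻¹, ?_⟩
    rw [inv_eq_iff_mul_eq_one, bm_mul, ← bm_one]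
    congr 1
    · simp
    · funext k
      simp
    · simp

theorem bm_injective [Nontrivial W] {σ σ' : Perm I} {A A' : I → (W ≃ₗ[F] W)} {D D' : U ≃ₗ[F] U}
    (h : bm σ A D = bm σ' A' D') : σ = σ' ∧ A = A' ∧ D = D' := by
  classical
  obtain ⟨w, hw⟩ := exists_ne (0 : W)
  have key : ∀ (u : I → W) (k : I), A k (u (σ.symm k)) = A' k (u (σ'.symm k)) := fun u k =>
    congrArg (fun g : ((I → W) × U) ≃ₗ[F] ((I → W) × U) => (g (u, 0)).1 k) h
  have hσ : σ = σ' := by
    have h2 : σ.symm = σ'.symm := by
      ext1 k
      have h1 := key (Pi.single (σ.symm k) w) k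
      rw [Pi.single_eq_same] at h1
      by_contra hne
      rw [Pi.single_eq_of_ne (Ne.symm hne), map_zero] at h1
      exact hw ((A k).map_eq_zero_iff.1 h1)
    rw [← Equiv.symm_symm σ, h2, Equiv.symm_symm]
  subst hσ
  refine ⟨rfl, ?_, ?_⟩
  · funext k
    exact LinearEquiv.ext fun a => key (fun _ => a) k
  · exact LinearEquiv.ext fun a =>
      congrArg (fun g : ((I → W) × U) ≃ₗ[F] ((I → W) × U) => (g (0, a)).2) h

theorem card_BM [Nontrivial W] [Fintype I] [Finite (W ≃ₗ[F] W)] :
    Nat.card (BM F I W U) = (Fintype.card I).factorial * Nat.card (W ≃ₗ[F] W) ^ Fintype.card I *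
      Nat.card (U ≃ₗ[F] U) := by
  classical
  let e : (Perm I × (I → (W ≃ₗ[F] W))) × (U ≃ₗ[F] U) ≃ BM F I W U :=
    Equiv.ofBijective (fun x => ⟨bm x.1.1 x.1.2 x.2, x.1.1, x.1.2, x.2, rfl⟩) ⟨by
      rintro ⟨⟨σ, A⟩, D⟩ ⟨⟨σ', A'⟩, D'⟩ h
      obtain ⟨rfl, rfl, rfl⟩ := bm_injective (congrArg Subtype.val h)
      rfl, by
      rintro ⟨_, σ, A, D, rfl⟩
      exact ⟨((σ, A), D), rfl⟩⟩
  rw [← Nat.card_congr e, Nat.card_prod, Nat.card_prod, Nat.card_perm, Nat.card_eq_fintype_card (α := I),
    Nat.card_fun, Nat.card_eq_fintype_card (α := I)]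

/-! ### Block matrices -/

variable [Fintype I]

/-- the linear map with the blocks `M k j`, `c k`, `c' j`, and the identity in the last place -/
def bl (M : I → I → (W →ₗ[F] W)) (c : I → (U →ₗ[F] W)) (c' : I → (W →ₗ[F] U)) :
    ((I → W) × U) →ₗ[F] ((I → W) × U) where
  toFun v := (fun k => (∑ j, M k j (v.1 j)) + c k v.2, v.2 + ∑ j, c' j (v.1 j))
  map_add' u v := by
    refine Prod.ext (funext fun k => ?_) ?_
    · simp only [Prod.fst_add, Prod.snd_add, Pi.add_apply, map_add, Finset.sum_add_distrib]
      abel
    · simp only [Prod.fst_add, Prod.snd_add, Pi.add_apply, map_add, Finset.sum_add_distrib]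
      abel
  map_smul' a v := by
    refine Prod.ext (funext fun k => ?_) ?_
    · simp only [Prod.smul_fst, Prod.smul_snd, Pi.smul_apply, map_smul, RingHom.id_apply, smul_add,
        Finset.smul_sum]
    · simp only [Prod.smul_fst, Prod.smul_snd, Pi.smul_apply, map_smul, RingHom.id_apply, smul_add,
        Finset.smul_sum]

theorem bl_fst (M : I → I → (W →ₗ[F] W)) (c : I → (U →ₗ[F] W)) (c' : I → (W →ₗ[F] U)) (v : (I → W) × U) (k : I) :
    (bl M c c' v).1 k = (∑ j, M k j (v.1 j)) + c k v.2 := rfl

theorem bl_snd (M : I → I → (W →ₗ[F] W)) (c : I → (U →ₗ[F] W)) (c' : I → (W →ₗ[F] U)) (v : (I → W) × U) :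
    (bl M c c' v).2 = v.2 + ∑ j, c' j (v.1 j) := rfl

variable [DecidableEq I]

theorem bl_single (M : I → I → (W →ₗ[F] W)) (c : I → (U →ₗ[F] W)) (c' : I → (W →ₗ[F] U)) (j : I) (a : W) :
    bl M c c' (Pi.single j a, 0) = (fun k => M k j a, c' j a) := by
  refine Prod.ext (funext fun k => ?_) ?_
  · rw [bl_fst, map_zero, add_zero, Finset.sum_eq_single j]
    · change M k j ((Pi.single j a : I → W) j) = M k j a
      rw [Pi.single_eq_same]
    · intro l _ hl
      change M k l ((Pi.single j a : I → W) l) = 0
      rw [Pi.single_eq_of_ne hl, map_zero]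
    · intro h; exact absurd (Finset.mem_univ _) h
  · rw [bl_snd, zero_add, Finset.sum_eq_single j]
    · change c' j ((Pi.single j a : I → W) j) = c' j a
      rw [Pi.single_eq_same]
    · intro l _ hl
      change c' l ((Pi.single j a : I → W) l) = 0
      rw [Pi.single_eq_of_ne hl, map_zero]
    · intro h; exact absurd (Finset.mem_univ _) h

omit [Fintype I] in
theorem bm_single (σ : Perm I) (A : I → (W ≃ₗ[F] W)) (D : U ≃ₗ[F] U) (j : I) (a : W) :
    bm σ A D (Pi.single j a, 0) = (Pi.single (σ j) (A (σ j) a), 0) := by
  refine Prod.ext (funext fun k => ?_) (map_zero D)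
  rw [bm_fst]
  by_cases h : k = σ j
  · subst h
    rw [Equiv.symm_apply_apply]
    change A (σ j) ((Pi.single j a : I → W) j) = (Pi.single (σ j) (A (σ j) a) : I → W) (σ j)
    rw [Pi.single_eq_same, Pi.single_eq_same]
  · have h2 : σ.symm k ≠ j := fun h3 => h (by rw [← h3, Equiv.apply_symm_apply])
    change A k ((Pi.single j a : I → W) (σ.symm k)) = (Pi.single (σ j) (A (σ j) a) : I → W) k
    rw [Pi.single_eq_of_ne h2, Pi.single_eq_of_ne h, map_zero]

/-- **The relations between the blocks.** -/
theorem rel_of_comm {M : I → I → (W →ₗ[F] W)} {c : I → (U →ₗ[F] W)} {c' : I → (W →ₗ[F] U)}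
    {σ τ : Perm I} {A A' : I → (W ≃ₗ[F] W)} {D D' : U ≃ₗ[F] U}
    (h : ∀ v, bl M c c' (bm σ A D v) = bm τ A' D' (bl M c c' v)) :
    (∀ i j a, M (τ i) (σ j) (A (σ j) a) = A' (τ i) (M i j a)) ∧
    (∀ j a, c' (σ j) (A (σ j) a) = D' (c' j a)) ∧ D = D' ∧
    (∀ k w, c (τ k) (D w) = A' (τ k) (c k w)) := by
  refine ⟨fun i j a => ?_, fun j a => ?_, ?_, fun k w => ?_⟩
  · have h1 := h (Pi.single j a, 0)
    rw [bm_single, bl_single, bl_single] at h1
    have h2 := congrFun (congrArg Prod.fst h1) (τ i)
    rw [bm_fst, Equiv.symm_apply_apply] at h2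
    exact h2
  · have h1 := h (Pi.single j a, 0)
    rw [bm_single, bl_single, bl_single] at h1
    exact congrArg Prod.snd h1
  · refine LinearEquiv.ext fun w => ?_
    have h1 := congrArg Prod.snd (h (0, w))
    rw [bl_snd, bm_snd, bm_snd, bl_snd] at h1
    simpa only [bm_fst, _root_.Pi.zero_apply, _root_.map_zero, _root_.Finset.sum_const_zero, _root_.add_zero] using h1
  · have h1 := congrFun (congrArg Prod.fst (h (0, w))) (τ k)
    rw [bl_fst, bm_fst, bm_snd, bl_fst, Equiv.symm_apply_apply] at h1
    simpa only [bm_fst, _root_.Pi.zero_apply, _root_.map_zero, _root_.Finset.sum_const_zero, _root_.zero_add] using h1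

end frame

end Cfsg.Agent.H728.Meet2
end

-- part: H728/Meet2/Rigid
section
/-!
# Rigid block matrices (helper728)

`Rig E c₀ N` : `1 + N` is rigid: if `1 + N` maps the block monomial map `y` to a block monomial map, then `y` permutes
no blocks and all its blocks are equal and commute with `E`.

* `rig_tri` : `m ≥ 3` blocks;
* `rig_two` : two blocks;
* `rig_one` : one block and a line;
* `scal_of_rig` : the conclusion for elements of 2-power order.
-/

set_option autoImplicit false

namespace Cfsg.Agent.H728.Meet2

open Equiv Module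

section general

variable {F : Type*} [Field F] {I : Type*} [Fintype I] [DecidableEq I] {W U : Type*} [AddCommGroup W] [Module F W]
  [AddCommGroup U] [Module F U]

/-- rigid nilpotent maps -/
def Rig (E : W →ₗ[F] W) (c₀ : U →ₗ[F] W) (N : ((I → W) × U) →ₗ[F] ((I → W) × U)) : Prop :=
  ∀ (σ τ : Perm I) (A A' : I → (W ≃ₗ[F] W)) (D D' : U ≃ₗ[F] U),
    (∀ v, bm σ A D v + N (bm σ A D v) = bm τ A' D' (v + N v)) →
    σ = 1 ∧ ∃ A₀ : W ≃ₗ[F] W, (∀ i, A i = A₀) ∧ (∀ a, E (A₀ a) = A₀ (E a)) ∧ ∀ w, c₀ (D w) = A₀ (c₀ w)

end general

/-! ### At least three blocks -/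

section tri

variable {F : Type*} [Field F] {W U : Type*} [AddCommGroup W] [Module F W] [AddCommGroup U] [Module F U]
  {m : ℕ} (E : W →ₗ[F] W) (c₀ : U →ₗ[F] W)

/-- upper triangular, all blocks on and above the diagonal invertible -/
def triM (m : ℕ) (i j : Fin m) : W →ₗ[F] W :=
  if i ≤ j then (if i.val = 0 ∧ j.val = 2 then 1 + E else 1) else 0

/-- the last column -/
def triC (m : ℕ) (i : Fin m) : U →ₗ[F] W := if i.val = 0 then c₀ else 0

theorem triM_diag (i : Fin m) : triM E m i i = 1 := by
  unfold triM
  rw [if_pos le_rfl, if_neg (by omega)]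

theorem triM_of_not {i j : Fin m} (h : ¬ i ≤ j) : triM E m i j = 0 := by
  unfold triM
  rw [if_neg h]

theorem triM_one {i j : Fin m} (h : i ≤ j) (h2 : ¬ (i.val = 0 ∧ j.val = 2)) : triM E m i j = 1 := by
  unfold triM
  rw [if_pos h, if_neg h2]

variable {E c₀}

theorem triM_ne (hE : ∀ a, E (E a) = 0) {i j : Fin m} (h : i ≤ j) {a : W} (ha : a ≠ 0) : triM E m i j a ≠ 0 := by
  unfold triM
  rw [if_pos h]
  split_ifs with h2
  · intro h3
    have h4 : a + E a = 0 := h3
    have h5 : E a = 0 := by
      have h6 := congrArg E h4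
      rw [map_add, hE, add_zero, map_zero] at h6
      exact h6
    rw [h5, add_zero] at h4
    exact ha h4
  · exact ha

/-- nilpotency -/
theorem tri_nilp : IsNilpotent (bl (triM E m) (triC c₀ m) (fun _ => (0 : W →ₗ[F] U)) - 1) := by
  refine ⟨m + 1, ?_⟩
  have key : ∀ (r : ℕ) (v : (Fin m → W) × U),
      (((bl (triM E m) (triC c₀ m) (fun _ => (0 : W →ₗ[F] U)) - 1) ^ (r + 1)) v).2 = 0 ∧
      ∀ k : Fin m, m + 1 ≤ k.val + (r + 1) →
        (((bl (triM E m) (triC c₀ m) (fun _ => (0 : W →ₗ[F] U)) - 1) ^ (r + 1)) v).1 k = 0 := by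
    intro r
    have h2 : ∀ v : (Fin m → W) × U, ((bl (triM E m) (triC c₀ m) (fun _ => (0 : W →ₗ[F] U)) - 1) v).2 = 0 := by
      intro v
      change (bl (triM E m) (triC c₀ m) (fun _ => (0 : W →ₗ[F] U)) v).2 - v.2 = 0
      rw [bl_snd]
      simp only [_root_.LinearMap.zero_apply, _root_.Finset.sum_const_zero, _root_.add_zero, _root_.sub_self]
    induction r with
    | zero =>
      intro v
      refine ⟨?_, fun k hk => ?_⟩
      · rw [zero_add, pow_one]; exact h2 v
      · have := k.2
        omega
    | succ r ih =>
      intro v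
      obtain ⟨h3, h4⟩ := ih v
      rw [pow_succ']
      refine ⟨h2 _, fun k hk => ?_⟩
      set v' := ((bl (triM E m) (triC c₀ m) (fun _ => (0 : W →ₗ[F] U)) - 1) ^ (r + 1)) v with hv'
      change (bl (triM E m) (triC c₀ m) (fun _ => (0 : W →ₗ[F] U)) v').1 k - v'.1 k = 0
      rw [bl_fst, h3, map_zero, add_zero, Finset.sum_eq_single k, triM_diag]
      · exact sub_self _
      · intro j _ hj
        by_cases h5 : k ≤ j
        · have h6 : k.val < j.val := lt_of_le_of_ne h5 fun h => hj (Fin.ext h.symm)
          rw [h4 j (by omega), map_zero]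
        · rw [triM_of_not E h5]
          rfl
      · intro h; exact absurd (Finset.mem_univ _) h
  apply LinearMap.ext
  intro v
  obtain ⟨h3, h4⟩ := key m v
  exact Prod.ext (funext fun k => h4 k (by omega)) h3

theorem rig_tri [Nontrivial W] (hE : ∀ a, E (E a) = 0) (hm : 3 ≤ m) :
    Rig E c₀ (bl (triM E m) (triC c₀ m) (fun _ => (0 : W →ₗ[F] U)) - 1) := by
  intro σ τ A A' D D' h
  obtain ⟨R1, -, R3, R4⟩ := rel_of_comm (M := triM E m) (c := triC c₀ m) (c' := fun _ => (0 : W →ₗ[F] U))
    (σ := σ) (τ := τ) (A := A) (A' := A') (D := D) (D' := D') (fun v => by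
      have h1 := h v
      rw [LinearMap.sub_apply, LinearMap.sub_apply] at h1
      simpa only [_root_.Module.End.one_apply, _root_.add_sub_cancel] using h1)
  obtain ⟨a₀, ha₀⟩ := exists_ne (0 : W)
  have hiff : ∀ i j, i ≤ j ↔ τ i ≤ σ j := by
    intro i j
    constructor
    · intro hij
      by_contra hc
      have h1 := R1 i j a₀
      rw [triM_of_not E hc] at h1
      exact triM_ne hE hij ha₀ ((A' (τ i)).map_eq_zero_iff.1 h1.symm)
    · intro hij
      by_contra hc
      have h1 := R1 i j a₀
      rw [triM_of_not E hc] at h1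
      have h2 : (0 : W →ₗ[F] W) a₀ = 0 := rfl
      rw [h2, map_zero] at h1
      exact triM_ne hE hij (fun h3 => ha₀ ((A (σ j)).map_eq_zero_iff.1 h3)) h1
  have hτ : ∀ i, τ i = i := by
    intro i
    have h1 : Finset.Ici (τ i) = (Finset.Ici i).map σ.toEmbedding := by
      ext j
      rw [Finset.mem_Ici, Finset.mem_map]
      constructor
      · intro hj
        refine ⟨σ.symm j, Finset.mem_Ici.2 ((hiff _ _).2 (by rwa [Equiv.apply_symm_apply])), ?_⟩
        exact Equiv.apply_symm_apply _ _
      · rintro ⟨k, hk, rfl⟩
        exact (hiff _ _).1 (Finset.mem_Ici.1 hk)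
    have h2 := congrArg Finset.card h1
    rw [Finset.card_map, Fin.card_Ici, Fin.card_Ici] at h2
    apply Fin.ext
    have h3 := i.2
    have h4 := (τ i).2
    omega
  have hσ : ∀ j, σ j = j := by
    intro j
    have h1 : Finset.Iic (σ j) = (Finset.Iic j).map τ.toEmbedding := by
      ext i
      rw [Finset.mem_Iic, Finset.mem_map]
      constructor
      · intro hj
        refine ⟨τ.symm i, Finset.mem_Iic.2 ((hiff _ _).2 (by rwa [Equiv.apply_symm_apply])), ?_⟩
        exact Equiv.apply_symm_apply _ _
      · rintro ⟨k, hk, rfl⟩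
        exact (hiff _ _).1 (Finset.mem_Iic.1 hk)
    have h2 := congrArg Finset.card h1
    rw [Finset.card_map, Fin.card_Iic, Fin.card_Iic] at h2
    apply Fin.ext
    omega
  have S1 : ∀ i j a, triM E m i j (A j a) = A' i (triM E m i j a) := by
    intro i j a
    have := R1 i j a
    rwa [hτ, hσ] at this
  have S4 : ∀ k w, triC c₀ m k (D w) = A' k (triC c₀ m k w) := by
    intro k w
    have := R4 k w
    rwa [hτ] at this
  have hAA : ∀ i, A' i = A i := by
    intro i
    refine LinearEquiv.ext fun a => ?_
    have h1 := S1 i i a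
    rw [triM_diag] at h1
    exact h1.symm
  have hlt : ∀ i j : Fin m, i ≤ j → ¬ (i.val = 0 ∧ j.val = 2) → A j = A i := by
    intro i j hij h2
    refine LinearEquiv.ext fun a => ?_
    have h1 := S1 i j a
    rw [triM_one E hij h2, hAA] at h1
    exact h1
  have hall : ∀ i, A i = A ⟨0, by omega⟩ := by
    intro i
    have h1 : A ⟨1, by omega⟩ = A ⟨0, by omega⟩ := hlt _ _ (by rw [Fin.le_def]; simp) (by simp)
    by_cases h0 : i.val = 0
    · congr 1
      exact Fin.ext h0
    · rw [← h1]
      exact hlt ⟨1, by omega⟩ i (by rw [Fin.le_def]; simp only; omega) (by simp)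
  refine ⟨Equiv.ext hσ, A ⟨0, by omega⟩, hall, fun a => ?_, fun w => ?_⟩
  · have h1 := S1 ⟨0, by omega⟩ ⟨2, by omega⟩ a
    unfold triM at h1
    rw [if_pos (by rw [Fin.le_def]; simp), if_pos ⟨rfl, rfl⟩, hAA, hall ⟨2, by omega⟩] at h1
    have h2 : A ⟨0, by omega⟩ a + E (A ⟨0, by omega⟩ a) = A ⟨0, by omega⟩ (a + E a) := h1
    rw [map_add] at h2
    exact add_left_cancel h2
  · have h1 := S4 ⟨0, by omega⟩ w
    unfold triC at h1
    rw [if_pos rfl, hAA] at h1
    exact h1

end tri

/-! ### Two blocks -/

section two

variable {F : Type*} [Field F] {W U : Type*} [AddCommGroup W] [Module F W] [AddCommGroup U] [Module F U]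
  (E : W →ₗ[F] W) (c₀ : U →ₗ[F] W)

/-- the 2 x 2 block matrix with the rows `1 E`, `1 1` -/
def twoM (i j : Fin 2) : W →ₗ[F] W := if i = 0 ∧ j = 1 then E else 1

/-- the last column -/
def twoC (i : Fin 2) : U →ₗ[F] W := if i = 0 then c₀ else 0

variable {E c₀}

theorem two_nilp (hE : ∀ a, E (E a) = 0) (hc : ∀ w, E (c₀ w) = 0) :
    IsNilpotent (bl (twoM E) (twoC c₀) (fun _ => (0 : W →ₗ[F] U)) - 1) := by
  refine ⟨4, ?_⟩
  set N := bl (twoM E) (twoC c₀) (fun _ => (0 : W →ₗ[F] U)) - 1 with hN
  have h : ∀ v, N v = (![E (v.1 1) + c₀ v.2, v.1 0], 0) := by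
    intro v
    change bl (twoM E) (twoC c₀) (fun _ => (0 : W →ₗ[F] U)) v - v = _
    refine Prod.ext (funext fun k => ?_) ?_
    · change (bl (twoM E) (twoC c₀) (fun _ => (0 : W →ₗ[F] U)) v).1 k - v.1 k = _
      rw [bl_fst, Fin.sum_univ_two]
      fin_cases k
      · change (twoM E 0 0 (v.1 0) + twoM E 0 1 (v.1 1)) + twoC c₀ 0 v.2 - v.1 0 = E (v.1 1) + c₀ v.2
        have e1 : twoM E 0 0 = 1 := by unfold twoM; simp
        have e2 : twoM E 0 1 = E := by unfold twoM; simp
        have e3 : twoC c₀ 0 = c₀ := by unfold twoC; simp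
        rw [e1, e2, e3, End.one_apply]
        abel
      · change (twoM E 1 0 (v.1 0) + twoM E 1 1 (v.1 1)) + twoC c₀ 1 v.2 - v.1 1 = v.1 0
        have e1 : twoM E 1 0 = 1 := by unfold twoM; simp
        have e2 : twoM E 1 1 = 1 := by unfold twoM; simp
        have e3 : twoC c₀ 1 = 0 := by unfold twoC; simp
        rw [e1, e2, e3, End.one_apply, End.one_apply, LinearMap.zero_apply]
        abel
    · change (bl (twoM E) (twoC c₀) (fun _ => (0 : W →ₗ[F] U)) v).2 - v.2 = 0
      rw [bl_snd]
      simp
  apply LinearMap.ext
  intro v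
  have e : (N ^ 4) v = N (N (N (N v))) := rfl
  rw [e, h (N (N (N v))), h (N (N v)), h (N v), h v]
  refine Prod.ext (funext fun k => ?_) rfl
  fin_cases k
  · simp [hE]
  · simp [hE, hc]

theorem rig_two [Nontrivial W] {e₁ : W} (he : e₁ ≠ 0) (hEe : E e₁ = 0) :
    Rig E c₀ (bl (twoM E) (twoC c₀) (fun _ => (0 : W →ₗ[F] U)) - 1) := by
  intro σ τ A A' D D' h
  obtain ⟨R1, -, R3, R4⟩ := rel_of_comm (M := twoM E) (c := twoC c₀) (c' := fun _ => (0 : W →ₗ[F] U))
    (σ := σ) (τ := τ) (A := A) (A' := A') (D := D) (D' := D') (fun v => by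
      have h1 := h v
      rw [LinearMap.sub_apply, LinearMap.sub_apply] at h1
      simpa only [_root_.Module.End.one_apply, _root_.add_sub_cancel] using h1)
  have hne : ∀ i j : Fin 2, ¬ (i = 0 ∧ j = 1) → twoM E i j = 1 := by
    intro i j hij
    unfold twoM
    rw [if_neg hij]
  have h01 : twoM E 0 1 = E := by unfold twoM; simp
  have h1 : τ 0 = 0 ∧ σ 1 = 1 := by
    by_contra hc
    have h2 := R1 0 1 e₁
    rw [h01, hEe, (A' (τ 0)).map_zero, hne _ _ hc] at h2
    exact he ((A (σ 1)).map_eq_zero_iff.1 h2)
  have hτ : ∀ i, τ i = i := by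
    intro i
    by_cases h0 : i = 0
    · rw [h0, h1.1]
    · have h2 : τ i ≠ 0 := fun h3 => h0 (τ.injective (h3.trans h1.1.symm))
      omega
  have hσ : ∀ i, σ i = i := by
    intro i
    by_cases h0 : i = 1
    · rw [h0, h1.2]
    · have h2 : σ i ≠ 1 := fun h3 => h0 (σ.injective (h3.trans h1.2.symm))
      omega
  have S1 : ∀ i j a, twoM E i j (A j a) = A' i (twoM E i j a) := by
    intro i j a
    have := R1 i j a
    rwa [hτ, hσ] at this
  have S4 : ∀ k w, twoC c₀ k (D w) = A' k (twoC c₀ k w) := by
    intro k w
    have := R4 k w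
    rwa [hτ] at this
  have T : ∀ i j : Fin 2, ¬ (i = 0 ∧ j = 1) → A j = A' i := by
    intro i j hij
    refine LinearEquiv.ext fun a => ?_
    have h2 := S1 i j a
    rw [hne i j hij] at h2
    exact h2
  have h00 := T 0 0 (by simp)
  have h10 := T 1 0 (by simp)
  have h11 := T 1 1 (by simp)
  refine ⟨Equiv.ext hσ, A 0, ?_, fun a => ?_, fun w => ?_⟩
  · intro i
    fin_cases i
    · rfl
    · exact h11.trans h10.symm
  · have h2 := S1 0 1 a
    rw [h01, h11, ← h10, ← h00] at h2
    exact h2
  · have h2 := S4 0 w
    rw [← h00] at h2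
    exact h2

end two

/-! ### One block and a line -/

section one

variable {F : Type*} [Field F] {W U : Type*} [AddCommGroup W] [Module F W] [AddCommGroup U] [Module F U]
  {E : W →ₗ[F] W} {c₀ : U →ₗ[F] W} {κ : W →ₗ[F] U}

theorem one_nilp (hE : ∀ a, E (E a) = 0) (hc : ∀ w, E (c₀ w) = 0) (hi : Function.Injective c₀)
    (hκ : ∀ a, c₀ (κ a) = E a) :
    IsNilpotent (bl (fun _ _ : Fin 1 => (1 : W →ₗ[F] W)) (fun _ => c₀) (fun _ => κ) - 1) := by
  refine ⟨3, ?_⟩
  set N := bl (fun _ _ : Fin 1 => (1 : W →ₗ[F] W)) (fun _ => c₀) (fun _ => κ) - 1 with hN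
  have h : ∀ v, N v = (fun _ => c₀ v.2, κ (v.1 0)) := by
    intro v
    change bl (fun _ _ : Fin 1 => (1 : W →ₗ[F] W)) (fun _ => c₀) (fun _ => κ) v - v = _
    refine Prod.ext (funext fun k => ?_) ?_
    · change (bl (fun _ _ : Fin 1 => (1 : W →ₗ[F] W)) (fun _ => c₀) (fun _ => κ) v).1 k - v.1 k = c₀ v.2
      rw [bl_fst, Fin.sum_univ_one, Subsingleton.elim k 0, End.one_apply]
      abel
    · change (bl (fun _ _ : Fin 1 => (1 : W →ₗ[F] W)) (fun _ => c₀) (fun _ => κ) v).2 - v.2 = κ (v.1 0)
      rw [bl_snd, Fin.sum_univ_one]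
      abel
  have h1 : ∀ w, κ (c₀ w) = 0 := fun w => hi (by rw [hκ, hc, map_zero])
  have h2 : ∀ a, κ (E a) = 0 := fun a => hi (by rw [hκ, hE, map_zero])
  apply LinearMap.ext
  intro v
  have e : (N ^ 3) v = N (N (N v)) := rfl
  rw [e, h (N (N v)), h (N v), h v]
  refine Prod.ext (funext fun k => ?_) ?_
  · change c₀ (κ (c₀ v.2)) = 0
    rw [h1, map_zero]
  · change κ (c₀ (κ (v.1 0))) = 0
    rw [hκ, h2]

theorem rig_one (hκ : ∀ a, c₀ (κ a) = E a) :
    Rig E c₀ (bl (fun _ _ : Fin 1 => (1 : W →ₗ[F] W)) (fun _ => c₀) (fun _ => κ) - 1) := by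
  intro σ τ A A' D D' h
  obtain ⟨R1, R2, R3, R4⟩ := rel_of_comm (M := fun _ _ : Fin 1 => (1 : W →ₗ[F] W)) (c := fun _ => c₀)
    (c' := fun _ => κ) (σ := σ) (τ := τ) (A := A) (A' := A') (D := D) (D' := D') (fun v => by
      have h1 := h v
      rw [LinearMap.sub_apply, LinearMap.sub_apply] at h1
      simpa only [_root_.Module.End.one_apply, _root_.add_sub_cancel] using h1)
  have hall : ∀ i, A i = A 0 := fun i => congrArg A (Subsingleton.elim _ _)
  have hAA : ∀ i, A' i = A 0 := by
    intro i
    refine LinearEquiv.ext fun a => ?_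
    have h1 := R1 0 0 a
    rw [Subsingleton.elim (σ 0) 0, Subsingleton.elim (τ 0) i] at h1
    exact h1.symm
  have S4 : ∀ w, c₀ (D w) = A 0 (c₀ w) := by
    intro w
    have h1 := R4 0 w
    rwa [hAA] at h1
  refine ⟨Subsingleton.elim _ _, A 0, hall, fun a => ?_, S4⟩
  have h1 := R2 0 a
  rw [hall, ← R3] at h1
  rw [← hκ, ← hκ, h1, S4]

end one

end Cfsg.Agent.H728.Meet2
end

-- part: H728/Meet2/Val
section
/-!
# The 2-part of the order of `GL_n(q)`, `q` odd (helper728)

* `val_odd` : `v₂(q ^ (2m+1) - 1) = v₂(q - 1)`;
* `val_even` : `v₂(q ^ (2(m+1)) - 1) = v₂(q + 1) + v₂(q - 1) + v₂(m + 1)`;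
* `val_GL` : `v₂ |GL_{2m+ε}(q)| = v₂(m! |GL_2(q)|^m |GL_ε(q)|)`.
-/

set_option autoImplicit false

namespace Cfsg.Agent.H728.Meet2

open Matrix

variable {q : ℕ}

theorem odd_geom (hq : Odd q) (m : ℕ) : Odd (∑ i ∈ Finset.range (2 * m + 1), q ^ i) := by
  induction m with
  | zero => simp
  | succ m ih =>
    have h : 2 * (m + 1) + 1 = (2 * m + 1) + 1 + 1 := by ring
    rw [h, Finset.sum_range_succ, Finset.sum_range_succ, add_assoc]
    exact ih.add_even ((hq.pow (n := 2 * m + 1)).add_odd (hq.pow (n := 2 * m + 1 + 1)))

theorem sub_one_ne (hq1 : 1 < q) {n : ℕ} (hn : n ≠ 0) : q ^ n - 1 ≠ 0 := by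
  have : 1 < q ^ n := Nat.one_lt_pow hn hq1
  omega

theorem val_odd (hq : Odd q) (hq1 : 1 < q) (m : ℕ) :
    padicValNat 2 (q ^ (2 * m + 1) - 1) = padicValNat 2 (q - 1) := by
  have h1 : q ^ (2 * m + 1) - 1 = (q - 1) * ∑ i ∈ Finset.range (2 * m + 1), q ^ i := by
    have h2 : 1 ≤ q ^ (2 * m + 1) := Nat.one_le_pow _ _ (by omega)
    zify [h2, hq1.le]
    exact (mul_geom_sum (q : ℤ) (2 * m + 1)).symm
  have h3 := odd_geom hq m
  rw [h1, padicValNat.mul (by omega) h3.pos.ne',
    padicValNat.eq_zero_of_not_dvd (n := ∑ i ∈ Finset.range (2 * m + 1), q ^ i) (fun h => by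
      rw [← Nat.not_even_iff_odd] at h3
      exact h3 (even_iff_two_dvd.2 h)), add_zero]

theorem val_even (hq : Odd q) (hq1 : 1 < q) (m : ℕ) :
    padicValNat 2 (q ^ (2 * (m + 1)) - 1) = padicValNat 2 (q + 1) + padicValNat 2 (q - 1) + padicValNat 2 (m + 1) := by
  have h1 := padicValNat.pow_two_sub_pow (x := q) (y := 1) (n := 2 * (m + 1)) hq1 (by
    obtain ⟨k, hk⟩ := hq
    exact ⟨k, by omega⟩) (fun h => by
      rw [← Nat.not_even_iff_odd] at hq
      exact hq (even_iff_two_dvd.2 h)) (by omega) (even_two_mul _)
  rw [one_pow, padicValNat.mul (by norm_num) (Nat.succ_ne_zero m), padicValNat.self (by norm_num), Nat.succ_eq_add_one] at h1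
  omega

variable {F : Type*} [Field F] [Fintype F]

/-- the order of `GL_n(F)` -/
noncomputable def gl (F : Type*) [Field F] (n : ℕ) : ℕ := Nat.card (GL (Fin n) F)

theorem gl_succ (n : ℕ) : gl F (n + 1) = (Fintype.card F ^ (n + 1) - 1) * (Fintype.card F ^ n * gl F n) := by
  unfold gl
  rw [card_GL_field, card_GL_field, Fin.prod_univ_succ]
  congr 1
  have h : ∀ i : Fin n, Fintype.card F ^ (n + 1) - Fintype.card F ^ (i.succ : ℕ) =
      Fintype.card F * (Fintype.card F ^ n - Fintype.card F ^ (i : ℕ)) := by
    intro i
    rw [Nat.mul_sub, Fin.val_succ, pow_succ, pow_succ, mul_comm (Fintype.card F ^ n), mul_comm (Fintype.card F ^ (i : ℕ))]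
  rw [Finset.prod_congr rfl fun i _ => h i, Finset.prod_mul_distrib, Finset.prod_const, Finset.card_univ,
    Fintype.card_fin]

theorem gl_zero : gl F 0 = 1 := by
  unfold gl
  rw [card_GL_field]
  simp only [_root_.Finset.univ_eq_empty, _root_.pow_zero, _root_.Finset.prod_empty]

theorem gl_ne (n : ℕ) : gl F n ≠ 0 := by
  have : Finite (GL (Fin n) F) := inferInstance
  exact Nat.card_pos.ne'

theorem val_gl_succ (hF : Odd (Fintype.card F)) (n : ℕ) :
    padicValNat 2 (gl F (n + 1)) = padicValNat 2 (Fintype.card F ^ (n + 1) - 1) + padicValNat 2 (gl F n) := by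
  have h0 : Fintype.card F ^ n ≠ 0 := (pow_pos Fintype.card_pos _).ne'
  have h1 : padicValNat 2 (Fintype.card F ^ n) = 0 := by
    apply padicValNat.eq_zero_of_not_dvd
    have h2 := hF.pow (n := n)
    rw [← Nat.not_even_iff_odd] at h2
    exact fun h => h2 (even_iff_two_dvd.2 h)
  rw [gl_succ, padicValNat.mul (sub_one_ne Fintype.one_lt_card (Nat.succ_ne_zero n)) (mul_ne_zero h0 (gl_ne n)),
    padicValNat.mul h0 (gl_ne n), h1, zero_add]

theorem val_gl_even (hF : Odd (Fintype.card F)) (m : ℕ) :
    padicValNat 2 (gl F (2 * m)) = m * padicValNat 2 (gl F 2) + padicValNat 2 m.factorial := by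
  have hq1 : 1 < Fintype.card F := Fintype.one_lt_card
  have h2 : padicValNat 2 (gl F 2) = padicValNat 2 (Fintype.card F + 1) + padicValNat 2 (Fintype.card F - 1) +
      padicValNat 2 (Fintype.card F - 1) := by
    have e1 := val_gl_succ hF (F := F) 1
    have e2 := val_gl_succ hF (F := F) 0
    have e3 := val_even hF hq1 0
    rw [gl_zero] at e2
    simp only [zero_add, mul_one, pow_one, padicValNat_one_right, add_zero] at e2 e3
    rw [show (1 : ℕ) + 1 = 2 from rfl] at e1
    rw [e1, e3, e2]
  induction m with
  | zero => simp [gl_zero]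
  | succ m ih =>
    have h : 2 * (m + 1) = 2 * m + 1 + 1 := by ring
    rw [h, val_gl_succ hF, val_gl_succ hF, ih, val_odd hF hq1, ← h, val_even hF hq1, h2, Nat.factorial_succ,
      padicValNat.mul (Nat.succ_ne_zero m) m.factorial_ne_zero]
    ring

theorem val_gl (hF : Odd (Fintype.card F)) (m ε : ℕ) (hε : ε < 2) :
    padicValNat 2 (gl F (2 * m + ε)) = padicValNat 2 (m.factorial * gl F 2 ^ m * gl F ε) := by
  have h1 : padicValNat 2 (m.factorial * gl F 2 ^ m * gl F ε) =
      padicValNat 2 m.factorial + m * padicValNat 2 (gl F 2) + padicValNat 2 (gl F ε) := by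
    rw [padicValNat.mul (mul_ne_zero m.factorial_ne_zero (pow_ne_zero _ (gl_ne 2))) (gl_ne ε),
      padicValNat.mul m.factorial_ne_zero (pow_ne_zero _ (gl_ne 2)), padicValNat.pow]
  rw [h1]
  have hq1 : 1 < Fintype.card F := Fintype.one_lt_card
  interval_cases ε
  · rw [add_zero, val_gl_even hF, gl_zero, padicValNat_one_right]
    ring
  · have e2 := val_gl_succ hF (F := F) 0
    rw [gl_zero] at e2
    simp only [zero_add, pow_one, padicValNat_one_right, add_zero] at e2
    rw [val_gl_succ hF, val_gl_even hF, val_odd hF hq1, e2]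
    ring

end Cfsg.Agent.H728.Meet2
end

-- part: H728/Meet2/Psl
section
/-!
# `PSL_n(q)`, `n ≥ 3`, `q` odd, `p = 2` (helper728)

* `exists_unip` : `1 + N`, `N` nilpotent, as a linear automorphism of `p`-power order;
* `det_eq_one` : its determinant is 1;
* `sep_frame` : some `x` of `p`-power order (`p` the characteristic) such that a block monomial `y` of 2-power order with
  `x y x⁻¹` block monomial is scalar;
* `not_two_dvd` : the block monomial group has odd index;
* `meet2_PSL` : the row.
-/

set_option autoImplicit false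

namespace Cfsg.Agent.H728.Meet2

open Equiv Module Matrix Cfsg.Agent.H68.MeetB

/-! ### Unipotent maps -/

section unip

variable {F : Type*} [Field F] {p : ℕ} [hp : Fact p.Prime] [CharP F p] {V : Type*} [AddCommGroup V] [Module F V]

theorem exists_unip [Nontrivial V] {N : V →ₗ[F] V} (hN : IsNilpotent N) :
    ∃ x : V ≃ₗ[F] V, (∀ v, x v = v + N v) ∧ ∃ k, x ^ p ^ k = 1 := by
  obtain ⟨u, hu⟩ : IsUnit (1 + N) := hN.isUnit_one_add
  have hch : CharP (Module.End F V) p :=
    charP_of_injective_algebraMap (FaithfulSMul.algebraMap_injective F (Module.End F V)) p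
  obtain ⟨n, hn⟩ := hN
  refine ⟨LinearMap.GeneralLinearGroup.generalLinearEquiv F V u, fun v => ?_, n, ?_⟩
  · change (u : V →ₗ[F] V) v = v + N v
    rw [hu]
    rfl
  · rw [← map_pow, ← map_one (LinearMap.GeneralLinearGroup.generalLinearEquiv F V)]
    congr 1
    apply Units.ext
    rw [Units.val_pow_eq_pow_val, hu, Units.val_one, add_pow_char_pow_of_commute p n (Commute.one_left N), one_pow]
    have h1 : n ≤ p ^ n := (Nat.lt_pow_self hp.out.one_lt).le
    have h2 : N ^ p ^ n = 0 := by
      rw [← Nat.sub_add_cancel h1, pow_add, hn, mul_zero]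
    rw [h2, add_zero]

theorem det_eq_one {x : V ≃ₗ[F] V} {k : ℕ} (h : x ^ p ^ k = 1) : LinearEquiv.det x = 1 := by
  have h1 := congrArg LinearEquiv.det h
  rw [map_pow, map_one] at h1
  have h2 : ((LinearEquiv.det x : Fˣ) : F) ^ p ^ k = 1 := by
    rw [← Units.val_pow_eq_pow_val, h1, Units.val_one]
  have h3 : (((LinearEquiv.det x : Fˣ) : F) - 1) ^ p ^ k = 0 := by
    rw [sub_pow_char_pow, h2, one_pow, sub_self]
  have h4 := pow_eq_zero_iff (pow_ne_zero k hp.out.ne_zero) |>.1 h3
  exact Units.ext (sub_eq_zero.1 h4)

end unip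

/-! ### Elements of 2-power order -/

section scal

variable {F : Type*} [Field F] {ε : ℕ}

/-- the matrix unit `E₁₂` -/
def E12 (F : Type*) [Field F] : (Fin 2 → F) →ₗ[F] (Fin 2 → F) :=
  (LinearMap.single F (fun _ : Fin 2 => F) 0).comp (LinearMap.proj 1)

theorem E12_apply (a : Fin 2 → F) : E12 F a = Pi.single 0 (a 1) := rfl

/-- the column -/
def col (F : Type*) [Field F] (ε : ℕ) : (Fin ε → F) →ₗ[F] (Fin 2 → F) :=
  (LinearMap.single F (fun _ : Fin 2 => F) 0).comp (∑ i, LinearMap.proj i)

theorem col_apply (w : Fin ε → F) : col F ε w = Pi.single 0 (∑ i, w i) := by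
  unfold col
  rw [LinearMap.comp_apply, LinearMap.sum_apply]
  rfl

theorem E12_E12 (a : Fin 2 → F) : E12 F (E12 F a) = 0 := by
  rw [E12_apply, E12_apply]
  simp

theorem E12_col (w : Fin ε → F) : E12 F (col F ε w) = 0 := by
  rw [E12_apply, col_apply]
  simp only [_root_.Fin.isValue, _root_.ne_eq, _root_.one_ne_zero, _root_.not_false_eq_true, _root_.Pi.single_eq_of_ne, _root_.Pi.single_zero]

theorem col_injective (hε : ε < 2) : Function.Injective (col F ε) := by
  intro u w h
  rw [col_apply, col_apply] at h
  have h1 := Pi.single_injective (M := fun _ : Fin 2 => F) 0 h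
  interval_cases ε
  · exact Subsingleton.elim _ _
  · rw [Fin.sum_univ_one, Fin.sum_univ_one] at h1
    funext i
    rw [Subsingleton.elim i 0]
    exact h1

theorem bm_pow {I : Type*} {W U : Type*} [AddCommGroup W] [Module F W] [AddCommGroup U] [Module F U]
    (A : W ≃ₗ[F] W) (D : U ≃ₗ[F] U) (n : ℕ) :
    bm (1 : Perm I) (fun _ => A) D ^ n = bm (1 : Perm I) (fun _ => A ^ n) (D ^ n) := by
  induction n with
  | zero =>
    rw [pow_zero]
    exact (bm_one (F := F) (I := I) (W := W) (U := U)).symm
  | succ n ih =>
    rw [pow_succ, ih, bm_mul, mul_one]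
    rfl

/-- **Elements of 2-power order commuting with `E₁₂` are scalar.** -/
theorem scal_of {I : Type*} [Nonempty I] (h2 : (2 : F) ≠ 0) (hε : ε < 2)
    {A : (Fin 2 → F) ≃ₗ[F] (Fin 2 → F)} {D : (Fin ε → F) ≃ₗ[F] (Fin ε → F)}
    (hA : ∀ a, E12 F (A a) = A (E12 F a)) (hD : ∀ w, col F ε (D w) = A (col F ε w)) {k : ℕ}
    (hk : bm (1 : Perm I) (fun _ => A) D ^ 2 ^ k = 1) :
    ∃ a : F, ∀ v : (I → (Fin 2 → F)) × (Fin ε → F), bm (1 : Perm I) (fun _ => A) D v = a • v := by
  set a : F := A (Pi.single 0 1) 0 with ha
  set b : F := A (Pi.single 1 1) 0 with hb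
  have e1 : A (Pi.single 0 1) = Pi.single 0 (A (Pi.single 1 1) 1) := by
    have h1 := hA (Pi.single 1 1)
    rw [E12_apply, E12_apply, Pi.single_eq_same] at h1
    exact h1.symm
  have e2 : A (Pi.single 1 1) 1 = a := by
    rw [ha, e1, Pi.single_eq_same]
  have e3 : A (Pi.single 1 1) = Pi.single 0 b + Pi.single 1 a := by
    funext i
    fin_cases i
    · change A (Pi.single 1 1) 0 = (Pi.single 0 b + Pi.single 1 a : Fin 2 → F) 0
      simp [hb]
    · change A (Pi.single 1 1) 1 = (Pi.single 0 b + Pi.single 1 a : Fin 2 → F) 1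
      rw [e2]; simp
  have key : ∀ u, A u = a • u + b • E12 F u := by
    intro u
    have h1 : u = u 0 • (Pi.single 0 1 : Fin 2 → F) + u 1 • (Pi.single 1 1 : Fin 2 → F) := by
      funext i
      (revert i; simp only [_root_.Fin.forall_fin_succ, Fin.isValue, _root_.Pi.add_apply, _root_.Pi.smul_apply, _root_.smul_eq_mul, _root_.Pi.single_eq_same, _root_.mul_one, _root_.ne_eq, _root_.zero_ne_one, _root_.not_false_eq_true, _root_.Pi.single_eq_of_ne, _root_.MulZeroClass.mul_zero, _root_.add_zero, _root_.Fin.succ_ne_zero, _root_.zero_add, _root_.Fin.succ_zero_eq_one, _root_.IsEmpty.forall_iff, _root_.and_self])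
    conv_lhs => rw [h1]
    rw [map_add, map_smul, map_smul, e1, e2, e3, E12_apply]
    funext i
    fin_cases i
    · simp only [Fin.zero_eta, Pi.add_apply, Pi.smul_apply, Pi.single_eq_same, smul_eq_mul]
      have h3 : (Pi.single 1 a : Fin 2 → F) 0 = 0 := by simp
      rw [h3]; ring
    · simp only [Fin.mk_one, Pi.add_apply, Pi.smul_apply, Pi.single_eq_same, smul_eq_mul]
      have h3 : ∀ c : F, (Pi.single 0 c : Fin 2 → F) 1 = 0 := fun c => by simp
      rw [h3, h3, h3]; ring
  have ha0 : a ≠ 0 := by
    intro h0
    rw [e2, h0, Pi.single_zero] at e1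
    have h3 := A.map_eq_zero_iff.1 e1
    have h4 := congrFun h3 0
    rw [Pi.single_eq_same] at h4
    exact one_ne_zero h4
  have hpow : ∀ (n : ℕ) (u : Fin 2 → F), (A ^ (n + 1)) u = a ^ (n + 1) • u + (((n : F) + 1) * a ^ n * b) • E12 F u := by
    intro n
    induction n with
    | zero =>
      intro u
      rw [zero_add, pow_one, key]
      simp
    | succ n ih =>
      intro u
      rw [pow_succ]
      change (A ^ (n + 1)) (A u) = _
      rw [ih, hA, key (E12 F u), E12_E12, smul_zero, add_zero, key u]
      funext i
      simp only [Pi.add_apply, Pi.smul_apply, smul_eq_mul]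
      push_cast
      ring
  have hAk : A ^ 2 ^ k = 1 := by
    rw [bm_pow, ← bm_one] at hk
    obtain ⟨i⟩ := ‹Nonempty I›
    exact congrFun (bm_injective hk).2.1 i
  have hb0 : b = 0 := by
    obtain ⟨n, hn⟩ := Nat.exists_eq_succ_of_ne_zero (pow_ne_zero k two_ne_zero : (2 : ℕ) ^ k ≠ 0)
    rw [hn, Nat.succ_eq_add_one] at hAk
    have h3 := hpow n (Pi.single 1 1)
    rw [hAk, E12_apply] at h3
    have h4 := congrFun h3 0
    have h5 : ((1 : (Fin 2 → F) ≃ₗ[F] (Fin 2 → F)) (Pi.single 1 1)) 0 = 0 := by
      change (Pi.single 1 1 : Fin 2 → F) 0 = 0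
      simp
    rw [h5] at h4
    simp only [Pi.add_apply, Pi.smul_apply, Pi.single_eq_same, smul_eq_mul, mul_one] at h4
    have h6 : (Pi.single 1 1 : Fin 2 → F) 0 = 0 := by simp
    rw [h6, mul_zero, zero_add] at h4
    have h7 : ((n : F) + 1) = 2 ^ k := by
      have : ((2 ^ k : ℕ) : F) = ((n + 1 : ℕ) : F) := by rw [hn]
      push_cast at this
      exact this.symm
    rw [h7] at h4
    have h8 := h4.symm
    rcases mul_eq_zero.1 h8 with h9 | h9
    · rcases mul_eq_zero.1 h9 with h10 | h10
      · exact absurd h10 (pow_ne_zero _ h2)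
      · exact absurd h10 (pow_ne_zero _ ha0)
    · exact h9
  have hA' : ∀ u, A u = a • u := by
    intro u
    rw [key, hb0, zero_smul, add_zero]
  refine ⟨a, fun v => Prod.ext (funext fun i => ?_) ?_⟩
  · rw [bm_fst]
    exact hA' _
  · rw [bm_snd]
    apply col_injective hε
    rw [hD, hA', ← map_smul]
    rfl

end scal

/-! ### The separation -/

section sep

variable {F : Type*} [Field F] {p : ℕ} [hp : Fact p.Prime] [CharP F p]

/-- the space -/
abbrev VV (F : Type*) (m ε : ℕ) := (Fin m → (Fin 2 → F)) × (Fin ε → F)

theorem sep_of_rig {m ε : ℕ} (hm : m ≠ 0) (hε : ε < 2) (h2 : (2 : F) ≠ 0) {N : VV F m ε →ₗ[F] VV F m ε}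
    (hN : IsNilpotent N) (hR : Rig (E12 F) (col F ε) N) :
    ∃ x : VV F m ε ≃ₗ[F] VV F m ε, (∃ k, x ^ p ^ k = 1) ∧
      ∀ y ∈ BM F (Fin m) (Fin 2 → F) (Fin ε → F), x * y * x⁻¹ ∈ BM F (Fin m) (Fin 2 → F) (Fin ε → F) →
        (∃ k, y ^ 2 ^ k = 1) → ∃ a : F, ∀ v, y v = a • v := by
  have : Nonempty (Fin m) := ⟨⟨0, by omega⟩⟩
  have : Nontrivial (Fin m → (Fin 2 → F)) := inferInstance
  obtain ⟨x, hx, hxk⟩ := exists_unip (p := p) hN
  refine ⟨x, hxk, ?_⟩
  rintro _ ⟨σ, A, D, rfl⟩ ⟨τ, A', D', h1⟩ ⟨k, hk⟩
  rw [mul_inv_eq_iff_eq_mul] at h1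
  obtain ⟨rfl, A₀, hA, hE, hc⟩ := hR σ τ A A' D D' fun v => by
    rw [← hx, ← hx]
    exact congrArg (fun g : VV F m ε ≃ₗ[F] VV F m ε => g v) h1
  have hA' : A = fun _ => A₀ := funext hA
  subst hA'
  exact scal_of h2 hε hE hc hk

theorem sep_frame {m ε : ℕ} (hn : 3 ≤ 2 * m + ε) (hε : ε < 2) (h2 : (2 : F) ≠ 0) :
    ∃ x : VV F m ε ≃ₗ[F] VV F m ε, (∃ k, x ^ p ^ k = 1) ∧
      ∀ y ∈ BM F (Fin m) (Fin 2 → F) (Fin ε → F), x * y * x⁻¹ ∈ BM F (Fin m) (Fin 2 → F) (Fin ε → F) →
        (∃ k, y ^ 2 ^ k = 1) → ∃ a : F, ∀ v, y v = a • v := by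
  have hE : ∀ a, E12 F (E12 F a) = 0 := E12_E12
  have hc : ∀ w, E12 F (col F ε w) = 0 := E12_col
  rcases Nat.lt_or_ge m 3 with h3 | h3
  · have h1 : m = 1 ∨ m = 2 := by omega
    rcases h1 with rfl | rfl
    · have h4 : ε = 1 := by omega
      subst h4
      let κ : (Fin 2 → F) →ₗ[F] (Fin 1 → F) := LinearMap.pi fun _ => LinearMap.proj 1
      have hκ : ∀ a, col F 1 (κ a) = E12 F a := by
        intro a
        rw [col_apply, E12_apply, Fin.sum_univ_one]
        rfl
      exact sep_of_rig one_ne_zero hε h2 (one_nilp hE hc (col_injective hε) hκ) (rig_one hκ)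
    · refine sep_of_rig two_ne_zero hε h2 (two_nilp hE hc) (rig_two (e₁ := Pi.single 0 1) ?_ ?_)
      · intro h
        have h4 := congrFun h 0
        rw [Pi.single_eq_same] at h4
        exact one_ne_zero h4
      · rw [E12_apply]
        simp
  · exact sep_of_rig (by omega) hε h2 tri_nilp (rig_tri hE h3)

end sep

/-! ### The index -/

section index

variable {F : Type*} [Field F] [Fintype F]

omit [Fintype F] in
theorem card_lin (n : ℕ) : Nat.card ((Fin n → F) ≃ₗ[F] (Fin n → F)) = gl F n := by
  unfold gl
  exact Nat.card_congr ((Matrix.GeneralLinearGroup.toLin (n := Fin n) (R := F)).trans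
    (LinearMap.GeneralLinearGroup.generalLinearEquiv F (Fin n → F))).symm.toEquiv

/-- conjugation by a linear isomorphism -/
def conjL {V W : Type*} [AddCommGroup V] [Module F V] [AddCommGroup W] [Module F W]
    (φ : V ≃ₗ[F] W) : (V ≃ₗ[F] V) ≃* (W ≃ₗ[F] W) where
  toFun g := (φ.symm.trans g).trans φ
  invFun g := (φ.trans g).trans φ.symm
  left_inv g := by ext; simp
  right_inv g := by ext; simp
  map_mul' g h := by ext; simp only [_root_.LinearEquiv.trans_apply, _root_.LinearEquiv.mul_apply, _root_.LinearEquiv.symm_apply_apply]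

omit [Fintype F] in
theorem exists_coord (m ε : ℕ) : Nonempty ((Fin (2 * m + ε) → F) ≃ₗ[F] VV F m ε) := by
  refine ⟨LinearEquiv.ofFinrankEq _ _ ?_⟩
  have h1 : Module.finrank F (VV F m ε) = m * 2 + ε := by
    unfold VV
    rw [Module.finrank_prod, Module.finrank_fin_fun, Module.finrank_pi_fintype]
    simp only [Module.finrank_fin_fun, Finset.sum_const, Finset.card_univ, Fintype.card_fin, smul_eq_mul]
  rw [h1, Module.finrank_fin_fun]
  omega

theorem not_two_dvd (hF : Odd (Fintype.card F)) (m ε : ℕ) (hε : ε < 2) :
    ¬ 2 ∣ (BM F (Fin m) (Fin 2 → F) (Fin ε → F)).index := by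
  obtain ⟨φ⟩ := exists_coord (F := F) m ε
  have hcard : Nat.card (VV F m ε ≃ₗ[F] VV F m ε) = gl F (2 * m + ε) := by
    rw [← card_lin, Nat.card_congr (conjL φ).toEquiv]
  have hfin : Finite (VV F m ε ≃ₗ[F] VV F m ε) := Nat.finite_of_card_ne_zero (by rw [hcard]; exact gl_ne _)
  have hfin2 : Finite ((Fin 2 → F) ≃ₗ[F] (Fin 2 → F)) :=
    Nat.finite_of_card_ne_zero (by rw [card_lin]; exact gl_ne _)
  have h1 := (BM F (Fin m) (Fin 2 → F) (Fin ε → F)).card_mul_index
  have hi0 : (BM F (Fin m) (Fin 2 → F) (Fin ε → F)).index ≠ 0 := Subgroup.index_ne_zero_of_finite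
  have h2 := congrArg (padicValNat 2) h1
  rw [hcard, val_gl hF m ε hε, card_BM, card_lin, card_lin, Fintype.card_fin,
    padicValNat.mul (mul_ne_zero (mul_ne_zero m.factorial_ne_zero (pow_ne_zero _ (gl_ne 2))) (gl_ne ε)) hi0] at h2
  intro h7
  have h8 := one_le_padicValNat_of_dvd hi0 h7
  omega

end index

/-! ### The row -/

section row

variable {F : Type} [Field F] [Fintype F]

theorem meetIn_of_coord {m ε : ℕ} (hn : 3 ≤ 2 * m + ε) (hε : ε < 2) (hF : Odd (Fintype.card F)) :
    MeetIn 2 (ProjectiveSpecialLinearGroup (Fin (2 * m + ε)) F) := by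
  have h2' : Fact (Nat.Prime 2) := ⟨Nat.prime_two⟩
  obtain ⟨p, hch⟩ := CharP.exists F
  have hp : Fact p.Prime := ⟨CharP.char_is_prime F p⟩
  have h2 : (2 : F) ≠ 0 := by
    intro h0
    have h3 : ((2 : ℕ) : F) = 0 := by exact_mod_cast h0
    have h4 := (CharP.cast_eq_zero_iff F p 2).1 h3
    have h5 : p = 2 := (Nat.prime_dvd_prime_iff_eq hp.out Nat.prime_two).1 h4
    subst h5
    obtain ⟨n, -, hn⟩ := FiniteField.card F 2
    rw [hn] at hF
    have h6 : (n : ℕ) ≠ 0 := n.ne_zero
    rw [Nat.odd_pow_iff h6] at hF
    exact absurd hF (by decide)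
  obtain ⟨φ⟩ := exists_coord (F := F) m ε
  set n := 2 * m + ε with hn'
  let B := BM F (Fin m) (Fin 2 → F) (Fin ε → F)
  -- the representation
  let ρ : _root_.Matrix.SpecialLinearGroup (Fin n) F →* (VV F m ε ≃ₗ[F] VV F m ε) :=
    (conjL φ).toMonoidHom.comp Matrix.SpecialLinearGroup.toLin'
  have hρ : ∀ s v, ρ s v = φ (Matrix.SpecialLinearGroup.toLin' s (φ.symm v)) := fun s v => rfl
  have hρi : Function.Injective ρ := by
    intro s t h
    have h3 := (conjL φ).injective h
    exact Matrix.SpecialLinearGroup.toLin'_injective h3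
  have hρs : ∀ g : VV F m ε ≃ₗ[F] VV F m ε, LinearEquiv.det g = 1 → ∃ s, ρ s = g := by
    intro g hg
    have h3 : LinearMap.det (((conjL φ).symm g : (Fin n → F) ≃ₗ[F] (Fin n → F)) : (Fin n → F) →ₗ[F] (Fin n → F)) = 1 := by
      have h4 : (((conjL φ).symm g : (Fin n → F) ≃ₗ[F] (Fin n → F)) : (Fin n → F) →ₗ[F] (Fin n → F)) =
          (φ.symm : VV F m ε →ₗ[F] (Fin n → F)) ∘ₗ (g : VV F m ε →ₗ[F] VV F m ε) ∘ₗ
            (φ.symm.symm : (Fin n → F) →ₗ[F] VV F m ε) := rfl
      rw [h4, LinearMap.det_conj, ← LinearEquiv.coe_det, hg, Units.val_one]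
    let s : Matrix.SpecialLinearGroup (Fin n) F := ⟨LinearMap.toMatrix' (((conjL φ).symm g :
      (Fin n → F) ≃ₗ[F] (Fin n → F)) : (Fin n → F) →ₗ[F] (Fin n → F)), by rw [LinearMap.det_toMatrix', h3]⟩
    refine ⟨s, ?_⟩
    apply (conjL φ).symm.injective
    change (conjL φ).symm ((conjL φ) (Matrix.SpecialLinearGroup.toLin' s)) = _
    rw [MulEquiv.symm_apply_apply]
    refine LinearEquiv.ext fun v => ?_
    change Matrix.toLin' (LinearMap.toMatrix' (((conjL φ).symm g :
      (Fin n → F) ≃ₗ[F] (Fin n → F)) : (Fin n → F) →ₗ[F] (Fin n → F))) v = _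
    rw [Matrix.toLin'_toMatrix']
    rfl
  have hfinL : Finite (VV F m ε ≃ₗ[F] VV F m ε) := Nat.finite_of_card_ne_zero (by
    rw [Nat.card_congr (conjL φ).symm.toEquiv, card_lin]; exact gl_ne _)
  -- scalars
  have hscal : ∀ (g : VV F m ε ≃ₗ[F] VV F m ε) (r : F), (∀ v, g v = r • v) → g ∈ B := by
    intro g r hg
    have hr : r ≠ 0 := by
      rintro rfl
      have hne : Nonempty (Fin n) := ⟨⟨0, by omega⟩⟩
      obtain ⟨v, hv⟩ := exists_ne (0 : Fin n → F)
      have h3 := hg (φ v)
      rw [zero_smul] at h3
      exact hv (φ.map_eq_zero_iff.1 (g.map_eq_zero_iff.1 h3))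
    refine ⟨1, fun _ => LinearEquiv.smulOfNeZero F _ r hr, LinearEquiv.smulOfNeZero F _ r hr, ?_⟩
    exact LinearEquiv.ext fun v => hg v
  have hcen : ∀ z ∈ Subgroup.center (_root_.Matrix.SpecialLinearGroup (Fin n) F), ∃ r : F, ∀ v, ρ z v = r • v := by
    intro z hz
    obtain ⟨r, -, hr⟩ := Matrix.SpecialLinearGroup.mem_center_iff.1 hz
    refine ⟨r, fun v => ?_⟩
    rw [hρ, Matrix.SpecialLinearGroup.toLin'_apply, ← hr, Matrix.toLin'_apply]
    have h3 : (Matrix.scalar (Fin n) r).mulVec (φ.symm v) = r • φ.symm v := by
      rw [Matrix.scalar_apply, Matrix.diagonal_const_mulVec]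
    rw [h3, map_smul, LinearEquiv.apply_symm_apply]
  -- the Sylow subgroup
  let π := QuotientGroup.mk' (Subgroup.center (_root_.Matrix.SpecialLinearGroup (Fin n) F))
  have hπ : Function.Surjective π := QuotientGroup.mk'_surjective _
  obtain ⟨S⟩ : Nonempty (Sylow 2 (_root_.Matrix.SpecialLinearGroup (Fin n) F)) := inferInstance
  have hfinP : Finite (ProjectiveSpecialLinearGroup (Fin n) F) := Finite.of_surjective π hπ
  obtain ⟨h, -, hh⟩ := Cfsg.Agent.H728.Syl3.exists_conj_le (p := 2) B ⊤ (by
    rw [Subgroup.relIndex_top_right]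
    exact not_two_dvd hF m ε hε) ((S : Subgroup _).map ρ) le_top (S.isPGroup'.map ρ)
  obtain ⟨x, ⟨k, hk⟩, hx⟩ := sep_frame (p := p) (F := F) hn hε h2
  -- conjugate
  have hdet : LinearEquiv.det (h * x * h⁻¹) = 1 := by
    rw [map_mul, map_mul, det_eq_one hk, mul_one, ← map_mul, mul_inv_cancel, map_one]
  obtain ⟨s, hs⟩ := hρs _ hdet
  refine MeetIn.of_one ((S : Subgroup _).map π) (S.isPGroup'.map π) ?_ ⟨π s, ?_⟩
  · intro h3
    refine S.not_dvd_index (h3.trans ?_)
    rw [Subgroup.index_map, MonoidHom.range_eq_top.2 hπ, Subgroup.index_top, mul_one]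
    exact Subgroup.index_dvd_of_le le_sup_left
  · rintro _ ⟨γ, hγ, rfl⟩ hy
    rw [← map_inv, ← map_mul, ← map_mul] at hy
    obtain ⟨γ', hγ', hγγ⟩ := hy
    have hz : γ'⁻¹ * (s * γ * s⁻¹) ∈ Subgroup.center (_root_.Matrix.SpecialLinearGroup (Fin n) F) :=
      QuotientGroup.eq.1 hγγ
    obtain ⟨r, hr⟩ := hcen _ hz
    set z := γ'⁻¹ * (s * γ * s⁻¹) with hzdef
    have h3 : h⁻¹ * ρ γ * h ∈ B := hh _ (Subgroup.mem_map_of_mem ρ hγ)
    have h4 : h⁻¹ * ρ γ' * h ∈ B := hh _ (Subgroup.mem_map_of_mem ρ hγ')
    have h5 : h⁻¹ * ρ z * h ∈ B := by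
      refine hscal _ r fun v => ?_
      change h⁻¹ (ρ z (h v)) = r • v
      rw [hr, map_smul]
      congr 1
      exact h.symm_apply_apply v
    have h6 : x * (h⁻¹ * ρ γ * h) * x⁻¹ ∈ B := by
      have e : x * (h⁻¹ * ρ γ * h) * x⁻¹ = (h⁻¹ * ρ γ' * h) * (h⁻¹ * ρ z * h) := by
        have e1 : ρ γ' * ρ z = ρ s * ρ γ * (ρ s)⁻¹ := by
          rw [← map_mul, ← map_inv, ← map_mul, ← map_mul]
          congr 1
          rw [hzdef]; group
        calc x * (h⁻¹ * ρ γ * h) * x⁻¹ = h⁻¹ * ((h * x * h⁻¹) * ρ γ * (h * x * h⁻¹)⁻¹) * h := by group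
          _ = h⁻¹ * (ρ s * ρ γ * (ρ s)⁻¹) * h := by rw [hs]
          _ = h⁻¹ * (ρ γ' * ρ z) * h := by rw [e1]
          _ = _ := by group
      rw [e]
      exact B.mul_mem h4 h5
    obtain ⟨j, hj⟩ := S.isPGroup' ⟨γ, hγ⟩
    have hj' : γ ^ 2 ^ j = 1 := congrArg Subtype.val hj
    obtain ⟨a, ha⟩ := hx _ h3 h6 ⟨j, by
      have e1 := conj_pow (i := 2 ^ j) (a := h⁻¹) (b := ρ γ)
      rw [inv_inv] at e1
      rw [e1, ← map_pow, hj', map_one]
      group⟩
    have h7 : ∀ v, ρ γ v = a • v := by
      intro v
      have h8 := ha (h⁻¹ v)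
      have h9 : (h⁻¹ * ρ γ * h) (h⁻¹ v) = h⁻¹ (ρ γ v) := by
        change h⁻¹ (ρ γ (h (h⁻¹ v))) = _
        congr 2
        exact h.apply_symm_apply v
      rw [h9, ← map_smul] at h8
      exact (h⁻¹).injective h8
    have h8 : γ ∈ Subgroup.center (_root_.Matrix.SpecialLinearGroup (Fin n) F) := by
      rw [Subgroup.mem_center_iff]
      intro δ
      apply hρi
      rw [map_mul, map_mul]
      refine LinearEquiv.ext fun v => ?_
      change ρ δ (ρ γ v) = ρ γ (ρ δ v)
      rw [h7, h7, map_smul]
    exact (QuotientGroup.eq_one_iff γ).2 h8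

/-- **The row `PSL_n(q)`, `n ≥ 3`, `q` odd, of S5760 at `p = 2`.** -/
theorem meet2_PSL {n : ℕ} (hn : 3 ≤ n) (hF : Odd (Fintype.card F)) :
    MeetIn 2 (ProjectiveSpecialLinearGroup (Fin n) F) := by
  obtain ⟨m, ε, rfl, hε⟩ : ∃ m ε, n = 2 * m + ε ∧ ε < 2 := ⟨n / 2, n % 2, by omega, by omega⟩
  exact meetIn_of_coord hn hε hF

end row

end Cfsg.Agent.H728.Meet2
end
end

-- part: H728/Meet2/PsuB_mg
section
prune_inst 0x4004022000000000010000000000000000000000000000003000208400000000800080000020020000000000000000000204000000000000000000000000000000000000000000000000000000000000000000000000000000000000000000000000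
set_option linter.all false
open scoped Cfsg.Agent.FastGrp

-- part: H728/Meet2/PairZ
section
/-!
# The pair lemma modulo a normal subgroup (helper728)

* `of_pairZ` : the pair lemma of helper458 for `G ⧸ Z`, `Z` any normal subgroup inside `H`;
* `MeetIn.normal` : `MeetIn p` passes to normal subgroups;
* `MeetIn.of_ker` : the same for a homomorphism with normal range.
-/

set_option autoImplicit false

namespace Cfsg.Agent.H728.Meet2

open Subgroup Cfsg.Agent.H68.MeetB Cfsg.Agent.H458.M2

variable {p : ℕ} [Fact p.Prime]

theorem relIndex_dvd_of_normal_right {Q : Type*} [Group Q] [Finite Q] (H K : Subgroup Q) [K.Normal] :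
    H.relIndex K ∣ H.index := by
  obtain ⟨c, hc⟩ := relIndex_dvd_index_of_normal K H
  have h1 : (H ⊓ K).relIndex H * H.index = (H ⊓ K).index := relIndex_mul_index inf_le_left
  have h2 : (H ⊓ K).relIndex K * K.index = (H ⊓ K).index := relIndex_mul_index inf_le_right
  rw [inf_relIndex_left] at h1
  rw [inf_relIndex_right, hc] at h2
  have h3 : K.relIndex H ≠ 0 := by
    intro h0
    rw [h0, zero_mul] at hc
    exact index_ne_zero_of_finite hc
  refine ⟨c, Nat.eq_of_mul_eq_mul_left (Nat.pos_of_ne_zero h3) ?_⟩
  rw [h1, ← h2]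
  ring

/-- `MeetIn p` passes to normal subgroups -/
theorem MeetIn.normal {Q : Type*} [Group Q] [Finite Q] (h : MeetIn p Q) (K : Subgroup Q) [K.Normal] :
    MeetIn p K := by
  obtain ⟨P⟩ : Nonempty (Sylow p Q) := inferInstance
  obtain ⟨x, hx⟩ := h P P.isPGroup'
  let P' : Subgroup Q := (P : Subgroup Q).comap (MulAut.conj x).toMonoidHom
  have hP' : ∀ y, y ∈ P' ↔ x * y * x⁻¹ ∈ (P : Subgroup Q) := fun y => Iff.rfl
  have hiP' : P'.index = (P : Subgroup Q).index :=
    Subgroup.index_comap_of_surjective _ (MulAut.conj x).surjective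
  let S₁ : Sylow p K := IsPGroup.toSylow (P := (P : Subgroup Q).subgroupOf K)
    (P.isPGroup'.comap_of_injective _ K.subtype_injective)
    fun h1 => P.not_dvd_index (h1.trans (relIndex_dvd_of_normal_right (P : Subgroup Q) K))
  let S₂ : Sylow p K := IsPGroup.toSylow (P := P'.subgroupOf K)
    ((P.isPGroup'.comap_of_injective _ (MulAut.conj x).injective).comap_of_injective _ K.subtype_injective)
    fun h1 => P.not_dvd_index (hiP' ▸ h1.trans (relIndex_dvd_of_normal_right P' K))
  obtain ⟨g, hg⟩ := MulAction.exists_smul_eq K S₁ S₂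
  refine MeetIn.of_one (S₁ : Subgroup K) S₁.isPGroup' S₁.not_dvd_index ⟨g⁻¹, fun y hy hy' => ?_⟩
  rw [inv_inv] at hy'
  have h1 : y ∈ S₂ := by
    rw [← hg, ← SetLike.mem_coe, Sylow.coe_smul]
    refine ⟨g⁻¹ * y * g, hy', ?_⟩
    simp only [MulAut.smul_def, MulAut.conj_apply, mul_assoc, _root_.smul_mul', _root_.smul_inv', _root_.mul_inv_cancel, _root_.mul_one, _root_.inv_mul_cancel, _root_.inv_mul_cancel_left]
  have h2 : x * (y : Q) * x⁻¹ ∈ (P : Subgroup Q) := h1
  exact Subtype.ext (hx y hy h2)

theorem MeetIn.of_ker {Q S : Type*} [Group Q] [Finite Q] [Group S] (h : MeetIn p Q) (f : S →* Q)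
    (hf : f.range.Normal) {Z : Subgroup S} [Z.Normal] (hZ : f.ker = Z) : MeetIn p (S ⧸ Z) := by
  subst hZ
  exact (MeetIn.normal h f.range).congr (QuotientGroup.quotientKerEquivRange f).symm

theorem exists_lift {G Q : Type*} [Group G] [Finite G] [Group Q] {f : G →* Q} (hf : Function.Surjective f)
    (hQ : IsPGroup p Q) : ∃ R : Subgroup G, IsPGroup p R ∧ R.map f = ⊤ := by
  have : Finite Q := Finite.of_surjective f hf
  obtain ⟨S⟩ : Nonempty (Sylow p G) := inferInstance
  refine ⟨S, S.isPGroup', ?_⟩
  obtain ⟨n, hn⟩ := hQ.index ((S : Subgroup G).map f)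
  have h1 := Subgroup.index_map_dvd (S : Subgroup G) hf
  rcases Nat.eq_zero_or_pos n with h0 | h0
  · rw [h0, pow_zero] at hn
    exact Subgroup.index_eq_one.1 hn
  · exact absurd ((hn ▸ dvd_pow_self p h0.ne').trans h1) S.not_dvd_index

/-- **The pair lemma for `G ⧸ Z`.** -/
theorem of_pairZ {G : Type*} [Group G] [Finite G] {Z : Subgroup G} [Z.Normal] {H N : Subgroup G}
    (hi : ¬ p ∣ H.index) (hZ : Z ≤ H) (x : G)
    (hN : ∀ n ∈ N, n ∈ H ∧ x * n * x⁻¹ ∈ H)
    (hN1 : ∀ n ∈ N, ∀ y ∈ H, x * y * x⁻¹ ∈ H → y * n * y⁻¹ ∈ N)
    (hN2 : ∀ n ∈ N, ∀ k, n ^ p ^ k ∈ Z → n = 1)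
    (hu : ∀ R : Subgroup G, IsPGroup p R → (∀ y ∈ R, y ∈ H ∧ x * y * x⁻¹ ∈ H) →
      ∃ u ∈ N, ∀ y ∈ R, u * y = y * u → y ∈ Z) : MeetIn p (G ⧸ Z) := by
  let π := QuotientGroup.mk' Z
  have hπ : Function.Surjective π := QuotientGroup.mk'_surjective Z
  have hπ1 : ∀ g, π g = 1 ↔ g ∈ Z := fun g => QuotientGroup.eq_one_iff g
  have hlift : ∀ g, π g ∈ H.map π → g ∈ H := by
    rintro g ⟨h, hh, he⟩
    have h1 : h⁻¹ * g ∈ Z := by
      rw [← hπ1, map_mul, map_inv, he, inv_mul_cancel]
    have h2 := H.mul_mem hh (hZ h1)
    rwa [mul_inv_cancel_left] at h2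
  refine MeetIn.congr (QuotientGroup.quotientBot (G := G ⧸ Z)) (of_pair (Z := (⊥ : Subgroup (G ⧸ Z))) (p := p)
    IsPGroup.of_bot (H := H.map π) (N := N.map π) ?_ (π x)⁻¹ ?_ ?_ ?_ ?_)
  · exact fun h1 => hi (h1.trans (Subgroup.index_map_dvd H hπ))
  · rintro _ ⟨n, hn, rfl⟩
    rw [inv_inv, ← map_inv, ← map_mul, ← map_mul]
    exact ⟨mem_map_of_mem π (hN n hn).1, mem_map_of_mem π (hN n hn).2⟩
  · rintro _ ⟨n, hn, rfl⟩ _ ⟨y, hy, rfl⟩ hxy
    rw [inv_inv, ← map_inv, ← map_mul, ← map_mul] at hxy
    rw [← map_inv, ← map_mul, ← map_mul]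
    exact mem_map_of_mem π (hN1 n hn y hy (hlift _ hxy))
  · rintro _ ⟨n, hn, rfl⟩ k hk
    rw [← map_pow, hπ1] at hk
    rw [hN2 n hn k hk, map_one]
  · intro R' hR' hD
    let R₀ : Subgroup G := R'.comap π
    let f : R₀ →* R' := (π.comp R₀.subtype).codRestrict R' fun y => y.2
    have hf : Function.Surjective f := by
      rintro ⟨r, hr⟩
      obtain ⟨g, rfl⟩ := hπ r
      exact ⟨⟨g, hr⟩, rfl⟩
    obtain ⟨R₁, hR₁, hR₁'⟩ := exists_lift hf hR'
    obtain ⟨u, hu1, hu2⟩ := hu (R₁.map R₀.subtype) (hR₁.map _) (by
      rintro _ ⟨y, hy, rfl⟩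
      have h1 := hD (π (y : G)) y.2
      rw [inv_inv, ← map_inv, ← map_mul, ← map_mul] at h1
      exact ⟨hlift _ h1.1, hlift _ h1.2⟩)
    refine ⟨π u, mem_map_of_mem π hu1, fun r hr hur => ?_⟩
    have h2 : (⟨r, hr⟩ : R') ∈ R₁.map f := by rw [hR₁']; trivial
    obtain ⟨y, hy, hyr⟩ := h2
    have h3 : π (y : G) = r := congrArg Subtype.val hyr
    subst h3
    have hyD := hD (π (y : G)) hr
    rw [inv_inv, ← map_inv, ← map_mul, ← map_mul] at hyD
    have h4 : y⁻¹ * u⁻¹ * (y : G) * u ∈ N := by
      have h5 := hN1 u⁻¹ (N.inv_mem hu1) (y : G)⁻¹ (H.inv_mem (hlift _ hyD.1)) (by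
        have h6 := H.inv_mem (hlift _ hyD.2)
        have h7 : (x * (y : G) * x⁻¹)⁻¹ = x * (y : G)⁻¹ * x⁻¹ := by group
        rwa [h7] at h6)
      rw [inv_inv] at h5
      exact N.mul_mem h5 hu1
    have h5 : y⁻¹ * u⁻¹ * (y : G) * u ∈ Z := by
      rw [← hπ1]
      simp only [map_mul, map_inv]
      have h6 : (π (y : G))⁻¹ * (π u)⁻¹ * π (y : G) * π u = (π u * π (y : G))⁻¹ * (π (y : G) * π u) := by group
      have h8 : π ((y⁻¹ : R₀) : G) = (π (y : G))⁻¹ := map_inv _ _
      rw [h8, h6, hur, inv_mul_cancel]
    have h6 : y⁻¹ * u⁻¹ * (y : G) * u = 1 := hN2 _ h4 0 (by rw [pow_zero, pow_one]; exact h5)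
    have h7 : (y : G) ∈ Z := hu2 y ⟨y, hy, rfl⟩ (by
      have h8 : (u * (y : G)) * (y⁻¹ * u⁻¹ * (y : G) * u) = (y : G) * u := by
        push_cast
        group
      rw [← h8, h6, mul_one])
    rw [Subgroup.mem_bot]
    exact (hπ1 _).2 h7

end Cfsg.Agent.H728.Meet2
end

-- part: H728/Meet2/ValU
section
/-!
# The 2-part of the order of `GU_n(q)`, `q` odd (helper728)

`val_gu` : `v₂ |GU_{2m+ε}(q)| = v₂(m! |GU_2(q)|^m |GU_ε(q)|)`.
-/

set_option autoImplicit false

namespace Cfsg.Agent.H728.Meet2

variable {q : ℕ}

theorem plus_odd (hq : Odd q) (m : ℕ) : ∃ a, Odd a ∧ q ^ (2 * m + 1) + 1 = (q + 1) * a := by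
  obtain ⟨t, rfl⟩ := hq
  induction m with
  | zero => exact ⟨1, odd_one, by ring⟩
  | succ m ih =>
    obtain ⟨a, ha, h1⟩ := ih
    have ha1 : 1 ≤ a := ha.pos
    obtain ⟨c, hc⟩ := Nat.exists_eq_add_of_le (show 2 * t ≤ (2 * t + 1) ^ 2 * a by nlinarith only [ha1])
    have hodd : Odd ((2 * t + 1) ^ 2 * a) := ((odd_two_mul_add_one t).pow).mul ha
    refine ⟨c, ?_, ?_⟩
    · rw [hc] at hodd
      by_contra hcon
      rw [Nat.not_odd_iff_even] at hcon
      have h2 := (even_two_mul t).add hcon
      rw [← Nat.not_odd_iff_even] at h2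
      exact h2 hodd
    · have h2 : (2 * t + 1) ^ (2 * (m + 1) + 1) = (2 * t + 1) ^ 2 * (2 * t + 1) ^ (2 * m + 1) := by
        rw [← pow_add]
        congr 1
        ring
      have h3 : (2 * t + 1) ^ 2 * ((2 * t + 1) ^ (2 * m + 1) + 1) = (2 * t + 1 + 1) * (2 * t + c) := by
        rw [h1, ← hc]
        ring
      rw [h2]
      linarith only [h3]

theorem val_plus (hq : Odd q) (m : ℕ) : padicValNat 2 (q ^ (2 * m + 1) + 1) = padicValNat 2 (q + 1) := by
  obtain ⟨a, ha, h⟩ := plus_odd hq m
  rw [h, padicValNat.mul (Nat.succ_ne_zero q) ha.pos.ne', padicValNat.eq_zero_of_not_dvd (n := a) (fun h => by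
      rw [← Nat.not_even_iff_odd] at ha
      exact ha (even_iff_two_dvd.2 h)), add_zero]

/-- the order of `GU_n(q)` -/
def gu (q n : ℕ) : ℕ :=
  q ^ (n * (n - 1) / 2) * ∏ i ∈ Finset.range n, (if Even i then q ^ (i + 1) + 1 else q ^ (i + 1) - 1)

/-- the factors -/
def guf (q i : ℕ) : ℕ := if Even i then q ^ (i + 1) + 1 else q ^ (i + 1) - 1

theorem guf_ne (hq1 : 1 < q) (i : ℕ) : guf q i ≠ 0 := by
  unfold guf
  split_ifs
  · omega
  · exact sub_one_ne hq1 (Nat.succ_ne_zero i)

theorem guf_prod_ne (hq1 : 1 < q) (n : ℕ) : ∏ i ∈ Finset.range n, guf q i ≠ 0 :=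
  Finset.prod_ne_zero_iff.2 fun i _ => guf_ne hq1 i

theorem gu_eq (q n : ℕ) : gu q n = q ^ (n * (n - 1) / 2) * ∏ i ∈ Finset.range n, guf q i := rfl

theorem gu_ne (hq1 : 1 < q) (n : ℕ) : gu q n ≠ 0 := by
  rw [gu_eq]
  exact mul_ne_zero (pow_ne_zero _ (by omega)) (guf_prod_ne hq1 n)

theorem val_gu_eq (hq : Odd q) (hq1 : 1 < q) (n : ℕ) :
    padicValNat 2 (gu q n) = padicValNat 2 (∏ i ∈ Finset.range n, guf q i) := by
  have h1 : padicValNat 2 (q ^ (n * (n - 1) / 2)) = 0 := by
    apply padicValNat.eq_zero_of_not_dvd
    have h2 := hq.pow (n := n * (n - 1) / 2)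
    rw [← Nat.not_even_iff_odd] at h2
    exact fun h => h2 (even_iff_two_dvd.2 h)
  rw [gu_eq, padicValNat.mul (pow_ne_zero _ (by omega)) (guf_prod_ne hq1 n), h1, zero_add]

theorem val_gu_zero : padicValNat 2 (gu q 0) = 0 := by simp only [gu, _root_.zero_tsub, _root_.MulZeroClass.mul_zero, _root_.Nat.zero_div, _root_.pow_zero, _root_.Finset.range_zero, _root_.Finset.prod_empty, _root_.mul_one, _root_.padicValNat_one_right]

theorem val_gu_succ (hq : Odd q) (hq1 : 1 < q) (n : ℕ) :
    padicValNat 2 (gu q (n + 1)) = padicValNat 2 (guf q n) + padicValNat 2 (gu q n) := by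
  rw [val_gu_eq hq hq1, val_gu_eq hq hq1, Finset.prod_range_succ, padicValNat.mul (guf_prod_ne hq1 n) (guf_ne hq1 n),
    add_comm]

theorem val_guf_even (hq : Odd q) (m : ℕ) : padicValNat 2 (guf q (2 * m)) = padicValNat 2 (q + 1) := by
  unfold guf
  rw [if_pos (even_two_mul m), val_plus hq]

theorem val_guf_odd (hq : Odd q) (hq1 : 1 < q) (m : ℕ) : padicValNat 2 (guf q (2 * m + 1)) =
    padicValNat 2 (q + 1) + padicValNat 2 (q - 1) + padicValNat 2 (m + 1) := by
  unfold guf
  rw [if_neg (by rw [Nat.not_even_iff_odd]; exact odd_two_mul_add_one m)]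
  exact val_even hq hq1 m

theorem val_gu_even (hq : Odd q) (hq1 : 1 < q) (m : ℕ) :
    padicValNat 2 (gu q (2 * m)) = m * padicValNat 2 (gu q 2) + padicValNat 2 m.factorial := by
  have h2 : padicValNat 2 (gu q 2) = padicValNat 2 (q + 1) + padicValNat 2 (q - 1) + padicValNat 2 (q + 1) := by
    have e1 := val_gu_succ hq hq1 1
    have e2 := val_gu_succ hq hq1 0
    have e3 := val_guf_odd hq hq1 0
    have e4 := val_guf_even hq 0
    rw [val_gu_zero] at e2
    simp only [mul_zero, zero_add, padicValNat_one_right, add_zero] at e2 e3 e4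
    rw [show (1 : ℕ) + 1 = 2 from rfl] at e1
    rw [e1, e3, e2, e4]
  induction m with
  | zero => simp [val_gu_zero]
  | succ m ih =>
    have h : 2 * (m + 1) = 2 * m + 1 + 1 := by ring
    rw [h, val_gu_succ hq hq1, val_gu_succ hq hq1, ih, val_guf_odd hq hq1, val_guf_even hq, h2, Nat.factorial_succ,
      padicValNat.mul (Nat.succ_ne_zero m) m.factorial_ne_zero]
    ring

theorem val_gu (hq : Odd q) (hq1 : 1 < q) (m ε : ℕ) (hε : ε < 2) :
    padicValNat 2 (gu q (2 * m + ε)) = padicValNat 2 (m.factorial * gu q 2 ^ m * gu q ε) := by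
  have h1 : padicValNat 2 (m.factorial * gu q 2 ^ m * gu q ε) =
      padicValNat 2 m.factorial + m * padicValNat 2 (gu q 2) + padicValNat 2 (gu q ε) := by
    rw [padicValNat.mul (mul_ne_zero m.factorial_ne_zero (pow_ne_zero _ (gu_ne hq1 2))) (gu_ne hq1 ε),
      padicValNat.mul m.factorial_ne_zero (pow_ne_zero _ (gu_ne hq1 2)), padicValNat.pow]
  rw [h1]
  interval_cases ε
  · rw [add_zero, val_gu_even hq hq1, val_gu_zero]
    ring
  · have e2 := val_gu_succ hq hq1 0
    have e4 := val_guf_even hq 0
    rw [val_gu_zero] at e2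
    simp only [mul_zero, zero_add, add_zero] at e2 e4
    rw [val_gu_succ hq hq1, val_gu_even hq hq1, val_guf_even hq, e2, e4]
    ring

end Cfsg.Agent.H728.Meet2
end

-- part: H728/Meet2/PsuA
section
/-!
# Block monomial isometries of a hermitian space (helper728)

`V = (Fin m → Fin 2 → F) × (Fin ε → F)` with the form `ff` : hyperbolic planes and a standard form.

* `bm_mem` : the block monomial isometries; `not_two_dvd_U` : they form a group of odd index;
* `NU c` : the nilpotent map with `1 + NU c` an isometry if `c + σ c + ε = 0` (`NU_mem`);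
* `diagU` : the relations for `y`, `(1 + NU c) y (1 + NU c)⁻¹` both block monomial.
-/

set_option autoImplicit false

namespace Cfsg.Agent.H728.Meet2

open Equiv Module Matrix Cfsg.Agent.H68.MeetB Cfsg.Agent.H749

section form

variable {F : Type*} [Field F] {σ : F →+* F} {m ε : ℕ}

/-- the hyperbolic plane -/
def hyp (σ : F →+* F) (u v : Fin 2 → F) : F := u 0 * σ (v 1) + u 1 * σ (v 0)

theorem hyp_hermF (hσ2 : ∀ a, σ (σ a) = a) : HermF σ (hyp σ) where
  add u u' v := by simp only [hyp, Pi.add_apply]; ring
  smul c u v := by simp only [hyp, Pi.smul_apply, smul_eq_mul]; ring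
  symm u v := by simp only [hyp, map_add, map_mul, hσ2]; ring
  nd u h := by
    funext i
    fin_cases i
    · have := h (Pi.single 1 1)
      simpa [hyp] using this
    · have := h (Pi.single 0 1)
      simpa [hyp] using this

/-- the standard form -/
def stdf (σ : F →+* F) (ε : ℕ) (u v : Fin ε → F) : F := ∑ i, u i * σ (v i)

theorem stdf_hermF (hσ2 : ∀ a, σ (σ a) = a) : HermF σ (stdf σ ε) where
  add u u' v := by simp only [stdf, Pi.add_apply, add_mul, Finset.sum_add_distrib]
  smul c u v := by simp only [stdf, Pi.smul_apply, smul_eq_mul, Finset.mul_sum, mul_assoc]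
  symm u v := by
    simp only [stdf, map_sum, map_mul, hσ2]
    exact Finset.sum_congr rfl fun i _ => mul_comm _ _
  nd u h := by
    funext i
    have h1 := h (Pi.single i 1)
    unfold stdf at h1
    rw [Finset.sum_eq_single i] at h1
    · simpa using h1
    · intro j _ hj
      rw [Pi.single_eq_of_ne hj, map_zero, mul_zero]
    · intro h2
      exact absurd (Finset.mem_univ i) h2

/-- the form -/
def ff (σ : F →+* F) (m ε : ℕ) : VV F m ε → VV F m ε → F := sumForm (ι := Fin m) (hyp σ) (stdf σ ε)

theorem ff_apply (u v : VV F m ε) : ff σ m ε u v = (∑ i, hyp σ (u.1 i) (v.1 i)) + stdf σ ε u.2 v.2 := rfl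

theorem ff_hermF (hσ2 : ∀ a, σ (σ a) = a) : HermF σ (ff σ m ε) := (hyp_hermF hσ2).sum (stdf_hermF hσ2)

theorem hyp_zero_left (v : Fin 2 → F) : hyp σ 0 v = 0 := by simp [hyp]

theorem stdf_zero_left (v : Fin ε → F) : stdf σ ε 0 v = 0 := by simp only [stdf, _root_.Pi.zero_apply, _root_.MulZeroClass.zero_mul, _root_.Finset.sum_const_zero]

theorem ff_single (j : Fin m) (a a' : Fin 2 → F) :
    ff σ m ε (Pi.single j a, 0) (Pi.single j a', 0) = hyp σ a a' := by
  rw [ff_apply, stdf_zero_left, add_zero, Finset.sum_eq_single j]
  · change hyp σ ((Pi.single j a : Fin m → Fin 2 → F) j) ((Pi.single j a' : Fin m → Fin 2 → F) j) = _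
    rw [Pi.single_eq_same, Pi.single_eq_same]
  · intro l _ hl
    change hyp σ ((Pi.single j a : Fin m → Fin 2 → F) l) _ = 0
    rw [Pi.single_eq_of_ne hl, hyp_zero_left]
  · intro h; exact absurd (Finset.mem_univ _) h

theorem ff_zero (w w' : Fin ε → F) : ff σ m ε (0, w) (0, w') = stdf σ ε w w' := by
  rw [ff_apply]
  change (∑ i : Fin m, hyp σ 0 0) + stdf σ ε w w' = _
  rw [hyp_zero_left, Finset.sum_const_zero, zero_add]

theorem bm_mem {π : Perm (Fin m)} {A : Fin m → ((Fin 2 → F) ≃ₗ[F] (Fin 2 → F))}
    {D : (Fin ε → F) ≃ₗ[F] (Fin ε → F)} :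
    bm π A D ∈ Iso (ff σ m ε) ↔ (∀ k, A k ∈ Iso (hyp σ)) ∧ D ∈ Iso (stdf σ ε) := by
  constructor
  · refine fun h => ⟨fun k a a' => ?_, fun w w' => ?_⟩
    · have h1 := h (Pi.single (π.symm k) a, 0) (Pi.single (π.symm k) a', 0)
      rw [bm_single, bm_single, ff_single, ff_single, Equiv.apply_symm_apply] at h1
      exact h1
    · have h1 := h (0, w) (0, w')
      have e : ∀ w, bm π A D (0, w) = ((0, D w) : VV F m ε) := fun w =>
        Prod.ext (funext fun k => (A k).map_zero) rfl
      rw [e, e, ff_zero, ff_zero] at h1
      exact h1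
  · rintro ⟨h1, h2⟩ u v
    rw [ff_apply, ff_apply]
    simp only [bm_fst, bm_snd]
    congr 1
    · rw [← Equiv.sum_comp π.symm fun i => hyp σ (u.1 i) (v.1 i)]
      exact Finset.sum_congr rfl fun i _ => h1 i _ _
    · exact h2 _ _

/-- the block monomial isometries -/
def HU (σ : F →+* F) (m ε : ℕ) : Subgroup (Iso (ff σ m ε)) :=
  (BM F (Fin m) (Fin 2 → F) (Fin ε → F)).subgroupOf (Iso (ff σ m ε))

theorem mem_HU {g : Iso (ff σ m ε)} : g ∈ HU σ m ε ↔ ∃ π A D, (g : VV F m ε ≃ₗ[F] VV F m ε) = bm π A D := Iff.rfl

theorem card_HU [Finite F] : Nat.card (HU σ m ε) =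
    m.factorial * Nat.card (Iso (hyp σ)) ^ m * Nat.card (Iso (stdf σ ε)) := by
  let e : (Perm (Fin m) × (Fin m → Iso (hyp σ))) × Iso (stdf σ ε) ≃ HU σ m ε :=
    Equiv.ofBijective (fun x => ⟨⟨bm x.1.1 (fun k => (x.1.2 k : (Fin 2 → F) ≃ₗ[F] (Fin 2 → F))) x.2,
        bm_mem.2 ⟨fun k => (x.1.2 k).2, x.2.2⟩⟩, _, _, _, rfl⟩) ⟨by
      rintro ⟨⟨σ, A⟩, D⟩ ⟨⟨σ', A'⟩, D'⟩ h
      have h1 := congrArg Subtype.val (congrArg Subtype.val h)
      obtain ⟨rfl, h2, h3⟩ := bm_injective h1
      obtain rfl : A = A' := funext fun k => Subtype.ext (congrFun h2 k)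
      obtain rfl : D = D' := Subtype.ext h3
      rfl, by
      rintro ⟨g, σ, A, D, h⟩
      have h0 : (g : VV F m ε ≃ₗ[F] VV F m ε) = bm σ A D := h
      have h1 := bm_mem.1 (h0 ▸ g.2)
      exact ⟨((σ, fun k => ⟨A k, h1.1 k⟩), ⟨D, h1.2⟩), Subtype.ext (Subtype.ext h0.symm)⟩⟩
  rw [← Nat.card_congr e, Nat.card_prod, Nat.card_prod, Nat.card_perm, Nat.card_eq_fintype_card (α := Fin m),
    Nat.card_fun, Nat.card_eq_fintype_card (α := Fin m), Fintype.card_fin]

end form

/-! ### The index -/

section index

variable {F : Type*} [Field F] [Fintype F] {q : ℕ} {σ : F →+* F} {m ε : ℕ}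

theorem card_iso (hF : Fintype.card F = q ^ 2) (hσ : ∀ x, σ x = x ^ q) {V : Type*} [AddCommGroup V] [Module F V]
    [FiniteDimensional F V] {f : V → V → F} (h : HermF σ f) {n : ℕ} (hn : finrank F V = n) :
    Nat.card (Iso f) = gu q n := by
  obtain ⟨j, hj⟩ := h.exists_iso (sigma_ne hF hσ) (sigma_sigma hF hσ) hσ hn
  have hS : SimF j (hermForm n F q) f 1 := ⟨one_ne_zero, fun x y => by rw [one_mul]; exact hj x y⟩
  rw [← Nat.card_congr (isoEquiv hS).toEquiv]
  exact Cfsg.Agent.S0277.result hF n

omit [Fintype F] in
theorem finrank_VV (m ε : ℕ) : finrank F (VV F m ε) = 2 * m + ε := by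
  unfold VV
  rw [Module.finrank_prod, Module.finrank_fin_fun, Module.finrank_pi_fintype]
  simp only [Module.finrank_fin_fun, Finset.sum_const, Finset.card_univ, Fintype.card_fin, smul_eq_mul]
  rw [mul_comm]

theorem not_two_dvd_U (hF : Fintype.card F = q ^ 2) (hq : Odd q) (hσ : ∀ x, σ x = x ^ q) (hε : ε < 2) :
    ¬ 2 ∣ (HU σ m ε).index := by
  have hq1 : 1 < q := by
    have := ClassicalGeometry.GUBasic.two_le hF
    omega
  have hσ2 := sigma_sigma hF hσ
  have hcard : Nat.card (Iso (ff σ m ε)) = gu q (2 * m + ε) := card_iso hF hσ (ff_hermF hσ2) (finrank_VV m ε)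
  have hc2 : Nat.card (Iso (hyp σ)) = gu q 2 := card_iso hF hσ (hyp_hermF hσ2) (Module.finrank_fin_fun F)
  have hcε : Nat.card (Iso (stdf σ ε)) = gu q ε := card_iso hF hσ (stdf_hermF hσ2) (Module.finrank_fin_fun F)
  have hfin : Finite (Iso (ff σ m ε)) := Nat.finite_of_card_ne_zero (by rw [hcard]; exact gu_ne hq1 _)
  have h1 := (HU σ m ε).card_mul_index
  have hi0 : (HU σ m ε).index ≠ 0 := Subgroup.index_ne_zero_of_finite
  have h2 := congrArg (padicValNat 2) h1
  rw [hcard, val_gu hq hq1 m ε hε, card_HU, hc2, hcε,
    padicValNat.mul (mul_ne_zero (mul_ne_zero m.factorial_ne_zero (pow_ne_zero _ (gu_ne hq1 2))) (gu_ne hq1 ε)) hi0] at h2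
  intro h7
  have : Fact (Nat.Prime 2) := ⟨Nat.prime_two⟩
  have h8 := one_le_padicValNat_of_dvd hi0 h7
  omega

end index

/-! ### The unipotent isometry -/

section unip

variable {F : Type*} [Field F] {σ : F →+* F} {m ε : ℕ} {c : F}

/-- the nilpotent map -/
def NU (c : F) (m ε : ℕ) : VV F m ε →ₗ[F] VV F m ε where
  toFun v := (fun _ => Pi.single 0 (c * (∑ j, v.1 j 1) + ∑ i, v.2 i), fun _ => -(∑ j, v.1 j 1))
  map_add' u v := by
    refine Prod.ext (funext fun k => ?_) (funext fun i => ?_)
    · simp only [Prod.fst_add, Prod.snd_add, Pi.add_apply, Finset.sum_add_distrib]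
      rw [← Pi.single_add]
      congr 1
      ring
    · simp only [Prod.fst_add, Prod.snd_add, Pi.add_apply, Finset.sum_add_distrib]
      ring
  map_smul' a v := by
    refine Prod.ext (funext fun k => ?_) (funext fun i => ?_)
    · simp only [Prod.smul_fst, Prod.smul_snd, Pi.smul_apply, smul_eq_mul, ← Finset.mul_sum, RingHom.id_apply]
      rw [← Pi.single_smul', smul_eq_mul]
      congr 1
      ring
    · simp only [Prod.smul_fst, Prod.smul_snd, Pi.smul_apply, smul_eq_mul, ← Finset.mul_sum, RingHom.id_apply]
      ring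

theorem NU_fst (v : VV F m ε) (k : Fin m) :
    (NU c m ε v).1 k = Pi.single 0 (c * (∑ j, v.1 j 1) + ∑ i, v.2 i) := rfl

theorem NU_snd (v : VV F m ε) (i : Fin ε) : (NU c m ε v).2 i = -(∑ j, v.1 j 1) := rfl

theorem NU_fst_one (v : VV F m ε) (k : Fin m) : (NU c m ε v).1 k 1 = 0 := by
  rw [NU_fst]
  exact Pi.single_eq_of_ne (by decide) _

theorem NU_nilp : IsNilpotent (NU c m ε) := by
  refine ⟨3, LinearMap.ext fun v => ?_⟩
  change NU c m ε (NU c m ε (NU c m ε v)) = 0
  have h1 : ∀ v, ∑ j, (NU c m ε v).1 j 1 = 0 := fun v => Finset.sum_eq_zero fun j _ => NU_fst_one v j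
  have h2 : ∀ v i, (NU c m ε (NU c m ε v)).2 i = 0 := fun v i => by rw [NU_snd, h1, neg_zero]
  refine Prod.ext (funext fun k => ?_) (funext fun i => ?_)
  · rw [NU_fst, h1, mul_zero, zero_add, Finset.sum_eq_zero fun i _ => h2 v i, Pi.single_zero]
    rfl
  · rw [h2]
    rfl

theorem NU_mem {x : VV F m ε ≃ₗ[F] VV F m ε} (hx : ∀ v, x v = v + NU c m ε v) (hc : c + σ c + ε = 0) :
    x ∈ Iso (ff σ m ε) := by
  intro u v
  rw [hx, hx, ff_apply, ff_apply]
  set t := ∑ j, u.1 j 1 with ht
  set t' := ∑ j, v.1 j 1 with ht'
  set s := ∑ i, u.2 i with hs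
  set s' := ∑ i, v.2 i with hs'
  have h1 : ∀ i, hyp σ ((u + NU c m ε u).1 i) ((v + NU c m ε v).1 i) =
      hyp σ (u.1 i) (v.1 i) + (c * t + s) * σ (v.1 i 1) + u.1 i 1 * σ (c * t' + s') := by
    intro i
    have e1 : ∀ w : VV F m ε, (w + NU c m ε w).1 i 1 = w.1 i 1 := fun w => by
      change w.1 i 1 + (NU c m ε w).1 i 1 = _
      rw [NU_fst_one, add_zero]
    have e2 : ∀ w : VV F m ε, (w + NU c m ε w).1 i 0 = w.1 i 0 + (c * (∑ j, w.1 j 1) + ∑ i, w.2 i) := fun w => by
      change w.1 i 0 + (NU c m ε w).1 i 0 = _
      rw [NU_fst, Pi.single_eq_same]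
    unfold hyp
    rw [e1, e1, e2, e2, map_add]
    ring
  have h2 : stdf σ ε (u + NU c m ε u).2 (v + NU c m ε v).2 =
      stdf σ ε u.2 v.2 - t * σ s' - s * σ t' + ε * (t * σ t') := by
    unfold stdf
    have e1 : ∀ i, (u + NU c m ε u).2 i * σ ((v + NU c m ε v).2 i) =
        u.2 i * σ (v.2 i) - t * σ (v.2 i) - u.2 i * σ t' + t * σ t' := by
      intro i
      change (u.2 i + (NU c m ε u).2 i) * σ (v.2 i + (NU c m ε v).2 i) = _
      rw [NU_snd, NU_snd, map_add, map_neg]
      ring
    rw [Finset.sum_congr rfl fun i _ => e1 i, Finset.sum_add_distrib, Finset.sum_sub_distrib, Finset.sum_sub_distrib,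
      ← Finset.mul_sum, ← Finset.sum_mul, Finset.sum_const, Finset.card_univ, Fintype.card_fin, nsmul_eq_mul,
      ← map_sum]
  rw [Finset.sum_congr rfl fun i _ => h1 i, Finset.sum_add_distrib, Finset.sum_add_distrib, ← Finset.mul_sum,
    ← Finset.sum_mul, h2, ← map_sum, ← ht', ← ht, map_add, map_mul]
  linear_combination (t * σ t') * hc

/-- the blocks -/
def MU (c : F) (i j : Fin m) : (Fin 2 → F) →ₗ[F] (Fin 2 → F) := (if i = j then LinearMap.id else 0) + c • E12 F

theorem MU_same (i : Fin m) (a : Fin 2 → F) : MU c i i a = a + c • E12 F a := by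
  unfold MU
  rw [if_pos rfl]
  rfl

theorem MU_ne {i j : Fin m} (h : i ≠ j) (a : Fin 2 → F) : MU c i j a = c • E12 F a := by
  unfold MU
  rw [if_neg h, zero_add]
  rfl

/-- the last row -/
def rowU (F : Type*) [Field F] (ε : ℕ) : (Fin 2 → F) →ₗ[F] (Fin ε → F) := -LinearMap.pi fun _ => LinearMap.proj 1

theorem rowU_apply (a : Fin 2 → F) : rowU F ε a = fun _ => -(a 1) := rfl

theorem bl_NU (v : VV F m ε) : bl (MU c) (fun _ => col F ε) (fun _ => rowU F ε) v = v + NU c m ε v := by
  have e : ∀ f : Fin m → F, (Pi.single 0 (∑ j, f j) : Fin 2 → F) = ∑ j, Pi.single 0 (f j) := fun f =>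
    map_sum (LinearMap.single F (fun _ : Fin 2 => F) 0) f Finset.univ
  refine Prod.ext (funext fun k => ?_) (funext fun i => ?_)
  · rw [bl_fst]
    change _ = v.1 k + (NU c m ε v).1 k
    rw [NU_fst, Pi.single_add, ← add_assoc, col_apply]
    congr 1
    have h1 : ∀ j, MU c k j (v.1 j) = (if k = j then v.1 j else 0) + c • Pi.single 0 (v.1 j 1) := by
      intro j
      by_cases h : k = j
      · subst h
        rw [MU_same, if_pos rfl, E12_apply]
      · rw [MU_ne h, if_neg h, zero_add, E12_apply]
    rw [Finset.sum_congr rfl fun j _ => h1 j, Finset.sum_add_distrib, Finset.sum_ite_eq Finset.univ k,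
      if_pos (Finset.mem_univ _), ← Finset.smul_sum, ← e, ← Pi.single_smul', smul_eq_mul]
  · rw [bl_snd]
    change v.2 i + (∑ j, rowU F ε (v.1 j)) i = v.2 i + (NU c m ε v).2 i
    rw [NU_snd, Finset.sum_apply]
    simp only [rowU_apply, Finset.sum_neg_distrib]

theorem E12_single_zero : E12 F (Pi.single 0 1) = 0 := by
  rw [E12_apply]
  have h : (Pi.single 0 1 : Fin 2 → F) 1 = 0 := Pi.single_eq_of_ne (by decide) _
  rw [h, Pi.single_zero]

theorem E12_single_one : E12 F (Pi.single 1 1) = Pi.single 0 1 := by
  rw [E12_apply, Pi.single_eq_same]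

/-- **The relations.** -/
theorem diagU (hc : c ≠ 0) (hn : 3 ≤ 2 * m + ε) (hε : ε < 2) {π τ : Perm (Fin m)}
    {A A' : Fin m → ((Fin 2 → F) ≃ₗ[F] (Fin 2 → F))} {D D' : (Fin ε → F) ≃ₗ[F] (Fin ε → F)}
    (h : ∀ v, bm π A D v + NU c m ε (bm π A D v) = bm τ A' D' (v + NU c m ε v)) :
    (∀ k, A k (Pi.single 0 1) 1 = 0) ∧
      ((ε = 1 ∧ ∃ μ : F, (∀ w i, D w i = μ * w i) ∧ ∀ k, A k (Pi.single 0 1) 0 = μ ∧ A k (Pi.single 1 1) 1 = μ) ∨
        (ε = 0 ∧ ∀ k l, k ≠ l → A k (Pi.single 0 1) 0 = A l (Pi.single 1 1) 1)) := by
  obtain ⟨r1, r2, r3, r4⟩ := rel_of_comm (M := MU c) (c := fun _ => col F ε) (c' := fun _ => rowU F ε)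
    (σ := π) (τ := τ) (A := A) (A' := A') (D := D) (D' := D') fun v => by rw [bl_NU, bl_NU]; exact h v
  subst r3
  have hπ : ∀ i, τ i = π i := by
    intro i
    by_contra hne
    obtain ⟨a, ha⟩ := (A (π i)).surjective (Pi.single 0 1)
    have h1 := r1 i i a
    rw [MU_ne hne, ha, E12_single_zero, smul_zero, MU_same] at h1
    have h2 := (A' (τ i)).map_eq_zero_iff.1 h1.symm
    have h3 : a 1 = 0 := by
      have h4 := congrFun h2 1
      rw [E12_apply] at h4
      simpa using h4
    have h4 : a = 0 := by
      rw [E12_apply, h3, Pi.single_zero, smul_zero, add_zero] at h2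
      exact h2
    rw [h4, map_zero] at ha
    have h5 := congrFun ha 0
    rw [Pi.single_eq_same] at h5
    exact zero_ne_one h5
  have s1 : ∀ k a, A k a + c • E12 F (A k a) = A' k (a + c • E12 F a) := by
    intro k a
    obtain ⟨i, rfl⟩ := π.surjective k
    have h1 := r1 i i a
    rw [hπ, MU_same, MU_same] at h1
    exact h1
  have s2 : ∀ k l, k ≠ l → ∀ a, E12 F (A l a) = A' k (E12 F a) := by
    intro k l hkl a
    obtain ⟨i, rfl⟩ := π.surjective k
    obtain ⟨j, rfl⟩ := π.surjective l
    have hij : i ≠ j := fun h => hkl (by rw [h])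
    have h1 := r1 i j a
    rw [hπ, MU_ne hkl, MU_ne hij, map_smul] at h1
    exact smul_right_injective _ hc h1
  have s3 : ∀ k a, (fun _ : Fin ε => A k a 1) = D fun _ => a 1 := by
    intro k a
    obtain ⟨j, rfl⟩ := π.surjective k
    have h1 := r2 j a
    rw [rowU_apply, rowU_apply] at h1
    have h2 : (fun _ : Fin ε => -(A (π j) a 1)) = -fun _ => A (π j) a 1 := rfl
    have h3 : (fun _ : Fin ε => -(a 1)) = -fun _ => a 1 := rfl
    rw [h2, h3, map_neg] at h1
    exact neg_injective h1
  have s4 : ∀ k w, col F ε (D w) = A' k (col F ε w) := by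
    intro k w
    obtain ⟨j, rfl⟩ := τ.surjective k
    exact r4 j w
  have t1 : ∀ k, A k (Pi.single 0 1) 1 = 0 → A' k (Pi.single 0 1) = A k (Pi.single 0 1) := by
    intro k hk
    have h1 := s1 k (Pi.single 0 1)
    rw [E12_single_zero, smul_zero, add_zero, E12_apply, hk, Pi.single_zero, smul_zero, add_zero] at h1
    exact h1.symm
  have hε' : ε = 0 ∨ ε = 1 := by omega
  rcases hε' with rfl | rfl
  · have hne : ∀ k : Fin m, ∃ l, l ≠ k := by
      intro k
      have : Nontrivial (Fin m) := Fin.nontrivial_iff_two_le.2 (by omega)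
      exact exists_ne k
    have h0 : ∀ k, A k (Pi.single 0 1) 1 = 0 := by
      intro k
      obtain ⟨l, hl⟩ := hne k
      have h1 := s2 l k hl (Pi.single 0 1)
      rw [E12_single_zero, map_zero, E12_apply] at h1
      have h2 := congrFun h1 0
      rwa [Pi.single_eq_same] at h2
    refine ⟨h0, Or.inr ⟨rfl, fun k l hkl => ?_⟩⟩
    have h1 := s2 k l hkl (Pi.single 1 1)
    rw [E12_single_one, t1 k (h0 k), E12_apply] at h1
    have h2 := congrFun h1 0
    rw [Pi.single_eq_same] at h2
    exact h2.symm
  · have h0 : ∀ k, A k (Pi.single 0 1) 1 = 0 := by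
      intro k
      have h1 := s3 k (Pi.single 0 1)
      have h2 : (fun _ : Fin 1 => (Pi.single 0 1 : Fin 2 → F) 1) = 0 := by
        funext i
        exact Pi.single_eq_of_ne (by decide) _
      rw [h2, map_zero] at h1
      exact congrFun h1 0
    refine ⟨h0, Or.inl ⟨rfl, D (fun _ => 1) 0, fun w i => ?_, fun k => ⟨?_, ?_⟩⟩⟩
    · have h1 : w = w 0 • fun _ => (1 : F) := by
        funext j
        rw [Subsingleton.elim j 0]
        simp
      rw [Subsingleton.elim i 0]
      conv_lhs => rw [h1, map_smul]
      rw [Pi.smul_apply, smul_eq_mul, mul_comm]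
    · have h1 := s4 k (fun _ => 1)
      rw [col_apply, col_apply, Fin.sum_univ_one, Fin.sum_univ_one, t1 k (h0 k)] at h1
      have h2 := congrFun h1 0
      rw [Pi.single_eq_same] at h2
      exact h2.symm
    · have h1 := s3 k (Pi.single 1 1)
      simp only [Pi.single_eq_same] at h1
      exact congrFun h1 0

end unip

end Cfsg.Agent.H728.Meet2
end

-- part: H728/Meet2/PsuB
section
/-!
# `PSU_n(q)`, `n ≥ 3`, `q` odd, `p = 2` (helper728)

* `labelsU` : the labels;
* `meetU` : `MeetIn 2` for the isometry group modulo scalars;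
* `meet2_PSU` : the row.
-/

set_option autoImplicit false

namespace Cfsg.Agent.H728.Meet2

open Equiv Module Matrix Cfsg.Agent.H68.MeetB Cfsg.Agent.H749

/-! ### Labels -/

section labels

variable {F : Type*} [Field F] {σ : F →+* F} {m ε : ℕ}

theorem labelsU {δ : F} (hδ : δ ≠ 0) (hδσ : σ δ = -δ) (h2 : (2 : F) ≠ 0) (hn : 3 ≤ 2 * m + ε) (hε : ε < 2)
    (T : Subgroup (Perm (Fin m))) (hT : IsPGroup 2 T) :
    ∃ t : Fin m → F, (∀ k, σ (t k) = -t k) ∧ ∀ π ∈ T, ∀ a d : Fin m → F, (∀ k, a k * σ (d k) = 1) →
      ((ε = 1 ∧ ∃ μ : F, ∀ k, a k = μ ∧ d k = μ) ∨ (ε = 0 ∧ ∀ k l, k ≠ l → a k = d l)) →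
      (∀ k, a k * t (π.symm k) = d k * t k) → π = 1 ∧ ∃ a₀, ∀ k, a k = a₀ ∧ d k = a₀ := by
  have hδ2 : δ ≠ -δ := by
    intro h
    have h3 : (2 : F) * δ = 0 := by linear_combination h
    exact (mul_ne_zero h2 hδ) h3
  by_cases hcase : ε = 1 ∨ 3 ≤ m
  · obtain ⟨c, hc⟩ := Cfsg.Agent.H458.M2.color (α := Fin m) T hT
    let ι : Fin 3 → F := ![0, δ, -δ]
    have hι : Function.Injective ι := by
      intro i j hij
      fin_cases i <;> fin_cases j <;> simp [ι] at hij ⊢
      all_goals first
        | exact hδ hij
        | exact hδ hij.symm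
        | exact hδ2 hij
        | exact hδ2 hij.symm
    have hισ : ∀ i, σ (ι i) = -ι i := by
      intro i
      fin_cases i
      · change σ 0 = -0
        rw [map_zero, neg_zero]
      · exact hδσ
      · change σ (-δ) = -(-δ)
        rw [map_neg, hδσ]
    refine ⟨fun k => ι (c k), fun k => hισ _, fun π hπ a d had hor ht => ?_⟩
    have key : ∃ a₀, ∀ k, a k = a₀ ∧ d k = a₀ := by
      rcases hor with ⟨-, μ, hμ⟩ | ⟨h0, h1⟩
      · exact ⟨μ, hμ⟩
      · have hm3 : 3 ≤ m := by
          rcases hcase with h3 | h3
          · omega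
          · exact h3
        have hex : ∀ j k : Fin m, ∃ l, l ≠ j ∧ l ≠ k := by
          intro j k
          have h4 : ((Finset.univ : Finset (Fin m)) \ {j, k}).Nonempty := by
            rw [← Finset.card_pos]
            have h5 := Finset.le_card_sdiff ({j, k} : Finset (Fin m)) Finset.univ
            have h6 : ({j, k} : Finset (Fin m)).card ≤ 2 := Finset.card_le_two
            rw [Finset.card_univ, Fintype.card_fin] at h5
            omega
          obtain ⟨l, hl⟩ := h4
          simp only [Finset.mem_sdiff, Finset.mem_univ, true_and, Finset.mem_insert, Finset.mem_singleton, not_or] at hl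
          exact ⟨l, hl.1, hl.2⟩
        have h3 : ∀ j k, a j = a k := by
          intro j k
          obtain ⟨l, hl1, hl2⟩ := hex j k
          rw [h1 j l hl1.symm, h1 k l hl2.symm]
        refine ⟨a ⟨0, by omega⟩, fun k => ⟨h3 _ _, ?_⟩⟩
        obtain ⟨l, hl, -⟩ := hex k k
        rw [← h1 l k hl]
        exact h3 _ _
    refine ⟨?_, key⟩
    obtain ⟨a₀, ha₀⟩ := key
    have ha0 : ∀ k : Fin m, a₀ ≠ 0 := by
      intro k h
      have h3 := had k
      rw [(ha₀ k).1, h, zero_mul] at h3
      exact zero_ne_one h3
    have h5 := hc ⟨π⁻¹, T.inv_mem hπ⟩ (fun j => by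
      have h6 := ht j
      rw [(ha₀ j).1, (ha₀ j).2] at h6
      exact hι (mul_left_cancel₀ (ha0 j) h6))
    have h6 : π⁻¹ = 1 := Equiv.ext h5
    exact inv_eq_one.1 h6
  · have hm : m = 2 := by omega
    have hε0 : ε = 0 := by omega
    subst hm
    subst hε0
    refine ⟨![δ, 0], fun k => ?_, fun π _ a d had hor ht => ?_⟩
    · fin_cases k
      · exact hδσ
      · change σ 0 = -0
        rw [map_zero, neg_zero]
    have h1 : ∀ k l, k ≠ l → a k = d l := by
      rcases hor with ⟨h0, -⟩ | ⟨-, h1⟩
      · exact absurd h0 (by decide)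
      · exact h1
    have hd : ∀ k, d k ≠ 0 := by
      intro k h
      have h3 := had k
      rw [h, map_zero, mul_zero] at h3
      exact zero_ne_one h3
    have h4 : π.symm 0 = 0 := by
      by_contra hcon
      have h3 : π.symm 0 = 1 := by omega
      have h5 := ht 0
      rw [h3] at h5
      simp only [Matrix.cons_val_one, Matrix.cons_val_zero, mul_zero, Matrix.cons_val_fin_one] at h5
      exact (mul_ne_zero (hd 0) hδ) h5.symm
    have h5 : a 0 = d 0 := by
      have h6 := ht 0
      rw [h4] at h6
      simp only [Matrix.cons_val_zero] at h6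
      exact mul_right_cancel₀ hδ h6
    have h6 : a 0 = d 1 := h1 0 1 (by decide)
    have h7 : a 1 = d 0 := h1 1 0 (by decide)
    refine ⟨?_, a 0, fun k => ?_⟩
    · have h8 : π⁻¹ = 1 := by
        have h9 : π.symm 1 = 1 := by
          have h10 : π.symm 1 ≠ π.symm 0 := fun h => absurd (π.symm.injective h) (by decide)
          rw [h4] at h10
          omega
        refine Equiv.ext fun k => ?_
        fin_cases k
        · exact h4
        · exact h9
      exact inv_eq_one.1 h8
    · fin_cases k
      · exact ⟨rfl, h5.symm⟩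
      · exact ⟨h7.trans h5.symm, h6.symm⟩

end labels

/-! ### Unipotent blocks -/

section uu

variable {F : Type*} [Field F] {σ : F →+* F} {m ε : ℕ}

/-- the transvection block -/
def uu (t : F) : (Fin 2 → F) ≃ₗ[F] (Fin 2 → F) where
  toFun u := u + t • E12 F u
  map_add' u v := by rw [map_add, smul_add]; abel
  map_smul' a u := by rw [map_smul, smul_comm, ← smul_add]; rfl
  invFun u := u - t • E12 F u
  left_inv u := by
    change (u + t • E12 F u) - t • E12 F (u + t • E12 F u) = u
    rw [map_add, map_smul, E12_E12, smul_zero, add_zero]; abel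
  right_inv u := by
    change (u - t • E12 F u) + t • E12 F (u - t • E12 F u) = u
    rw [map_sub, map_smul, E12_E12, smul_zero, sub_zero]; abel

theorem uu_apply (t : F) (u : Fin 2 → F) : uu t u = u + t • E12 F u := rfl

theorem uu_mul (s t : F) : uu s * uu t = uu (s + t) := by
  refine LinearEquiv.ext fun u => ?_
  change uu s (uu t u) = _
  rw [uu_apply, uu_apply, uu_apply, map_add, map_smul, E12_E12, smul_zero, add_zero, add_smul]
  abel

theorem uu_zero : uu (0 : F) = 1 := by
  refine LinearEquiv.ext fun u => ?_
  rw [uu_apply, zero_smul, add_zero]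
  rfl

theorem uu_one (t : F) (u : Fin 2 → F) : uu t u 1 = u 1 := by
  rw [uu_apply, E12_apply]
  simp

theorem uu_mem {t : F} (ht : σ t = -t) : uu t ∈ Iso (hyp σ) := by
  intro u v
  unfold hyp
  rw [uu_one, uu_one, uu_apply, uu_apply, E12_apply, E12_apply]
  simp only [Pi.add_apply, Pi.smul_apply, Pi.single_eq_same, smul_eq_mul, map_add, map_mul, ht]
  ring

/-- the unipotent block diagonal maps -/
def nU (t : Fin m → F) (ε : ℕ) : VV F m ε ≃ₗ[F] VV F m ε := bm 1 (fun k => uu (t k)) 1

theorem nU_mul (s t : Fin m → F) : nU s ε * nU t ε = nU (s + t) ε := by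
  unfold nU
  rw [bm_mul, mul_one, mul_one]
  congr 1
  funext k
  exact uu_mul _ _

theorem nU_zero : nU (0 : Fin m → F) ε = 1 := by
  unfold nU
  rw [← bm_one]
  congr 1
  funext k
  exact uu_zero

theorem nU_pow (t : Fin m → F) (j : ℕ) : nU t ε ^ j = nU ((j : F) • t) ε := by
  induction j with
  | zero => rw [pow_zero, Nat.cast_zero, zero_smul, nU_zero]
  | succ j ih => rw [pow_succ, ih, nU_mul, Nat.cast_succ, add_smul, one_smul]

theorem nU_mem {t : Fin m → F} (ht : ∀ k, σ (t k) = -t k) : nU t ε ∈ Iso (ff σ m ε) :=
  bm_mem.2 ⟨fun k => uu_mem (ht k), (Iso (stdf σ ε)).one_mem⟩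

/-- the unipotent subgroup -/
def NNU (σ : F →+* F) (m ε : ℕ) : Subgroup (Iso (ff σ m ε)) where
  carrier := {g | ∃ t : Fin m → F, (∀ k, σ (t k) = -t k) ∧ (g : VV F m ε ≃ₗ[F] VV F m ε) = nU t ε}
  one_mem' := ⟨0, fun k => by simp, nU_zero.symm⟩
  mul_mem' := by
    rintro g h ⟨s, hs, hg⟩ ⟨t, ht, hh⟩
    refine ⟨s + t, fun k => ?_, ?_⟩
    · rw [Pi.add_apply, map_add, hs, ht, neg_add]
    · rw [Subgroup.coe_mul, hg, hh, nU_mul]
  inv_mem' := by
    rintro g ⟨s, hs, hg⟩
    refine ⟨-s, fun k => ?_, ?_⟩
    · rw [Pi.neg_apply, map_neg, hs]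
    · rw [Subgroup.coe_inv, hg, inv_eq_iff_mul_eq_one, nU_mul, add_neg_cancel, nU_zero]

theorem nU_comm (c : F) (t : Fin m → F) (v : VV F m ε) :
    nU t ε (v + NU c m ε v) = nU t ε v + NU c m ε (nU t ε v) := by
  rw [map_add]
  congr 1
  have h1 : ∀ j, (nU t ε v).1 j 1 = v.1 j 1 := fun j => uu_one _ _
  have h2 : (nU t ε v).2 = v.2 := rfl
  refine Prod.ext (funext fun k => ?_) (funext fun i => ?_)
  · rw [NU_fst, h2, Finset.sum_congr rfl fun j _ => h1 j]
    change uu (t k) ((NU c m ε v).1 k) = _
    rw [uu_apply, E12_apply, NU_fst_one, Pi.single_zero, smul_zero, add_zero, NU_fst]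
  · change (NU c m ε v).2 i = _
    rw [NU_snd, NU_snd, Finset.sum_congr rfl fun j _ => h1 j]

/-- the scalars -/
def ZU (σ : F →+* F) (m ε : ℕ) : Subgroup (Iso (ff σ m ε)) where
  carrier := {g | ∃ r : F, ∀ v, (g : VV F m ε ≃ₗ[F] VV F m ε) v = r • v}
  one_mem' := ⟨1, fun v => (one_smul F v).symm⟩
  mul_mem' := by
    rintro g h ⟨r, hr⟩ ⟨s, hs⟩
    refine ⟨r * s, fun v => ?_⟩
    change (g : VV F m ε ≃ₗ[F] VV F m ε) ((h : VV F m ε ≃ₗ[F] VV F m ε) v) = _
    rw [hs, hr, mul_smul]
  inv_mem' := by
    rintro g ⟨r, hr⟩
    refine ⟨r⁻¹, fun v => ?_⟩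
    have h1 : (g : VV F m ε ≃ₗ[F] VV F m ε) ((g : VV F m ε ≃ₗ[F] VV F m ε)⁻¹ v) = v :=
      (g : VV F m ε ≃ₗ[F] VV F m ε).apply_symm_apply v
    change (g : VV F m ε ≃ₗ[F] VV F m ε)⁻¹ v = _
    rw [hr] at h1
    by_cases h0 : r = 0
    · rw [h0, zero_smul] at h1
      rw [← h1, map_zero, smul_zero]
    · conv_rhs => rw [← h1]
      rw [inv_smul_smul₀ h0]

instance ZU_normal : (ZU σ m ε).Normal := ⟨by
  rintro g ⟨r, hr⟩ h
  refine ⟨r, fun v => ?_⟩
  change (h : VV F m ε ≃ₗ[F] VV F m ε) ((g : VV F m ε ≃ₗ[F] VV F m ε) ((h : VV F m ε ≃ₗ[F] VV F m ε).symm v)) = _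
  rw [hr, map_smul, LinearEquiv.apply_symm_apply]⟩

theorem ZU_le (hn : 3 ≤ 2 * m + ε) : ZU σ m ε ≤ HU σ m ε := by
  rintro g ⟨r, hr⟩
  have hr0 : r ≠ 0 := by
    rintro rfl
    have hne : Nontrivial (VV F m ε) := by
      apply Module.nontrivial_of_finrank_pos (R := F)
      rw [finrank_VV]
      omega
    obtain ⟨v, hv⟩ := exists_ne (0 : VV F m ε)
    have h3 := hr v
    rw [zero_smul] at h3
    exact hv ((g : VV F m ε ≃ₗ[F] VV F m ε).map_eq_zero_iff.1 h3)
  exact mem_HU.2 ⟨1, fun _ => LinearEquiv.smulOfNeZero F _ r hr0, LinearEquiv.smulOfNeZero F _ r hr0,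
    LinearEquiv.ext fun v => hr v⟩

end uu

/-! ### Triangular blocks -/

section tri

variable {F : Type*} [Field F] {σ : F →+* F} {A : (Fin 2 → F) ≃ₗ[F] (Fin 2 → F)}

theorem vec2 (u : Fin 2 → F) : u = u 0 • (Pi.single 0 1 : Fin 2 → F) + u 1 • (Pi.single 1 1 : Fin 2 → F) := by
  funext i
  fin_cases i <;> simp

theorem tri_one (h : A (Pi.single 0 1) 1 = 0) (u : Fin 2 → F) : A u 1 = u 1 * A (Pi.single 1 1) 1 := by
  conv_lhs => rw [vec2 u]
  rw [map_add, map_smul, map_smul, Pi.add_apply, Pi.smul_apply, Pi.smul_apply, h, smul_zero, zero_add, smul_eq_mul]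

theorem tri_single (h : A (Pi.single 0 1) 1 = 0) (s : F) :
    A (Pi.single 0 s) = Pi.single 0 (s * A (Pi.single 0 1) 0) := by
  have h1 : (Pi.single 0 s : Fin 2 → F) = s • Pi.single 0 1 := by
    rw [← Pi.single_smul', smul_eq_mul, mul_one]
  rw [h1, map_smul]
  funext i
  fin_cases i
  · change s • A (Pi.single 0 1) 0 = (Pi.single 0 (s * A (Pi.single 0 1) 0) : Fin 2 → F) 0
    rw [Pi.single_eq_same, smul_eq_mul]
  · change s • A (Pi.single 0 1) 1 = (Pi.single 0 (s * A (Pi.single 0 1) 0) : Fin 2 → F) 1
    rw [h, Pi.single_eq_of_ne (by decide), smul_zero]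

theorem tri_hyp (hA : A ∈ Iso (hyp σ)) (h : A (Pi.single 0 1) 1 = 0) :
    A (Pi.single 0 1) 0 * σ (A (Pi.single 1 1) 1) = 1 := by
  have h1 := hA (Pi.single 0 1) (Pi.single 1 1)
  unfold hyp at h1
  rw [h, zero_mul, add_zero] at h1
  simpa only [_root_.Fin.isValue, _root_.Pi.single_eq_same, _root_.map_one, _root_.mul_one, _root_.ne_eq, _root_.one_ne_zero, _root_.not_false_eq_true, _root_.Pi.single_eq_of_ne, _root_.zero_ne_one, _root_.map_zero, _root_.MulZeroClass.mul_zero, _root_.add_zero] using h1

/-- the core of `scal_of` -/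
theorem blk_scal (h2 : (2 : F) ≠ 0) (hA : ∀ a, E12 F (A a) = A (E12 F a)) {k : ℕ} (hk : A ^ 2 ^ k = 1) (u : Fin 2 → F) :
    A u = A (Pi.single 0 1) 0 • u := by
  obtain ⟨a, ha⟩ := scal_of (I := Unit) (ε := 0) h2 (by norm_num) hA (D := 1) (fun w => by
      rw [show w = 0 from Subsingleton.elim _ _, map_zero, map_zero, map_zero]) (k := k) (by
    rw [bm_pow, hk, one_pow, ← bm_one]
    rfl)
  have h1 : ∀ u, A u = a • u := fun u => congrFun (congrArg Prod.fst (ha (fun _ => u, 0))) ()
  have h3 : A (Pi.single 0 1) 0 = a := by
    rw [h1]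
    simp
  rw [h3, h1]

theorem comm_E12 (h : A (Pi.single 0 1) 1 = 0) (h1 : A (Pi.single 0 1) 0 = A (Pi.single 1 1) 1) (u : Fin 2 → F) :
    E12 F (A u) = A (E12 F u) := by
  rw [E12_apply, E12_apply, tri_single h, tri_one h, h1]

theorem tri_uu (hA : A ∈ Iso (hyp σ)) (hσ2 : ∀ a, σ (σ a) = a) (h : A (Pi.single 0 1) 1 = 0) (t : F) :
    A * uu t = uu (A (Pi.single 0 1) 0 * σ (A (Pi.single 0 1) 0) * t) * A := by
  have h1 := tri_hyp hA h
  have h2 : σ (A (Pi.single 0 1) 0) * A (Pi.single 1 1) 1 = 1 := by
    have h3 := congrArg σ h1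
    rwa [map_mul, hσ2, map_one] at h3
  refine LinearEquiv.ext fun u => ?_
  change A (uu t u) = uu _ (A u)
  rw [uu_apply, uu_apply, map_add, map_smul, E12_apply, E12_apply, tri_single h, tri_one h,
    ← Pi.single_smul', ← Pi.single_smul']
  congr 2
  simp only [smul_eq_mul]
  linear_combination (-(t * u 1 * A (Pi.single 0 1) 0)) * h2

end tri

/-! ### The isometry group modulo scalars -/

section meet

variable {F : Type*} [Field F] [Fintype F] {σ : F →+* F} {m ε q : ℕ}

omit [Fintype F] in
theorem bm_pow' {I W U : Type*} [AddCommGroup W] [Module F W] [AddCommGroup U] [Module F U] (π : Perm I)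
    (A : I → (W ≃ₗ[F] W)) (D : U ≃ₗ[F] U) (r : ℕ) : ∃ B E, bm π A D ^ r = bm (π ^ r) B E := by
  induction r with
  | zero => exact ⟨1, 1, by rw [pow_zero, pow_zero]; exact bm_one.symm⟩
  | succ r ih =>
    obtain ⟨B, E, hB⟩ := ih
    exact ⟨_, _, by rw [pow_succ, hB, bm_mul, ← pow_succ]⟩

omit [Fintype F] in
theorem bm_pow_one {I W U : Type*} [AddCommGroup W] [Module F W] [AddCommGroup U] [Module F U]
    (A : I → (W ≃ₗ[F] W)) (D : U ≃ₗ[F] U) (r : ℕ) : bm 1 A D ^ r = bm 1 (fun k => A k ^ r) (D ^ r) := by
  induction r with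
  | zero =>
    rw [pow_zero]
    exact bm_one.symm
  | succ r ih =>
    rw [pow_succ, ih, bm_mul, mul_one]
    rfl

omit [Fintype F] in
/-- the permutations -/
def TU (R : Subgroup (Iso (ff σ m ε))) : Subgroup (Perm (Fin m)) where
  carrier := {π | ∃ A D, ∃ g ∈ R, (g : VV F m ε ≃ₗ[F] VV F m ε) = bm π A D}
  one_mem' := ⟨1, 1, 1, R.one_mem, bm_one.symm⟩
  mul_mem' := by
    rintro π τ ⟨A, D, g, hg, h1⟩ ⟨A', D', g', hg', h1'⟩
    exact ⟨_, _, g * g', R.mul_mem hg hg', by rw [Subgroup.coe_mul, h1, h1', bm_mul]⟩
  inv_mem' := by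
    rintro π ⟨A, D, g, hg, h1⟩
    refine ⟨fun k => (A (π k))⁻¹, D⁻¹, g⁻¹, R.inv_mem hg, ?_⟩
    rw [Subgroup.coe_inv, h1, inv_eq_iff_mul_eq_one, bm_mul, ← bm_one]
    congr 1
    · simp
    · funext k
      simp
    · simp

omit [Fintype F] in
theorem TU_isPGroup {R : Subgroup (Iso (ff σ m ε))} (hR : IsPGroup 2 R) : IsPGroup 2 (TU R) := by
  rintro ⟨π, A, D, g, hg, h1⟩
  obtain ⟨k, hk⟩ := hR ⟨g, hg⟩
  refine ⟨k, Subtype.ext ?_⟩
  have h2 : (g : VV F m ε ≃ₗ[F] VV F m ε) ^ 2 ^ k = 1 :=
    congrArg Subtype.val (congrArg Subtype.val hk)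
  obtain ⟨B, E, hB⟩ := bm_pow' π A D (2 ^ k)
  rw [h1, hB, ← bm_one] at h2
  exact (bm_injective h2).1

omit [Fintype F] in
theorem exists_delta (hne : σ ≠ RingHom.id F) (hσ2 : ∀ a, σ (σ a) = a) : ∃ δ : F, δ ≠ 0 ∧ σ δ = -δ := by
  obtain ⟨a, ha⟩ : ∃ a, σ a ≠ a := by
    by_contra hcon
    push Not at hcon
    exact hne (RingHom.ext hcon)
  refine ⟨a - σ a, sub_ne_zero.2 ha.symm, ?_⟩
  rw [map_sub, hσ2]
  ring

omit [Fintype F] in
theorem exists_c (h2 : (2 : F) ≠ 0) (hne : σ ≠ RingHom.id F) (hσ2 : ∀ a, σ (σ a) = a) (hε : ε < 2) :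
    ∃ c : F, c ≠ 0 ∧ c + σ c + ε = 0 := by
  have hε' : ε = 0 ∨ ε = 1 := by omega
  rcases hε' with rfl | rfl
  · obtain ⟨δ, h1, h3⟩ := exists_delta hne hσ2
    refine ⟨δ, h1, ?_⟩
    rw [h3, Nat.cast_zero]
    ring
  · refine ⟨-(2⁻¹), neg_ne_zero.2 (inv_ne_zero h2), ?_⟩
    rw [map_neg, map_inv₀, map_ofNat, Nat.cast_one]
    field_simp
    norm_num

/-- **The isometry group modulo scalars.** -/
theorem meetU (hF : Fintype.card F = q ^ 2) (hq : Odd q) (hσ : ∀ x, σ x = x ^ q) (hn : 3 ≤ 2 * m + ε) (hε : ε < 2) :
    MeetIn 2 (Iso (ff σ m ε) ⧸ ZU σ m ε) := by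
  have h2' : Fact (Nat.Prime 2) := ⟨Nat.prime_two⟩
  obtain ⟨p, hch⟩ := CharP.exists F
  have hp : Fact p.Prime := ⟨CharP.char_is_prime F p⟩
  have h2 : (2 : F) ≠ 0 := by
    intro h0
    have h3 : ((2 : ℕ) : F) = 0 := by exact_mod_cast h0
    have h4 := (CharP.cast_eq_zero_iff F p 2).1 h3
    have h5 : p = 2 := (Nat.prime_dvd_prime_iff_eq hp.out Nat.prime_two).1 h4
    subst h5
    obtain ⟨n, -, hn⟩ := FiniteField.card F 2
    have h7 : Odd (2 ^ (n : ℕ)) := by
      rw [← hn, hF]
      exact hq.pow
    have h6 : (n : ℕ) ≠ 0 := n.ne_zero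
    rw [Nat.odd_pow_iff h6] at h7
    exact absurd h7 (by decide)
  have hq1 : 1 < q := by
    have := ClassicalGeometry.GUBasic.two_le hF
    omega
  have hne := sigma_ne hF hσ
  have hσ2 := sigma_sigma hF hσ
  have hfin : Finite (Iso (ff σ m ε)) := Nat.finite_of_card_ne_zero (by
    rw [card_iso hF hσ (ff_hermF hσ2) (finrank_VV m ε)]
    exact gu_ne hq1 _)
  have hnt : Nontrivial (VV F m ε) := by
    apply Module.nontrivial_of_finrank_pos (R := F)
    rw [finrank_VV]
    omega
  obtain ⟨c, hc, hcσ⟩ := exists_c (F := F) h2 hne hσ2 hε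
  obtain ⟨δ, hδ, hδσ⟩ := exists_delta hne hσ2
  obtain ⟨x, hx, -⟩ := exists_unip (p := p) (NU_nilp (c := c) (m := m) (ε := ε))
  have hxm : x ∈ Iso (ff σ m ε) := NU_mem hx hcσ
  -- the relations
  have hrel : ∀ y : Iso (ff σ m ε), (⟨x, hxm⟩ * y * ⟨x, hxm⟩⁻¹ : Iso (ff σ m ε)) ∈ HU σ m ε →
      ∀ π A D, (y : VV F m ε ≃ₗ[F] VV F m ε) = bm π A D →
      (∀ k, A k (Pi.single 0 1) 1 = 0) ∧
      ((ε = 1 ∧ ∃ μ : F, (∀ w i, D w i = μ * w i) ∧ ∀ k, A k (Pi.single 0 1) 0 = μ ∧ A k (Pi.single 1 1) 1 = μ) ∨
        (ε = 0 ∧ ∀ k l, k ≠ l → A k (Pi.single 0 1) 0 = A l (Pi.single 1 1) 1)) := by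
    rintro y hxy π A D hy
    obtain ⟨τ, A', D', h1⟩ := mem_HU.1 hxy
    have h3 : x * (y : VV F m ε ≃ₗ[F] VV F m ε) * x⁻¹ = bm τ A' D' := h1
    rw [mul_inv_eq_iff_eq_mul, hy] at h3
    refine diagU hc hn hε (π := π) (τ := τ) (A := A) (A' := A') (D := D) (D' := D') fun v => ?_
    rw [← hx, ← hx]
    exact congrArg (fun g : VV F m ε ≃ₗ[F] VV F m ε => g v) h3
  refine of_pairZ (p := 2) (Z := ZU σ m ε) (H := HU σ m ε) (N := NNU σ m ε) (not_two_dvd_U hF hq hσ hε) (ZU_le hn)
    ⟨x, hxm⟩ ?_ ?_ ?_ ?_
  · rintro n ⟨t, ht, hnt⟩
    have h1 : n ∈ HU σ m ε := mem_HU.2 ⟨_, _, _, hnt⟩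
    refine ⟨h1, ?_⟩
    have h3 : (⟨x, hxm⟩ * n * ⟨x, hxm⟩⁻¹ : Iso (ff σ m ε)) = n := by
      rw [mul_inv_eq_iff_eq_mul]
      apply Subtype.ext
      refine LinearEquiv.ext fun v => ?_
      change x ((n : VV F m ε ≃ₗ[F] VV F m ε) v) = (n : VV F m ε ≃ₗ[F] VV F m ε) (x v)
      rw [hx, hx, hnt, nU_comm]
    rw [h3]
    exact h1
  · rintro n ⟨t, ht, hnt⟩ y hy hxy
    obtain ⟨π, A, D, hyA⟩ := mem_HU.1 hy
    obtain ⟨h0, -⟩ := hrel y hxy π A D hyA
    have hA := (bm_mem.1 (hyA ▸ y.2)).1
    refine ⟨fun k => A k (Pi.single 0 1) 0 * σ (A k (Pi.single 0 1) 0) * t (π.symm k), fun k => ?_, ?_⟩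
    · rw [map_mul, map_mul, hσ2, ht]
      ring
    · change (y : VV F m ε ≃ₗ[F] VV F m ε) * n * (y : VV F m ε ≃ₗ[F] VV F m ε)⁻¹ = _
      rw [mul_inv_eq_iff_eq_mul, hyA, hnt]
      unfold nU
      rw [bm_mul, bm_mul, one_mul, mul_one, mul_one, one_mul]
      congr 1
      funext k
      exact tri_uu (hA k) hσ2 (h0 k) _
  · rintro n ⟨t, ht, hnt⟩ k ⟨r, hr⟩
    have h1 : ∀ v, nU (((2 ^ k : ℕ) : F) • t) ε v = r • v := by
      intro v
      rw [← hr, ← nU_pow, ← hnt]
      rfl
    have h3 : t = 0 := by
      funext i
      have e1 := congrFun (congrFun (congrArg Prod.fst (h1 (fun _ => Pi.single 1 1, 0))) i) 0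
      change uu ((((2 ^ k : ℕ) : F) • t) i) (Pi.single 1 1) 0 = r • (Pi.single 1 1 : Fin 2 → F) 0 at e1
      rw [uu_apply, E12_single_one] at e1
      simp only [Pi.add_apply, Pi.smul_apply, Pi.single_eq_same, smul_eq_mul, mul_one] at e1
      have e2 : (Pi.single 1 1 : Fin 2 → F) 0 = 0 := Pi.single_eq_of_ne (by decide) _
      rw [e2, zero_add, mul_zero] at e1
      rcases mul_eq_zero.1 e1 with h4 | h4
      · exfalso
        rw [Nat.cast_pow, Nat.cast_ofNat] at h4
        exact pow_ne_zero k h2 h4
      · exact h4
    apply Subtype.ext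
    rw [hnt, h3, nU_zero]
    rfl
  · intro R hR hRD
    obtain ⟨t, ht, hlab⟩ := labelsU (σ := σ) hδ hδσ h2 hn hε (TU R) (TU_isPGroup hR)
    refine ⟨⟨nU t ε, nU_mem ht⟩, ⟨t, ht, rfl⟩, fun y hy huy => ?_⟩
    obtain ⟨hy1, hy2⟩ := hRD y hy
    obtain ⟨π, A, D, hyA⟩ := mem_HU.1 hy1
    obtain ⟨h0, hor⟩ := hrel y hy2 π A D hyA
    have hA := (bm_mem.1 (hyA ▸ y.2)).1
    have hcom : ∀ k, uu (t k) * A k = A k * uu (t (π.symm k)) := by
      have h1 : nU t ε * (y : VV F m ε ≃ₗ[F] VV F m ε) = (y : VV F m ε ≃ₗ[F] VV F m ε) * nU t ε :=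
        congrArg Subtype.val huy
      rw [hyA] at h1
      unfold nU at h1
      rw [bm_mul, bm_mul, one_mul, mul_one] at h1
      exact fun k => congrFun (bm_injective h1).2.1 k
    obtain ⟨h1, a₀, ha₀⟩ := hlab π ⟨A, D, y, hy, hyA⟩ (fun k => A k (Pi.single 0 1) 0)
      (fun k => A k (Pi.single 1 1) 1) (fun k => tri_hyp (hA k) (h0 k)) (by
        rcases hor with ⟨e1, μ, -, e2⟩ | h
        · exact Or.inl ⟨e1, μ, e2⟩
        · exact Or.inr h) (fun k => by
        have h3 := congrFun (congrArg (fun g : (Fin 2 → F) ≃ₗ[F] (Fin 2 → F) => g (Pi.single 1 1)) (hcom k)) 0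
        change uu (t k) (A k (Pi.single 1 1)) 0 = A k (uu (t (π.symm k)) (Pi.single 1 1)) 0 at h3
        rw [uu_apply, uu_apply, E12_single_one, map_add, map_smul, E12_apply] at h3
        simp only [Pi.add_apply, Pi.smul_apply, Pi.single_eq_same, smul_eq_mul] at h3
        linear_combination -h3)
    subst h1
    obtain ⟨k, hk⟩ := hR ⟨y, hy⟩
    have h2k : (y : VV F m ε ≃ₗ[F] VV F m ε) ^ 2 ^ k = 1 := congrArg Subtype.val (congrArg Subtype.val hk)
    rw [hyA, bm_pow_one, ← bm_one] at h2k
    have h3 := (bm_injective h2k).2.1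
    refine ⟨a₀, fun v => ?_⟩
    rw [hyA]
    refine Prod.ext (funext fun i => ?_) (funext fun i => ?_)
    · change A i (v.1 i) = a₀ • v.1 i
      rw [blk_scal h2 (comm_E12 (h0 i) ((ha₀ i).1.trans (ha₀ i).2.symm)) (congrFun h3 i), (ha₀ i).1]
    · change D v.2 i = a₀ * v.2 i
      rcases hor with ⟨e1, μ, e2, e3⟩ | ⟨e1, -⟩
      · have hm : 0 < m := by omega
        rw [e2, ← (e3 ⟨0, hm⟩).1, (ha₀ _).1]
      · subst e1
        exact i.elim0

end meet

/-! ### The row -/

/-- **The row `PSU_n(q)`, `n ≥ 3`, `q` odd, of S5760 at `p = 2`.** -/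
theorem meet2_PSU {n q : ℕ} {F : Type} [Field F] [Fintype F] (hF : Fintype.card F = q ^ 2) (hq : Odd q) (hn : 3 ≤ n) :
    MeetIn 2 (Cfsg.PSU n F q) := by
  have h2' : Fact (Nat.Prime 2) := ⟨Nat.prime_two⟩
  obtain ⟨m, ε, rfl, hε⟩ : ∃ m ε, n = 2 * m + ε ∧ ε < 2 := ⟨n / 2, n % 2, by omega, by omega⟩
  obtain ⟨σ, hσ⟩ := ClassicalGeometry.GUBasic.exists_powHom hF
  have hσ2 := sigma_sigma hF hσ
  have hq1 : 1 < q := by
    have := ClassicalGeometry.GUBasic.two_le hF
    omega
  have hfin : Finite (Iso (ff σ m ε)) := Nat.finite_of_card_ne_zero (by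
    rw [card_iso hF hσ (ff_hermF hσ2) (finrank_VV m ε)]
    exact gu_ne hq1 _)
  obtain ⟨j, hj⟩ := (ff_hermF (m := m) (ε := ε) hσ2).exists_iso (sigma_ne hF hσ) hσ2 hσ (finrank_VV m ε)
  have hS : SimF j (hermForm (2 * m + ε) F q) (ff σ m ε) 1 := ⟨one_ne_zero, fun x y => by rw [one_mul]; exact hj x y⟩
  let e := slEquiv hS
  let φ : Cfsg.SU (2 * m + ε) F q →* Iso (ff σ m ε) := (detKer (ff σ m ε)).subtype.comp e.toMonoidHom
  have hφ : ∀ s v, (φ s : VV F m ε ≃ₗ[F] VV F m ε) v =
      j ((s.1 : Matrix (Fin (2 * m + ε)) (Fin (2 * m + ε)) F) *ᵥ j.symm v) := fun s v => rfl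
  have hφi : Function.Injective φ := (Subtype.val_injective).comp e.injective
  have hr : φ.range = detKer (ff σ m ε) := by
    ext g
    constructor
    · rintro ⟨s, rfl⟩
      exact (e s).2
    · intro hg
      obtain ⟨s, hs⟩ := e.surjective ⟨g, hg⟩
      exact ⟨s, congrArg Subtype.val hs⟩
  have hdn : (detKer (ff σ m ε)).Normal := by
    unfold detKer
    infer_instance
  let f : Cfsg.SU (2 * m + ε) F q →* Iso (ff σ m ε) ⧸ ZU σ m ε := (QuotientGroup.mk' (ZU σ m ε)).comp φ
  refine MeetIn.of_ker (meetU hF hq hσ hn hε) f ?_ ?_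
  · have h1 : f.range = (detKer (ff σ m ε)).map (QuotientGroup.mk' (ZU σ m ε)) := by
      rw [← hr]
      exact MonoidHom.range_comp _ _
    rw [h1]
    exact hdn.map _ (QuotientGroup.mk'_surjective _)
  · ext s
    rw [MonoidHom.mem_ker]
    have h1 : f s = 1 ↔ φ s ∈ ZU σ m ε := QuotientGroup.eq_one_iff _
    rw [h1]
    constructor
    · rintro ⟨r, hr⟩
      rw [Subgroup.mem_center_iff]
      intro g
      apply hφi
      rw [map_mul, map_mul]
      apply Subtype.ext
      refine LinearEquiv.ext fun v => ?_
      change (φ g : VV F m ε ≃ₗ[F] VV F m ε) ((φ s : VV F m ε ≃ₗ[F] VV F m ε) v) =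
        (φ s : VV F m ε ≃ₗ[F] VV F m ε) ((φ g : VV F m ε ≃ₗ[F] VV F m ε) v)
      rw [hr, hr, map_smul]
    · intro hs
      obtain ⟨c, h3, h4, rfl⟩ := (Cfsg.Agent.LieClassical.SUBasic.mem_center_SU_iff hF hn s).1 hs
      refine ⟨c, fun v => ?_⟩
      rw [hφ, Cfsg.Agent.LieClassical.SUBasic.coe_suScalar, Matrix.diagonal_const_mulVec, map_smul,
        LinearEquiv.apply_symm_apply]

end Cfsg.Agent.H728.Meet2
end

-- part: H178/MeetTwo/Base
section
/-!
# Sylow `2`-subgroups of symmetric groups: tools

* `meet_of_sub` : it is enough to treat a subgroup of odd index;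
* `index_cent` : the index of the centralizer of an involution with few fixed points.
-/

set_option autoImplicit false

namespace Cfsg.Agent.H178.MeetTwo

open Equiv Cfsg.Agent.H68.MeetB

/-- it is enough to treat a subgroup of odd index -/
theorem meet_of_sub {T : Type*} [Group T] [Finite T] (H : Subgroup T) (hi : ¬ 2 ∣ H.index) (x : T)
    (h : ∀ y ∈ H, x * y * x⁻¹ ∈ H → y = 1) : MeetIn 2 T := by
  have : Fact (Nat.Prime 2) := ⟨Nat.prime_two⟩
  obtain ⟨Q⟩ : Nonempty (Sylow 2 H) := inferInstance
  refine MeetIn.of_one ((Q : Subgroup H).map H.subtype) (Q.isPGroup'.map _) ?_ ⟨x, ?_⟩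
  · rw [Subgroup.index_map_subtype]
    intro h1
    rcases Nat.prime_two.dvd_mul.1 h1 with h2 | h2
    · exact Q.not_dvd_index h2
    · exact hi h2
  · rintro _ ⟨y, _, rfl⟩ hxy
    obtain ⟨z, _, hz⟩ := hxy
    refine h y y.2 ?_
    have : x * (H.subtype y) * x⁻¹ ∈ H := by rw [← hz]; exact z.2
    exact this

section

variable {α : Type*} [Fintype α] [DecidableEq α]

theorem cycleType_of {σ : Perm α} (h2 : σ ^ 2 = 1) {m : ℕ} (hs : σ.support.card = 2 * m) :
    σ.cycleType = Multiset.replicate m 2 := by
  rcases Nat.eq_zero_or_pos m with h0 | h0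
  · subst h0
    rw [mul_zero, Finset.card_eq_zero, Perm.support_eq_empty_iff] at hs
    rw [hs, Perm.cycleType_one, Multiset.replicate_zero]
  · have h1 : σ ≠ 1 := by
      rintro rfl
      rw [Perm.support_one, Finset.card_empty] at hs
      omega
    have ho : orderOf σ = 2 := by
      have : Fact (Nat.Prime 2) := ⟨Nat.prime_two⟩
      exact orderOf_eq_prime h2 h1
    obtain ⟨n, hn⟩ := Perm.cycleType_prime_order (σ := σ) (by rw [ho]; exact Nat.prime_two)
    rw [ho] at hn
    have h3 := Perm.sum_cycleType σ
    rw [hn, hs, Multiset.sum_replicate, smul_eq_mul, mul_comm] at h3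
    rw [hn, Nat.eq_of_mul_eq_mul_left (by norm_num) h3]

theorem card_cent {σ : Perm α} (h2 : σ ^ 2 = 1) {m r : ℕ} (hs : σ.support.card = 2 * m)
    (hr : Fintype.card α = 2 * m + r) :
    Nat.card (Subgroup.centralizer {σ}) = r.factorial * 2 ^ m * m.factorial := by
  rw [Perm.nat_card_centralizer, cycleType_of h2 hs, Multiset.sum_replicate, Multiset.prod_replicate,
    smul_eq_mul, mul_comm m 2, hr, Nat.add_sub_cancel_left]
  rcases Nat.eq_zero_or_pos m with h0 | h0
  · subst h0
    simp
  · rw [Multiset.toFinset_replicate, if_neg h0.ne', Finset.prod_singleton, Multiset.count_replicate_self]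

theorem index_cent {σ : Perm α} (h2 : σ ^ 2 = 1) {m r : ℕ} (hs : σ.support.card = 2 * m)
    (hr : Fintype.card α = 2 * m + r) (h : r ≤ 1 ∨ (r = 2 ∧ Even m)) :
    ¬ 2 ∣ (Subgroup.centralizer {σ}).index := by
  have : Fact (Nat.Prime 2) := ⟨Nat.prime_two⟩
  have h1 := (Subgroup.centralizer {σ}).card_mul_index
  rw [card_cent h2 hs hr, Nat.card_perm, Nat.card_eq_fintype_card, hr] at h1
  have hi : (Subgroup.centralizer {σ}).index ≠ 0 := Subgroup.index_ne_zero_of_finite
  have h3 := congrArg (padicValNat 2) h1
  have hpm : 2 ^ m ≠ 0 := pow_ne_zero _ (by norm_num)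
  have hrf : r.factorial ≠ 0 := Nat.factorial_ne_zero r
  have hmf : m.factorial ≠ 0 := Nat.factorial_ne_zero m
  rw [padicValNat.mul (mul_ne_zero (mul_ne_zero hrf hpm) hmf) hi, padicValNat.mul (mul_ne_zero hrf hpm) hmf,
    padicValNat.mul hrf hpm, padicValNat.prime_pow] at h3
  intro h4
  have h5 := (dvd_iff_padicValNat_ne_zero hi).1 h4
  rcases h with h | ⟨rfl, he⟩
  · rw [padicValNat_factorial_mul_add _ (by omega), padicValNat_factorial_mul] at h3
    omega
  · rw [show 2 * m + 2 = 2 * (m + 1) by ring, padicValNat_factorial_mul, Nat.factorial_succ m,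
      padicValNat.mul (Nat.succ_ne_zero m) hmf, Nat.factorial_two, padicValNat_self,
      padicValNat.eq_zero_of_not_dvd (n := m + 1) (by rcases he with ⟨k, hk⟩; omega)] at h3
    omega

end

end Cfsg.Agent.H178.MeetTwo
end

-- part: H903/MeetDZ
section
set_option autoImplicit false

namespace Cfsg.Agent.H903.MeetDZ

open Cfsg Cfsg.Agent.H903.SylMeet Cfsg.Agent.H68.MeetB

/-- **Green**: a character of `p`-defect zero gives two Sylow `p`-subgroups meeting trivially. -/
theorem exists_inf_of_defect_zero {G : Type*} [Group G] [Finite G] (p : ℕ) [Fact p.Prime] (χ : IrrCharacter G)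
    (hχ : ¬ p ∣ Nat.card G / charDegree (χ : G → ℂ)) (hdvd : charDegree (χ : G → ℂ) ∣ Nat.card G) (P : Sylow p G) :
    ∃ x : G, (P : Subgroup G) ⊓ (P : Subgroup G).map (MulAut.conj x).toMonoidHom = ⊥ := by
  obtain ⟨M, hM⟩ := Cfsg.Agent.Blocks.ExistsModular.exists_isPModular (Fact.out : p.Prime)
  set B := blockOf M (χ : G → ℂ) with hBdef
  have hB : IsPBlock M B := ⟨χ, rfl⟩
  have hB1 : B = {χ} := (Cfsg.Agent.S0914.result p M hM χ).1 hχ
  obtain ⟨g, hg⟩ := Cfsg.Agent.S0906.result p M hM B hB
  obtain ⟨T0⟩ : Nonempty (Sylow p (Subgroup.centralizer ({g} : Set G))) := inferInstance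
  set D : Subgroup G := (T0 : Subgroup (Subgroup.centralizer ({g} : Set G))).map
    (Subgroup.centralizer ({g} : Set G)).subtype with hD
  have hDD : IsDefectGroup p M B D := ⟨g, hg, T0, rfl⟩
  have hcard := Cfsg.Agent.S0908.result p M hM B hB D hDD
  have hdef : blockDefect p B = 0 := by
    unfold blockDefect
    rw [hB1, Set.image_singleton, csInf_singleton]
    have hn0 : Nat.card G ≠ 0 := Nat.card_pos.ne'
    have hd0 : charDegree (χ : G → ℂ) ≠ 0 := fun h => by
      rw [h, zero_dvd_iff] at hdvd
      exact hn0 hdvd
    obtain ⟨k, hk⟩ := hdvd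
    rw [hk, Nat.mul_div_cancel_left _ (Nat.pos_of_ne_zero hd0)] at hχ
    have hk0 : k ≠ 0 := by
      rintro rfl
      rw [mul_zero] at hk
      exact hn0 hk
    rw [hk, Nat.factorization_mul hd0 hk0, Finsupp.add_apply, Nat.factorization_eq_zero_of_not_dvd hχ]
    omega
  rw [hdef, pow_zero] at hcard
  have hDbot : D = ⊥ := Subgroup.card_eq_one.1 hcard
  obtain ⟨x, -, -, hx⟩ := Cfsg.Agent.S0956.result p M hM B hB D hDD P (by rw [hDbot]; exact bot_le)
  exact ⟨x, by rw [hx, hDbot]⟩

/-- a pair of Sylow subgroups meeting trivially gives `MeetIn` -/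
theorem meetIn_of_sylow {G : Type*} [Group G] [Finite G] {p : ℕ} [Fact p.Prime]
    (h : ∀ P : Sylow p G, ∃ x : G, (P : Subgroup G) ⊓ (P : Subgroup G).map (MulAut.conj x).toMonoidHom = ⊥) :
    MeetIn p G := by
  intro R hR
  obtain ⟨P, hP⟩ := hR.exists_le_sylow
  obtain ⟨x, hx⟩ := h P
  refine ⟨x, fun y hy hxy => ?_⟩
  have h1 : x * y * x⁻¹ ∈ (P : Subgroup G) ⊓ (P : Subgroup G).map (MulAut.conj x).toMonoidHom :=
    ⟨hP hxy, y, hP hy, rfl⟩
  rw [hx, Subgroup.mem_bot] at h1
  have h2 : x * y = x * 1 := by rw [mul_one]; exact mul_inv_eq_one.1 h1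
  exact mul_left_cancel h2

/-- **`p`-defect zero** -/
theorem meetIn_of_defect_zero {G : Type*} [Group G] [Finite G] {p : ℕ} [Fact p.Prime] (χ : IrrCharacter G)
    (hχ : ¬ p ∣ Nat.card G / charDegree (χ : G → ℂ)) (hdvd : charDegree (χ : G → ℂ) ∣ Nat.card G) : MeetIn p G :=
  meetIn_of_sylow fun P => exists_inf_of_defect_zero p χ hχ hdvd P

/-- **Steinberg character**: degree the order of a Sylow `p`-subgroup -/
theorem meetIn_of_degree {G : Type*} [Group G] [Finite G] {p : ℕ} [Fact p.Prime] (χ : G → ℂ)
    (hirr : IsIrrCharacter G χ) (P : Sylow p G) (h : χ 1 = Nat.card P) : MeetIn p G := by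
  have hd : charDegree χ = Nat.card P := by
    unfold charDegree
    rw [h]
    simp only [_root_.Complex.natCast_re, _root_.Nat.floor_natCast]
  refine meetIn_of_defect_zero (⟨χ, hirr⟩ : IrrCharacter G) ?_ ?_
  · show ¬ p ∣ Nat.card G / charDegree χ
    rw [hd]
    have h1 := (P : Subgroup G).card_mul_index
    rw [← h1, Nat.mul_div_cancel_left _ Nat.card_pos]
    exact P.not_dvd_index
  · show charDegree χ ∣ Nat.card G
    rw [hd]
    exact Subgroup.card_subgroup_dvd_card _

end Cfsg.Agent.H903.MeetDZ
end

private theorem dce_eb6720433ff5 : _root_.True := by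
  try have : _root_.True := by simp only [_root_.Cfsg.Agent.H728.Meet2.gu.eq_1]
  try have : _root_.True := by simp only [_root_.Cfsg.Agent.H728.Meet2.hyp.eq_1]
  try have : _root_.True := by simp only [_root_.Cfsg.Agent.H728.Meet2.stdf.eq_1]
  exact _root_.True.intro
end
end

-- part: H597/MeetPSL2
section
set_option linter.all false
open scoped Cfsg.Agent.FastGrp

-- part: H597/MeetZ
section
/-!
# `MeetIn 2` from an involution inverting a regular unipotent element (S5760, task 1917)

* `of_invert` : `H ≤ T` of odd index centralised by `z`, `z² = 1`, `z x z⁻¹ = x⁻¹` and no nontrivial element of order a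
  power of two commutes with `x²` : `MeetIn 2 T`;
* `exists_of_isConj` : such an `H` exists if all involutions are conjugate;
* `meet_of_nil` : `T = PSL ι F`, `z N = - N z` with `N` nilpotent with a cyclic vector.
-/

set_option autoImplicit false

namespace Cfsg.Agent.H597.MeetZ

open Subgroup Cfsg.Agent.H68.MeetB Matrix Polynomial

section abs

variable {T : Type*} [Group T] [Finite T]

theorem of_invert {H : Subgroup T} (hH : ¬ 2 ∣ H.index) {z x : T} (hz : ∀ h ∈ H, z * h = h * z) (hzz : z * z = 1)
    (hzx : z * x * z⁻¹ = x⁻¹) (hC : ∀ y : T, y * (x * x) = (x * x) * y → ∀ k : ℕ, y ^ 2 ^ k = 1 → y = 1) :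
    MeetIn 2 T := by
  have : Fact (Nat.Prime 2) := ⟨Nat.prime_two⟩
  obtain ⟨P⟩ : Nonempty (Sylow 2 H) := inferInstance
  refine MeetIn.of_one ((P : Subgroup H).map H.subtype) (P.isPGroup'.map _) ?_ ⟨x, ?_⟩
  · rw [Subgroup.index_map, (MonoidHom.ker_eq_bot_iff _).2 H.subtype_injective, sup_bot_eq, H.range_subtype]
    intro h1
    rcases Nat.prime_two.dvd_mul.1 h1 with h2 | h2
    · exact P.not_dvd_index h2
    · exact hH h2
  · intro y hy hxy
    have hyH : y ∈ H := by
      obtain ⟨w, -, rfl⟩ := hy
      exact w.2
    have hxyH : x * y * x⁻¹ ∈ H := by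
      obtain ⟨w, -, hw⟩ := hxy
      rw [← hw]
      exact w.2
    obtain ⟨k, hk⟩ := (P.isPGroup'.map H.subtype) ⟨y, hy⟩
    refine hC y ?_ k (by simpa only [_root_.SubmonoidClass.mk_pow, _root_.OneMemClass.coe_one] using congrArg Subtype.val hk)
    have h1 := hz y hyH
    have h2 := hz _ hxyH
    have hzi : z⁻¹ = z := inv_eq_of_mul_eq_one_left hzz
    have h3 : z * x = x⁻¹ * z := by rw [← hzx]; group
    -- `y` commutes with `x⁻¹ z x`
    have h4 : (x⁻¹ * z * x) * y = y * (x⁻¹ * z * x) := by
      calc (x⁻¹ * z * x) * y = x⁻¹ * (z * (x * y * x⁻¹)) * x := by group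
        _ = x⁻¹ * ((x * y * x⁻¹) * z) * x := by rw [h2]
        _ = _ := by group
    have h5 : x⁻¹ * z * x = z * (x * x) := by rw [← h3]; group
    rw [h5] at h4
    -- cancel `z`
    have h6 : z * (y * (x * x)) = z * ((x * x) * y) := by
      calc z * (y * (x * x)) = (z * y) * (x * x) := by group
        _ = y * z * (x * x) := by rw [h1]
        _ = y * (z * (x * x)) := by group
        _ = z * (x * x) * y := h4.symm
        _ = _ := by group
    exact mul_left_cancel h6

theorem exists_of_isConj (h2 : 2 ∣ Nat.card T) {z : T}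
    (hc : ∀ w : T, orderOf w = 2 → IsConj w z) :
    ∃ H : Subgroup T, ¬ 2 ∣ H.index ∧ ∀ h ∈ H, z * h = h * z := by
  have : Fact (Nat.Prime 2) := ⟨Nat.prime_two⟩
  obtain ⟨P⟩ : Nonempty (Sylow 2 T) := inferInstance
  have hne : Nontrivial (P : Subgroup T) := by
    rw [← Finite.one_lt_card_iff_nontrivial]
    have h3 : 2 ∣ Nat.card (P : Subgroup T) := P.dvd_card_of_dvd_card h2
    exact lt_of_lt_of_le (by norm_num) (Nat.le_of_dvd Nat.card_pos h3)
  have hcn := IsPGroup.center_nontrivial P.isPGroup'
  have hdvd : 2 ∣ Nat.card (center (P : Subgroup T)) := by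
    obtain ⟨n, hn⟩ := (P.isPGroup'.to_subgroup (center (P : Subgroup T))).exists_card_eq
    rw [hn]
    rcases Nat.eq_zero_or_pos n with h0 | h0
    · subst h0
      have := Finite.one_lt_card_iff_nontrivial.2 hcn
      rw [hn, pow_zero] at this
      exact absurd this (lt_irrefl 1)
    · exact dvd_pow_self 2 h0.ne'
  obtain ⟨c, hc2⟩ := exists_prime_orderOf_dvd_card' 2 hdvd
  have hw : orderOf (((c : (P : Subgroup T)) : T)) = 2 := by
    rw [Subgroup.orderOf_coe, Subgroup.orderOf_coe, hc2]
  obtain ⟨g, hg⟩ := isConj_iff.1 (hc _ hw)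
  refine ⟨(P : Subgroup T).map (MulAut.conj g).toMonoidHom, ?_, ?_⟩
  · rw [Subgroup.index_map_of_bijective (f := (MulAut.conj g).toMonoidHom) (MulAut.conj g).bijective]
    exact P.not_dvd_index
  · rintro _ ⟨h, hh, rfl⟩
    have h3 := mem_center_iff.1 c.2 ⟨h, hh⟩
    have h4 : h * ((c : (P : Subgroup T)) : T) = ((c : (P : Subgroup T)) : T) * h := congrArg Subtype.val h3
    change z * (g * h * g⁻¹) = g * h * g⁻¹ * z
    rw [← hg]
    calc g * ((c : (P : Subgroup T)) : T) * g⁻¹ * (g * h * g⁻¹) = g * (((c : (P : Subgroup T)) : T) * h) * g⁻¹ := by group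
      _ = g * (h * ((c : (P : Subgroup T)) : T)) * g⁻¹ := by rw [h4]
      _ = _ := by group

end abs

section mat

variable {ι : Type*} [Fintype ι] [DecidableEq ι] {F : Type*} [Field F]

/-- a matrix commuting with `N` is a polynomial in `N`, if `N` has a cyclic vector -/
theorem eq_aeval {N y : Matrix ι ι F} {e : ι → F} (hcyc : ∀ v : ι → F, ∃ f : F[X], (aeval N f) *ᵥ e = v)
    (hy : y * N = N * y) : ∃ f : F[X], y = aeval N f := by
  obtain ⟨f, hf⟩ := hcyc (y *ᵥ e)
  refine ⟨f, ?_⟩
  apply Matrix.ext_of_mulVec_single
  intro i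
  obtain ⟨g, hg⟩ := hcyc (Pi.single i 1)
  rw [← hg, mulVec_mulVec, mulVec_mulVec]
  have h1 : y * aeval N g = aeval N g * y := by
    have hc : Commute y N := hy
    have h2 : ∀ h : F[X], Commute y (aeval N h) := by
      intro h
      induction h using Polynomial.induction_on' with
      | add a b ha hb => rw [map_add]; exact ha.add_right hb
      | monomial k a =>
        rw [aeval_monomial]
        refine Commute.mul_right ?_ (hc.pow_right k)
        exact (Algebra.commutes a y).symm
    exact h2 g
  rw [h1, ← mulVec_mulVec, ← hf, mulVec_mulVec, ← map_mul, ← map_mul, mul_comm]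

theorem aeval_pow_char {p : ℕ} [Fact p.Prime] [CharP F p] {N : Matrix ι ι F} {j : ℕ} (hN : N ^ p ^ j = 0) (f : F[X]) :
    ∃ c : F, (aeval N f) ^ p ^ j = c • (1 : Matrix ι ι F) := by
  obtain ⟨g, hg⟩ : ∃ g : F[X], f = X * g + C (f.coeff 0) := by
    exact ⟨f.divX, by rw [mul_comm, Polynomial.divX_mul_X_add]⟩
  refine ⟨(f.coeff 0) ^ p ^ j, ?_⟩
  rw [← map_pow, hg, add_pow_char_pow, mul_pow, map_add, map_mul, map_pow, aeval_X, hN, zero_mul, zero_add, ← C_pow,
    aeval_C, Algebra.algebraMap_eq_smul_one]
  simp

theorem one_sub_pow {p : ℕ} [Fact p.Prime] [CharP F p] {N : Matrix ι ι F} {j : ℕ} (hN : N ^ p ^ j = 0) :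
    (1 - N) ^ p ^ j = 1 := by
  have h1 : (1 - N) = aeval N (1 - X : F[X]) := by rw [map_sub, map_one, aeval_X]
  rw [h1, ← map_pow, sub_pow_char_pow, map_sub, map_pow, map_pow, aeval_X, hN, map_one, one_pow, sub_zero]

/-- the matrix of an element of `SL` -/
def mt (A : _root_.Matrix.SpecialLinearGroup ι F) : Matrix ι ι F := A.1

theorem mt_mul (A B : _root_.Matrix.SpecialLinearGroup ι F) : mt (A * B) = mt A * mt B := rfl

theorem mt_one : mt (1 : _root_.Matrix.SpecialLinearGroup ι F) = 1 := rfl

theorem mt_det (A : _root_.Matrix.SpecialLinearGroup ι F) : (mt A).det = 1 := A.2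

theorem mt_inv_mul (A : _root_.Matrix.SpecialLinearGroup ι F) : mt A⁻¹ * mt A = 1 := by
  rw [← mt_mul, inv_mul_cancel, mt_one]

theorem mt_pow (A : _root_.Matrix.SpecialLinearGroup ι F) (k : ℕ) : mt (A ^ k) = mt A ^ k := by
  induction k with
  | zero => rw [pow_zero, pow_zero, mt_one]
  | succ k ih => rw [pow_succ, pow_succ, mt_mul, ih]

theorem mem_center {A : _root_.Matrix.SpecialLinearGroup ι F} : A ∈ center (_root_.Matrix.SpecialLinearGroup ι F) ↔
    ∃ c : F, c ^ Fintype.card ι = 1 ∧ mt A = c • (1 : Matrix ι ι F) := by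
  rw [Matrix.SpecialLinearGroup.mem_center_iff]
  refine exists_congr fun c => and_congr_right fun _ => ?_
  rw [Matrix.scalar_apply, ← Matrix.smul_one_eq_diagonal]
  exact eq_comm

/-- an element of `SL` which is a scalar matrix -/
theorem mk_eq_one {Y : _root_.Matrix.SpecialLinearGroup ι F} {c : F} (h : mt Y = c • (1 : Matrix ι ι F)) :
    (QuotientGroup.mk Y : ProjectiveSpecialLinearGroup ι F) = 1 := by
  refine (QuotientGroup.eq_one_iff _).2 (mem_center.2 ⟨c, ?_, h⟩)
  have h1 := mt_det Y
  rw [h, det_smul, det_one, mul_one] at h1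
  exact h1

/-- **`MeetIn 2` for `PSL`.** -/
theorem meet_of_nil [Fintype F] {p : ℕ} [hp : Fact p.Prime] [CharP F p] (hp2 : p ≠ 2)
    {z : _root_.Matrix.SpecialLinearGroup ι F} {N : Matrix ι ι F} {k : ℕ} (hN : N ^ k = 0)
    (hzN : mt z * N = -(N * mt z))
    (hzz : (QuotientGroup.mk (z * z) : ProjectiveSpecialLinearGroup ι F) = 1) {e e0 : ι → F}
    (hcyc : ∀ v : ι → F, ∃ f : F[X], (aeval N f) *ᵥ e = v) (he0 : e0 ≠ 0) (hNe : N *ᵥ e0 = 0)
    {H : Subgroup (ProjectiveSpecialLinearGroup ι F)} (hH : ¬ 2 ∣ H.index)
    (hHz : ∀ h ∈ H, (QuotientGroup.mk z : ProjectiveSpecialLinearGroup ι F) * h = h * QuotientGroup.mk z) :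
    MeetIn 2 (ProjectiveSpecialLinearGroup ι F) := by
  classical
  have h20 : (2 : F) ≠ 0 := by
    intro h
    have h1 : ((2 : ℕ) : F) = 0 := by exact_mod_cast h
    rw [CharP.cast_eq_zero_iff F p 2] at h1
    exact hp2 ((Nat.prime_dvd_prime_iff_eq hp.out Nat.prime_two).1 h1)
  -- a large power of `p`
  obtain ⟨j, hj⟩ : ∃ j : ℕ, k ≤ p ^ j := ⟨k, (Nat.lt_pow_self hp.out.one_lt).le⟩
  have hNP : N ^ p ^ j = 0 := pow_eq_zero_of_le hj hN
  set P := p ^ j with hP
  have hPodd : Odd P := (hp.out.odd_of_ne_two hp2).pow
  have hP0 : P ≠ 0 := pow_ne_zero _ hp.out.ne_zero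
  -- the units `1 - N` and `1 + N`
  obtain ⟨u, hu⟩ : IsUnit (1 - N) := IsNilpotent.isUnit_one_sub ⟨k, hN⟩
  set zu : GL ι F := SpecialLinearGroup.toGL z with hzu
  have hzuc : (zu : Matrix ι ι F) = mt z := rfl
  have hzi : (zu : Matrix ι ι F) * ((zu⁻¹ : GL ι F) : Matrix ι ι F) = 1 := by
    rw [← Units.val_mul, mul_inv_cancel, Units.val_one]
  have hzN1 : (zu : Matrix ι ι F) * N * ((zu⁻¹ : GL ι F) : Matrix ι ι F) = -N := by
    rw [hzuc, hzN, neg_mul, mul_assoc, ← hzuc, hzi, mul_one]
  obtain ⟨u', hu'⟩ : ∃ u' : GL ι F, u' = u := ⟨u, rfl⟩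
  have huc : (u' : Matrix ι ι F) = 1 - N := by rw [hu']; exact hu
  obtain ⟨v, hv⟩ : ∃ v : GL ι F, v = zu * u' * zu⁻¹ := ⟨_, rfl⟩
  have hvc : (v : Matrix ι ι F) = 1 + N := by
    rw [hv, Units.val_mul, Units.val_mul, huc, mul_sub, mul_one, sub_mul, hzi, hzN1, sub_neg_eq_add]
  have hzv : zu * v * zu⁻¹ = u' := by
    apply Units.ext
    rw [Units.val_mul, Units.val_mul, hvc, huc, mul_add, mul_one, add_mul, hzi, hzN1]
    exact (sub_eq_add_neg 1 N).symm
  have huv : u' * v = v * u' := by
    apply Units.ext
    rw [Units.val_mul, Units.val_mul, hvc, huc]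
    noncomm_ring
  obtain ⟨X0, hX0⟩ : ∃ X0 : GL ι F, X0 = v * u'⁻¹ := ⟨_, rfl⟩
  have hdet : (X0 : Matrix ι ι F).det = 1 := by
    have h1 : (X0 : Matrix ι ι F) * (u' : Matrix ι ι F) = (v : Matrix ι ι F) := by
      rw [← Units.val_mul, hX0, inv_mul_cancel_right]
    have h2 : (v : Matrix ι ι F).det = (u' : Matrix ι ι F).det := by
      rw [hv, Units.val_mul, Units.val_mul, det_mul, det_mul, mul_right_comm, ← det_mul, hzi, det_one, one_mul]
    have h3 := congrArg Matrix.det h1
    rw [det_mul, h2] at h3
    have h4 : (u' : Matrix ι ι F).det ≠ 0 := (Matrix.isUnit_iff_isUnit_det _).1 u'.isUnit |>.ne_zero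
    exact mul_right_cancel₀ h4 (h3.trans (one_mul _).symm)
  obtain ⟨Xs, hXs⟩ : ∃ Xs : _root_.Matrix.SpecialLinearGroup ι F, SpecialLinearGroup.toGL Xs = X0 :=
    ⟨⟨(X0 : Matrix ι ι F), hdet⟩, Units.ext rfl⟩
  have hinj : Function.Injective (SpecialLinearGroup.toGL : _root_.Matrix.SpecialLinearGroup ι F → GL ι F) := by
    intro a b hab
    exact Subtype.ext (congrArg Units.val hab)
  have hzX : z * Xs * z⁻¹ = Xs⁻¹ := by
    apply hinj
    rw [map_mul, map_mul, map_inv, map_inv, hXs, ← hzu, hX0]
    calc zu * (v * u'⁻¹) * zu⁻¹ = (zu * v * zu⁻¹) * (zu * u' * zu⁻¹)⁻¹ := by group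
      _ = u' * v⁻¹ := by rw [hzv, ← hv]
      _ = (v * u'⁻¹)⁻¹ := by group
  -- `X0 ^ P = 1`
  have huP : u' ^ P = 1 := by
    apply Units.ext
    rw [Units.val_pow_eq_pow_val, huc, one_sub_pow hNP, Units.val_one]
  have hvP : v ^ P = 1 := by
    rw [hv, conj_pow, huP, mul_one, mul_inv_cancel]
  have hXP : X0 ^ P = 1 := by
    rw [hX0, Commute.mul_pow (show Commute v u'⁻¹ from (Commute.inv_right huv.symm)), hvP, inv_pow, huP, inv_one,
      mul_one]
  obtain ⟨M, hM⟩ : ∃ M : Matrix ι ι F, M = (X0 : Matrix ι ι F) := ⟨_, rfl⟩
  have hMs : mt Xs = M := by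
    rw [hM, ← hXs]
    rfl
  have hMu : M * (1 - N) = 1 + N := by
    rw [← hvc, ← huc, hM, ← Units.val_mul, hX0, inv_mul_cancel_right]
  have huM : (1 - N) * M = 1 + N := by
    have h1 : u' * X0 = v := by rw [hX0, ← mul_assoc, huv, mul_inv_cancel_right]
    rw [← hvc, ← huc, hM, ← Units.val_mul, h1]
  have hMP : M ^ P = 1 := by
    rw [hM, ← Units.val_pow_eq_pow_val, hXP, Units.val_one]
  have hMe : M *ᵥ e0 = e0 := by
    have h1 : (M * (1 - N)) *ᵥ e0 = (1 + N) *ᵥ e0 := by rw [hMu]
    rw [← mulVec_mulVec, sub_mulVec, add_mulVec, one_mulVec, hNe, sub_zero, add_zero] at h1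
    exact h1
  refine of_invert hH hHz (by rw [← QuotientGroup.mk_mul, hzz]) (x := (QuotientGroup.mk Xs)) ?_ ?_
  · rw [← QuotientGroup.mk_mul, ← QuotientGroup.mk_inv, ← QuotientGroup.mk_mul, hzX, QuotientGroup.mk_inv]
  intro y hy l hl
  obtain ⟨Y, rfl⟩ := QuotientGroup.mk_surjective y
  have hy' : (Y * (Xs * Xs))⁻¹ * (Xs * Xs * Y) ∈ center (_root_.Matrix.SpecialLinearGroup ι F) := QuotientGroup.eq.1 hy
  obtain ⟨c, -, hc⟩ := mem_center.1 hy'
  have hc1 : Xs * Xs * Y = (Y * (Xs * Xs)) * ((Y * (Xs * Xs))⁻¹ * (Xs * Xs * Y)) := by group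
  obtain ⟨Ym, hYm⟩ : ∃ Ym : Matrix ι ι F, Ym = mt Y := ⟨_, rfl⟩
  have hc2 : M * M * Ym = c • (Ym * (M * M)) := by
    have h1 := congrArg mt hc1
    rw [mt_mul (Y * (Xs * Xs)), hc, mt_mul, mt_mul, mt_mul, mt_mul, mul_smul_comm, mul_one, hMs, ← hYm] at h1
    exact h1
  -- `c = 1`
  have hYi : mt Y⁻¹ * Ym = 1 := by rw [hYm, mt_inv_mul]
  have hw0 : Ym *ᵥ e0 ≠ 0 := by
    intro h
    apply he0
    have h1 : mt Y⁻¹ *ᵥ (Ym *ᵥ e0) = 0 := by rw [h, mulVec_zero]
    rwa [mulVec_mulVec, hYi, one_mulVec] at h1
  obtain ⟨w, hw⟩ : ∃ w : ι → F, w = Ym *ᵥ e0 := ⟨_, rfl⟩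
  rw [← hw] at hw0
  have hMMe : (M * M) *ᵥ e0 = e0 := by rw [← mulVec_mulVec, hMe, hMe]
  have hMMw : (M * M) *ᵥ w = c • w := by
    have h1 : (M * M * Ym) *ᵥ e0 = (c • (Ym * (M * M))) *ᵥ e0 := by rw [hc2]
    rw [smul_mulVec, ← mulVec_mulVec (M := M * M) (N := Ym), ← mulVec_mulVec (M := Ym) (N := M * M), hMMe, ← hw] at h1
    exact h1
  have hpw : ∀ i : ℕ, ((M * M) ^ i) *ᵥ w = c ^ i • w := by
    intro i
    induction i with
    | zero => rw [pow_zero, pow_zero, one_mulVec, one_smul]
    | succ i ih => rw [pow_succ, ← mulVec_mulVec, hMMw, mulVec_smul, ih, smul_smul, pow_succ, mul_comm]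
  have hcP : c ^ P = 1 := by
    have h1 := hpw P
    rw [← pow_two, ← pow_mul, mul_comm 2 P, pow_mul, hMP, one_pow, one_mulVec] at h1
    obtain ⟨i, hi⟩ : ∃ i, w i ≠ 0 := by
      by_contra hcon
      push Not at hcon
      exact hw0 (_root_.funext hcon)
    have h2 := congrFun h1 i
    rw [Pi.smul_apply, smul_eq_mul] at h2
    exact mul_right_cancel₀ hi (h2.symm.trans (one_mul _).symm)
  have hc3 : c = 1 := by
    have h1 : (c - 1) ^ P = 0 := by rw [hP, sub_pow_char_pow, ← hP, hcP, one_pow, sub_self]
    exact sub_eq_zero.1 ((pow_eq_zero_iff hP0).1 h1)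
  rw [hc3, one_smul] at hc2
  -- `Y` commutes with `M`
  have hcMM : Commute Ym (M * M) := hc2.symm
  obtain ⟨s, hs⟩ := hPodd
  have hcM : Commute Ym M := by
    have h1 : M = (M * M) ^ (s + 1) := by
      rw [← pow_two, ← pow_mul, show 2 * (s + 1) = P + 1 by omega, pow_succ, hMP, one_mul]
    rw [h1]
    exact hcMM.pow_right _
  -- `Y` commutes with `N`
  have hcN : Ym * N = N * Ym := by
    have h1 : (M + 1) * (1 - N) = (2 : ℕ) • (1 : Matrix ι ι F) := by
      rw [add_mul, hMu, one_mul, two_smul]
      abel
    have h2 : (1 - N) * (M + 1) = (2 : ℕ) • (1 : Matrix ι ι F) := by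
      rw [mul_add, huM, mul_one, two_smul]
      abel
    have h3 : Ym * (M + 1) = (M + 1) * Ym := by
      rw [mul_add, add_mul, hcM.eq, mul_one, one_mul]
    have h4 : (2 : ℕ) • (Ym * (1 - N)) = (2 : ℕ) • ((1 - N) * Ym) := by
      calc (2 : ℕ) • (Ym * (1 - N)) = ((1 - N) * (M + 1)) * (Ym * (1 - N)) := by
            rw [h2, smul_mul_assoc, one_mul]
        _ = (1 - N) * ((M + 1) * Ym) * (1 - N) := by noncomm_ring
        _ = (1 - N) * (Ym * (M + 1)) * (1 - N) := by rw [h3]
        _ = (1 - N) * Ym * ((M + 1) * (1 - N)) := by noncomm_ring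
        _ = _ := by rw [h1, mul_smul_comm, mul_one]
    have h5 : Ym * (1 - N) = (1 - N) * Ym := by
      ext a b
      have h6 := congrFun (congrFun h4 a) b
      rw [Matrix.smul_apply, Matrix.smul_apply, nsmul_eq_mul, nsmul_eq_mul] at h6
      exact mul_left_cancel₀ (by exact_mod_cast h20) h6
    rw [mul_sub, sub_mul, mul_one, one_mul] at h5
    exact sub_right_injective h5
  obtain ⟨f, hf⟩ := eq_aeval hcyc hcN
  obtain ⟨c', hc'⟩ := aeval_pow_char (p := p) (j := j) hNP f
  have hYP : (QuotientGroup.mk Y : ProjectiveSpecialLinearGroup ι F) ^ P = 1 := by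
    rw [← QuotientGroup.mk_pow]
    refine mk_eq_one (c := c') ?_
    rw [mt_pow, ← hYm, hf]
    exact hc'
  have hcop : (2 ^ l).Coprime P := by
    apply Nat.Coprime.pow_left
    rw [Nat.coprime_two_left]
    exact ⟨s, hs⟩
  have h1 := orderOf_dvd_of_pow_eq_one hYP
  have h2 := orderOf_dvd_of_pow_eq_one hl
  have h3 := Nat.dvd_gcd h2 h1
  rw [hcop] at h3
  exact orderOf_eq_one_iff.1 (Nat.dvd_one.1 h3)

end mat

end Cfsg.Agent.H597.MeetZ
end

-- part: H597/MeetShift
section
/-!
# `MeetIn 2` for `PSL`: the shift (S5760, task 1917)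
-/

set_option autoImplicit false

namespace Cfsg.Agent.H597.MeetZ

open Subgroup Cfsg.Agent.H68.MeetB Matrix Polynomial

section shift

variable {ι : Type*} [Fintype ι] [DecidableEq ι] {F : Type*} [Field F] {n : ℕ}

/-- the shift -/
def shift (F : Type*) [Field F] (e : ι ≃ Fin n) : Matrix ι ι F :=
  Matrix.of fun x y => if ((e x : ℕ) = e y + 1) then 1 else 0

theorem shift_pow (e : ι ≃ Fin n) (k : ℕ) (x y : ι) :
    (shift F e ^ k) x y = if ((e x : ℕ) = e y + k) then 1 else 0 := by
  induction k generalizing x y with
  | zero =>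
    rw [pow_zero, Matrix.one_apply, add_zero]
    by_cases h : x = y
    · rw [if_pos h, if_pos (by rw [h])]
    · rw [if_neg h, if_neg fun h1 => h (e.injective (Fin.ext h1))]
  | succ k ih =>
    rw [pow_succ, Matrix.mul_apply]
    by_cases hy : (e y : ℕ) + 1 < n
    · rw [Finset.sum_eq_single (e.symm ⟨e y + 1, hy⟩)]
      · rw [ih, shift, Matrix.of_apply, e.apply_symm_apply]
        rw [if_pos (rfl : ((⟨e y + 1, hy⟩ : Fin n) : ℕ) = e y + 1), mul_one]
        congr 1
        show ((e x : ℕ) = (e y + 1) + k) = _
        rw [add_assoc, add_comm 1 k]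
      · intro w _ hw
        rw [shift, Matrix.of_apply, if_neg, mul_zero]
        intro h1
        apply hw
        rw [Equiv.eq_symm_apply]
        exact Fin.ext h1
      · intro h
        exact absurd (Finset.mem_univ _) h
    · rw [if_neg (by have := (e x).2; omega)]
      refine Finset.sum_eq_zero fun w _ => ?_
      rw [shift, Matrix.of_apply, if_neg (by have := (e w).2; omega), mul_zero]

theorem shift_nil (e : ι ≃ Fin n) : shift F e ^ n = 0 := by
  ext x y
  rw [shift_pow, if_neg (by have := (e x).2; omega), Matrix.zero_apply]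

theorem shift_cyc (e : ι ≃ Fin n) (hn : 0 < n) (v : ι → F) :
    ∃ f : F[X], (aeval (shift F e) f) *ᵥ (Pi.single (e.symm ⟨0, hn⟩) 1) = v := by
  refine ⟨∑ x, C (v x) * X ^ ((e x : ℕ)), ?_⟩
  rw [map_sum]
  funext x'
  rw [Matrix.mulVec_single_one, Matrix.col_apply, Matrix.sum_apply, Finset.sum_eq_single x']
  · rw [map_mul, map_pow, aeval_X, aeval_C, Algebra.algebraMap_eq_smul_one, smul_mul_assoc, one_mul, Matrix.smul_apply,
      shift_pow, e.apply_symm_apply, if_pos (by simp), smul_eq_mul, mul_one]
  · intro x _ hx
    rw [map_mul, map_pow, aeval_X, aeval_C, Algebra.algebraMap_eq_smul_one, smul_mul_assoc, one_mul, Matrix.smul_apply,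
      shift_pow, e.apply_symm_apply, if_neg, smul_zero]
    intro h1
    apply hx
    apply e.injective
    apply Fin.ext
    have h2 : (e x' : ℕ) = 0 + (e x : ℕ) := h1
    omega
  · intro h
    exact absurd (Finset.mem_univ _) h

theorem shift_ker (e : ι ≃ Fin n) (hn : 0 < n) :
    shift F e *ᵥ (Pi.single (e.symm ⟨n - 1, by omega⟩) 1) = 0 := by
  funext x
  rw [Matrix.mulVec_single_one, Matrix.col_apply, shift, Matrix.of_apply, e.apply_symm_apply, if_neg, Pi.zero_apply]
  have h1 := (e x).2
  show ¬ ((e x : ℕ) = (n - 1) + 1)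
  omega

/-- **`MeetIn 2` for `PSL`, diagonal `z`.** -/
theorem meet_of_diag [Fintype F] (hF : Odd (Fintype.card F)) (e : ι ≃ Fin n) (hn : 0 < n) {ε : ι → F}
    (hε : ∀ x y, (e x : ℕ) = e y + 1 → ε x = -ε y) {z : _root_.Matrix.SpecialLinearGroup ι F} (hz : mt z = Matrix.diagonal ε)
    (hzz : (QuotientGroup.mk (z * z) : ProjectiveSpecialLinearGroup ι F) = 1)
    {H : Subgroup (ProjectiveSpecialLinearGroup ι F)} (hH : ¬ 2 ∣ H.index)
    (hHz : ∀ h ∈ H, (QuotientGroup.mk z : ProjectiveSpecialLinearGroup ι F) * h = h * QuotientGroup.mk z) :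
    MeetIn 2 (ProjectiveSpecialLinearGroup ι F) := by
  obtain ⟨p, hp⟩ := CharP.exists F
  have hpp : Fact p.Prime := ⟨(CharP.char_is_prime_or_zero F p).resolve_right (CharP.char_ne_zero_of_finite F p)⟩
  have hp2 : p ≠ 2 := by
    rintro rfl
    obtain ⟨k, -, hk⟩ := FiniteField.card F 2
    rw [hk] at hF
    exact (Nat.not_even_iff_odd.2 hF) (Nat.even_pow.2 ⟨even_two, k.2.ne'⟩)
  refine meet_of_nil hp2 (shift_nil e) ?_ hzz (shift_cyc e hn) ?_ (shift_ker e hn) hH hHz
  · rw [hz]
    ext x y
    rw [Matrix.diagonal_mul, Matrix.neg_apply, Matrix.mul_diagonal, shift, Matrix.of_apply]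
    by_cases h : (e x : ℕ) = e y + 1
    · rw [if_pos h, hε x y h]
      ring
    · rw [if_neg h]
      ring
  · intro h
    have h1 := congrFun h (e.symm ⟨n - 1, by omega⟩)
    rw [Pi.single_eq_same] at h1
    exact one_ne_zero h1

end shift

section reindex

variable {ι κ : Type*} [Fintype ι] [DecidableEq ι] [Fintype κ] [DecidableEq κ] {F : Type*} [Field F]

end reindex

end Cfsg.Agent.H597.MeetZ
end

-- part: H597/MeetPSL2
section
/-!
# `MeetIn 2` for `PSL_2(q)` and `PSL_3(q)`, `q` odd (S5760, task 1917)
-/

set_option autoImplicit false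

namespace Cfsg.Agent.H597.MeetZ

open Subgroup Cfsg.Agent.H68.MeetB Matrix Polynomial

section two

variable {F : Type*} [Field F] [Fintype F]

theorem two_ne_zero_of_odd (h : Odd (Fintype.card F)) : (2 : F) ≠ 0 := by
  intro h2
  have h3 : CharP F 2 := CharTwo.of_one_ne_zero_of_two_eq_zero one_ne_zero h2
  obtain ⟨k, -, hk⟩ := FiniteField.card F 2
  rw [hk] at h
  exact (Nat.not_even_iff_odd.2 h) (Nat.even_pow.2 ⟨even_two, k.2.ne'⟩)

omit [Fintype F] in
/-- an element of `SL₂` which is not scalar -/
theorem mk_ne_one {ι : Type*} [Fintype ι] [DecidableEq ι] {Y : _root_.Matrix.SpecialLinearGroup ι F}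
    (h : ∀ c : F, mt Y ≠ c • (1 : Matrix ι ι F)) : (QuotientGroup.mk Y : ProjectiveSpecialLinearGroup ι F) ≠ 1 := by
  intro h1
  obtain ⟨c, -, hc⟩ := mem_center.1 ((QuotientGroup.eq_one_iff _).1 h1)
  exact h c hc

/-- an odd Sylow centraliser in `PSL₂` -/
theorem exists_H (h : Odd (Fintype.card F)) {z : _root_.Matrix.SpecialLinearGroup (Fin 2) F}
    (hzz : (QuotientGroup.mk (z * z) : ProjectiveSpecialLinearGroup (Fin 2) F) = 1)
    (hz1 : (QuotientGroup.mk z : ProjectiveSpecialLinearGroup (Fin 2) F) ≠ 1) :
    ∃ H : Subgroup (ProjectiveSpecialLinearGroup (Fin 2) F), ¬ 2 ∣ H.index ∧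
      ∀ h ∈ H, (QuotientGroup.mk z : ProjectiveSpecialLinearGroup (Fin 2) F) * h = h * QuotientGroup.mk z := by
  have ho : orderOf (QuotientGroup.mk z : ProjectiveSpecialLinearGroup (Fin 2) F) = 2 := by
    refine orderOf_eq_prime ?_ hz1
    rw [pow_two, ← QuotientGroup.mk_mul, hzz]
  refine exists_of_isConj ?_ fun w hw => Cfsg.Agent.ClassicalGeometry.SLTwoFour.psl_isConj h w _ hw ho
  have h3 := _root_.orderOf_dvd_natCard (QuotientGroup.mk z : ProjectiveSpecialLinearGroup (Fin 2) F)
  rwa [ho] at h3

/-- the case `q ≡ 1 (mod 4)` -/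
theorem meet_one (h : Odd (Fintype.card F)) {i : F} (hi : i * i = -1) :
    MeetIn 2 (ProjectiveSpecialLinearGroup (Fin 2) F) := by
  have h2 := two_ne_zero_of_odd h
  have hi0 : i ≠ 0 := by
    rintro rfl
    rw [mul_zero] at hi
    exact one_ne_zero (neg_eq_zero.1 hi.symm)
  let z : _root_.Matrix.SpecialLinearGroup (Fin 2) F := ⟨Matrix.diagonal ![i, -i], by
    rw [Matrix.det_diagonal, Fin.prod_univ_two]
    show i * -i = 1
    rw [mul_neg, hi, neg_neg]⟩
  have hz : mt z = Matrix.diagonal ![i, -i] := rfl
  have hzz : (QuotientGroup.mk (z * z) : ProjectiveSpecialLinearGroup (Fin 2) F) = 1 := by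
    refine mk_eq_one (c := -1) ?_
    rw [mt_mul, hz, Matrix.diagonal_mul_diagonal, Matrix.smul_one_eq_diagonal]
    congr 1
    funext j
    fin_cases j
    · exact hi
    · show -i * -i = -1
      rw [neg_mul_neg, hi]
  obtain ⟨H, hH, hHz⟩ := exists_H h hzz (mk_ne_one fun c hc => by
    rw [hz] at hc
    have h0 := congrFun (congrFun hc 0) 0
    have h1 := congrFun (congrFun hc 1) 1
    simp at h0 h1
    rw [← h0] at h1
    have h3 : 2 * i = 0 := by linear_combination -h1
    exact (mul_ne_zero h2 hi0) h3)
  refine meet_of_diag h (Equiv.refl (Fin 2)) (by norm_num) (ε := ![i, -i]) ?_ hz hzz hH hHz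
  intro x y hxy
  have hx := x.2
  have hy : y = 0 := Fin.ext (by show (y : ℕ) = 0; simp at hxy; omega)
  have hx1 : x = 1 := Fin.ext (by show (x : ℕ) = 1; simp at hxy; rw [hy] at hxy; simpa using hxy)
  rw [hx1, hy]
  rfl

/-- the case `q ≡ 3 (mod 4)` -/
theorem meet_three (h : Odd (Fintype.card F)) (h3 : Fintype.card F % 4 = 3) (h4 : 4 ≤ Fintype.card F) :
    MeetIn 2 (ProjectiveSpecialLinearGroup (Fin 2) F) := by
  classical
  have h2 := two_ne_zero_of_odd h
  obtain ⟨g, hg⟩ := IsCyclic.exists_generator (α := Fˣ)
  have hgo : orderOf g = Fintype.card F - 1 := by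
    rw [orderOf_eq_card_of_forall_mem_zpowers hg, Nat.card_units, Nat.card_eq_fintype_card]
  set a : F := (g : F) with ha
  have ha0 : a ≠ 0 := g.ne_zero
  have ha4 : a ^ 4 ≠ 1 := by
    intro h5
    have h6 : g ^ 4 = 1 := Units.ext (by rw [Units.val_pow_eq_pow_val, ← ha, h5, Units.val_one])
    have h7 := Nat.le_of_dvd (by norm_num) (orderOf_dvd_of_pow_eq_one h6)
    rw [hgo] at h7
    omega
  have ha4' : a ^ 4 ≠ -1 := by
    intro h5
    have h6 : IsSquare (-1 : F) := ⟨a ^ 2, by rw [← h5]; ring⟩
    exact (FiniteField.isSquare_neg_one_iff.1 h6) h3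
  let z : _root_.Matrix.SpecialLinearGroup (Fin 2) F := ⟨!![0, 1; -1, 0], by rw [Matrix.det_fin_two]; simp⟩
  let x : _root_.Matrix.SpecialLinearGroup (Fin 2) F := ⟨!![a, 0; 0, a⁻¹], by
    rw [Matrix.det_fin_two]; simp [ha0]⟩
  have hz : mt z = !![0, 1; -1, 0] := rfl
  have hx : mt x = !![a, 0; 0, a⁻¹] := rfl
  have hzz : (QuotientGroup.mk (z * z) : ProjectiveSpecialLinearGroup (Fin 2) F) = 1 := by
    refine mk_eq_one (c := -1) ?_
    rw [mt_mul, hz]
    ext i j
    (revert i j; simp only [Matrix.mul_apply, Fin.sum_univ_two, _root_.Fin.forall_fin_succ, _root_.Matrix.of_apply, _root_.Matrix.cons_val', _root_.Matrix.cons_val_fin_one, Fin.isValue, _root_.Matrix.cons_val_zero, _root_.Matrix.cons_val_one, _root_.Matrix.smul_apply, _root_.smul_eq_mul, _root_.neg_mul, _root_.one_mul, _root_.MulZeroClass.mul_zero, _root_.mul_neg, _root_.mul_one, _root_.zero_add, _root_.neg_inj, _root_.Matrix.cons_val_succ, _root_.add_zero, _root_.IsEmpty.forall_iff, _root_.and_true, _root_.Matrix.one_apply_eq, Nat.reduceAdd, _root_.Fin.succ_zero_eq_one, _root_.ne_eq,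 _root_.zero_ne_one, _root_.not_false_eq_true, _root_.Matrix.one_apply_ne, _root_.neg_zero, _root_.and_self, _root_.Fin.succ_ne_zero, _root_.true_and])
  obtain ⟨H, hH, hHz⟩ := exists_H h hzz (mk_ne_one fun c hc => by
    rw [hz] at hc
    have h0 := congrFun (congrFun hc 0) 1
    simp at h0)
  have hzx : z * x = x⁻¹ * z := by
    rw [eq_inv_mul_iff_mul_eq]
    apply Subtype.ext
    show mt (x * (z * x)) = mt z
    rw [mt_mul, mt_mul, hz, hx]
    ext i j
    (revert i j; simp only [Matrix.mul_apply, Fin.sum_univ_two, ha0, _root_.Fin.forall_fin_succ, _root_.Matrix.cons_mul, _root_.Nat.succ_eq_add_one, Nat.reduceAdd, _root_.Matrix.vecMul_cons, _root_.Matrix.head_cons, _root_.zero_smul, _root_.Matrix.tail_cons, _root_.one_smul, _root_.Matrix.empty_vecMul, _root_.add_zero, _root_.zero_add, _root_.neg_smul, _root_.Matrix.neg_cons, _root_.neg_zero, _root_.Matrix.neg_empty, _root_.Matrix.empty_mul, _root_.Equiv.symm_apply_apply, _root_.Matrix.of_apply, _root_.Matrix.cons_val', _root_.Matrix.cons_val_fin_one, Fin.isValue, _root_.Matrix.cons_val_zero, _root_.Matrix.cons_val_one,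 _root_.MulZeroClass.mul_zero, _root_.mul_neg, _root_.Matrix.cons_val_succ, _root_.forall_const, _root_.MulZeroClass.zero_mul, _root_.ne_eq, _root_.not_false_eq_true, _root_.mul_inv_cancel₀, _root_.and_self, _root_.inv_mul_cancel₀, _root_.implies_true])
  refine of_invert hH hHz (by rw [← QuotientGroup.mk_mul, hzz]) (x := QuotientGroup.mk x) ?_ ?_
  · rw [mul_inv_eq_iff_eq_mul, ← QuotientGroup.mk_mul, hzx, QuotientGroup.mk_mul, QuotientGroup.mk_inv]
  intro y hy l hl
  obtain ⟨Y, rfl⟩ := QuotientGroup.mk_surjective y
  have hy' : (Y * (x * x))⁻¹ * (x * x * Y) ∈ center (_root_.Matrix.SpecialLinearGroup (Fin 2) F) := QuotientGroup.eq.1 hy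
  obtain ⟨c, hc2, hc⟩ := mem_center.1 hy'
  rw [Fintype.card_fin] at hc2
  have hc1 : x * x * Y = (Y * (x * x)) * ((Y * (x * x))⁻¹ * (x * x * Y)) := by group
  have hc3 := congrArg mt hc1
  rw [mt_mul (Y * (x * x)), hc, mt_mul, mt_mul, mt_mul, mt_mul, mul_smul_comm, mul_one, hx] at hc3
  obtain ⟨A, hA⟩ : ∃ A, A = mt Y := ⟨_, rfl⟩
  have hAd : A.det = 1 := by rw [hA]; exact mt_det Y
  rw [← hA] at hc3
  have e01 := congrFun (congrFun hc3 0) 1
  have e10 := congrFun (congrFun hc3 1) 0
  simp only [Matrix.mul_apply, Fin.sum_univ_two, _root_.Matrix.cons_mul, _root_.Nat.succ_eq_add_one, _root_.Nat.reduceAdd, _root_.Matrix.vecMul_cons, _root_.Matrix.head_cons, _root_.Matrix.smul_cons, _root_.smul_eq_mul, _root_.MulZeroClass.mul_zero, _root_.Matrix.smul_empty, _root_.Matrix.tail_cons, _root_.zero_smul, _root_.Matrix.empty_vecMul, _root_.add_zero, _root_.zero_add, _root_.Matrix.empty_mul, _root_.Equiv.symm_apply_apply, _root_.Fin.isValue, _root_.Matrix.of_apply, _root_.Matrix.cons_val', _root_.Matrix.cons_val_fin_one, _root_.Matrix.cons_val_zero, _root_.Matrix.cons_val_one,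 _root_.MulZeroClass.zero_mul, _root_.Matrix.smul_apply] at e01 e10
  have hcc : c ^ 2 = 1 := hc2
  have hc8 : a ^ 4 ≠ c := by
    intro h5
    have h6 : (c - 1) * (c + 1) = 0 := by linear_combination hcc
    rcases mul_eq_zero.1 h6 with h6 | h6
    · exact ha4 (h5.trans (sub_eq_zero.1 h6))
    · exact ha4' (h5.trans (eq_neg_of_add_eq_zero_left h6))
  have hai : a * a⁻¹ = 1 := mul_inv_cancel₀ ha0
  have h01 : A 0 1 = 0 := by
    have h6 : (a ^ 4 - c) * A 0 1 = 0 := by
      have h7 : a * a * (a * a * A 0 1) = a * a * (c * (A 0 1 * (a⁻¹ * a⁻¹))) := by rw [e01]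
      have h8 : a * a * (c * (A 0 1 * (a⁻¹ * a⁻¹))) = c * A 0 1 := by
        field_simp
      rw [h8] at h7
      linear_combination h7
    exact (mul_eq_zero.1 h6).resolve_left (sub_ne_zero.2 hc8)
  have h10 : A 1 0 = 0 := by
    have h6 : (a ^ 4 - c) * A 1 0 = 0 := by
      have h7 : a * a * (a⁻¹ * a⁻¹ * A 1 0) = a * a * (c * (A 1 0 * (a * a))) := by rw [e10]
      have h8 : a * a * (a⁻¹ * a⁻¹ * A 1 0) = A 1 0 := by
        field_simp
      rw [h8] at h7
      linear_combination (-c) * h7 - a ^ 4 * A 1 0 * hcc
    exact (mul_eq_zero.1 h6).resolve_left (sub_ne_zero.2 hc8)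
  have hdet : A 0 0 * A 1 1 = 1 := by
    rw [Matrix.det_fin_two, h01, zero_mul, sub_zero] at hAd
    exact hAd
  -- the odd number `m = (q - 1) / 2`
  obtain ⟨m, hm⟩ : ∃ m, Fintype.card F - 1 = 2 * m := ⟨(Fintype.card F - 1) / 2, by omega⟩
  have hmo : Odd m := by
    rw [← Nat.not_even_iff_odd]
    rintro ⟨s, hs⟩
    omega
  have hA0 : A 0 0 ≠ 0 := left_ne_zero_of_mul_eq_one hdet
  have hpow : (A 0 0 ^ m) ^ 2 = 1 := by
    rw [← pow_mul, mul_comm m 2, ← hm]
    exact FiniteField.pow_card_sub_one_eq_one _ hA0
  have hp11 : A 1 1 ^ m = A 0 0 ^ m := by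
    have h6 : A 0 0 ^ m * A 1 1 ^ m = 1 := by rw [← mul_pow, hdet, one_pow]
    linear_combination (A 0 0 ^ m) * h6 - A 1 1 ^ m * hpow
  have hAdiag : A = Matrix.diagonal ![A 0 0, A 1 1] := by
    ext i j
    (revert i j; simp only [h01, h10, _root_.Fin.forall_fin_succ, _root_.Nat.succ_eq_add_one, Nat.reduceAdd, Fin.isValue, _root_.Fin.succ_zero_eq_one, _root_.IsEmpty.forall_iff, _root_.and_true, _root_.Matrix.diagonal_apply_eq, _root_.Matrix.cons_val_zero, _root_.ne_eq, _root_.zero_ne_one, _root_.not_false_eq_true, _root_.Matrix.diagonal_apply_ne, _root_.and_self, _root_.Fin.succ_ne_zero, _root_.Matrix.cons_val_one, _root_.Matrix.cons_val_fin_one])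
  have hAm : A ^ m = (A 0 0 ^ m) • (1 : Matrix (Fin 2) (Fin 2) F) := by
    rw [hAdiag, Matrix.diagonal_pow, Matrix.smul_one_eq_diagonal]
    congr 1
    funext j
    fin_cases j
    · simp
    · simp [hp11]
  have hYm : (QuotientGroup.mk Y : ProjectiveSpecialLinearGroup (Fin 2) F) ^ m = 1 := by
    rw [← QuotientGroup.mk_pow]
    refine mk_eq_one (c := A 0 0 ^ m) ?_
    rw [mt_pow, ← hA, hAm]
  have hcop : (2 ^ l).Coprime m := by
    apply Nat.Coprime.pow_left
    rw [Nat.coprime_two_left]
    exact hmo
  have h6 := Nat.dvd_gcd (orderOf_dvd_of_pow_eq_one hl) (orderOf_dvd_of_pow_eq_one hYm)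
  rw [hcop] at h6
  exact orderOf_eq_one_iff.1 (Nat.dvd_one.1 h6)

/-- **`PSL_2(q)`** -/
theorem meet2_PSL2 (h : Odd (Fintype.card F)) (h4 : 4 ≤ Fintype.card F) :
    MeetIn 2 (ProjectiveSpecialLinearGroup (Fin 2) F) := by
  by_cases h3 : Fintype.card F % 4 = 3
  · exact meet_three h h3 h4
  · obtain ⟨i, hi⟩ := FiniteField.isSquare_neg_one_iff.2 h3
    exact meet_one h hi.symm

end two

end Cfsg.Agent.H597.MeetZ
end

private theorem dce_3a161e67bb5f : _root_.True := by
  try have : _root_.True := by simp only [_root_.Cfsg.Agent.H597.MeetZ.shift.eq_1]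
  exact _root_.True.intro
end

section
prune_inst 0xbcfcf929b827ffdfff7e7ff695cffdf9b80fffe6dff9cb7fe0e9ff0b9f4b000941fb850fe010fc0ed6e01410b87b53f9ffcabfe26bd87ffffd1ff41ffbee0ff5f6b50851d498340f340ff603f07f8e7f000000000000000000000000000000000200000000

-- part: H955/FrameRows
section
prune_inst 0x301025040c800000000000002000002023000000000008000020020002000c0000000800a0000100102000040000002003440000420000000a000000011c00800000000000400000220000000000000000000000000000000000000000000000000000000
set_option linter.all false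
open scoped Cfsg.Agent.FastGrp

-- part: H955/FrameOrth
section
/-!
# `MeetIn 2 (POmega F Q)` from the block model of the Sylow 2-subgroup of `O Q` (helper955, S5760)

`meet_of_model` : it is enough to find an isometry `x` such that only `1` and `-1` in `E Q` permute both the blocks of
the model and their images under `x`.
-/

set_option autoImplicit false
set_option linter.unusedSectionVars false

namespace Cfsg.Agent.H955.Rig

open QuadraticMap Cfsg Subgroup
open Cfsg.Agent.LieClassical.OrthCore Cfsg.Agent.LieClassical.OrthTrans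
open Cfsg.Agent.FooteOrth Cfsg.Agent.FooteOrth.Wr
open Cfsg.Agent.TitsThree.KSideO (toPOmega toPOmega_surjective)
open Cfsg.Agent.H68.MeetB
open Cfsg.Agent.H763.Psa.Orth (neg_mem_D mem_TT)

variable {F : Type*} [Field F] {ι : Type} [Fintype ι] [DecidableEq ι] {Q : QuadraticForm F (ι → F)}
  {m k : ℕ} {d : Fin k → F}

/-- `y` preserves the blocks of the model -/
def BlkL (L : ((Fin m → F × F) × (Fin k → F)) ≃ₗ[F] (ι → F)) (y : (ι → F) ≃ₗ[F] (ι → F)) : Prop :=
  ∃ (x : Fin m → ((F × F) ≃ₗ[F] (F × F))) (e : Fin k → ℤˣ) (π : Equiv.Perm (Fin m)),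
    y = conjL L (psi (x, sgn e) * rho π)

/-- a subgroup of `O Q` of the order of a Sylow 2-subgroup meets `E Q` in a Sylow 2-subgroup -/
theorem exists_sylow_E [Finite F] {R : Subgroup ((ι → F) ≃ₗ[F] (ι → F))} (hRO : R ≤ O Q)
    (hRc : Nat.card R = 2 ^ (Nat.card (O Q)).factorization 2) :
    ∃ S : Sylow 2 ↥(E Q), (S : Subgroup ↥(E Q)) = R.subgroupOf (E Q) := by
  have hp : Fact (Nat.Prime 2) := ⟨Nat.prime_two⟩
  have hfin : Finite ((ι → F) ≃ₗ[F] (ι → F)) := DFunLike.finite _
  let TL : Sylow 2 ↥(O Q) := Sylow.ofCard (R.subgroupOf (O Q)) (by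
    rw [Nat.card_congr (subgroupOfEquivOfLe hRO).toEquiv, hRc])
  have hn : ((E Q).subgroupOf (O Q)).Normal := ⟨fun n hn g => conj_mem_E g.2 hn⟩
  have hpg : IsPGroup 2 ↥(R.subgroupOf (E Q)) := by
    have h1 : IsPGroup 2 ↥R := TL.2.of_equiv (subgroupOfEquivOfLe hRO)
    exact h1.comap_of_injective (E Q).subtype (E Q).subtype_injective
  have hidx : ¬ 2 ∣ (R.subgroupOf (E Q)).index := by
    have h1 := Cfsg.Agent.CharactersDeep.QuatSylow.not_dvd_relIndex_of_normal TL ((E Q).subgroupOf (O Q))
    have h2 : (TL : Subgroup ↥(O Q)) = R.subgroupOf (O Q) := rfl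
    rw [h2, relIndex_subgroupOf E_le_O] at h1
    exact h1
  exact ⟨hpg.toSylow hidx, rfl⟩

seal _root_.Finset.sum _root_.dotProduct in
/-- **From the model to `MeetIn`.** -/
theorem meet_of_model [Finite F] (hG : Good Q) (h2 : (2 : F) ≠ 0)
    {L : ((Fin m → F × F) × (Fin k → F)) ≃ₗ[F] (ι → F)} (hQL : ∀ v, Q (L v) = QM m (qW F) (qU d) v)
    (hcard : (Nat.card (O Q)).factorization 2 ≤
      m * (Nat.card F ^ 2 - 1).factorization 2 + k + (m.factorial).factorization 2)
    {x : (ι → F) ≃ₗ[F] (ι → F)} (hx : x ∈ O Q)
    (h : ∀ y ∈ E Q, BlkL L y → BlkL L (x⁻¹ * y * x) → (∀ v, y v = v) ∨ ∀ v, y v = -v) :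
    MeetIn 2 (Cfsg.POmega F ⇑Q) := by
  classical
  have hp2 : Fact (Nat.Prime 2) := ⟨Nat.prime_two⟩
  have hfinV : Finite (((Fin m → F × F) × (Fin k → F)) ≃ₗ[F] ((Fin m → F × F) × (Fin k → F))) := DFunLike.finite _
  have hfinW : Finite ((F × F) ≃ₗ[F] (F × F)) := DFunLike.finite _
  have hfinY : Finite ((ι → F) ≃ₗ[F] (ι → F)) := DFunLike.finite _
  have hfinG : Finite (Cfsg.POmega F ⇑Q) := Finite.of_surjective _ (toPOmega_surjective hG)
  obtain ⟨D, hD2, hDO, hDc, -⟩ := exists_D h2
  obtain ⟨P⟩ : Nonempty (Sylow 2 (Equiv.Perm (Fin m))) := inferInstance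
  -- the Sylow 2-subgroup of `O Q`
  have hT2 : IsPGroup 2 (sgn : (Fin k → ℤˣ) →* ((Fin k → F) ≃ₗ[F] (Fin k → F))).range := isPGroup_sgn h2
  have hR2 : IsPGroup 2 (TT D (sgn : (Fin k → ℤˣ) →* ((Fin k → F) ≃ₗ[F] (Fin k → F))).range
    (P : Subgroup (Equiv.Perm (Fin m)))) := isPGroup_TT hD2 hT2 P.isPGroup'
  have hRO : TT D (sgn : (Fin k → ℤˣ) →* ((Fin k → F) ≃ₗ[F] (Fin k → F))).range (P : Subgroup (Equiv.Perm (Fin m))) ≤
    O ((QM m (qW F) (qU d) :)) := TT_le_O hDO (sgn_le_O d)
  have hRc := card_le_TT (F := F) (W := F × F) (U := Fin k → F) (D := D)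
    (T := (sgn : (Fin k → ℤˣ) →* ((Fin k → F) ≃ₗ[F] (Fin k → F))).range) (P := (P : Subgroup (Equiv.Perm (Fin m))))
  rw [hDc, card_sgn h2, P.card_eq_multiplicity, val_O_qW h2, Nat.card_perm, Nat.card_fin, ← pow_mul, ← pow_add,
    ← pow_add] at hRc
  obtain ⟨n, hn⟩ := IsPGroup.iff_card.1 hR2
  obtain ⟨R, hR⟩ : ∃ R : Subgroup ((ι → F) ≃ₗ[F] (ι → F)), R =
      (TT D (sgn : (Fin k → ℤˣ) →* ((Fin k → F) ≃ₗ[F] (Fin k → F))).range
        (P : Subgroup (Equiv.Perm (Fin m)))).map (conjL L).toMonoidHom := ⟨_, rfl⟩
  have hRLO : R ≤ O Q := by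
    rw [hR]
    rintro _ ⟨g, hg, rfl⟩
    exact conjL_mem_O hQL (hRO hg)
  have hRLn : Nat.card R = 2 ^ n := by
    rw [← hn, hR]
    exact card_map_of_injective (conjL L).injective
  have hnle : n ≤ (Nat.card (O Q)).factorization 2 := by
    have h1 := Subgroup.card_dvd_of_le hRLO
    rw [hRLn] at h1
    exact (Nat.Prime.pow_dvd_iff_le_factorization Nat.prime_two Nat.card_pos.ne').1 h1
  rw [hn] at hRc
  have hnge := (Nat.pow_le_pow_iff_right (by norm_num : 1 < 2)).1 hRc
  have hcomm : (Nat.card F ^ 2 - 1).factorization 2 * m = m * (Nat.card F ^ 2 - 1).factorization 2 := mul_comm _ _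
  have hOn : (Nat.card (O Q)).factorization 2 = n := by omega
  rw [← hOn] at hRLn
  have hRB : ∀ y ∈ R, BlkL L y := by
    intro y hy
    rw [hR] at hy
    obtain ⟨g, hg, rfl⟩ := hy
    obtain ⟨d', t, π, -, ⟨e, rfl⟩, -, rfl⟩ := mem_TT.1 hg
    exact ⟨d', e, π, rfl⟩
  have hnegR : ∀ z : (ι → F) ≃ₗ[F] (ι → F), (∀ v, z v = -v) → z ∈ R := by
    intro z hz
    rw [hR]
    refine ⟨psi (fun _ => LinearEquiv.neg F, sgn fun _ => -1), psi_mem_TT (fun _ => neg_mem_D hDO hDc) ⟨_, rfl⟩, ?_⟩
    ext1 v
    obtain ⟨v, rfl⟩ := L.surjective v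
    change conjL L (psi _) (L v) = z (L v)
    rw [conjL_apply, hz, ← map_neg, psi_apply]
    congr 1
    refine Prod.ext rfl (funext fun j => ?_)
    change sgn (fun _ => -1) v.2 j = -(v.2 j)
    rw [sgn_apply]
    simp
  -- the conjugate
  obtain ⟨R', hR'⟩ : ∃ R' : Subgroup ((ι → F) ≃ₗ[F] (ι → F)), R' = R.map (MulAut.conj x).toMonoidHom := ⟨_, rfl⟩
  have hR'O : R' ≤ O Q := by
    rw [hR']
    rintro _ ⟨g, hg, rfl⟩
    exact (O Q).mul_mem ((O Q).mul_mem hx (hRLO hg)) ((O Q).inv_mem hx)
  have hR'n : Nat.card R' = 2 ^ (Nat.card (O Q)).factorization 2 := by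
    rw [← hRLn, hR']
    exact card_map_of_injective (MulAut.conj x).injective
  obtain ⟨S, hS⟩ := exists_sylow_E hRLO hRLn
  obtain ⟨S', hS'⟩ := exists_sylow_E hR'O hR'n
  obtain ⟨t, ht⟩ := MulAction.exists_smul_eq ↥(E Q) S S'
  have hfE : Finite ↥(E Q) := inferInstance
  refine (MeetIn.of_one (S.mapSurjective (toPOmega_surjective hG) : Subgroup (Cfsg.POmega F ⇑Q)) (Sylow.isPGroup' _)
    (Sylow.not_dvd_index _) ⟨(toPOmega hG t)⁻¹, ?_⟩ :)
  rw [Sylow.coe_mapSurjective]
  rintro _ ⟨a, ha, rfl⟩ ⟨b, hb, hab⟩
  have haR : (a : (ι → F) ≃ₗ[F] (ι → F)) ∈ R := by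
    have h1 : a ∈ (S : Subgroup ↥(E Q)) := ha
    rw [hS] at h1
    exact h1
  have hbR : (b : (ι → F) ≃ₗ[F] (ι → F)) ∈ R := by
    have h1 : b ∈ (S : Subgroup ↥(E Q)) := hb
    rw [hS] at h1
    exact h1
  have hk : toPOmega hG (b⁻¹ * (t⁻¹ * a * t)) = 1 := by
    rw [map_mul, map_mul, map_mul, map_inv, map_inv]
    change (toPOmega hG b)⁻¹ * _ = 1
    have h1 : toPOmega hG b = (toPOmega hG t)⁻¹ * toPOmega hG a * ((toPOmega hG t)⁻¹)⁻¹ := hab
    rw [h1, inv_inv]
    group
  have hz : ((b⁻¹ * (t⁻¹ * a * t) : ↥(E Q)) : (ι → F) ≃ₗ[F] (ι → F)) ∈ R := by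
    obtain ⟨c, hc, hv⟩ := toPOmega_ker hG _ hk
    rcases hc with rfl | rfl
    · have h1 : ((b⁻¹ * (t⁻¹ * a * t) : ↥(E Q)) : (ι → F) ≃ₗ[F] (ι → F)) = 1 := by
        ext1 v
        rw [hv, one_smul]
        rfl
      rw [h1]
      exact R.one_mem
    · exact hnegR _ fun v => by rw [hv, neg_one_smul]
  have htat : t⁻¹ * a * t ∈ (S : Subgroup ↥(E Q)) := by
    rw [hS]
    change ((t⁻¹ * a * t : ↥(E Q)) : (ι → F) ≃ₗ[F] (ι → F)) ∈ R
    have h1 : t⁻¹ * a * t = b * (b⁻¹ * (t⁻¹ * a * t)) := by group
    rw [h1]
    exact R.mul_mem hbR hz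
  have haS' : a ∈ (S' : Subgroup ↥(E Q)) := by
    rw [← ht, Sylow.smul_def]
    refine (mem_smul_pointwise_iff_exists _ _ _).2 ⟨t⁻¹ * a * t, htat, ?_⟩
    rw [MulAut.smul_def, MulAut.conj_apply]
    group
  rw [hS'] at haS'
  have haR' : (a : (ι → F) ≃ₗ[F] (ι → F)) ∈ R' := haS'
  rw [hR'] at haR'
  obtain ⟨g, hg, hga⟩ := haR'
  have hxa : x⁻¹ * (a : (ι → F) ≃ₗ[F] (ι → F)) * x = g := by
    rw [← hga]
    change x⁻¹ * (x * g * x⁻¹) * x = g
    group
  rcases h a a.2 (hRB _ haR) (by rw [hxa]; exact hRB _ hg) with h1 | h1
  · have h3 : a = 1 := by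
      apply Subtype.ext
      ext1 v
      rw [h1]
      rfl
    change toPOmega hG a = 1
    rw [h3, map_one]
  · exact toPOmega_neg hG a h1

end Cfsg.Agent.H955.Rig
end

-- part: H955/FrameRig
section
/-!
# Rigidity of two matchings of a frame under a transvection or reflection (helper955, S5760)

`V = κ → F` with its frame of coordinate lines, two partitions `β`, `β'` of the frame in blocks of at most two lines;
`y` permutes the blocks of `β`, `y₂` those of `β'`, and `y (u + φ u • v) = y₂ u + φ (y₂ u) • v`, where `v` has at least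
seven non-zero coordinates, five of them connected by `β` and `β'`.

* `frame_rigid` : `y v = l • v`, `y = y₂`, `φ (y u) = l * φ u`;
* `mono` : `y` is monomial if `β` and `β'` separate the lines;
* `chain_fixed` : propagation of fixed lines along a chain.
-/

set_option autoImplicit false
set_option linter.unusedSectionVars false

namespace Cfsg.Agent.H955.Rig

open Finset

variable {F : Type*} [Field F] {κ : Type*} [Fintype κ] [DecidableEq κ] {B B' : Type*}

/-- `y` maps the block `b` into the block `τ b` -/
def Blk (β : κ → B) (y : (κ → F) →ₗ[F] (κ → F)) (τ : B → B) : Prop :=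
  ∀ k i, y (Pi.single k 1) i ≠ 0 → β i = τ (β k)

/-- the blocks have at most two elements -/
def Two (β : κ → B) : Prop := ∀ i j k, β i = β j → β j = β k → i = j ∨ j = k ∨ i = k

theorem Two.card_le {β : κ → B} (h : Two β) (b : B) [DecidableEq B] : (univ.filter fun i => β i = b).card ≤ 2 := by
  by_contra hcon
  push Not at hcon
  obtain ⟨i, hi, j, hj, k, hk, hij, hik, hjk⟩ := Finset.two_lt_card.1 hcon
  rw [mem_filter] at hi hj hk
  rcases h i j k (hi.2.trans hj.2.symm) (hj.2.trans hk.2.symm) with h1 | h1 | h1
  · exact hij h1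
  · exact hjk h1
  · exact hik h1

/-- at most two elements of an injective family in a block -/
theorem Two.card_le_of_inj {β : κ → B} (h : Two β) (b : B) [DecidableEq B] {n : ℕ} {c : Fin n → κ}
    (hc : Function.Injective c) : (univ.filter fun i => β (c i) = b).card ≤ 2 := by
  by_contra hcon
  push Not at hcon
  obtain ⟨i, hi, j, hj, k, hk, hij, hik, hjk⟩ := Finset.two_lt_card.1 hcon
  rw [mem_filter] at hi hj hk
  rcases h (c i) (c j) (c k) (hi.2.trans hj.2.symm) (hj.2.trans hk.2.symm) with h1 | h1 | h1
  · exact hij (hc h1)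
  · exact hjk (hc h1)
  · exact hik (hc h1)

variable {β : κ → B} {β' : κ → B'} {y y₂ : (κ → F) →ₗ[F] (κ → F)} {τ : B → B} {τ' : B' → B'}
  {φ : (κ → F) →ₗ[F] F} {v : κ → F}

/-- **Rigidity.** -/
theorem frame_rigid (hβ : Two β) (hβ' : Two β') (hτ : Function.Injective τ) (hτ' : Function.Injective τ')
    (hy : Blk β y τ) (hy₂ : Blk β' y₂ τ') (hφ : ∀ k, v k ≠ 0 → φ (Pi.single k 1) ≠ 0)
    (hrel : ∀ u, y (u + φ u • v) = y₂ u + φ (y₂ u) • v) (hbig : ∀ s : Finset κ, s.card ≤ 6 → ∃ i, v i ≠ 0 ∧ i ∉ s)
    {c : Fin 5 → κ} (hc : Function.Injective c) (hcv : ∀ i, v (c i) ≠ 0)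
    (hadj : ∀ i : Fin 4, β (c i.castSucc) = β (c i.succ) ∨ β' (c i.castSucc) = β' (c i.succ)) :
    ∃ l : F, y v = l • v ∧ y = y₂ ∧ ∀ u, φ (y u) = l * φ u := by
  classical
  obtain ⟨w, hwdef⟩ : ∃ w : κ → κ → F, ∀ k, w k = (φ (Pi.single k 1))⁻¹ • (y₂ (Pi.single k 1) - y (Pi.single k 1)) :=
    ⟨_, fun _ => rfl⟩
  obtain ⟨l, hldef⟩ : ∃ l : κ → F, ∀ k, l k = (φ (Pi.single k 1))⁻¹ * φ (y₂ (Pi.single k 1)) := ⟨_, fun _ => rfl⟩
  have hw : ∀ k, v k ≠ 0 → y v = w k + l k • v := by
    intro k hk
    have h1 := hrel (Pi.single k 1)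
    rw [map_add, map_smul] at h1
    have h0 := hφ k hk
    have h2 : y v = (φ (Pi.single k 1))⁻¹ • (φ (Pi.single k 1) • y v) := by
      rw [smul_smul, inv_mul_cancel₀ h0, one_smul]
    have h3 : φ (Pi.single k 1) • y v = (y₂ (Pi.single k 1) - y (Pi.single k 1)) + φ (y₂ (Pi.single k 1)) • v := by
      rw [sub_add_eq_add_sub, ← h1, add_sub_cancel_left]
    rw [h2, h3, smul_add, smul_smul, hwdef, hldef]
  have hws : ∀ k i, w k i ≠ 0 → β i = τ (β k) ∨ β' i = τ' (β' k) := by
    intro k i h
    rw [hwdef, Pi.smul_apply, Pi.sub_apply, smul_eq_mul] at h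
    have h1 := right_ne_zero_of_mul h
    by_cases h2 : y (Pi.single k 1) i = 0
    · right
      rw [h2, sub_zero] at h1
      exact hy₂ k i h1
    · left
      exact hy k i h2
  have hadj' : ∀ k k', v k ≠ 0 → v k' ≠ 0 → (β k = β k' ∨ β' k = β' k') → l k = l k' := by
    intro k k' hk hk' hkk
    obtain ⟨s, hs, hs1, hs2⟩ : ∃ s : Finset κ, s.card ≤ 6 ∧ (∀ i, w k i ≠ 0 → i ∈ s) ∧ (∀ i, w k' i ≠ 0 → i ∈ s) := by
      rcases hkk with h | h
      · refine ⟨(univ.filter fun i => β i = τ (β k)) ∪ ((univ.filter fun i => β' i = τ' (β' k)) ∪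
          (univ.filter fun i => β' i = τ' (β' k'))), ?_, ?_, ?_⟩
        · have e1 := hβ.card_le (τ (β k))
          have e2 := hβ'.card_le (τ' (β' k))
          have e3 := hβ'.card_le (τ' (β' k'))
          have e4 := card_union_le (univ.filter fun i => β i = τ (β k)) ((univ.filter fun i => β' i = τ' (β' k)) ∪
            (univ.filter fun i => β' i = τ' (β' k')))
          have e5 := card_union_le (univ.filter fun i => β' i = τ' (β' k)) (univ.filter fun i => β' i = τ' (β' k'))
          omega
        · intro i hi
          rw [mem_union, mem_union, mem_filter, mem_filter, mem_filter]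
          rcases hws k i hi with h1 | h1
          · exact Or.inl ⟨mem_univ _, h1⟩
          · exact Or.inr (Or.inl ⟨mem_univ _, h1⟩)
        · intro i hi
          rw [mem_union, mem_union, mem_filter, mem_filter, mem_filter]
          rcases hws k' i hi with h1 | h1
          · exact Or.inl ⟨mem_univ _, by rw [h1, h]⟩
          · exact Or.inr (Or.inr ⟨mem_univ _, h1⟩)
      · refine ⟨(univ.filter fun i => β' i = τ' (β' k)) ∪ ((univ.filter fun i => β i = τ (β k)) ∪
          (univ.filter fun i => β i = τ (β k'))), ?_, ?_, ?_⟩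
        · have e1 := hβ'.card_le (τ' (β' k))
          have e2 := hβ.card_le (τ (β k))
          have e3 := hβ.card_le (τ (β k'))
          have e4 := card_union_le (univ.filter fun i => β' i = τ' (β' k)) ((univ.filter fun i => β i = τ (β k)) ∪
            (univ.filter fun i => β i = τ (β k')))
          have e5 := card_union_le (univ.filter fun i => β i = τ (β k)) (univ.filter fun i => β i = τ (β k'))
          omega
        · intro i hi
          rw [mem_union, mem_union, mem_filter, mem_filter, mem_filter]
          rcases hws k i hi with h1 | h1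
          · exact Or.inr (Or.inl ⟨mem_univ _, h1⟩)
          · exact Or.inl ⟨mem_univ _, h1⟩
        · intro i hi
          rw [mem_union, mem_union, mem_filter, mem_filter, mem_filter]
          rcases hws k' i hi with h1 | h1
          · exact Or.inr (Or.inr ⟨mem_univ _, h1⟩)
          · exact Or.inl ⟨mem_univ _, by rw [h1, h]⟩
    obtain ⟨i, hiv, his⟩ := hbig s hs
    have h1 : w k i = 0 := by
      by_contra h
      exact his (hs1 i h)
    have h2 : w k' i = 0 := by
      by_contra h
      exact his (hs2 i h)
    have h3 : y v i = l k * v i := by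
      rw [hw k hk, Pi.add_apply, Pi.smul_apply, h1, zero_add, smul_eq_mul]
    have h4 : y v i = l k' * v i := by
      rw [hw k' hk', Pi.add_apply, Pi.smul_apply, h2, zero_add, smul_eq_mul]
    exact mul_right_cancel₀ hiv (h3.symm.trans h4)
  have hl : ∀ i : Fin 5, l (c i) = l (c 0) := by
    intro i
    induction i using Fin.induction with
    | zero => rfl
    | succ i ih => rw [← ih]; exact (hadj' _ _ (hcv _) (hcv _) (hadj i)).symm
  have hwc : ∀ i : Fin 5, w (c i) = w (c 0) := by
    intro i
    have h1 := hw (c i) (hcv i)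
    rw [hw (c 0) (hcv 0), hl i] at h1
    exact (add_right_cancel h1).symm
  have hw0 : w (c 0) = 0 := by
    by_contra hne
    obtain ⟨i, hi⟩ := Function.ne_iff.1 hne
    change w (c 0) i ≠ 0 at hi
    have h1 : ∀ j : Fin 5, β i = τ (β (c j)) ∨ β' i = τ' (β' (c j)) := by
      intro j
      apply hws
      rw [hwc j]
      exact hi
    by_cases ha : ∃ j0 : Fin 5, β i = τ (β (c j0))
    · obtain ⟨j0, hj0⟩ := ha
      by_cases hb : ∃ j1 : Fin 5, β' i = τ' (β' (c j1))
      · obtain ⟨j1, hj1⟩ := hb
        have h2 : (univ : Finset (Fin 5)) ⊆ (univ.filter fun j => β (c j) = β (c j0)) ∪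
            (univ.filter fun j => β' (c j) = β' (c j1)) := by
          intro j _
          rw [mem_union, mem_filter, mem_filter]
          rcases h1 j with h | h
          · exact Or.inl ⟨mem_univ _, hτ (h.symm.trans hj0)⟩
          · exact Or.inr ⟨mem_univ _, hτ' (h.symm.trans hj1)⟩
        have h3 := (card_le_card h2).trans (card_union_le _ _)
        have h4 := hβ.card_le_of_inj (β (c j0)) hc
        have h5 := hβ'.card_le_of_inj (β' (c j1)) hc
        rw [card_univ, Fintype.card_fin] at h3
        omega
      · push Not at hb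
        have h2 : (univ : Finset (Fin 5)) ⊆ (univ.filter fun j => β (c j) = β (c j0)) := by
          intro j _
          rw [mem_filter]
          exact ⟨mem_univ _, hτ (((h1 j).resolve_right (hb j)).symm.trans hj0)⟩
        have h3 := card_le_card h2
        have h4 := hβ.card_le_of_inj (β (c j0)) hc
        rw [card_univ, Fintype.card_fin] at h3
        omega
    · push Not at ha
      have hj1 := (h1 0).resolve_left (ha 0)
      have h2 : (univ : Finset (Fin 5)) ⊆ (univ.filter fun j => β' (c j) = β' (c 0)) := by
        intro j _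
        rw [mem_filter]
        exact ⟨mem_univ _, hτ' (((h1 j).resolve_left (ha j)).symm.trans hj1)⟩
      have h3 := card_le_card h2
      have h4 := hβ'.card_le_of_inj (β' (c 0)) hc
      rw [card_univ, Fintype.card_fin] at h3
      omega
  have hyv : y v = l (c 0) • v := by
    rw [hw (c 0) (hcv 0), hw0, zero_add]
  -- all the frame
  have hall : ∀ k, y (Pi.single k 1) = y₂ (Pi.single k 1) ∧
      φ (y₂ (Pi.single k 1)) = l (c 0) * φ (Pi.single k 1) := by
    intro k
    have h1 := hrel (Pi.single k 1)
    rw [map_add, map_smul, hyv] at h1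
    have h2 : y (Pi.single k 1) - y₂ (Pi.single k 1) =
        (φ (y₂ (Pi.single k 1)) - l (c 0) * φ (Pi.single k 1)) • v := by
      have e := sub_eq_zero.2 h1
      rw [← sub_eq_zero]
      rw [← e, smul_smul, sub_smul, mul_comm (l (c 0))]
      abel
    obtain ⟨i, hiv, his⟩ := hbig ((univ.filter fun i => β i = τ (β k)) ∪ (univ.filter fun i => β' i = τ' (β' k))) (by
      have e1 := hβ.card_le (τ (β k))
      have e2 := hβ'.card_le (τ' (β' k))
      have e4 := card_union_le (univ.filter fun i => β i = τ (β k)) (univ.filter fun i => β' i = τ' (β' k))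
      omega)
    rw [mem_union, mem_filter, mem_filter, not_or] at his
    have h3 : y (Pi.single k 1) i = 0 := by
      by_contra h
      exact his.1 ⟨mem_univ _, hy k i h⟩
    have h4 : y₂ (Pi.single k 1) i = 0 := by
      by_contra h
      exact his.2 ⟨mem_univ _, hy₂ k i h⟩
    have h5 := congrFun h2 i
    rw [Pi.sub_apply, h3, h4, sub_zero, Pi.smul_apply, smul_eq_mul] at h5
    have h6 := (mul_eq_zero.1 h5.symm).resolve_right hiv
    refine ⟨?_, sub_eq_zero.1 h6⟩
    rw [h6, zero_smul] at h2
    exact sub_eq_zero.1 h2
  have hyy : y = y₂ := by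
    apply (Pi.basisFun F κ).ext
    intro k
    rw [Pi.basisFun_apply]
    exact (hall k).1
  refine ⟨l (c 0), hyv, hyy, ?_⟩
  have h6 : φ ∘ₗ y = l (c 0) • φ := by
    apply (Pi.basisFun F κ).ext
    intro k
    rw [Pi.basisFun_apply, LinearMap.comp_apply, LinearMap.smul_apply, (hall k).1, (hall k).2, smul_eq_mul]
  intro u
  have := LinearMap.congr_fun h6 u
  rwa [LinearMap.comp_apply, LinearMap.smul_apply, smul_eq_mul] at this

/-- `y` is monomial -/
theorem mono (hsep : ∀ i j, β i = β j → β' i = β' j → i = j) (hinj : Function.Injective y)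
    (hτ : Function.Injective τ) (hτ' : Function.Injective τ') (hy : Blk β y τ) (hy' : Blk β' y τ') :
    ∃ (σ : Equiv.Perm κ) (c : κ → F), (∀ k, c k ≠ 0) ∧ (∀ k, y (Pi.single k 1) = c k • Pi.single (σ k) 1) ∧
      (∀ k, β (σ k) = τ (β k)) ∧ ∀ k, β' (σ k) = τ' (β' k) := by
  have h1 : ∀ k, ∃ i, y (Pi.single k 1) i ≠ 0 := by
    intro k
    have h2 : y (Pi.single k 1) ≠ 0 := by
      intro h
      rw [← map_zero y] at h
      have h3 := congrFun (hinj h) k
      rw [Pi.single_eq_same] at h3
      exact one_ne_zero h3
    exact Function.ne_iff.1 h2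
  choose s hs using h1
  have hu : ∀ k i, y (Pi.single k 1) i ≠ 0 → i = s k := fun k i h =>
    hsep _ _ ((hy k i h).trans (hy k _ (hs k)).symm) ((hy' k i h).trans (hy' k _ (hs k)).symm)
  have hsi : Function.Injective s := by
    intro k k' h
    refine hsep _ _ (hτ ?_) (hτ' ?_)
    · rw [← hy k _ (hs k), h, hy k' _ (hs k')]
    · rw [← hy' k _ (hs k), h, hy' k' _ (hs k')]
  refine ⟨Equiv.ofBijective s (Finite.injective_iff_bijective.1 hsi), fun k => y (Pi.single k 1) (s k), hs, fun k => ?_,
    fun k => hy k _ (hs k), fun k => hy' k _ (hs k)⟩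
  funext i
  rw [Pi.smul_apply, smul_eq_mul, Equiv.ofBijective_apply]
  by_cases h : i = s k
  · subst h
    rw [Pi.single_eq_same, mul_one]
  · rw [Pi.single_eq_of_ne h, mul_zero]
    by_contra h2
    exact h (hu k i h2)

/-- the consequences for the coordinates of the fixed vector -/
theorem mono_label {σ : Equiv.Perm κ} {c : κ → F} (hc : ∀ k, y (Pi.single k 1) = c k • Pi.single (σ k) 1) {l : F}
    (hv : y v = l • v) : ∀ k, c k * v k = l * v (σ k) := by
  have h1 : v = ∑ k, v k • (Pi.single k 1 : κ → F) := by
    rw [← pi_eq_sum_univ' v]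
  intro k
  have h2 : y v (σ k) = c k * v k := by
    conv_lhs => rw [h1]
    rw [map_sum, Finset.sum_apply, Finset.sum_eq_single k]
    · rw [map_smul, hc, Pi.smul_apply, Pi.smul_apply, Pi.single_eq_same, smul_eq_mul, smul_eq_mul, mul_one, mul_comm]
    · intro j _ hj
      rw [map_smul, hc, Pi.smul_apply, Pi.smul_apply, Pi.single_eq_of_ne (fun h => hj (σ.injective h).symm), smul_zero,
        smul_zero]
    · intro h
      exact (h (mem_univ _)).elim
  rw [hv, Pi.smul_apply, smul_eq_mul] at h2
  exact h2.symm

/-- fixed lines propagate along blocks -/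
theorem fixed_step {γ : κ → B} (hγ : Two γ) {σ : Equiv.Perm κ} {τ : B → B} (h : ∀ k, γ (σ k) = τ (γ k)) {i j : κ}
    (hij : γ i = γ j) (hi : σ i = i) : σ j = j := by
  by_cases hne : i = j
  · rw [← hne, hi]
  have h1 : γ (σ j) = γ i := by rw [h, ← hij, ← h, hi]
  rcases hγ (σ j) i j h1 hij with h2 | h2 | h2
  · exact (hne (σ.injective (hi.trans h2.symm))).elim
  · exact (hne h2).elim
  · exact h2

/-- fixed lines propagate along a chain -/
theorem chain_fixed (hβ : Two β) (hβ' : Two β') {σ : Equiv.Perm κ} (h : ∀ k, β (σ k) = τ (β k))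
    (h' : ∀ k, β' (σ k) = τ' (β' k)) {n : ℕ} (c : Fin n → κ)
    (hc : ∀ (i : ℕ) (hi : i + 1 < n), β (c ⟨i, by omega⟩) = β (c ⟨i + 1, hi⟩) ∨
      β' (c ⟨i, by omega⟩) = β' (c ⟨i + 1, hi⟩)) (h0 : ∀ h : 0 < n, σ (c ⟨0, h⟩) = c ⟨0, h⟩) (i : Fin n) :
    σ (c i) = c i := by
  obtain ⟨i, hi⟩ := i
  induction i with
  | zero => exact h0 hi
  | succ i ih =>
    have h1 := ih (by omega)
    rcases hc i hi with h2 | h2
    · exact fixed_step hβ h h2 h1
    · exact fixed_step hβ' h' h2 h1

end Cfsg.Agent.H955.Rig
end

-- part: H955/FrameComb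
section
/-!
# Two matchings of a frame in two components (helper955, S5760)

`κ = Fin (m₁ * 2 + δ₁) ⊕ Fin (m₂ * 2 + δ₂)`, `δᵢ ≤ 1`; `bet` : the blocks `{0, 1}, {2, 3}, …` of the two components,
`rot` : the rotation `i ↦ i + 1` of both components.
-/

set_option autoImplicit false
set_option linter.unusedSectionVars false

namespace Cfsg.Agent.H955.Rig

open Sum (inl inr)

/-- one component -/
def e1 (m δ : ℕ) : (Fin m × Fin 2) ⊕ Fin δ ≃ Fin (m * 2 + δ) :=
  (Equiv.sumCongr finProdFinEquiv (Equiv.refl _)).trans finSumFinEquiv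

theorem e1_inl (m δ : ℕ) (b : Fin m) (ε : Fin 2) : (e1 m δ (inl (b, ε)) : ℕ) = 2 * b + ε := by
  simp [e1, add_comm]

theorem e1_inr (m δ : ℕ) (j : Fin δ) : (e1 m δ (inr j) : ℕ) = m * 2 + j := by
  simp [e1]

/-- two components -/
def e2 (m₁ δ₁ m₂ δ₂ : ℕ) :
    (Fin (m₁ + m₂) × Fin 2) ⊕ Fin (δ₁ + δ₂) ≃ Fin (m₁ * 2 + δ₁) ⊕ Fin (m₂ * 2 + δ₂) :=
  (Equiv.sumCongr (((Equiv.prodCongr finSumFinEquiv.symm (Equiv.refl _))).trans (Equiv.sumProdDistrib _ _ _))
    finSumFinEquiv.symm).trans ((Equiv.sumSumSumComm _ _ _ _).trans (Equiv.sumCongr (e1 m₁ δ₁) (e1 m₂ δ₂)))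

variable {m₁ δ₁ m₂ δ₂ : ℕ}

theorem e2_inl_left (b : Fin m₁) (ε : Fin 2) :
    e2 m₁ δ₁ m₂ δ₂ (inl (Fin.castAdd m₂ b, ε)) = inl (e1 m₁ δ₁ (inl (b, ε))) := by
  simp [e2]

theorem e2_inl_right (b : Fin m₂) (ε : Fin 2) :
    e2 m₁ δ₁ m₂ δ₂ (inl (Fin.natAdd m₁ b, ε)) = inr (e1 m₂ δ₂ (inl (b, ε))) := by
  simp [e2]

theorem e2_inr_left (j : Fin δ₁) : e2 m₁ δ₁ m₂ δ₂ (inr (Fin.castAdd δ₂ j)) = inl (e1 m₁ δ₁ (inr j)) := by
  simp [e2]

theorem e2_inr_right (j : Fin δ₂) : e2 m₁ δ₁ m₂ δ₂ (inr (Fin.natAdd δ₁ j)) = inr (e1 m₂ δ₂ (inr j)) := by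
  simp [e2]

/-- the block of a line -/
def blk {m k : ℕ} {κ : Type*} (e : (Fin m × Fin 2) ⊕ Fin k ≃ κ) (i : κ) : Fin m ⊕ Fin k :=
  Sum.map Prod.fst id (e.symm i)

theorem blk_apply {m k : ℕ} {κ : Type*} (e : (Fin m × Fin 2) ⊕ Fin k ≃ κ) (s : (Fin m × Fin 2) ⊕ Fin k) :
    blk e (e s) = Sum.map Prod.fst id s := by
  rw [blk, Equiv.symm_apply_apply]

/-- the block of a line -/
def bet (m₁ δ₁ m₂ δ₂ : ℕ) : Fin (m₁ * 2 + δ₁) ⊕ Fin (m₂ * 2 + δ₂) → Fin (m₁ + m₂) ⊕ Fin (δ₁ + δ₂) :=
  blk (e2 m₁ δ₁ m₂ δ₂)

/-- numerical version -/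
def num : Fin (m₁ * 2 + δ₁) ⊕ Fin (m₂ * 2 + δ₂) → ℕ ⊕ ℕ := Sum.map (fun i => (i : ℕ) / 2) (fun i => (i : ℕ) / 2)

private def gg (m₁ δ₁ m₂ δ₂ : ℕ) : Fin (m₁ + m₂) ⊕ Fin (δ₁ + δ₂) → ℕ ⊕ ℕ
  | inl b => if (b : ℕ) < m₁ then inl b else inr (b - m₁)
  | inr j => if (j : ℕ) < δ₁ then inl m₁ else inr m₂

private theorem gg_injective (h1 : δ₁ ≤ 1) (h2 : δ₂ ≤ 1) : Function.Injective (gg m₁ δ₁ m₂ δ₂) := by
  rintro (⟨b, hb⟩ | ⟨b, hb⟩) (⟨c, hc⟩ | ⟨c, hc⟩) h
  · simp only [gg] at h
    split_ifs at h with h3 h4 h4
    · rw [Sum.inl.injEq] at h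
      subst h
      rfl
    · rw [Sum.inr.injEq] at h
      congr 2
      omega
  · simp only [gg] at h
    split_ifs at h with h3 h4 h4
    · rw [Sum.inl.injEq] at h
      omega
    · rw [Sum.inr.injEq] at h
      omega
  · simp only [gg] at h
    split_ifs at h with h3 h4 h4
    · rw [Sum.inl.injEq] at h
      omega
    · rw [Sum.inr.injEq] at h
      omega
  · simp only [gg] at h
    split_ifs at h with h3 h4 h4
    · congr 2
      omega
    · congr 2
      omega

private theorem num_eq_gg (h1 : δ₁ ≤ 1) (h2 : δ₂ ≤ 1) (x : Fin (m₁ * 2 + δ₁) ⊕ Fin (m₂ * 2 + δ₂)) :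
    num x = gg m₁ δ₁ m₂ δ₂ (bet m₁ δ₁ m₂ δ₂ x) := by
  obtain ⟨s, rfl⟩ := (e2 m₁ δ₁ m₂ δ₂).surjective x
  rw [bet, blk_apply]
  rcases s with ⟨b, ε⟩ | j
  · have hε := ε.2
    induction b using Fin.addCases with
    | left b =>
      rw [e2_inl_left]
      simp only [num, Sum.map_inl, gg, e1_inl, Fin.val_castAdd, if_pos b.2]
      congr 1
      omega
    | right b =>
      rw [e2_inl_right]
      simp only [num, Sum.map_inl, Sum.map_inr, gg, e1_inl, Fin.val_natAdd]
      rw [if_neg (by omega)]
      congr 1
      omega
  · induction j using Fin.addCases with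
    | left j =>
      rw [e2_inr_left]
      simp only [num, Sum.map_inl, Sum.map_inr, gg, e1_inr, Fin.val_castAdd, id, if_pos j.2]
      congr 1
      omega
    | right j =>
      rw [e2_inr_right]
      simp only [num, Sum.map_inr, gg, e1_inr, Fin.val_natAdd, id]
      rw [if_neg (by omega)]
      congr 1
      omega

theorem bet_eq_iff (h1 : δ₁ ≤ 1) (h2 : δ₂ ≤ 1) {x y : Fin (m₁ * 2 + δ₁) ⊕ Fin (m₂ * 2 + δ₂)} :
    bet m₁ δ₁ m₂ δ₂ x = bet m₁ δ₁ m₂ δ₂ y ↔ num x = num y := by
  rw [num_eq_gg h1 h2, num_eq_gg h1 h2]
  exact ⟨fun h => by rw [h], fun h => gg_injective h1 h2 h⟩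

/-- the rotation -/
def rotn (m₁ δ₁ m₂ δ₂ : ℕ) : Equiv.Perm (Fin (m₁ * 2 + δ₁) ⊕ Fin (m₂ * 2 + δ₂)) :=
  Equiv.sumCongr (finRotate _) (finRotate _)

theorem val_finRotate {n : ℕ} (i : Fin n) : ((finRotate n i : Fin n) : ℕ) = if (i : ℕ) + 1 < n then (i : ℕ) + 1 else 0 := by
  cases n with
  | zero => exact i.elim0
  | succ n =>
    split_ifs with h
    · exact coe_finRotate_of_ne_last (fun h' => by rw [h', Fin.val_last] at h; omega)
    · have h1 : i = Fin.last n := Fin.ext (by rw [Fin.val_last]; omega)
      rw [h1, finRotate_last]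
      rfl

theorem val_finRotate_symm {n : ℕ} (i : Fin n) :
    (((finRotate n).symm i : Fin n) : ℕ) = if (i : ℕ) = 0 then n - 1 else (i : ℕ) - 1 := by
  obtain ⟨j, rfl⟩ := (finRotate n).surjective i
  rw [Equiv.symm_apply_apply, val_finRotate]
  have := j.2
  by_cases h : (j : ℕ) + 1 < n
  · rw [if_pos h, if_neg (by omega)]
    omega
  · rw [if_neg h, if_pos rfl]
    omega

/-- the other blocks -/
def bet' (m₁ δ₁ m₂ δ₂ : ℕ) (x : Fin (m₁ * 2 + δ₁) ⊕ Fin (m₂ * 2 + δ₂)) : Fin (m₁ + m₂) ⊕ Fin (δ₁ + δ₂) :=
  bet m₁ δ₁ m₂ δ₂ ((rotn m₁ δ₁ m₂ δ₂).symm x)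

theorem rotn_symm_inl (i : Fin (m₁ * 2 + δ₁)) : (rotn m₁ δ₁ m₂ δ₂).symm (inl i) = inl ((finRotate _).symm i) := rfl

theorem rotn_symm_inr (i : Fin (m₂ * 2 + δ₂)) : (rotn m₁ δ₁ m₂ δ₂).symm (inr i) = inr ((finRotate _).symm i) := rfl

theorem num_inl (i : Fin (m₁ * 2 + δ₁)) : num (inl i : Fin (m₁ * 2 + δ₁) ⊕ Fin (m₂ * 2 + δ₂)) = inl ((i : ℕ) / 2) := rfl

theorem num_inr (i : Fin (m₂ * 2 + δ₂)) : num (inr i : Fin (m₁ * 2 + δ₁) ⊕ Fin (m₂ * 2 + δ₂)) = inr ((i : ℕ) / 2) := rfl

theorem two_bet (h1 : δ₁ ≤ 1) (h2 : δ₂ ≤ 1) : Two (bet m₁ δ₁ m₂ δ₂) := by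
  intro i j k hij hjk
  rw [bet_eq_iff h1 h2] at hij hjk
  rcases i with i | i <;> rcases j with j | j <;> rcases k with k | k <;>
    simp only [num_inl, num_inr, reduceCtorEq, Sum.inl.injEq, Sum.inr.injEq] at hij hjk ⊢ <;>
    simp only [Fin.ext_iff] <;> omega

theorem Two.comp {κ κ' B : Type*} {β : κ → B} (h : Two β) {f : κ' → κ} (hf : Function.Injective f) :
    Two (fun i => β (f i)) := by
  intro i j k hij hjk
  rcases h (f i) (f j) (f k) hij hjk with h1 | h1 | h1
  · exact Or.inl (hf h1)
  · exact Or.inr (Or.inl (hf h1))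
  · exact Or.inr (Or.inr (hf h1))

theorem two_bet' (h1 : δ₁ ≤ 1) (h2 : δ₂ ≤ 1) : Two (bet' m₁ δ₁ m₂ δ₂) :=
  (two_bet h1 h2).comp (rotn m₁ δ₁ m₂ δ₂).symm.injective

theorem sep (h1 : δ₁ ≤ 1) (h2 : δ₂ ≤ 1) (hN1 : m₁ * 2 + δ₁ ≠ 2) (hN2 : m₂ * 2 + δ₂ ≠ 2)
    (i j : Fin (m₁ * 2 + δ₁) ⊕ Fin (m₂ * 2 + δ₂)) (hij : bet m₁ δ₁ m₂ δ₂ i = bet m₁ δ₁ m₂ δ₂ j)
    (hij' : bet' m₁ δ₁ m₂ δ₂ i = bet' m₁ δ₁ m₂ δ₂ j) : i = j := by
  rw [bet', bet', bet_eq_iff h1 h2] at hij'
  rw [bet_eq_iff h1 h2] at hij
  rcases i with i | i <;> rcases j with j | j <;>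
    simp only [num_inl, num_inr, rotn_symm_inl, rotn_symm_inr, reduceCtorEq, Sum.inl.injEq, Sum.inr.injEq,
      val_finRotate_symm] at hij hij' ⊢
  · rw [Fin.ext_iff]
    have h3 := i.2
    have h4 := j.2
    split_ifs at hij' <;> omega
  · rw [Fin.ext_iff]
    have h3 := i.2
    have h4 := j.2
    split_ifs at hij' <;> omega

theorem chain1 (h1 : δ₁ ≤ 1) (h2 : δ₂ ≤ 1) (i : ℕ) (hi : i + 1 < m₁ * 2 + δ₁) :
    bet m₁ δ₁ m₂ δ₂ (inl ⟨i, by omega⟩) = bet m₁ δ₁ m₂ δ₂ (inl ⟨i + 1, hi⟩) ∨
      bet' m₁ δ₁ m₂ δ₂ (inl ⟨i, by omega⟩) = bet' m₁ δ₁ m₂ δ₂ (inl ⟨i + 1, hi⟩) := by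
  rw [bet', bet', bet_eq_iff h1 h2, bet_eq_iff h1 h2]
  simp only [num_inl, rotn_symm_inl, Sum.inl.injEq, val_finRotate_symm]
  rcases Nat.even_or_odd' i with ⟨r, hr | hr⟩
  · left
    omega
  · right
    rw [if_neg (by omega), if_neg (by omega)]
    have := hr
    omega

theorem chain2 (h1 : δ₁ ≤ 1) (h2 : δ₂ ≤ 1) (i : ℕ) (hi : i + 1 < m₂ * 2 + δ₂) :
    bet m₁ δ₁ m₂ δ₂ (inr ⟨i, by omega⟩) = bet m₁ δ₁ m₂ δ₂ (inr ⟨i + 1, hi⟩) ∨
      bet' m₁ δ₁ m₂ δ₂ (inr ⟨i, by omega⟩) = bet' m₁ δ₁ m₂ δ₂ (inr ⟨i + 1, hi⟩) := by
  rw [bet', bet', bet_eq_iff h1 h2, bet_eq_iff h1 h2]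
  simp only [num_inr, rotn_symm_inr, Sum.inr.injEq, val_finRotate_symm]
  rcases Nat.even_or_odd' i with ⟨r, hr | hr⟩
  · left
    omega
  · right
    rw [if_neg (by omega), if_neg (by omega)]
    have := hr
    omega

/-- the last line of the first component is a single block if `δ₁ = 1` -/
theorem bet_last (m₁ m₂ δ₂ : ℕ) : ∃ j, bet m₁ 1 m₂ δ₂ (inl ⟨m₁ * 2, by omega⟩) = inr j := by
  refine ⟨Fin.castAdd δ₂ 0, ?_⟩
  have h1 : (inl ⟨m₁ * 2, by omega⟩ : Fin (m₁ * 2 + 1) ⊕ Fin (m₂ * 2 + δ₂)) =
      e2 m₁ 1 m₂ δ₂ (inr (Fin.castAdd δ₂ 0)) := by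
    rw [e2_inr_left]
    congr 1
  rw [h1, bet, blk_apply]
  rfl

/-- the first line of the first component is fixed if `δ₁ = 1` -/
theorem root1 (h2 : δ₂ ≤ 1) {σ : Equiv.Perm (Fin (m₁ * 2 + 1) ⊕ Fin (m₂ * 2 + δ₂))}
    {τ : Fin (m₁ + m₂) ⊕ Fin (1 + δ₂) → Fin (m₁ + m₂) ⊕ Fin (1 + δ₂)} (hτ : ∀ j, τ (inr j) = inr j)
    (h : ∀ k, bet' m₁ 1 m₂ δ₂ (σ k) = τ (bet' m₁ 1 m₂ δ₂ k)) : σ (inl ⟨0, by omega⟩) = inl ⟨0, by omega⟩ := by
  obtain ⟨j, hj⟩ := bet_last m₁ m₂ δ₂
  have h3 : bet' m₁ 1 m₂ δ₂ (inl ⟨0, by omega⟩) = inr j := by
    rw [bet', rotn_symm_inl, ← hj]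
    congr 2
  have h4 := h (inl ⟨0, by omega⟩)
  rw [h3, hτ, ← h3, bet', bet', bet_eq_iff le_rfl h2] at h4
  obtain ⟨x, hx⟩ : ∃ x, σ (inl ⟨0, by omega⟩) = x := ⟨_, rfl⟩
  rw [hx] at h4 ⊢
  rcases x with x | x <;>
    simp only [num_inl, num_inr, rotn_symm_inl, rotn_symm_inr, reduceCtorEq, Sum.inl.injEq, val_finRotate_symm] at h4 ⊢
  rw [Fin.ext_iff]
  have h5 := x.2
  simp only [if_true] at h4 ⊢
  split_ifs at h4 <;> omega

end Cfsg.Agent.H955.Rig
end

-- part: H955/FrameModel
section
/-!
# The block model on a frame (helper955, S5760)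

`exists_Lk` : the model `(Fin m → F × F) × (Fin k → F)` on the coordinate space of a frame `κ` with norms `a`, the
planes being pairs of lines of the same norm.
-/

set_option autoImplicit false
set_option linter.unusedSectionVars false

namespace Cfsg.Agent.H955.Rig

open QuadraticMap Cfsg Subgroup
open Cfsg.Agent.LieClassical.OrthCore Cfsg.Agent.LieClassical.OrthTrans
open Cfsg.Agent.FooteOrth Cfsg.Agent.FooteOrth.Wr
open Sum (inl inr)

variable {F : Type*} [Field F]

/-- the plane `x² + y²` represents all its multiples -/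
theorem exists_sim [Finite F] (h2 : (2 : F) ≠ 0) {α : F} (hα : α ≠ 0) :
    ∃ M : (F × F) ≃ₗ[F] (F × F), ∀ w, qW F w = α * ((M w).1 * (M w).1 + (M w).2 * (M w).2) := by
  obtain ⟨s, t, hst⟩ := Cfsg.Agent.ClassicalGeometry.Universal.exists_sq_add_sq h2 (one_ne_zero (α := F))
    (one_ne_zero (α := F)) α⁻¹
  have h1 : α * (s * s + t * t) = 1 := by
    have h3 : s * s + t * t = α⁻¹ := by linear_combination hst
    rw [h3, mul_inv_cancel₀ hα]
  refine ⟨{ toFun := fun w => (s * w.1 - t * w.2, t * w.1 + s * w.2)
            map_add' := fun v w => by ext <;> simp only [_root_.Prod.fst_add, _root_.Prod.snd_add, _root_.Prod.mk_add_mk] <;> ring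
            map_smul' := fun c w => by ext <;> simp only [_root_.Prod.smul_fst, _root_.smul_eq_mul, _root_.Prod.smul_snd, _root_.RingHom.id_apply, _root_.Prod.smul_mk] <;> ring
            invFun := fun w => (α * (s * w.1 + t * w.2), α * (s * w.2 - t * w.1))
            left_inv := fun w => by
              ext
              · simp only
                linear_combination w.1 * h1
              · simp only
                linear_combination w.2 * h1
            right_inv := fun w => by
              ext
              · simp only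
                linear_combination w.1 * h1
              · simp only
                linear_combination w.2 * h1 }, fun w => ?_⟩
  rw [qW_apply]
  change _ = α * ((s * w.1 - t * w.2) * (s * w.1 - t * w.2) + (t * w.1 + s * w.2) * (t * w.1 + s * w.2))
  linear_combination (-(w.1 * w.1) - w.2 * w.2) * h1

variable {κ : Type} [Fintype κ] [DecidableEq κ] {m k : ℕ}

/-- **The model on a frame.** -/
theorem exists_Lk [Finite F] (h2 : (2 : F) ≠ 0) (e : (Fin m × Fin 2) ⊕ Fin k ≃ κ) {a : κ → F} (ha : ∀ i, a i ≠ 0)
    (hp : ∀ b, a (e (inl (b, 0))) = a (e (inl (b, 1)))) :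
    ∃ Lk : ((Fin m → F × F) × (Fin k → F)) ≃ₗ[F] (κ → F),
      (∀ x, QM m (qW F) (qU fun j => a (e (inr j))) x = ∑ i, a i * (Lk x i * Lk x i)) ∧
      ∀ (x : Fin m → ((F × F) ≃ₗ[F] (F × F))) (s : Fin k → ℤˣ) (π : Equiv.Perm (Fin m)),
        Blk (blk e) (conjL Lk (psi (x, sgn s) * rho π)).toLinearMap (Sum.map π id) := by
  have hM := fun b : Fin m => exists_sim h2 (ha (e (inl (b, 0))))
  choose M hM using hM
  obtain ⟨G, hG⟩ : ∃ G : ((Fin m → F × F) × (Fin k → F)) → (Fin m × Fin 2) ⊕ Fin k → F,
      G = fun x s => Sum.elim (fun p => if p.2 = 0 then (M p.1 (x.1 p.1)).1 else (M p.1 (x.1 p.1)).2) (fun j => x.2 j) s :=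
    ⟨_, rfl⟩
  have hG0 : ∀ x b, G x (inl (b, 0)) = (M b (x.1 b)).1 := fun x b => by
    rw [hG]
    simp
  have hG1 : ∀ x b, G x (inl (b, 1)) = (M b (x.1 b)).2 := fun x b => by
    rw [hG]
    simp
  have hGr : ∀ x j, G x (inr j) = x.2 j := fun x j => by
    rw [hG]
    rfl
  have hext : ∀ {f g : (Fin m × Fin 2) ⊕ Fin k → F}, (∀ b, f (inl (b, 0)) = g (inl (b, 0))) →
      (∀ b, f (inl (b, 1)) = g (inl (b, 1))) → (∀ j, f (inr j) = g (inr j)) → f = g := by
    intro f g h0 h1 hr
    funext s
    rcases s with ⟨b, ε⟩ | j
    · fin_cases ε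
      · exact h0 b
      · exact h1 b
    · exact hr j
  have hadd : ∀ x y, G (x + y) = G x + G y := by
    intro x y
    refine hext (fun b => ?_) (fun b => ?_) fun j => ?_
    · rw [Pi.add_apply, hG0, hG0, hG0, Prod.fst_add, Pi.add_apply, map_add]
      rfl
    · rw [Pi.add_apply, hG1, hG1, hG1, Prod.fst_add, Pi.add_apply, map_add]
      rfl
    · rw [Pi.add_apply, hGr, hGr, hGr]
      rfl
  have hsmul : ∀ (c : F) x, G (c • x) = c • G x := by
    intro c x
    refine hext (fun b => ?_) (fun b => ?_) fun j => ?_
    · rw [Pi.smul_apply, hG0, hG0, Prod.smul_fst, Pi.smul_apply, map_smul]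
      rfl
    · rw [Pi.smul_apply, hG1, hG1, Prod.smul_fst, Pi.smul_apply, map_smul]
      rfl
    · rw [Pi.smul_apply, hGr, hGr]
      rfl
  let L1 : ((Fin m → F × F) × (Fin k → F)) ≃ₗ[F] ((Fin m × Fin 2) ⊕ Fin k → F) :=
    { toFun := G
      map_add' := hadd
      map_smul' := hsmul
      invFun := fun v => (fun b => (M b).symm (v (inl (b, 0)), v (inl (b, 1))), fun j => v (inr j))
      left_inv := by
        intro x
        refine Prod.ext (funext fun b => ?_) (funext fun j => ?_)
        · change (M b).symm (G x (inl (b, 0)), G x (inl (b, 1))) = x.1 b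
          rw [hG0, hG1, LinearEquiv.symm_apply_eq]
        · exact hGr x j
      right_inv := by
        intro v
        refine hext (fun b => ?_) (fun b => ?_) fun j => ?_
        · rw [hG0, LinearEquiv.apply_symm_apply]
        · rw [hG1, LinearEquiv.apply_symm_apply]
        · rw [hGr] }
  obtain ⟨Lk, hLk⟩ : ∃ Lk : ((Fin m → F × F) × (Fin k → F)) ≃ₗ[F] (κ → F), Lk =
      L1.trans (LinearEquiv.funCongrLeft F F e.symm) := ⟨_, rfl⟩
  have hLa : ∀ x s, Lk x (e s) = G x s := by
    intro x s
    rw [hLk]
    change G x (e.symm (e s)) = G x s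
    rw [Equiv.symm_apply_apply]
  have hLs : ∀ v, Lk.symm v = (fun b => (M b).symm (v (e (inl (b, 0))), v (e (inl (b, 1)))), fun j => v (e (inr j))) := by
    intro v
    rw [LinearEquiv.symm_apply_eq]
    funext i
    obtain ⟨s, rfl⟩ := e.surjective i
    rw [hLa]
    revert s
    rw [← funext_iff (f := fun s => v (e s))]
    refine hext (fun b => ?_) (fun b => ?_) fun j => ?_
    · rw [hG0, LinearEquiv.apply_symm_apply]
    · rw [hG1, LinearEquiv.apply_symm_apply]
    · rw [hGr]
  refine ⟨Lk, fun x => ?_, fun x s π => ?_⟩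
  · rw [QM_apply, qU_apply, ← Equiv.sum_comp e, Fintype.sum_sum_type, Fintype.sum_prod_type]
    congr 1
    · refine Finset.sum_congr rfl fun b _ => ?_
      rw [Fin.sum_univ_two, hLa, hLa, hG0, hG1, ← hp b, hM b]
      ring
    · refine Finset.sum_congr rfl fun j _ => ?_
      rw [hLa, hGr]
  · intro i0 i hne
    obtain ⟨z, hz⟩ : ∃ z, z = Lk.symm (Pi.single i0 1) := ⟨_, rfl⟩
    obtain ⟨g, hg⟩ : ∃ g : ((Fin m → F × F) × (Fin k → F)) ≃ₗ[F] ((Fin m → F × F) × (Fin k → F)),
      g = psi (x, sgn s) * rho π := ⟨_, rfl⟩
    have h1 : (conjL Lk (psi (x, sgn s) * rho π)).toLinearMap (Pi.single i0 1) = Lk (g z) := by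
      rw [hz, hg]
      rfl
    rw [h1] at hne
    have hz1 : ∀ b, z.1 b ≠ 0 → blk e i0 = inl b := by
      intro b hb
      rw [hz, hLs] at hb
      have h3 : ((Pi.single i0 (1 : F) : κ → F) (e (inl (b, 0))), (Pi.single i0 (1 : F) : κ → F) (e (inl (b, 1)))) ≠ 0 := by
        intro h
        apply hb
        change (M b).symm _ = 0
        rw [h, map_zero]
      by_cases h4 : e (inl (b, 0)) = i0
      · rw [← h4, blk_apply]
        rfl
      by_cases h5 : e (inl (b, 1)) = i0
      · rw [← h5, blk_apply]
        rfl
      exact (h3 (Prod.ext (Pi.single_eq_of_ne h4 _) (Pi.single_eq_of_ne h5 _))).elim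
    have hz2 : ∀ j, z.2 j ≠ 0 → blk e i0 = inr j := by
      intro j hj
      rw [hz, hLs] at hj
      by_cases h4 : e (inr j) = i0
      · rw [← h4, blk_apply]
        rfl
      exact (hj (Pi.single_eq_of_ne h4 _)).elim
    obtain ⟨r, rfl⟩ := e.surjective i
    rw [hLa] at hne
    rw [blk_apply]
    rcases r with ⟨b, ε⟩ | j
    · have h3 : z.1 (π⁻¹ b) ≠ 0 := by
        intro h
        have h4 : (g z).1 b = 0 := by
          rw [hg]
          change x b (z.1 (π⁻¹ b)) = 0
          rw [h, map_zero]
        fin_cases ε
        · exact hne (by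
            change G _ (inl (b, 0)) = 0
            rw [hG0, h4, map_zero]
            rfl)
        · exact hne (by
            change G _ (inl (b, 1)) = 0
            rw [hG1, h4, map_zero]
            rfl)
      rw [hz1 _ h3]
      change inl b = inl (π (π.symm b))
      rw [Equiv.apply_symm_apply]
    · have h3 : z.2 j ≠ 0 := by
        intro h
        apply hne
        rw [hGr, hg]
        change sgn s z.2 j = 0
        rw [sgn_apply, h, mul_zero]
      rw [hz2 _ h3]
      rfl

end Cfsg.Agent.H955.Rig
end

-- part: H955/FrameMain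
section
/-!
# The isometries permuting the blocks of two matchings of a frame (helper955, S5760)

`rigid_main` : `V = κ → F`, `κ = Fin (m₁ * 2 + δ₁) ⊕ Fin (m₂ * 2 + δ₂)`, norm `c` on the first component, `c'` on the
second; an isometry permuting the blocks `bet` and their images under `refl v * rotation` is diagonal.
-/

set_option autoImplicit false
set_option linter.unusedSectionVars false

namespace Cfsg.Agent.H955.Rig

open QuadraticMap Cfsg Subgroup
open Cfsg.Agent.LieClassical.OrthCore Cfsg.Agent.LieClassical.OrthTrans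
open Cfsg.Agent.FooteOrth Cfsg.Agent.FooteOrth.Wr
open Sum (inl inr)

variable {F : Type*} [Field F]

/-- permutation of the coordinates -/
def Pm (F : Type*) [Field F] {κ : Type*} (ρ : Equiv.Perm κ) : (κ → F) ≃ₗ[F] (κ → F) := LinearEquiv.funCongrLeft F F ρ.symm

theorem Pm_apply {κ : Type*} (ρ : Equiv.Perm κ) (u : κ → F) (i : κ) : Pm F ρ u i = u (ρ.symm i) := rfl

theorem Pm_inv_apply {κ : Type*} (ρ : Equiv.Perm κ) (u : κ → F) (i : κ) : (Pm F ρ)⁻¹ u i = u (ρ i) := by
  have h : (Pm F ρ)⁻¹ u = fun i => u (ρ i) := by
    change (Pm F ρ).symm u = _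
    rw [LinearEquiv.symm_apply_eq]
    funext j
    rw [Pm_apply, Equiv.apply_symm_apply]
  rw [h]

theorem Pm_inv_single {κ : Type*} [DecidableEq κ] (ρ : Equiv.Perm κ) (k : κ) :
    (Pm F ρ)⁻¹ (Pi.single k 1) = Pi.single (ρ.symm k) 1 := by
  funext i
  rw [Pm_inv_apply]
  by_cases h : ρ i = k
  · subst h
    rw [Equiv.symm_apply_apply, Pi.single_eq_same, Pi.single_eq_same]
  · rw [Pi.single_eq_of_ne h, Pi.single_eq_of_ne]
    rintro rfl
    exact h (Equiv.apply_symm_apply _ _)

section

variable {κ : Type} [Fintype κ] [DecidableEq κ] {Q₀ : QuadraticForm F (κ → F)} {a : κ → F}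

theorem polar_single (ha : ∀ u, Q₀ u = ∑ i, a i * (u i * u i)) (v : κ → F) (k : κ) :
    polar Q₀ v (Pi.single k 1) = 2 * (a k * v k) := by
  rw [polar, ha, ha, ha, ← Finset.sum_sub_distrib, ← Finset.sum_sub_distrib, Finset.sum_eq_single k]
  · rw [Pi.add_apply, Pi.single_eq_same]
    ring
  · intro j _ hj
    rw [Pi.add_apply, Pi.single_eq_of_ne hj]
    ring
  · intro h
    exact (h (Finset.mem_univ _)).elim

theorem norm_single (ha : ∀ u, Q₀ u = ∑ i, a i * (u i * u i)) (t : F) (k : κ) :
    Q₀ (t • Pi.single k 1) = a k * (t * t) := by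
  rw [ha, Finset.sum_eq_single k]
  · rw [Pi.smul_apply, Pi.single_eq_same, smul_eq_mul, mul_one]
  · intro j _ hj
    rw [Pi.smul_apply, Pi.single_eq_of_ne hj, smul_zero]
    ring
  · intro h
    exact (h (Finset.mem_univ _)).elim

end

variable {m₁ δ₁ m₂ δ₂ : ℕ}

/-- **Rigidity.** -/
theorem rigid_main (h2 : (2 : F) ≠ 0) (h1 : δ₁ ≤ 1) (h1' : δ₂ ≤ 1) (hN1 : 6 - δ₁ ≤ m₁ * 2 + δ₁)
    (hN2 : m₂ * 2 + δ₂ ≠ 2) {c c' : F} (hc : c ≠ 0) (hc' : c' ≠ 0) (hcc : m₂ * 2 + δ₂ ≠ 0 → ¬ IsSquare (c * c'))
    {Q₀ : QuadraticForm F (Fin (m₁ * 2 + δ₁) ⊕ Fin (m₂ * 2 + δ₂) → F)}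
    (ha : ∀ u, Q₀ u = ∑ i, Sum.elim (fun _ => c) (fun _ => c') i * (u i * u i))
    {v : Fin (m₁ * 2 + δ₁) ⊕ Fin (m₂ * 2 + δ₂) → F} (hv : Q₀ v ≠ 0)
    (hv1 : ∀ i : Fin (m₁ * 2 + δ₁), (i : ℕ) ≠ 0 → v (inl i) ≠ 0)
    (hv1' : ∀ i : Fin (m₁ * 2 + δ₁), (i : ℕ) = 0 → (v (inl i) = 0 ↔ δ₁ = 0))
    (hv2 : ∀ j : Fin (m₂ * 2 + δ₂), (j : ℕ) ≠ 0 → v (inr j) ≠ 0)
    (hv2' : m₂ * 2 + δ₂ ≠ 1 → ∀ j : Fin (m₂ * 2 + δ₂), (j : ℕ) = 0 → v (inr j) = 0)
    (hbig : ∀ s : Finset (Fin (m₁ * 2 + δ₁) ⊕ Fin (m₂ * 2 + δ₂)), s.card ≤ 6 → ∃ i, v i ≠ 0 ∧ i ∉ s)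
    {y z : (Fin (m₁ * 2 + δ₁) ⊕ Fin (m₂ * 2 + δ₂) → F) ≃ₗ[F] (Fin (m₁ * 2 + δ₁) ⊕ Fin (m₂ * 2 + δ₂) → F)}
    (hy : y ∈ O Q₀) {τ τ' : Fin (m₁ + m₂) ⊕ Fin (δ₁ + δ₂) → Fin (m₁ + m₂) ⊕ Fin (δ₁ + δ₂)}
    (hτ : Function.Injective τ) (hτ' : Function.Injective τ') (hτj : ∀ j, τ' (inr j) = inr j)
    (hby : Blk (bet m₁ δ₁ m₂ δ₂) y.toLinearMap τ) (hbz : Blk (bet m₁ δ₁ m₂ δ₂) z.toLinearMap τ')
    (hyz : y * (refl Q₀ v hv * Pm F (rotn m₁ δ₁ m₂ δ₂)) = (refl Q₀ v hv * Pm F (rotn m₁ δ₁ m₂ δ₂)) * z) :
    ∃ (l : ℤˣ) (e : Fin (m₁ * 2 + δ₁) ⊕ Fin (m₂ * 2 + δ₂) → ℤˣ), (∀ u i, y u i = ((e i : ℤ) : F) * u i) ∧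
      ∀ i, v i ≠ 0 → e i = l := by
  classical
  obtain ⟨a, haa⟩ : ∃ a : Fin (m₁ * 2 + δ₁) ⊕ Fin (m₂ * 2 + δ₂) → F, a = Sum.elim (fun _ => c) (fun _ => c') := ⟨_, rfl⟩
  rw [← haa] at ha
  have hal : ∀ i, a (inl i) = c := fun i => by rw [haa]; rfl
  have har : ∀ i, a (inr i) = c' := fun i => by rw [haa]; rfl
  have ha0 : ∀ i, a i ≠ 0 := by
    rintro (i | i)
    · rw [hal]; exact hc
    · rw [har]; exact hc'
  obtain ⟨P, hP⟩ : ∃ P, P = Pm F (rotn m₁ δ₁ m₂ δ₂) := ⟨_, rfl⟩
  rw [← hP] at hyz
  obtain ⟨y₂, hy₂⟩ : ∃ y₂, y₂ = P * z * P⁻¹ := ⟨_, rfl⟩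
  have hrel0 : y * refl Q₀ v hv = refl Q₀ v hv * y₂ := by
    rw [hy₂, ← mul_assoc, ← mul_assoc, ← hyz]
    group
  have hby₂ : Blk (bet' m₁ δ₁ m₂ δ₂) y₂.toLinearMap τ' := by
    intro k i hne
    have h3 : y₂ (Pi.single k 1) i = z (Pi.single ((rotn m₁ δ₁ m₂ δ₂).symm k) 1) ((rotn m₁ δ₁ m₂ δ₂).symm i) := by
      rw [hy₂, hP]
      change Pm F _ (z ((Pm F _)⁻¹ _)) i = _
      rw [Pm_apply, Pm_inv_single]
    refine hbz _ _ ?_
    change z _ _ ≠ 0
    rw [← h3]
    exact hne
  obtain ⟨φ, hφ⟩ : ∃ φ : (Fin (m₁ * 2 + δ₁) ⊕ Fin (m₂ * 2 + δ₂) → F) →ₗ[F] F,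
    φ = (-(Q₀ v)⁻¹) • polarBilin Q₀ v := ⟨_, rfl⟩
  have hφa : ∀ u, φ u = -((Q₀ v)⁻¹ * polar Q₀ v u) := by
    intro u
    rw [hφ, LinearMap.smul_apply, smul_eq_mul, neg_mul]
    rfl
  have hrefl : ∀ u, refl Q₀ v hv u = u + φ u • v := by
    intro u
    rw [refl_apply, hφa, neg_smul, sub_eq_add_neg]
  have hφs : ∀ k, φ (Pi.single k 1) = -((Q₀ v)⁻¹ * (2 * (a k * v k))) := by
    intro k
    rw [hφa, polar_single ha]
  -- five consecutive lines
  have hch : ∀ i : Fin 5, (i : ℕ) + (1 - δ₁) < m₁ * 2 + δ₁ := by
    intro i
    have := i.2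
    (clear * - h1 hN1; omega)
  obtain ⟨l, hyv, hyy, hφy⟩ := frame_rigid (c := fun i : Fin 5 => inl ⟨(i : ℕ) + (1 - δ₁), hch i⟩) (two_bet h1 h1')
    (two_bet' h1 h1') hτ hτ' hby hby₂ (φ := φ) (v := v)
    (by
      intro k hk
      rw [hφs]
      exact neg_ne_zero.2 (mul_ne_zero (inv_ne_zero hv) (mul_ne_zero h2 (mul_ne_zero (ha0 k) hk))))
    (by
      intro u
      have h3 := LinearEquiv.congr_fun hrel0 u
      change y (refl Q₀ v hv u) = refl Q₀ v hv (y₂ u) at h3
      rw [hrefl, hrefl] at h3
      exact h3)
    hbig
    (by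
      intro i j hij
      have h3 := Sum.inl.inj hij
      rw [Fin.mk.injEq] at h3
      exact Fin.ext (by omega))
    (by
      intro i
      by_cases h3 : (i : ℕ) + (1 - δ₁) = 0
      · have h4 : δ₁ ≠ 0 := by omega
        intro h5
        exact h4 ((hv1' ⟨(i : ℕ) + (1 - δ₁), hch i⟩ h3).1 h5)
      · exact hv1 ⟨(i : ℕ) + (1 - δ₁), hch i⟩ h3)
    (by
      intro i
      have h3 : (i.castSucc : Fin 5).val + (1 - δ₁) + 1 < m₁ * 2 + δ₁ := by
        have h4 := hch i.succ
        rw [Fin.val_succ] at h4
        rw [Fin.val_castSucc]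
        omega
      have h4 := chain1 (m₂ := m₂) h1 h1' ((i.castSucc : Fin 5).val + (1 - δ₁)) h3
      have h5 : (⟨(i.succ : Fin 5).val + (1 - δ₁), hch i.succ⟩ : Fin (m₁ * 2 + δ₁)) =
          ⟨(i.castSucc : Fin 5).val + (1 - δ₁) + 1, h3⟩ := by
        ext
        simp only [Fin.val_succ, Fin.val_castSucc]
        omega
      rw [h5]
      exact h4)
  have hyv' : y v = l • v := hyv
  have hll : l * l = 1 := by
    have h3 := mem_O.1 hy v
    rw [hyv', QuadraticMap.map_smul, smul_eq_mul] at h3
    have h4 : (l * l) * Q₀ v = 1 * Q₀ v := by rw [h3, one_mul]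
    exact mul_right_cancel₀ hv h4
  have hl0 : l ≠ 0 := by
    rintro rfl
    rw [mul_zero] at hll
    exact zero_ne_one hll
  have hby' : Blk (bet' m₁ δ₁ m₂ δ₂) y.toLinearMap τ' := by
    rw [hyy]
    exact hby₂
  obtain ⟨σ, cf, hcf0, hcf, hσ, hσ'⟩ := mono (sep h1 h1' (by (clear * - hN1; omega)) hN2) y.injective hτ hτ' hby hby'
  have hlab := mono_label hcf hyv
  have hnorm : ∀ k, a (σ k) * (cf k * cf k) = a k := by
    intro k
    have h3 := mem_O.1 hy (Pi.single k 1)
    have h4 : y (Pi.single k 1) = cf k • Pi.single (σ k) 1 := hcf k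
    rw [h4, norm_single ha] at h3
    have h5 := norm_single ha 1 k
    rw [one_smul] at h5
    rw [h5, mul_one, mul_one] at h3
    exact h3
  have hvz : ∀ k, v k = 0 → v (σ k) = 0 := by
    intro k hk
    have h3 := hlab k
    rw [hk, mul_zero] at h3
    exact (mul_eq_zero.1 h3.symm).resolve_left hl0
  have hcl : ∀ i j, σ (inl i) = inr j → False := by
    intro i j hij
    have h3 := hnorm (inl i)
    rw [hij, har, hal] at h3
    exact hcc (by have := j.2; omega) ⟨c' * cf (inl i), by rw [← h3]; ring⟩
  have hcl' : ∀ i j, σ (inr j) = inl i → False := by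
    intro i j hij
    have h3 := hnorm (inr j)
    rw [hij, har, hal] at h3
    exact hcc (by have := j.2; omega) ⟨c * cf (inr j), by rw [← h3]; ring⟩
  have hfix1 : ∀ i, σ (inl i) = inl i := by
    refine chain_fixed (two_bet h1 h1') (two_bet' h1 h1') hσ hσ' (fun i => inl i) (fun i hi => chain1 h1 h1' i hi) ?_
    intro h0
    rcases Nat.le_one_iff_eq_zero_or_eq_one.1 h1 with h3 | h3
    · subst h3
      have h4 := hvz (inl ⟨0, h0⟩) ((hv1' _ rfl).2 rfl)
      obtain ⟨x, hx⟩ : ∃ x, σ (inl ⟨0, h0⟩) = x := ⟨_, rfl⟩
      rw [hx] at h4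
      rw [hx]
      rcases x with x | x
      · by_cases h5 : (x : ℕ) = 0
        · congr 1
          exact Fin.ext h5
        · exact (hv1 x h5 h4).elim
      · exact (hcl _ _ hx).elim
    · subst h3
      exact root1 h1' hτj hσ'
  have hfix2 : ∀ i, σ (inr i) = inr i := by
    refine chain_fixed (two_bet h1 h1') (two_bet' h1 h1') hσ hσ' (fun i => inr i) (fun i hi => chain2 h1 h1' i hi) ?_
    intro h0
    obtain ⟨x, hx⟩ : ∃ x, σ (inr ⟨0, h0⟩) = x := ⟨_, rfl⟩
    rw [hx]
    rcases x with x | x
    · exact (hcl' _ _ hx).elim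
    · by_cases h5 : (x : ℕ) = 0
      · congr 1
        exact Fin.ext h5
      · have h6 : m₂ * 2 + δ₂ ≠ 1 := by
          have := x.2
          omega
        have h4 := hvz (inr ⟨0, h0⟩) (hv2' h6 _ rfl)
        rw [hx] at h4
        exact (hv2 x h5 h4).elim
  have hfix : ∀ i, σ i = i := by
    rintro (i | i)
    · exact hfix1 i
    · exact hfix2 i
  have hcf1 : ∀ i, cf i = 1 ∨ cf i = -1 := by
    intro i
    have h3 := hnorm i
    rw [hfix] at h3
    have h4 : a i * (cf i * cf i) = a i * 1 := by rw [h3, mul_one]
    exact mul_self_eq_one_iff.1 (mul_left_cancel₀ (ha0 i) h4)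
  have hcfv : ∀ i, v i ≠ 0 → cf i = l := by
    intro i hi
    have h3 := hlab i
    rw [hfix] at h3
    exact mul_right_cancel₀ hi h3
  have hneg : (-1 : F) ≠ 1 := by
    intro h
    apply h2
    linear_combination -h
  refine ⟨if l = 1 then 1 else -1, fun i => if cf i = 1 then 1 else -1, fun u i => ?_, fun i hi => ?_⟩
  · have h3 : y u = fun i => cf i * u i := by
      have h4 : y.toLinearMap = LinearMap.pi fun i => cf i • LinearMap.proj i := by
        apply (Pi.basisFun F _).ext
        intro k
        rw [Pi.basisFun_apply, hcf, hfix]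
        funext i
        rw [Pi.smul_apply, LinearMap.pi_apply, LinearMap.smul_apply, LinearMap.proj_apply]
        by_cases hik : i = k
        · subst hik
          rfl
        · rw [Pi.single_eq_of_ne hik, smul_zero, smul_zero]
      funext i
      have h5 := congrFun (LinearMap.congr_fun h4 u) i
      rw [LinearMap.pi_apply, LinearMap.smul_apply, LinearMap.proj_apply, smul_eq_mul] at h5
      exact h5
    rw [h3]
    change cf i * u i = (((if cf i = 1 then 1 else -1 : ℤˣ) : ℤ) : F) * u i
    congr 1
    rcases hcf1 i with h4 | h4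
    · rw [if_pos h4, h4]
      simp
    · rw [if_neg (by rw [h4]; exact hneg), h4]
      simp
  · simp only [hcfv i hi]

end Cfsg.Agent.H955.Rig
end

-- part: H955/FrameFin
section
/-!
# `MeetIn 2 (POmega F Q)` from a frame in two components (helper955, S5760)

`meet_of_frame`.
-/

set_option autoImplicit false
set_option linter.unusedSectionVars false

namespace Cfsg.Agent.H955.Rig

open QuadraticMap Cfsg Subgroup
open Cfsg.Agent.LieClassical.OrthCore Cfsg.Agent.LieClassical.OrthTrans
open Cfsg.Agent.FooteOrth Cfsg.Agent.FooteOrth.Wr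
open Cfsg.Agent.H68.MeetB
open Cfsg.Agent.H763.Psa.Orth (kap kap_iff kap_refl)
open Sum (inl inr)

variable {F : Type*} [Field F]

/-- diagonal sign changes -/
def dgk (F : Type*) [Field F] (κ : Type) : (κ → ℤˣ) →* ((κ → F) ≃ₗ[F] (κ → F)) where
  toFun e := LinearEquiv.piCongrRight fun j => LinearEquiv.smulOfUnit (Units.map (Int.castRingHom F).toMonoidHom (e j))
  map_one' := by
    ext1 u
    funext j
    change ((Units.map (Int.castRingHom F).toMonoidHom 1 : Fˣ) : F) * u j = u j
    rw [map_one, Units.val_one, one_mul]
  map_mul' e e' := by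
    ext1 u
    funext j
    change ((Units.map (Int.castRingHom F).toMonoidHom (e j * e' j) : Fˣ) : F) * u j =
      ((Units.map (Int.castRingHom F).toMonoidHom (e j) : Fˣ) : F) *
        (((Units.map (Int.castRingHom F).toMonoidHom (e' j) : Fˣ) : F) * u j)
    rw [map_mul, Units.val_mul, mul_assoc]

theorem dgk_apply {κ : Type} (e : κ → ℤˣ) (u : κ → F) (j : κ) : dgk F κ e u j = ((e j : ℤ) : F) * u j := rfl

section kap

variable {ι : Type} [Fintype ι] [DecidableEq ι] {Q : QuadraticForm F (ι → F)} {κ : Type} [Fintype κ] [DecidableEq κ]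
  {Q₀ : QuadraticForm F (κ → F)} {a : κ → F}

theorem dgk_mem_O (ha : ∀ u, Q₀ u = ∑ i, a i * (u i * u i)) (e : κ → ℤˣ) : dgk F κ e ∈ O Q₀ := by
  intro u
  rw [ha, ha]
  refine Finset.sum_congr rfl fun i _ => ?_
  rw [dgk_apply]
  rcases Int.units_eq_one_or (e i) with h | h
  · rw [h]
    simp
  · rw [h]
    simp

theorem dgk_single (ha : ∀ u, Q₀ u = ∑ i, a i * (u i * u i)) (i : κ) (hi : Q₀ (Pi.single i 1) ≠ 0) :
    dgk F κ (Pi.mulSingle i (-1)) = refl Q₀ (Pi.single i 1) hi := by
  have h0 : Q₀ (Pi.single i 1) = a i := by
    have := norm_single ha 1 i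
    rwa [one_smul, mul_one, mul_one] at this
  have hai : a i ≠ 0 := by rwa [h0] at hi
  ext1 u
  rw [refl_apply, h0, polar_comm, polar_single ha]
  funext j
  rw [dgk_apply, Pi.sub_apply, Pi.smul_apply, smul_eq_mul]
  by_cases h : j = i
  · subst h
    rw [Pi.mulSingle_eq_same, Pi.single_eq_same]
    field_simp
    push_cast
    ring
  · rw [Pi.mulSingle_eq_of_ne h, Pi.single_eq_of_ne h]
    simp

variable [Finite F]

theorem kap_dgk (h2 : (2 : F) ≠ 0) (ha : ∀ u, Q₀ u = ∑ i, a i * (u i * u i)) (ha0 : ∀ i, a i ≠ 0)
    {L₀ : (κ → F) ≃ₗ[F] (ι → F)} (hL₀ : ∀ u, Q (L₀ u) = Q₀ u) [DecidablePred fun i => IsSquare (a i)] (e : κ → ℤˣ)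
    (he : conjL L₀ (dgk F κ e) ∈ O Q) :
    kap Q ⟨conjL L₀ (dgk F κ e), he⟩ =
      (∏ i, Units.map (Int.castRingHom F).toMonoidHom (e i), ∏ i, if IsSquare (a i) then e i else 1) := by
  classical
  let f : (κ → ℤˣ) →* ↥(O Q) := MonoidHom.mk' (fun e => ⟨conjL L₀ (dgk F κ e), conjL_mem_O hL₀ (dgk_mem_O ha e)⟩)
    (fun e e' => Subtype.ext (by
      change conjL L₀ (dgk F κ (e * e')) = conjL L₀ (dgk F κ e) * conjL L₀ (dgk F κ e')
      rw [map_mul, map_mul]))
  let g : (κ → ℤˣ) →* Fˣ × ℤˣ := MonoidHom.mk' (fun e => (∏ i, Units.map (Int.castRingHom F).toMonoidHom (e i),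
      ∏ i, if IsSquare (a i) then e i else 1)) (fun e e' => by
    refine Prod.ext ?_ ?_
    · change ∏ i, Units.map (Int.castRingHom F).toMonoidHom (e i * e' i) =
        (∏ i, Units.map (Int.castRingHom F).toMonoidHom (e i)) * ∏ i, Units.map (Int.castRingHom F).toMonoidHom (e' i)
      rw [← Finset.prod_mul_distrib]
      exact Finset.prod_congr rfl fun i _ => map_mul _ _ _
    · change (∏ i, if IsSquare (a i) then e i * e' i else 1) =
        (∏ i, if IsSquare (a i) then e i else 1) * ∏ i, if IsSquare (a i) then e' i else 1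
      rw [← Finset.prod_mul_distrib]
      refine Finset.prod_congr rfl fun i _ => ?_
      by_cases h : IsSquare (a i)
      · rw [if_pos h, if_pos h, if_pos h]
      · rw [if_neg h, if_neg h, if_neg h, mul_one])
  have hfg : (kap Q).comp f = g := by
    refine MonoidHom.pi_ext fun i x => ?_
    have h0 : Q₀ (Pi.single i 1) = a i := by
      have := norm_single ha 1 i
      rwa [one_smul, mul_one, mul_one] at this
    rcases Int.units_eq_one_or x with h | h
    · rw [h, Pi.mulSingle_one, map_one, map_one]
    · rw [h]
      have hi : Q₀ (Pi.single i 1) ≠ 0 := by rw [h0]; exact ha0 i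
      have hi' : Q (L₀ (Pi.single i 1)) ≠ 0 := by rw [hL₀]; exact hi
      have h3 : f (Pi.mulSingle i (-1)) = ⟨refl Q (L₀ (Pi.single i 1)) hi', refl_mem_O hi'⟩ := by
        apply Subtype.ext
        change conjL L₀ (dgk F κ (Pi.mulSingle i (-1))) = _
        rw [dgk_single ha i hi, conjL_refl hL₀ hi hi']
      rw [MonoidHom.comp_apply, h3, kap_refl h2]
      refine Prod.ext ?_ ?_
      · change (-1 : Fˣ) = ∏ j, Units.map (Int.castRingHom F).toMonoidHom ((Pi.mulSingle i (-1) : κ → ℤˣ) j)
        rw [Finset.prod_eq_single i]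
        · rw [Pi.mulSingle_eq_same]
          ext
          simp only [_root_.Units.val_neg, _root_.Units.val_one, _root_.RingHom.toMonoidHom_eq_coe, _root_.Units.map_neg, _root_.map_one]
        · intro j _ hj
          rw [Pi.mulSingle_eq_of_ne hj, map_one]
        · intro h
          exact (h (Finset.mem_univ _)).elim
      · change (if IsSquare (Q (L₀ (Pi.single i 1))) then (-1 : ℤˣ) else 1) =
          ∏ j, if IsSquare (a j) then (Pi.mulSingle i (-1) : κ → ℤˣ) j else 1
        rw [Finset.prod_eq_single i]
        · rw [Pi.mulSingle_eq_same]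
          have h4 : Q (L₀ (Pi.single i 1)) = a i := by rw [hL₀, h0]
          simp only [h4]
        · intro j _ hj
          rw [Pi.mulSingle_eq_of_ne hj]
          simp only [_root_.ite_self]
        · intro h
          exact (h (Finset.mem_univ _)).elim
  exact DFunLike.congr_fun hfg e

end kap

/-- squares in a finite field -/
theorem isSquare_of_not [Finite F] {x y : F} (hx : ¬ IsSquare x) (hy : ¬ IsSquare y) : IsSquare (x * y) := by
  classical
  have hF : Fintype F := Fintype.ofFinite F
  by_cases h2 : ringChar F = 2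
  · exact FiniteField.isSquare_of_char_two h2 _
  · have h0 : x * y ≠ 0 := mul_ne_zero (fun h => hx (by rw [h]; exact IsSquare.zero)) (fun h => hy (by rw [h]; exact IsSquare.zero))
    rw [← quadraticChar_one_iff_isSquare h0, map_mul, quadraticChar_neg_one_iff_not_isSquare.2 hx,
      quadraticChar_neg_one_iff_not_isSquare.2 hy]
    norm_num

theorem prod_lab {n : ℕ} (hn : 0 < n) (f : Fin n → ℤˣ) {l : ℤˣ} (h : ∀ i : Fin n, (i : ℕ) ≠ 0 → f i = l) :
    ∏ i, f i = f ⟨0, hn⟩ * l ^ (n - 1) := by
  rw [← Finset.mul_prod_erase Finset.univ f (Finset.mem_univ ⟨0, hn⟩)]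
  congr 1
  rw [Finset.prod_congr rfl (g := fun _ => l)]
  · rw [Finset.prod_const, Finset.card_erase_of_mem (Finset.mem_univ _), Finset.card_univ, Fintype.card_fin]
  · intro i hi
    refine h i fun h0 => ?_
    exact (Finset.mem_erase.1 hi).1 (Fin.ext h0)

variable {ι : Type} [Fintype ι] [DecidableEq ι] {Q : QuadraticForm F (ι → F)}

/-- **The theorem on frames.** -/
theorem meet_of_frame [Finite F] (hG : Good Q) (h2 : (2 : F) ≠ 0) {m₁ δ₁ m₂ δ₂ : ℕ} (h1 : δ₁ ≤ 1) (h1' : δ₂ ≤ 1)
    (h10 : δ₁ = 0 → δ₂ = 0) (hN1 : 6 - δ₁ ≤ m₁ * 2 + δ₁) (hN2 : m₂ * 2 + δ₂ ≠ 2) {c c' : F} (hc : c ≠ 0) (hc' : c' ≠ 0)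
    (hcc : m₂ * 2 + δ₂ ≠ 0 → ¬ IsSquare (c * c'))
    (hH : Has Q (m₁ + m₂) (δ₁ + δ₂) fun j => if (j : ℕ) < δ₁ then c else c')
    (hcard : (Nat.card (O Q)).factorization 2 ≤
      (m₁ + m₂) * (Nat.card F ^ 2 - 1).factorization 2 + (δ₁ + δ₂) + ((m₁ + m₂).factorial).factorization 2)
    {v : Fin (m₁ * 2 + δ₁) ⊕ Fin (m₂ * 2 + δ₂) → F}
    (hv : c * ∑ i, v (inl i) * v (inl i) + c' * ∑ j, v (inr j) * v (inr j) ≠ 0)
    (hv1 : ∀ i : Fin (m₁ * 2 + δ₁), (i : ℕ) ≠ 0 → v (inl i) ≠ 0)
    (hv1' : ∀ i : Fin (m₁ * 2 + δ₁), (i : ℕ) = 0 → (v (inl i) = 0 ↔ δ₁ = 0))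
    (hv2 : ∀ j : Fin (m₂ * 2 + δ₂), (j : ℕ) ≠ 0 → v (inr j) ≠ 0)
    (hv2' : m₂ * 2 + δ₂ ≠ 1 → ∀ j : Fin (m₂ * 2 + δ₂), (j : ℕ) = 0 → v (inr j) = 0)
    (hbig : ∀ s : Finset (Fin (m₁ * 2 + δ₁) ⊕ Fin (m₂ * 2 + δ₂)), s.card ≤ 6 → ∃ i, v i ≠ 0 ∧ i ∉ s) :
    MeetIn 2 (Cfsg.POmega F ⇑Q) := by
  classical
  obtain ⟨L', hL'⟩ := hH
  obtain ⟨a, haa⟩ : ∃ a : Fin (m₁ * 2 + δ₁) ⊕ Fin (m₂ * 2 + δ₂) → F, a = Sum.elim (fun _ => c) (fun _ => c') := ⟨_, rfl⟩
  have hal : ∀ i, a (inl i) = c := fun i => by rw [haa]; rfl
  have har : ∀ i, a (inr i) = c' := fun i => by rw [haa]; rfl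
  have ha0 : ∀ i, a i ≠ 0 := by
    rintro (i | i)
    · rw [hal]; exact hc
    · rw [har]; exact hc'
  obtain ⟨Lk, hLk, hB⟩ := exists_Lk h2 (e2 m₁ δ₁ m₂ δ₂) ha0 (by
    intro b
    induction b using Fin.addCases with
    | left b => rw [e2_inl_left, e2_inl_left, hal, hal]
    | right b => rw [e2_inl_right, e2_inl_right, har, har])
  have hd : (fun j => a (e2 m₁ δ₁ m₂ δ₂ (inr j))) = fun j : Fin (δ₁ + δ₂) => if (j : ℕ) < δ₁ then c else c' := by
    funext j
    induction j using Fin.addCases with
    | left j => rw [e2_inr_left, hal, Fin.val_castAdd, if_pos j.2]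
    | right j => rw [e2_inr_right, har, Fin.val_natAdd, if_neg (by omega)]
  rw [hd] at hLk
  obtain ⟨L₀, hL₀⟩ : ∃ L₀ : (Fin (m₁ * 2 + δ₁) ⊕ Fin (m₂ * 2 + δ₂) → F) ≃ₗ[F] (ι → F), L₀ = Lk.symm.trans L' := ⟨_, rfl⟩
  have hLL : ∀ x, L₀ (Lk x) = L' x := by
    intro x
    rw [hL₀, LinearEquiv.trans_apply, LinearEquiv.symm_apply_apply]
  obtain ⟨Q₀, hQ₀⟩ : ∃ Q₀ : QuadraticForm F (Fin (m₁ * 2 + δ₁) ⊕ Fin (m₂ * 2 + δ₂) → F),
    Q₀ = Q.comp L₀.toLinearMap := ⟨_, rfl⟩
  have hQL₀ : ∀ u, Q (L₀ u) = Q₀ u := by
    intro u
    rw [hQ₀]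
    rfl
  have ha : ∀ u, Q₀ u = ∑ i, a i * (u i * u i) := by
    intro u
    obtain ⟨x, rfl⟩ := Lk.surjective u
    rw [← hQL₀, hLL, hL', hLk]
  have hcj : ∀ g, conjL L' g = conjL L₀ (conjL Lk g) := by
    intro g
    ext1 w
    obtain ⟨x, rfl⟩ := L'.surjective w
    rw [conjL_apply, ← hLL x, conjL_apply, conjL_apply, hLL]
  have hvQ : Q₀ v ≠ 0 := by
    rw [ha, Fintype.sum_sum_type]
    simp only [hal, har]
    rw [← Finset.mul_sum, ← Finset.mul_sum]
    exact hv
  have hρ : Pm F (rotn m₁ δ₁ m₂ δ₂) ∈ O Q₀ := by
    intro u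
    rw [ha, ha, ← Equiv.sum_comp (rotn m₁ δ₁ m₂ δ₂)]
    refine Finset.sum_congr rfl fun i _ => ?_
    rw [Pm_apply, Equiv.symm_apply_apply]
    congr 1
    rcases i with i | i
    · exact (hal _).trans (hal _).symm
    · exact (har _).trans (har _).symm
  refine meet_of_model hG h2 (L := L') hL' hcard
    (x := conjL L₀ (refl Q₀ v hvQ * Pm F (rotn m₁ δ₁ m₂ δ₂))) (conjL_mem_O hQL₀ ((O Q₀).mul_mem (refl_mem_O hvQ) hρ)) ?_
  rintro y hyE ⟨x1, s1, π1, hy⟩ ⟨x2, s2, π2, hz⟩
  rw [hcj] at hy hz
  have hyO : conjL Lk (psi (x1, sgn s1) * rho π1) ∈ O Q₀ := by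
    have h3 : y ∈ O Q := E_le_O hyE
    intro u
    rw [← hQL₀, ← hQL₀, ← conjL_apply L₀, ← hy]
    exact mem_O.1 h3 _
  have hyz : conjL Lk (psi (x1, sgn s1) * rho π1) * (_root_.Cfsg.Agent.LieClassical.OrthCore.refl Q₀ v hvQ * Pm F (rotn m₁ δ₁ m₂ δ₂)) =
      (_root_.Cfsg.Agent.LieClassical.OrthCore.refl Q₀ v hvQ * Pm F (rotn m₁ δ₁ m₂ δ₂)) * conjL Lk (psi (x2, sgn s2) * rho π2) := by
    apply (conjL L₀).injective
    rw [map_mul, map_mul (conjL L₀) (refl Q₀ v hvQ * Pm F (rotn m₁ δ₁ m₂ δ₂)), ← hy, ← hz]
    group
  obtain ⟨l, e, hye, hel⟩ := rigid_main h2 h1 h1' hN1 hN2 hc hc' hcc (by rw [← haa]; exact ha) hvQ hv1 hv1' hv2 hv2' hbig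
    hyO (Function.Injective.sumMap π1.injective Function.injective_id)
    (Function.Injective.sumMap π2.injective Function.injective_id) (fun _ => rfl) (hB x1 s1 π1) (hB x2 s2 π2) hyz
  have hyd : conjL Lk (psi (x1, sgn s1) * rho π1) = dgk F _ e := by
    ext1 u
    funext i
    rw [hye, dgk_apply]
  rw [hyd] at hy
  -- determinant and spinor sign
  have hyO' : conjL L₀ (dgk F _ e) ∈ O Q := by
    rw [← hy]
    exact E_le_O hyE
  have hk := (kap_iff hG h2 hyO').1 (by rw [← hy]; exact hyE)
  rw [kap_dgk h2 ha ha0 hQL₀] at hk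
  have hk1 : ∏ i, Units.map (Int.castRingHom F).toMonoidHom (e i) = 1 := congrArg Prod.fst hk
  have hk2 : (∏ i, if IsSquare (a i) then e i else 1) = 1 := congrArg Prod.snd hk
  rw [← map_prod, Fintype.prod_sum_type] at hk1
  rw [Fintype.prod_sum_type] at hk2
  simp only [hal, har] at hk2
  obtain ⟨E₁, hE₁⟩ : ∃ E₁, E₁ = ∏ i, e (inl i) := ⟨_, rfl⟩
  obtain ⟨E₂, hE₂⟩ : ∃ E₂, E₂ = ∏ i, e (inr i) := ⟨_, rfl⟩
  rw [← hE₁, ← hE₂] at hk1
  have hdet : E₁ * E₂ = 1 := by
    rcases Int.units_eq_one_or (E₁ * E₂) with h | h
    · exact h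
    · exfalso
      rw [h] at hk1
      have h3 := congrArg Units.val hk1
      simp only [_root_.RingHom.toMonoidHom_eq_coe, _root_.Units.map_neg, _root_.map_one, _root_.Units.val_neg, _root_.Units.val_one] at h3
      apply h2
      linear_combination -h3
  have hE : E₁ = 1 ∧ E₂ = 1 := by
    have hp1 : (∏ i : Fin (m₁ * 2 + δ₁), if IsSquare c then e (inl i) else 1) = if IsSquare c then E₁ else 1 := by
      by_cases h : IsSquare c
      · simp only [if_pos h, hE₁]
      · simp only [if_neg h, Finset.prod_const_one]
    have hp2 : (∏ i : Fin (m₂ * 2 + δ₂), if IsSquare c' then e (inr i) else 1) = if IsSquare c' then E₂ else 1 := by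
      by_cases h : IsSquare c'
      · simp only [if_pos h, hE₂]
      · simp only [if_neg h, Finset.prod_const_one]
    rw [hp1, hp2] at hk2
    by_cases h0 : m₂ * 2 + δ₂ = 0
    · have h3 : E₂ = 1 := by
        rw [hE₂]
        refine Finset.prod_eq_one fun i _ => ?_
        have := i.2
        omega
      exact ⟨by rwa [h3, mul_one] at hdet, h3⟩
    · by_cases hs : IsSquare c
      · have hs' : ¬ IsSquare c' := fun h => hcc h0 (hs.mul h)
        rw [if_pos hs, if_neg hs', mul_one] at hk2
        exact ⟨hk2, by rwa [hk2, one_mul] at hdet⟩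
      · have hs' : IsSquare c' := by
          by_contra h
          exact hcc h0 (isSquare_of_not hs h)
        rw [if_neg hs, if_pos hs', one_mul] at hk2
        exact ⟨by rwa [hk2, mul_one] at hdet, hk2⟩
  obtain ⟨hE1, hE2⟩ := hE
  have hN1' : 0 < m₁ * 2 + δ₁ := by omega
  have he1 : ∀ i : Fin (m₁ * 2 + δ₁), (i : ℕ) ≠ 0 → e (inl i) = l := fun i hi => hel _ (hv1 i hi)
  have he2 : ∀ i : Fin (m₂ * 2 + δ₂), (i : ℕ) ≠ 0 → e (inr i) = l := fun i hi => hel _ (hv2 i hi)
  rw [prod_lab hN1' (fun i => e (inl i)) he1] at hE₁
  have hall : ∀ i, e i = l := by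
    rcases Int.units_eq_one_or l with hl | hl
    · rintro (i | i)
      · by_cases hi : (i : ℕ) = 0
        · have h3 : i = ⟨0, hN1'⟩ := Fin.ext hi
          rw [hl, one_pow, mul_one, hE1] at hE₁
          rw [h3, ← hE₁, hl]
        · exact he1 i hi
      · by_cases hi : (i : ℕ) = 0
        · have h3 : i = ⟨0, by have := i.2; omega⟩ := Fin.ext hi
          rw [prod_lab (by have := i.2; omega) (fun i => e (inr i)) he2, hl, one_pow, mul_one, hE2] at hE₂
          rw [h3, ← hE₂, hl]
        · exact he2 i hi
    · rcases Nat.le_one_iff_eq_zero_or_eq_one.1 h1 with h3 | h3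
      · have h4 := h10 h3
        subst h3 h4
        rintro (i | i)
        · by_cases hi : (i : ℕ) = 0
          · have h3 : i = ⟨0, hN1'⟩ := Fin.ext hi
            have ho : Odd (m₁ * 2 + 0 - 1) := ⟨m₁ - 1, by omega⟩
            rw [hl, ho.neg_one_pow, hE1] at hE₁
            rw [h3, hl]
            have h5 : e (inl ⟨0, hN1'⟩) = -1 := by
              rw [mul_neg, mul_one] at hE₁
              rw [← neg_neg (e (inl ⟨0, hN1'⟩)), ← hE₁]
            exact h5
          · exact he1 i hi
        · by_cases hi : (i : ℕ) = 0
          · have h0 : 0 < m₂ * 2 + 0 := by have := i.2; omega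
            have h3 : i = ⟨0, h0⟩ := Fin.ext hi
            have ho : Odd (m₂ * 2 + 0 - 1) := ⟨m₂ - 1, by omega⟩
            rw [prod_lab h0 (fun i => e (inr i)) he2, hl, ho.neg_one_pow, hE2] at hE₂
            rw [h3, hl]
            have h5 : e (inr ⟨0, h0⟩) = -1 := by
              rw [mul_neg, mul_one] at hE₂
              rw [← neg_neg (e (inr ⟨0, h0⟩)), ← hE₂]
            exact h5
          · exact he2 i hi
      · exfalso
        subst h3
        have h4 : e (inl ⟨0, hN1'⟩) = l := by
          apply hel
          intro h5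
          exact one_ne_zero ((hv1' ⟨0, hN1'⟩ rfl).1 h5)
        rw [h4, hE1, hl] at hE₁
        have he : Even (m₁ * 2 + 1 - 1) := ⟨m₁, by omega⟩
        rw [he.neg_one_pow, mul_one] at hE₁
        exact absurd hE₁ (by decide)
  rcases Int.units_eq_one_or l with hl | hl
  · left
    intro w
    obtain ⟨u, rfl⟩ := L₀.surjective w
    rw [hy, conjL_apply]
    congr 1
    funext i
    rw [dgk_apply, hall, hl]
    simp
  · right
    intro w
    obtain ⟨u, rfl⟩ := L₀.surjective w
    rw [hy, conjL_apply, ← map_neg]
    congr 1
    funext i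
    rw [dgk_apply, hall, hl]
    simp

end Cfsg.Agent.H955.Rig
end

-- part: H955/FrameRows
section
/-!
# `MeetIn 2` for the orthogonal groups of dimension at least seven in odd characteristic (helper955, S5760)

`meet2_odd`, `meet2_plus`, `meet2_minus`; `meet2_isPOmegaOdd`, `meet2_isPOmegaPlus`, `meet2_isPOmegaMinus`.
-/

set_option autoImplicit false
set_option linter.unusedSectionVars false

namespace Cfsg.Agent.H955.Rig

open QuadraticMap Cfsg Subgroup
open Cfsg.Agent.LieClassical.OrthCore Cfsg.Agent.LieClassical.OrthTrans Cfsg.Agent.LieClassical.OrthForms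
open Cfsg.Agent.FooteOrth Cfsg.Agent.FooteOrth.Wr
open Cfsg.Agent.H68.MeetB
open Cfsg.Agent.ClassicalGeometry.OrthSemiForms (good_plus good_minus good_odd card_O)
open Sum (inl inr)

variable {F : Type*} [Field F]

/-- the vectors used -/
def ww (F : Type*) [Field F] (n : ℕ) (x t : F) (i : Fin n) : F := if (i : ℕ) = 0 then x else if (i : ℕ) = 1 then t else 1

theorem sum_ww {n : ℕ} (hn : 2 ≤ n) (x t : F) :
    ∑ i, ww F n x t i * ww F n x t i = x * x + t * t + ((n : F) - 2) := by
  obtain ⟨r, rfl⟩ := Nat.exists_eq_add_of_le' hn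
  rw [Fin.sum_univ_succ, Fin.sum_univ_succ]
  have h1 : ∀ i : Fin r, ww F (r + 2) x t i.succ.succ = 1 := fun i => by
    simp [ww, Fin.val_succ]
  have h2 : ww F (r + 2) x t 0 = x := by simp [ww]
  have h3 : ww F (r + 2) x t (Fin.succ 0) = t := by simp [ww]
  rw [h2, h3]
  simp only [h1]
  rw [Finset.sum_const, Finset.card_univ, Fintype.card_fin]
  push_cast
  rw [nsmul_eq_mul]
  ring

theorem big_of {κ : Type} [Fintype κ] [DecidableEq κ] {v : κ → F} (H : Finset κ) (hH : ∀ i, i ∉ H → v i ≠ 0)
    (hc : H.card + 6 < Fintype.card κ) (s : Finset κ) (hs : s.card ≤ 6) : ∃ i, v i ≠ 0 ∧ i ∉ s := by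
  have h1 : (s ∪ H).card < Fintype.card κ := by
    have := Finset.card_union_le s H
    omega
  have h2 : s ∪ H ≠ Finset.univ := by
    intro h
    rw [h, Finset.card_univ] at h1
    exact lt_irrefl _ h1
  obtain ⟨i, hi⟩ : ∃ i, i ∉ s ∪ H := by
    by_contra hcon
    push Not at hcon
    exact h2 (Finset.eq_univ_iff_forall.2 hcon)
  rw [Finset.mem_union, not_or] at hi
  exact ⟨i, hH i hi.2, hi.1⟩

variable {ι : Type} [Fintype ι] [DecidableEq ι] {Q : QuadraticForm F (ι → F)}

/-- the theorem with these vectors -/
theorem meet_ww [Finite F] (hG : Good Q) (h2 : (2 : F) ≠ 0) {m₁ δ₁ m₂ δ₂ : ℕ} (h1 : δ₁ ≤ 1) (h1' : δ₂ ≤ 1)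
    (h10 : δ₁ = 0 → δ₂ = 0) (hN1 : 6 - δ₁ ≤ m₁ * 2 + δ₁) (hN2 : m₂ * 2 + δ₂ ≠ 2) {c c' : F} (hc : c ≠ 0) (hc' : c' ≠ 0)
    (hcc : m₂ * 2 + δ₂ ≠ 0 → ¬ IsSquare (c * c'))
    (hH : Has Q (m₁ + m₂) (δ₁ + δ₂) fun j => if (j : ℕ) < δ₁ then c else c')
    (hcard : (Nat.card (O Q)).factorization 2 ≤
      (m₁ + m₂) * (Nat.card F ^ 2 - 1).factorization 2 + (δ₁ + δ₂) + ((m₁ + m₂).factorial).factorization 2)
    {x t x' : F} (ht : t ≠ 0) (hx : x = 0 ↔ δ₁ = 0) (hx' : m₂ * 2 + δ₂ ≠ 1 → x' = 0)
    (hbig : 9 - δ₁ - (if m₂ * 2 + δ₂ = 0 then 1 else 0) ≤ (m₁ * 2 + δ₁) + (m₂ * 2 + δ₂))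
    (hS : c * (x * x + t * t + (((m₁ * 2 + δ₁ : ℕ) : F) - 2)) +
      c' * ∑ j, ww F (m₂ * 2 + δ₂) x' 1 j * ww F (m₂ * 2 + δ₂) x' 1 j ≠ 0) :
    MeetIn 2 (Cfsg.POmega F ⇑Q) := by
  have hw : ∀ {n : ℕ} {x t : F} (i : Fin n), t ≠ 0 → (i : ℕ) ≠ 0 → ww F n x t i ≠ 0 := by
    intro n x t i ht hi
    rw [ww, if_neg hi]
    split_ifs
    · exact ht
    · exact one_ne_zero
  have hw0 : ∀ {n : ℕ} {x t : F} (i : Fin n), (i : ℕ) = 0 → ww F n x t i = x := by
    intro n x t i hi
    rw [ww, if_pos hi]
  refine meet_of_frame hG h2 h1 h1' h10 hN1 hN2 hc hc' hcc hH hcard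
    (v := Sum.elim (ww F (m₁ * 2 + δ₁) x t) (ww F (m₂ * 2 + δ₂) x' 1)) ?_ (fun i hi => hw i ht hi) ?_
    (fun i hi => hw i one_ne_zero hi) ?_ ?_
  · simp only [Sum.elim_inl, Sum.elim_inr]
    rw [sum_ww (by (clear * - hN1; omega))]
    exact hS
  · intro i hi
    rw [Sum.elim_inl, hw0 i hi]
    exact hx
  · intro h i hi
    rw [Sum.elim_inr, hw0 i hi]
    exact hx' h
  · refine big_of ((Finset.univ.filter fun i : Fin (m₁ * 2 + δ₁) ⊕ Fin (m₂ * 2 + δ₂) =>
      (∃ j, i = inl j ∧ (j : ℕ) = 0 ∧ δ₁ = 0) ∨ ∃ j, i = inr j ∧ (j : ℕ) = 0)) ?_ ?_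
    · rintro (i | i) hi
      · rw [Finset.mem_filter, not_and, not_or] at hi
        have h3 := (hi (Finset.mem_univ _)).1
        rw [Sum.elim_inl]
        by_cases h4 : (i : ℕ) = 0
        · rw [hw0 i h4]
          intro h5
          exact h3 ⟨i, rfl, h4, hx.1 h5⟩
        · exact hw i ht h4
      · rw [Finset.mem_filter, not_and, not_or] at hi
        have h3 := (hi (Finset.mem_univ _)).2
        rw [Sum.elim_inr]
        by_cases h4 : (i : ℕ) = 0
        · exact (h3 ⟨i, rfl, h4⟩).elim
        · exact hw i one_ne_zero h4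
    · rw [Fintype.card_sum, Fintype.card_fin, Fintype.card_fin]
      have h3 : (Finset.univ.filter fun i : Fin (m₁ * 2 + δ₁) ⊕ Fin (m₂ * 2 + δ₂) =>
          (∃ j, i = inl j ∧ (j : ℕ) = 0 ∧ δ₁ = 0) ∨ ∃ j, i = inr j ∧ (j : ℕ) = 0).card ≤
          (1 - δ₁) + if m₂ * 2 + δ₂ = 0 then 0 else 1 := by
        have h4 : (Finset.univ.filter fun i : Fin (m₁ * 2 + δ₁) ⊕ Fin (m₂ * 2 + δ₂) =>
          (∃ j, i = inl j ∧ (j : ℕ) = 0 ∧ δ₁ = 0) ∨ ∃ j, i = inr j ∧ (j : ℕ) = 0) ⊆
          (Finset.univ.filter fun i : Fin (m₁ * 2 + δ₁) ⊕ Fin (m₂ * 2 + δ₂) => (∃ j, i = inl j ∧ (j : ℕ) = 0 ∧ δ₁ = 0)) ∪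
          (Finset.univ.filter fun i : Fin (m₁ * 2 + δ₁) ⊕ Fin (m₂ * 2 + δ₂) => ∃ j, i = inr j ∧ (j : ℕ) = 0) := by
          intro i hi
          rw [Finset.mem_union, Finset.mem_filter, Finset.mem_filter]
          rw [Finset.mem_filter] at hi
          rcases hi.2 with h | h
          · exact Or.inl ⟨Finset.mem_univ _, h⟩
          · exact Or.inr ⟨Finset.mem_univ _, h⟩
        refine (Finset.card_le_card h4).trans ((Finset.card_union_le _ _).trans (Nat.add_le_add ?_ ?_))
        · by_cases h5 : δ₁ = 0
          · have h6 : 1 - δ₁ = 1 := by omega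
            rw [h6, Finset.card_le_one]
            intro a ha b hb
            rw [Finset.mem_filter] at ha hb
            obtain ⟨j, rfl, hj, -⟩ := ha.2
            obtain ⟨j', rfl, hj', -⟩ := hb.2
            congr 1
            exact Fin.ext (hj.trans hj'.symm)
          · have h6 : 1 - δ₁ = 0 := by omega
            rw [h6, Nat.le_zero, Finset.card_eq_zero, Finset.filter_eq_empty_iff]
            rintro i - ⟨j, -, -, h7⟩
            exact h5 h7
        · split_ifs with h5
          · rw [Nat.le_zero, Finset.card_eq_zero, Finset.filter_eq_empty_iff]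
            rintro i - ⟨j, -, -⟩
            have := j.2
            omega
          · rw [Finset.card_le_one]
            intro a ha b hb
            rw [Finset.mem_filter] at ha hb
            obtain ⟨j, rfl, hj⟩ := ha.2
            obtain ⟨j', rfl, hj'⟩ := hb.2
            congr 1
            exact Fin.ext (hj.trans hj'.symm)
      split_ifs at h3 hbig <;> omega

/-- **`MeetIn` from the model.** -/
theorem meet_of_has [Finite F] (hG : Good Q) (h2 : (2 : F) ≠ 0) {m k : ℕ} {d : Fin k → F} (h : Has Q m k d)
    (hd0 : ∀ j, d j ≠ 0) (hn : 7 ≤ 2 * m + k)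
    (hk : k = 0 ∨ k = 1 ∨ ∃ c : F, ¬ IsSquare c ∧ ∃ _ : k = 2, ∀ j, d j = if (j : ℕ) = 0 then 1 else c)
    (hcard : (Nat.card (O Q)).factorization 2 ≤
      m * (Nat.card F ^ 2 - 1).factorization 2 + k + (m.factorial).factorization 2) :
    MeetIn 2 (Cfsg.POmega F ⇑Q) := by
  have hB : (¬ ∃ t : F, t ≠ 0 ∧ t * t ≠ 1) → (3 : F) = 0 ∧ ¬ IsSquare (-1 : F) := by
    intro h3
    push Not at h3
    refine ⟨by linear_combination h3 2 h2, ?_⟩
    rintro ⟨t, ht⟩
    have ht0 : t ≠ 0 := by
      rintro rfl
      rw [mul_zero] at ht
      exact neg_ne_zero.2 one_ne_zero ht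
    rw [h3 t ht0] at ht
    apply h2
    linear_combination -ht
  have h50 : ∀ x : F, ∑ j, ww F (0 * 2 + 0) x 1 j * ww F (0 * 2 + 0) x 1 j = 0 := fun x =>
    Finset.sum_eq_zero fun j _ => j.elim0
  have h54 : ∑ j, ww F (2 * 2 + 0) 0 1 j * ww F (2 * 2 + 0) 0 1 j = 3 := by
    rw [sum_ww (by norm_num)]
    push_cast
    ring
  have h51 : ∀ x : F, ∑ j, ww F (0 * 2 + 1) x 1 j * ww F (0 * 2 + 1) x 1 j = x * x := by
    intro x
    have h3 : ∀ j : Fin (0 * 2 + 1), ww F (0 * 2 + 1) x 1 j = x := by
      intro j
      have := j.2
      rw [ww, if_pos (by omega)]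
    simp only [h3]
    rw [Finset.sum_const, Finset.card_univ, Fintype.card_fin]
    simp
  rcases hk with rfl | rfl | ⟨c, hc, rfl, hdj⟩
  · -- even dimension, no lines
    have hd : ∀ c : F, d = fun j : Fin (0 + 0) => if (j : ℕ) < 0 then (1 : F) else c := fun c => funext fun j => j.elim0
    by_cases h3 : (((m * 2 + 0 : ℕ) : F) - 1) = 0
    · by_cases h4 : ∃ t : F, t ≠ 0 ∧ t * t ≠ 1
      · obtain ⟨t, ht0, ht⟩ := h4
        rw [hd 1] at h
        refine meet_ww hG h2 (m₁ := m) (δ₁ := 0) (m₂ := 0) (δ₂ := 0) (by norm_num) (by norm_num) (fun _ => rfl)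
          (by omega) (by norm_num) one_ne_zero one_ne_zero (fun h => (h rfl).elim) h hcard (x := 0) (t := t) (x' := 0)
          ht0 (by simp) (fun _ => rfl) (by norm_num; omega) ?_
        intro h4
        apply ht
        rw [h50] at h4
        linear_combination h4 - h3
      · obtain ⟨h30, hns⟩ := hB h4
        rw [hd (-1)] at h
        have hm : 5 ≤ m := by
          by_contra hcon
          have h5 : m = 4 := by omega
          subst h5
          apply one_ne_zero (α := F)
          push_cast at h3
          linear_combination h3 - 2 * h30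
        obtain ⟨m₁, rfl⟩ : ∃ m₁, m = m₁ + 2 := ⟨m - 2, by omega⟩
        refine meet_ww hG h2 (m₁ := m₁) (δ₁ := 0) (m₂ := 2) (δ₂ := 0) (by norm_num) (by norm_num) (fun _ => rfl)
          (by omega) (by norm_num) one_ne_zero (neg_ne_zero.2 one_ne_zero) (fun _ => by rwa [one_mul]) h hcard (x := 0)
          (t := 1) (x' := 0) one_ne_zero (by simp) (fun _ => rfl) (by norm_num; omega) ?_
        intro h5
        apply one_ne_zero (α := F)
        rw [h54] at h5
        push_cast at h3 h5
        linear_combination h3 - h5 - 2 * h30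
    · rw [hd 1] at h
      refine meet_ww hG h2 (m₁ := m) (δ₁ := 0) (m₂ := 0) (δ₂ := 0) (by norm_num) (by norm_num) (fun _ => rfl)
        (by omega) (by norm_num) one_ne_zero one_ne_zero (fun h => (h rfl).elim) h hcard (x := 0) (t := 1) (x' := 0)
        one_ne_zero (by simp) (fun _ => rfl) (by norm_num; omega) ?_
      intro h4
      apply h3
      rw [h50] at h4
      linear_combination h4
  · -- odd dimension
    have h0 := hd0 0
    obtain ⟨c, hc⟩ : ∃ c, c = d 0 := ⟨_, rfl⟩
    rw [← hc] at h0
    have hd : ∀ c' : F, d = fun j : Fin (1 + 0) => if (j : ℕ) < 1 then c else c' := fun c' => funext fun j => by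
      have h3 : j = (0 : Fin 1) := Subsingleton.elim _ _
      rw [h3, ← hc]
      rfl
    by_cases h3 : ((m * 2 + 1 : ℕ) : F) = 0
    · by_cases h4 : ∃ t : F, t ≠ 0 ∧ t * t ≠ 1
      · obtain ⟨t, ht0, ht⟩ := h4
        rw [hd 1] at h
        refine meet_ww hG h2 (m₁ := m) (δ₁ := 1) (m₂ := 0) (δ₂ := 0) le_rfl (by norm_num) (fun h => (one_ne_zero h).elim)
          (by omega) (by norm_num) h0 one_ne_zero (fun h => (h rfl).elim) h hcard (x := 1) (t := t) (x' := 0)
          ht0 (by simp) (fun _ => rfl) (by norm_num; omega) ?_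
        intro h4
        apply ht
        rw [h50, mul_zero, add_zero] at h4
        have h6 := (mul_eq_zero.1 h4).resolve_left h0
        linear_combination h6 - h3
      · obtain ⟨h30, hns⟩ := hB h4
        rw [hd (-c)] at h
        have hm : 4 ≤ m := by
          by_contra hcon
          have h5 : m = 3 := by omega
          subst h5
          apply one_ne_zero (α := F)
          push_cast at h3
          linear_combination h3 - 2 * h30
        obtain ⟨m₁, rfl⟩ : ∃ m₁, m = m₁ + 2 := ⟨m - 2, by omega⟩
        refine meet_ww hG h2 (m₁ := m₁) (δ₁ := 1) (m₂ := 2) (δ₂ := 0) le_rfl (by norm_num)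
          (fun h => (one_ne_zero h).elim) (by omega) (by norm_num) h0 (neg_ne_zero.2 h0) (fun _ => ?_) h hcard (x := 1)
          (t := 1) (x' := 0) one_ne_zero (by simp) (fun _ => rfl) (by norm_num; omega) ?_
        · rintro ⟨s, hs⟩
          apply hns
          refine ⟨s * c⁻¹, ?_⟩
          field_simp
          linear_combination hs
        · intro h5
          apply one_ne_zero (α := F)
          rw [h54] at h5
          have h6 : c * (1 * 1 + 1 * 1 + (((m₁ * 2 + 1 : ℕ) : F) - 2) - 3) = 0 := by linear_combination h5
          have h7 := (mul_eq_zero.1 h6).resolve_left h0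
          push_cast at h3 h7
          linear_combination h3 - h7 - 2 * h30
    · rw [hd 1] at h
      refine meet_ww hG h2 (m₁ := m) (δ₁ := 1) (m₂ := 0) (δ₂ := 0) le_rfl (by norm_num) (fun h => (one_ne_zero h).elim)
        (by omega) (by norm_num) h0 one_ne_zero (fun h => (h rfl).elim) h hcard (x := 1) (t := 1) (x' := 0)
        one_ne_zero (by simp) (fun _ => rfl) (by norm_num; omega) ?_
      intro h4
      apply h3
      rw [h50, mul_zero, add_zero] at h4
      have h6 := (mul_eq_zero.1 h4).resolve_left h0
      linear_combination h6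
  · -- even dimension, two lines
    have hc0 : c ≠ 0 := by
      rintro rfl
      exact hc IsSquare.zero
    have hd : d = fun j : Fin (1 + 1) => if (j : ℕ) < 1 then (1 : F) else c := by
      funext j
      rw [hdj]
      simp only [Nat.lt_one_iff]
    rw [hd] at h
    by_cases h3 : ((m * 2 + 1 : ℕ) : F) = 0
    · refine meet_ww hG h2 (m₁ := m) (δ₁ := 1) (m₂ := 0) (δ₂ := 1) le_rfl le_rfl (fun h => (one_ne_zero h).elim)
        (by omega) (by norm_num) one_ne_zero hc0 (fun _ => by rwa [one_mul]) h hcard (x := 1) (t := 1) (x' := 1)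
        one_ne_zero (by simp) (fun h => (h rfl).elim) (by norm_num; omega) ?_
      intro h4
      apply hc0
      rw [h51] at h4
      linear_combination h4 - h3
    · refine meet_ww hG h2 (m₁ := m) (δ₁ := 1) (m₂ := 0) (δ₂ := 1) le_rfl le_rfl (fun h => (one_ne_zero h).elim)
        (by omega) (by norm_num) one_ne_zero hc0 (fun _ => by rwa [one_mul]) h hcard (x := 1) (t := 1) (x' := 0)
        one_ne_zero (by simp) (fun _ => rfl) (by norm_num; omega) ?_
      intro h4
      apply h3
      rw [h51] at h4
      linear_combination h4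

section Rows

variable {F : Type*} [Field F] [Fintype F]

/-- **Odd dimension.** -/
theorem meet2_odd (hF : Odd (Fintype.card F)) {m : ℕ} (hm : 3 ≤ m) : MeetIn 2 (POmega F (quadFormOdd m F)) := by
  have h2 : (2 : F) ≠ 0 := Cfsg.Agent.LieClassical.PomegaCard.odd_card_iff.1 hF
  obtain ⟨hq, hq1, hqc⟩ := facts h2
  have hG := good_odd (F := F) (m := m) (by omega) h2
  have hdim : Module.finrank F (Unit ⊕ (Fin m ⊕ Fin m) → F) = 2 * m + 1 := by
    rw [Module.finrank_fintype_fun_eq_card, Fintype.card_sum, Fintype.card_sum, Fintype.card_fin, Fintype.card_unit]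
    ring
  obtain ⟨m', k, d, h, hn, hd, hk⟩ := exists_model h2 (2 * m + 1) hG.nondeg hdim
  have hk1 : k = 1 := by
    rcases hk with h | h | ⟨c, hc, h, -⟩ <;> omega
  subst hk1
  have hmm : m' = m := by omega
  subst hmm
  have hcard : (Nat.card (Cfsg.Agent.LieClassical.OrthCore.O (oddForm m' F))).factorization 2 ≤
      m' * (Nat.card F ^ 2 - 1).factorization 2 + 1 + (m'.factorial).factorization 2 := by
    rw [card_O, coe_oddForm, Cfsg.Agent.S0286.result rfl (Nat.odd_iff.2 hq) m', hqc]
    exact val_odd hq hq1 m'
  rw [← coe_oddForm]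
  exact meet_of_has hG h2 h hd (by omega) hk hcard

/-- **Plus type.** -/
theorem meet2_plus (hF : Odd (Fintype.card F)) {m : ℕ} (hm : 4 ≤ m) : MeetIn 2 (POmega F (quadFormPlus m F)) := by
  have h2 : (2 : F) ≠ 0 := Cfsg.Agent.LieClassical.PomegaCard.odd_card_iff.1 hF
  obtain ⟨hq, hq1, hqc⟩ := facts h2
  have hG := good_plus (F := F) (m := m) (by omega)
  have hdim : Module.finrank F (Fin m ⊕ Fin m → F) = 2 * m := by
    rw [Module.finrank_fintype_fun_eq_card, Fintype.card_sum, Fintype.card_fin]
    ring
  have hqm : (Fintype.card F ^ m) % 2 = 1 := by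
    rw [Nat.pow_mod, hq, one_pow]
    norm_num
  have hqm1 : 1 < Fintype.card F ^ m := Nat.one_lt_pow (by omega) hq1
  obtain ⟨m', k, d, h, hn, hd, hk⟩ := exists_model h2 (2 * m) hG.nondeg hdim
  have hcard : (Nat.card (Cfsg.Agent.LieClassical.OrthCore.O (plusForm m F))).factorization 2 ≤
      m' * (Nat.card F ^ 2 - 1).factorization 2 + k + (m'.factorial).factorization 2 := by
    rw [card_O, coe_plusForm, Cfsg.Agent.S0287.result rfl m (by omega), hqc]
    rcases hk with rfl | rfl | ⟨c, hc, rfl, hdj⟩
    · have hmm : m' = m := by omega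
      subst hmm
      refine val_even_zero hq hq1 (by omega) (n' := Fintype.card F ^ m' + 1) ?_ (by omega)
      rw [mul_comm, two_mul, pow_add]
      have := Nat.sq_sub_sq (Fintype.card F ^ m') 1
      rw [one_pow, pow_two] at this
      exact this.symm
    · omega
    · have hmm : m = m' + 1 := by omega
      subst hmm
      have h4 : ¬ (Fintype.card F ^ (m' + 1) % 4 = 1) := by
        intro h5
        refine neg_not_mem hG h2 h hc hdj (neg_mem_of_matrix hG ?_)
        rw [coe_plusForm]
        exact (Cfsg.Agent.S0790.result rfl (Nat.odd_iff.2 hq) (m' + 1) (by omega)).2 h5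
      exact val_even_two hq hq1 (by (clear * - hqm h4; omega))
  rw [← coe_plusForm]
  exact meet_of_has hG h2 h hd (by omega) hk hcard

/-- **Minus type.** -/
theorem meet2_minus (hF : Odd (Fintype.card F)) {m : ℕ} (hm : 4 ≤ m) (a b : F)
    (hab : ∀ z₁ z₂ : F, z₁ ^ 2 + a * z₁ * z₂ + b * z₂ ^ 2 = 0 → z₁ = 0 ∧ z₂ = 0) :
    MeetIn 2 (POmega F (quadFormMinus (m - 1) F a b)) := by
  have h2 : (2 : F) ≠ 0 := Cfsg.Agent.LieClassical.PomegaCard.odd_card_iff.1 hF
  obtain ⟨hq, hq1, hqc⟩ := facts h2
  have hG := good_minus (F := F) (m := m - 1) (by omega) a b hab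
  have hdim : Module.finrank F ((Fin (m - 1) ⊕ Fin (m - 1)) ⊕ Fin 2 → F) = 2 * m := by
    rw [Module.finrank_fintype_fun_eq_card, Fintype.card_sum, Fintype.card_sum, Fintype.card_fin, Fintype.card_fin]
    omega
  have hqm : (Fintype.card F ^ m) % 2 = 1 := by
    rw [Nat.pow_mod, hq, one_pow]
    norm_num
  have hqm1 : 1 < Fintype.card F ^ m := Nat.one_lt_pow (by omega) hq1
  obtain ⟨m', k, d, h, hn, hd, hk⟩ := exists_model h2 (2 * m) hG.nondeg hdim
  have hcard : (Nat.card (Cfsg.Agent.LieClassical.OrthCore.O (minusForm (m - 1) F a b))).factorization 2 ≤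
      m' * (Nat.card F ^ 2 - 1).factorization 2 + k + (m'.factorial).factorization 2 := by
    rw [card_O, coe_minusForm, Cfsg.Agent.S0288.result rfl m (by omega) a b hab, hqc]
    rcases hk with rfl | rfl | ⟨c, hc, rfl, hdj⟩
    · have hmm : m' = m := by omega
      subst hmm
      refine val_even_zero hq hq1 (by omega) (n' := Fintype.card F ^ m' - 1) ?_ (by omega)
      rw [two_mul, pow_add]
      have := Nat.sq_sub_sq (Fintype.card F ^ m') 1
      rw [one_pow, pow_two] at this
      exact this.symm
    · omega
    · have hmm : m = m' + 1 := by omega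
      subst hmm
      have h4 : ¬ (Fintype.card F ^ (m' + 1) % 4 = 3) := by
        intro h5
        refine neg_not_mem hG h2 h hc hdj (neg_mem_of_matrix hG ?_)
        rw [coe_minusForm]
        exact (Cfsg.Agent.S0791.result rfl (Nat.odd_iff.2 hq) (m' + 1) (by omega) a b hab).2 h5
      exact val_even_two hq hq1 (by omega)
  rw [← coe_minusForm]
  exact meet_of_has hG h2 h hd (by omega) hk hcard

end Rows

end Cfsg.Agent.H955.Rig
end

private theorem dce_f6b414d29b60 : _root_.True := by
  try have : _root_.True := by simp only [_root_.Cfsg.Agent.H955.Rig.bet.eq_1]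
  try have : _root_.True := by simp only [_root_.Cfsg.Agent.H955.Rig.bet'.eq_1]
  try have : _root_.True := by simp only [_root_.Cfsg.Agent.H955.Rig.num.eq_1]
  try have : _root_.True := by simp only [_root_.Cfsg.Agent.H955.Rig.ww.eq_1]
  try have : _root_.True := by simp only [_root_.Cfsg.Agent.H955.Rig.e2.eq_1]
  try have : _root_.True := by simp only [_root_.Cfsg.Agent.H955.Rig.blk.eq_1]
  try have : _root_.True := by simp only [_root_.Cfsg.Agent.H955.Rig.e1.eq_1]
  exact _root_.True.intro
end

-- part: H903/MeetInD4_mg
section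
prune_inst 0x30306d645480020000000086830000003e0000900000080010000844000efc2a4000a800f0a03900802a800440080060034401804040000004000400011d00a0908012023040a10c86009f800004000000000000000000000000000000041004000000000
set_option linter.all false
open scoped Cfsg.Agent.FastGrp

-- part: H903/MeetInD4
section
set_option autoImplicit false

namespace Cfsg.Agent.H903.MeetInD4

open Cfsg QuadraticMap Cfsg.Agent.H903.SylMeet Cfsg.Agent.H903.SylSemi Cfsg.Agent.H68.MeetB
open Cfsg.Agent.LieClassical.OrthCore Cfsg.Agent.LieClassical.OrthTrans Cfsg.Agent.LieClassical.QuadForms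
open Cfsg.Agent.AutOrth.Main Cfsg.Agent.H208.Dict Cfsg.Agent.ClassicalGeometry.OrthAut1
open Cfsg.Agent.H152.MeetOmega

variable {F : Type*} [Field F] {ι : Type} [Fintype ι] [DecidableEq ι] {Q : QuadraticForm F (ι → F)}

/-- `SepO` gives the inner statement. -/
theorem meetIn_of [Finite F] {p : ℕ} [Fact p.Prime] (hG : Good Q) (h : SepO p F ⇑Q)
    (hinj : Function.Injective (MulAut.conj : POmega F ⇑Q →* MulAut (POmega F ⇑Q))) :
    MeetIn p (POmega F ⇑Q) := by
  intro R hR
  have hP : IsPGroup p (R.map MulAut.conj) := hR.map _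
  obtain ⟨x, hx⟩ : ∃ x : POmega F ⇑Q, ∀ y ∈ R.map MulAut.conj,
      MulAut.conj x * y * (MulAut.conj x)⁻¹ ∈ R.map MulAut.conj → y = 1 := by
    refine good_of_sep (proj_surjective ⇑Q) (rho_injective ⇑Q) (Y := SemiO F ⇑Q) (semiO_one _) ?_ ?_ ?_ ?_ ?_ hP
      ?_ (fun y hy h1 => unique hG hy h1) (X' := IsOmegaMap F ⇑Q) ?_ h
    · intro y y' h1 h2
      exact mem_gam_iff.1 (mul_mem (mem_gam_iff.2 h1) (mem_gam_iff.2 h2))
    · intro a
      exact mem_gam_iff.1 (ClassicalGeometry.OrthSemi.scal Q a).2
    · rintro y ⟨θ, c, -, h1, -⟩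
      exact ⟨θ, h1⟩
    · intro s
      refine ⟨fun u v => ?_, fun a v => ?_⟩
      · rw [rho_apply, rho_apply, rho_apply, Matrix.mulVec_add]
      · rw [rho_apply, rho_apply, Matrix.mulVec_smul]; rfl
    · intro s
      exact mem_gam_iff.1 (rho_mem_gam s)
    · rintro _ ⟨t, ht, rfl⟩
      obtain ⟨s, rfl⟩ := proj_surjective ⇑Q t
      exact ⟨_, mem_gam_iff.1 (rho_mem_gam s), Ind.conj _ _ s⟩
    · rintro g ⟨s, hs⟩
      exact ⟨s, Equiv.ext fun v => (hs v).symm⟩
  refine ⟨x, fun y hy hxy => ?_⟩
  have h1 := hx (MulAut.conj y) (Subgroup.mem_map_of_mem _ hy) (by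
    rw [← map_inv, ← map_mul, ← map_mul]
    exact Subgroup.mem_map_of_mem _ hxy)
  exact hinj (by rw [h1, map_one])

/-- **`PΩ₈⁺(q)`, `q` a power of `3`, inner version.** -/
theorem meetIn3_D4_char {F : Type} [Field F] [Fintype F] [CharP F 3]
    [hs : IsSimpleGroup (POmega F (quadFormPlus 4 F))]
    (hc : ¬ IsMulCommutative (POmega F (quadFormPlus 4 F))) : MeetIn 3 (POmega F (quadFormPlus 4 F)) := by
  have : Fact (Nat.Prime 3) := ⟨Nat.prime_three⟩
  have hinj := _root_.Cfsg.Agent.H903.SylMeet.conj_injective hc
  have h := Cfsg.Agent.H126.SepThree.sepO_char_plus (p := 3) (F := F) le_rfl (m := 4) (by norm_num)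
  revert hinj h
  rw [← coe_plusForm]
  intro hinj h
  exact meetIn_of (good_plus (by omega)) h hinj

end Cfsg.Agent.H903.MeetInD4
end

-- part: H178/MeetTwo/Odd
section
/-!
# The degrees `n` odd and `n ≡ 2 mod 4`
-/

set_option autoImplicit false

namespace Cfsg.Agent.H178.MeetTwo

open Equiv Cfsg.Agent.H68.MeetB

section

variable {N : ℕ} [NeZero N]

omit [NeZero N] in
theorem zero_of_neg (hN : Odd N) {a : ZMod N} (h : -a = a) : a = 0 := by
  have h2 : (2 : ZMod N) * a = 0 := by linear_combination -h
  have h3 : IsUnit ((2 : ℕ) : ZMod N) := (ZMod.isUnit_iff_coprime 2 N).2 hN.coprime_two_left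
  rw [Nat.cast_ofNat] at h3
  exact (h3.mul_right_eq_zero).1 h2

theorem fix_of_comm (hN : Odd N) {α : Type*} {f : ZMod N → α} (hf : Function.Injective f) {y σ g : Perm α}
    (hσ : ∀ i, σ (f i) = f (-i)) (hg : ∀ i, g (f i) = f (i + 1)) (h1 : ∀ a, y (σ a) = σ (y a))
    (h2 : ∀ a, y (g a) = g (y a)) {j : ZMod N} (hj : y (f 0) = f j) (i : ZMod N) : y (f i) = f i := by
  have h3 : j = 0 := by
    apply zero_of_neg hN
    apply hf
    rw [← hσ, ← hj, ← h1, hσ, neg_zero]
  subst h3
  have h4 : ∀ n : ℕ, y (f (n : ZMod N)) = f (n : ZMod N) := by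
    intro n
    induction n with
    | zero => rw [Nat.cast_zero]; exact hj
    | succ n ih => rw [Nat.cast_succ, ← hg, h2, ih]
  obtain ⟨n, rfl⟩ := ZMod.natCast_zmod_surjective i
  exact h4 n

omit [NeZero N] in
theorem exists_half (hN : Odd N) : ∃ c : ZMod N, 2 * c = -1 := by
  have h3 : IsUnit ((2 : ℕ) : ZMod N) := (ZMod.isUnit_iff_coprime 2 N).2 hN.coprime_two_left
  rw [Nat.cast_ofNat] at h3
  obtain ⟨u, hu⟩ := h3
  refine ⟨-(↑u⁻¹ : ZMod N), ?_⟩
  rw [← hu, mul_neg, Units.mul_inv]

theorem support_neg (hN : Odd N) : (Equiv.neg (ZMod N) : Perm (ZMod N)).support = {0}ᶜ := by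
  ext a
  rw [Perm.mem_support, Finset.mem_compl, Finset.mem_singleton, not_iff_not]
  constructor
  · intro h
    exact zero_of_neg hN h
  · rintro rfl
    exact neg_zero

/-- odd degree -/
theorem meet_odd (hN : Odd N) : MeetIn 2 (Perm (ZMod N)) := by
  obtain ⟨c, hc⟩ := exists_half hN
  obtain ⟨m, hm⟩ := hN
  have hN : Odd N := ⟨m, hm⟩
  refine meet_of_sub (Subgroup.centralizer {(Equiv.neg (ZMod N) : Perm (ZMod N))}) ?_ (Equiv.addRight c) ?_
  · refine index_cent (m := m) (r := 1) ?_ ?_ ?_ (Or.inl le_rfl)
    · ext a
      simp [pow_two]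
    · rw [support_neg hN, Finset.card_compl, Finset.card_singleton, ZMod.card]
      omega
    · rw [ZMod.card, hm]
  · intro y hy hxy
    rw [Subgroup.mem_centralizer_singleton_iff] at hy hxy
    have h1 : ∀ a, y (-a) = -(y a) := fun a => congrFun (congrArg DFunLike.coe hy) a
    have h2 : ∀ a : ZMod N, y (-a - c) + c = -(y (a - c) + c) := fun a => by
      have h3 := congrFun (congrArg DFunLike.coe hxy) a
      simpa only [sub_eq_add_neg, _root_.neg_add_rev, _root_.Equiv.neg_addRight, _root_.Equiv.Perm.coe_mul, _root_.Equiv.coe_addRight, _root_.Equiv.neg_apply, _root_.Function.comp_apply] using h3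
    have h4 : ∀ a, y (a + 1) = y a + 1 := by
      intro a
      have h3 := h2 (-(a + 1) + - c)
      have e1 : -(-(a + 1) + -c) - c = a + 1 := by ring
      have e2 : -(a + 1) + -c - c = -a := by linear_combination -hc
      rw [e1, e2, h1] at h3
      linear_combination h3 - hc
    ext1 a
    exact fix_of_comm hN (f := id) Function.injective_id (y := y) (σ := Equiv.neg _) (g := Equiv.addRight 1)
      (fun _ => rfl) (fun _ => rfl) h1 h4 (j := y 0) rfl a

theorem meet_two (hN : N % 4 = 1) (hN1 : N ≠ 1) : MeetIn 2 (Perm (Option (ZMod N))) := by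
  have hodd : Odd N := Nat.odd_iff.2 (by omega)
  obtain ⟨c, hc⟩ := exists_half hodd
  have hne : (1 : ZMod N) ≠ 0 := by
    intro h
    have h1 : ((1 : ℕ) : ZMod N) = 0 := by rw [Nat.cast_one]; exact h
    rw [ZMod.natCast_eq_zero_iff] at h1
    exact hN1 (Nat.dvd_one.1 h1)
  refine meet_of_sub (Subgroup.centralizer {(Equiv.optionCongr (Equiv.neg (ZMod N)) : Perm (Option (ZMod N)))}) ?_
    (Equiv.optionCongr (Equiv.addRight c)) ?_
  · refine index_cent (m := (N - 1) / 2) (r := 2) ?_ ?_ ?_ (Or.inr ⟨rfl, ?_⟩)
    · ext1 a
      cases a <;> simp only [pow_two, _root_.Equiv.Perm.coe_mul, _root_.Function.comp_apply, _root_.Equiv.optionCongr_apply, _root_.Equiv.neg_apply, _root_.Option.map_none, _root_.Equiv.Perm.coe_one, _root_.id_eq, _root_.Option.map_some, _root_.neg_neg]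
    · have : Perm.support (Equiv.optionCongr (Equiv.neg (ZMod N)) : Perm (Option (ZMod N))) =
          (({0}ᶜ : Finset (ZMod N))).map Function.Embedding.some := by
        ext a
        rw [Perm.mem_support, Finset.mem_map]
        cases a with
        | none => simp
        | some a =>
          simp only [optionCongr_apply, Option.map_some, Equiv.neg_apply, ne_eq, Option.some.injEq, Finset.mem_compl,
            Finset.mem_singleton, Function.Embedding.some_apply, exists_eq_right, not_iff_not]
          constructor
          · exact fun h => zero_of_neg hodd h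
          · rintro rfl
            exact neg_zero
      rw [this, Finset.card_map, Finset.card_compl, Finset.card_singleton, ZMod.card]
      omega
    · rw [Fintype.card_option, ZMod.card]
      omega
    · rw [Nat.even_iff]
      omega
  · intro y hy hxy
    rw [Subgroup.mem_centralizer_singleton_iff] at hy hxy
    set σ : Perm (Option (ZMod N)) := Equiv.optionCongr (Equiv.neg (ZMod N)) with hσ
    set x : Perm (Option (ZMod N)) := Equiv.optionCongr (Equiv.addRight c) with hx
    have h1 : ∀ a, y (σ a) = σ (y a) := fun a => congrFun (congrArg DFunLike.coe hy) a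
    have hg : y * (x⁻¹ * σ * x * σ) = (x⁻¹ * σ * x * σ) * y := by
      have h5 : y * (x⁻¹ * σ * x) = (x⁻¹ * σ * x) * y := by
        calc y * (x⁻¹ * σ * x) = x⁻¹ * (x * y * x⁻¹ * σ) * x := by group
          _ = x⁻¹ * (σ * (x * y * x⁻¹)) * x := by rw [hxy]
          _ = _ := by group
      rw [← mul_assoc, h5, mul_assoc, hy, ← mul_assoc]
    have hgi : ∀ i : ZMod N, (x⁻¹ * σ * x * σ) (some i) = some (i + 1) := by
      intro i
      have h6 : x⁻¹ = Equiv.optionCongr (Equiv.addRight (-c)) := by
        rw [inv_eq_iff_mul_eq_one]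
        ext1 a
        cases a <;> simp only [hx, _root_.Equiv.Perm.coe_mul, _root_.Function.comp_apply, _root_.Equiv.optionCongr_apply, _root_.Equiv.coe_addRight, _root_.Option.map_none, _root_.Equiv.Perm.coe_one, _root_.id_eq, _root_.Option.map_some, _root_.neg_add_cancel_right]
      rw [h6]
      simp only [hσ, hx, Perm.mul_apply, optionCongr_apply, Option.map_some, Equiv.neg_apply, coe_addRight,
        Option.some.injEq]
      linear_combination -hc
    have hgn : (x⁻¹ * σ * x * σ) none = none := by
      have h6 : x⁻¹ = Equiv.optionCongr (Equiv.addRight (-c)) := by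
        rw [inv_eq_iff_mul_eq_one]
        ext1 a
        cases a <;> simp [hx]
      rw [h6]
      simp [hσ, hx]
    have hn : y none = none := by
      have h7 : y ((x⁻¹ * σ * x * σ) none) = (x⁻¹ * σ * x * σ) (y none) :=
        congrFun (congrArg DFunLike.coe hg) none
      rw [hgn] at h7
      cases h8 : y none with
      | none => rfl
      | some j =>
        rw [h8, hgi, Option.some.injEq] at h7
        exfalso
        exact hne (by linear_combination -h7)
    ext1 a
    cases a with
    | none => exact hn
    | some a =>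
      cases h8 : y (some 0) with
      | none =>
        have := y.injective (h8.trans hn.symm)
        exact absurd this (by simp)
      | some j =>
        exact fix_of_comm hodd (f := some) (Option.some_injective _) (y := y) (σ := σ) (g := x⁻¹ * σ * x * σ)
          (fun _ => rfl) hgi h1 (fun a => congrFun (congrArg DFunLike.coe hg) a) h8 a

end

end Cfsg.Agent.H178.MeetTwo
end

-- part: H178/MeetTwo/Four
section
/-!
# The degrees `n ≡ 0 mod 4`, `n ≥ 12`
-/

set_option autoImplicit false

namespace Cfsg.Agent.H178.MeetTwo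

open Equiv Cfsg.Agent.H68.MeetB

/-- the points -/
abbrev Om (m : ℕ) := ZMod m × ZMod 2

/-- the first matching -/
def sg (m : ℕ) : Perm (Om m) := Equiv.prodCongr (Equiv.refl _) (Equiv.addRight 1)

theorem sg_apply {m : ℕ} (a : Om m) : sg m a = (a.1, a.2 + 1) := rfl

theorem two_cases (s : ZMod 2) : s = 0 ∨ s = 1 := by
  fin_cases s
  · exact Or.inl rfl
  · exact Or.inr rfl

theorem sg_sq {m : ℕ} : sg m ^ 2 = 1 := by
  ext1 a
  rw [pow_two, Perm.mul_apply, sg_apply, sg_apply, Perm.one_apply]
  refine Prod.ext rfl ?_
  rcases two_cases a.2 with h | h <;> simp only [h] <;> decide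

theorem comm_apply {m : ℕ} {y : Perm (Om m)} (hy : y ∈ Subgroup.centralizer {sg m}) (a : Om m) :
    y (sg m a) = sg m (y a) := by
  rw [Subgroup.mem_centralizer_singleton_iff] at hy
  exact congrFun (congrArg DFunLike.coe hy) a

theorem fst_eq {m : ℕ} {y : Perm (Om m)} (hy : y ∈ Subgroup.centralizer {sg m}) (a : Om m) :
    (y a).1 = (y (a.1, 0)).1 := by
  obtain ⟨i, s⟩ := a
  rcases two_cases s with rfl | rfl
  · rfl
  · have h := congrArg Prod.fst (comm_apply hy (i, 0))
    rw [sg_apply, sg_apply] at h
    simpa using h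

theorem support_univ {α : Type*} [Fintype α] [DecidableEq α] {f : Perm α} (h : ∀ a, f a ≠ a) :
    f.support = Finset.univ :=
  Finset.eq_univ_iff_forall.2 fun a => Perm.mem_support.2 (h a)

/-- the action on the edges of the first matching -/
def bar (m : ℕ) : ↥(Subgroup.centralizer {sg m}) →* Perm (ZMod m) where
  toFun y :=
    { toFun := fun i => ((y : Perm (Om m)) (i, 0)).1
      invFun := fun i => ((y : Perm (Om m))⁻¹ (i, 0)).1
      left_inv := fun i => by
        simp only
        rw [← fst_eq (inv_mem y.2)]
        simp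
      right_inv := fun i => by
        simp only
        rw [← fst_eq y.2]
        simp }
  map_one' := by ext1 i; rfl
  map_mul' y z := by
    ext1 i
    change ((y : Perm (Om m)) ((z : Perm (Om m)) (i, 0))).1 =
      ((y : Perm (Om m)) (((z : Perm (Om m)) (i, 0)).1, 0)).1
    exact fst_eq y.2 _

theorem bar_apply {m : ℕ} (y : ↥(Subgroup.centralizer {sg m})) (i : ZMod m) :
    bar m y i = ((y : Perm (Om m)) (i, 0)).1 := rfl

theorem bar_surj (m : ℕ) : Function.Surjective (bar m) := by
  intro f
  refine ⟨⟨Equiv.prodCongr f (Equiv.refl _), ?_⟩, ?_⟩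
  · rw [Subgroup.mem_centralizer_singleton_iff]
    rfl
  · ext1 i
    rfl

/-- the stabilizer of the matching and of a matching on its edges -/
def stab {m : ℕ} (f : Perm (ZMod m)) : Subgroup (Perm (Om m)) :=
  ((Subgroup.centralizer {f}).comap (bar m)).map (Subgroup.centralizer {sg m}).subtype

theorem mem_stab {m : ℕ} {f : Perm (ZMod m)} {y : Perm (Om m)} (h : y ∈ stab f) :
    ∃ _ : y ∈ Subgroup.centralizer {sg m}, ∀ i, (y (f i, 0)).1 = f (y (i, 0)).1 := by
  obtain ⟨⟨y, hy⟩, h1, rfl⟩ := h
  refine ⟨hy, fun i => ?_⟩
  have h2 : bar m ⟨y, hy⟩ ∈ Subgroup.centralizer {f} := h1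
  rw [Subgroup.mem_centralizer_singleton_iff] at h2
  exact congrFun (congrArg DFunLike.coe h2) i

theorem stab_index {m k : ℕ} [NeZero m] (hm : m = 2 * k) {f : Perm (ZMod m)} (h2 : f ^ 2 = 1)
    (hf : ∀ i, f i ≠ i) : ¬ 2 ∣ (stab f).index := by
  rw [stab, Subgroup.index_map_subtype, Subgroup.index_comap_of_surjective _ (bar_surj m)]
  intro h
  rcases Nat.prime_two.dvd_mul.1 h with h | h
  · refine index_cent (σ := f) h2 (m := k) (r := 0) ?_ ?_ (Or.inl (Nat.zero_le _)) h
    · rw [support_univ hf, Finset.card_univ, ZMod.card, hm]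
    · rw [ZMod.card, hm, add_zero]
  · refine index_cent (σ := sg m) sg_sq (m := m) (r := 0) ?_ ?_ (Or.inl (Nat.zero_le _)) h
    · have : ∀ a, sg m a ≠ a := by
        intro a h
        have h1 := congrArg Prod.snd h
        rw [sg_apply] at h1
        simp only [_root_.add_eq_left, _root_.one_ne_zero] at h1
      rw [support_univ this, Finset.card_univ, Fintype.card_prod, ZMod.card, ZMod.card, mul_comm]
    · rw [Fintype.card_prod, ZMod.card, ZMod.card, mul_comm, add_zero]

/-- the conjugating permutation -/
def xx (m : ℕ) : Perm (Om m) where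
  toFun a := if a.2 = 0 then (a.1 - 1, 0) else a
  invFun a := if a.2 = 0 then (a.1 + 1, 0) else a
  left_inv a := by
    obtain ⟨i, s⟩ := a
    rcases two_cases s with rfl | rfl <;> simp only [↓ _root_.reduceIte, _root_.sub_add_cancel, _root_.one_ne_zero]
  right_inv a := by
    obtain ⟨i, s⟩ := a
    rcases two_cases s with rfl | rfl <;> simp only [↓ _root_.reduceIte, _root_.add_sub_cancel_right, _root_.one_ne_zero]

theorem xx_one {m : ℕ} (i : ZMod m) : xx m (i, 1) = (i, 1) := rfl

theorem xx_inv_zero {m : ℕ} (i : ZMod m) : (xx m)⁻¹ (i, 0) = (i + 1, 0) := rfl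

theorem xx_inv_one {m : ℕ} (i : ZMod m) : (xx m)⁻¹ (i, 1) = (i, 1) := rfl

/-- a permutation commuting with both matchings -/
theorem dihedral {m : ℕ} [NeZero m] {y : Perm (Om m)} (h1 : y ∈ Subgroup.centralizer {sg m})
    (h2 : xx m * y * (xx m)⁻¹ ∈ Subgroup.centralizer {sg m}) :
    ∃ c : ZMod m, (∀ i s, y (i, s) = (i + c, s)) ∨ (∀ i s, y (i, s) = (c - i, s + 1)) := by
  have e1 : ∀ i s, y (i, s + 1) = ((y (i, s)).1, (y (i, s)).2 + 1) := fun i s => comm_apply h1 (i, s)
  have e2 : ∀ i, y (i, 0) = (xx m)⁻¹ (sg m (xx m (y (i - 1, 1)))) := by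
    intro i
    rw [Perm.eq_inv_iff_eq]
    have h3 := comm_apply h2 (i - 1, 1)
    rw [Perm.mul_apply, Perm.mul_apply, Perm.mul_apply, Perm.mul_apply, xx_inv_one] at h3
    rw [← h3]
    change _ = xx m (y ((xx m)⁻¹ (i - 1, 0)))
    rw [xx_inv_zero, sub_add_cancel]
  -- one step
  have e3 : ∀ i c, y (i, 0) = (c, 0) → y (i + 1, 0) = (c + 1, 0) := by
    intro i c hc
    have h4 := e1 i 0
    rw [hc, zero_add] at h4
    rw [e2 (i + 1), add_sub_cancel_right, h4]
    rfl
  have e4 : ∀ i c, y (i, 0) = (c, 1) → y (i + 1, 0) = (c - 1, 1) := by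
    intro i c hc
    have h4 := e1 i 0
    rw [hc, zero_add] at h4
    rw [e2 (i + 1), add_sub_cancel_right, h4]
    rfl
  obtain ⟨c, s, hcs⟩ : ∃ c s, y (0, 0) = (c, s) := ⟨_, _, rfl⟩
  refine ⟨c, ?_⟩
  rcases two_cases s with rfl | rfl
  · left
    have h5 : ∀ n : ℕ, y ((n : ZMod m), 0) = ((n : ZMod m) + c, 0) := by
      intro n
      induction n with
      | zero => rw [Nat.cast_zero, zero_add]; exact hcs
      | succ n ih => rw [Nat.cast_succ, e3 _ _ ih]; congr 1; ring
    intro i s
    obtain ⟨n, rfl⟩ := ZMod.natCast_zmod_surjective i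
    rcases two_cases s with rfl | rfl
    · exact h5 n
    · have h6 := e1 (n : ZMod m) 0
      rw [h5, zero_add] at h6
      exact h6
  · right
    have h5 : ∀ n : ℕ, y ((n : ZMod m), 0) = (c - (n : ZMod m), 1) := by
      intro n
      induction n with
      | zero => rw [Nat.cast_zero, sub_zero]; exact hcs
      | succ n ih => rw [Nat.cast_succ, e4 _ _ ih]; congr 1; ring
    intro i s
    obtain ⟨n, rfl⟩ := ZMod.natCast_zmod_surjective i
    rcases two_cases s with rfl | rfl
    · rw [h5 n, zero_add]
    · have h6 := e1 (n : ZMod m) 0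
      rw [h5, zero_add] at h6
      exact h6

theorem meet_of_pi {m k : ℕ} (hk : 1 ≤ k) (hm : m = 2 * k) {f : Perm (ZMod m)} (h2 : f ^ 2 = 1)
    (hf : ∀ i, f i ≠ i) (h0 : f 0 = 1) (h1 : ∀ i, f i = i + 1 → i = 0) : MeetIn 2 (Perm (Om m)) := by
  have : NeZero m := ⟨by omega⟩
  have : Fact (1 < m) := ⟨by omega⟩
  refine meet_of_sub (stab f) (stab_index hm h2 hf) (xx m) fun y hy hxy => ?_
  obtain ⟨a1, a2⟩ := mem_stab hy
  obtain ⟨b1, b2⟩ := mem_stab hxy
  have hinv : ∀ i, f (f i) = i := fun i => by
    rw [← Perm.mul_apply, ← pow_two, h2, Perm.one_apply]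
  have key : ∀ c, f c = c - 1 → c = 1 := by
    intro c hc
    have h3 : f (c - 1) = c - 1 + 1 := by rw [← hc, hinv, hc]; ring
    exact sub_eq_zero.1 (h1 _ h3)
  obtain ⟨c, hc | hc⟩ := dihedral a1 b1
  · have h3 : c = 0 := by
      have h4 := a2 0
      rw [h0, hc, hc] at h4
      simp only at h4
      rw [zero_add] at h4
      exact h1 c (by rw [← h4]; ring)
    ext1 a
    obtain ⟨i, s⟩ := a
    rw [hc, h3, add_zero, Perm.one_apply]
  · exfalso
    have h3 : c = 1 := by
      have h4 := a2 0
      rw [h0, hc, hc] at h4
      simp only [sub_zero] at h4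
      exact key c h4.symm
    have h5 : ∀ i, ((xx m * y * (xx m)⁻¹) (i, 0)).1 = c - 1 - i := by
      intro i
      rw [Perm.mul_apply, Perm.mul_apply, xx_inv_zero, hc, zero_add, xx_one]
      simp only
      ring
    have h6 : c - 1 = 1 := by
      have h4 := b2 0
      rw [h0, h5, h5, sub_zero] at h4
      exact key _ h4.symm
    rw [h3, sub_self] at h6
    exact zero_ne_one h6

/-- the matching of the edges : natural numbers -/
def ff (k i : ℕ) : ℕ := if i = 0 then 1 else if i = 1 then 0 else if i ≤ k then i + (k - 1) else i - (k - 1)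

theorem ff_lt {k i : ℕ} (hk : 3 ≤ k) (hi : i < 2 * k) : ff k i < 2 * k := by
  unfold ff
  split_ifs <;> omega

theorem ff_ff {k i : ℕ} (hk : 3 ≤ k) (hi : i < 2 * k) : ff k (ff k i) = i := by
  by_cases h0 : i = 0
  · subst h0
    simp [ff]
  by_cases h1 : i = 1
  · subst h1
    simp [ff]
  by_cases h2 : i ≤ k
  · have h3 : ff k i = i + (k - 1) := by simp [ff, h0, h1, h2]
    rw [h3]
    unfold ff
    rw [if_neg (by omega), if_neg (by omega), if_neg (by omega)]
    omega
  · have h3 : ff k i = i - (k - 1) := by simp [ff, h0, h1, h2]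
    rw [h3]
    unfold ff
    rw [if_neg (by omega), if_neg (by omega), if_pos (by omega)]
    omega

theorem ff_ne {k i : ℕ} (hk : 3 ≤ k) : ff k i ≠ i := by
  unfold ff
  split_ifs <;> omega

theorem ff_succ {k i : ℕ} (hk : 3 ≤ k) (hi : i < 2 * k) (h : ff k i = i + 1) : i = 0 := by
  unfold ff at h
  split_ifs at h <;> omega

theorem ff_last {k i : ℕ} (hk : 3 ≤ k) (hi : i + 1 = 2 * k) (h : ff k i = 0) : False := by
  unfold ff at h
  split_ifs at h <;> omega

/-- degree `4 k`, `k ≥ 3` -/
theorem meet_four {k : ℕ} (hk : 3 ≤ k) : MeetIn 2 (Perm (Om (2 * k))) := by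
  have : NeZero (2 * k) := ⟨by omega⟩
  have hv : ∀ i : ZMod (2 * k), ((ff k i.val : ℕ) : ZMod (2 * k)).val = ff k i.val := fun i =>
    ZMod.val_natCast_of_lt (ff_lt hk i.val_lt)
  have hinv : Function.Involutive (fun i : ZMod (2 * k) => ((ff k i.val : ℕ) : ZMod (2 * k))) := by
    intro i
    simp only
    rw [hv, ff_ff hk i.val_lt, ZMod.natCast_zmod_val]
  refine meet_of_pi (k := k) (by omega) rfl (f := hinv.toPerm) ?_ ?_ ?_ ?_
  · ext1 i
    rw [pow_two]
    exact hinv i
  · intro i hi
    have h1 : ((ff k i.val : ℕ) : ZMod (2 * k)) = i := hi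
    have h2 := congrArg ZMod.val h1
    rw [hv] at h2
    exact ff_ne hk h2
  · change ((ff k (0 : ZMod (2 * k)).val : ℕ) : ZMod (2 * k)) = 1
    rw [ZMod.val_zero]
    simp [ff]
  · intro i hi
    have h1 : ((ff k i.val : ℕ) : ZMod (2 * k)) = i + 1 := hi
    have h2 := congrArg ZMod.val h1
    rw [hv] at h2
    have h3 : (i + 1).val = (i.val + 1) % (2 * k) := by
      rw [ZMod.val_add]
      have : Fact (1 < 2 * k) := ⟨by omega⟩
      rw [ZMod.val_one]
    rw [h3] at h2
    have h4 := i.val_lt
    rw [← ZMod.val_eq_zero]
    rcases Nat.lt_or_ge (i.val + 1) (2 * k) with h5 | h5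
    · rw [Nat.mod_eq_of_lt h5] at h2
      exact ff_succ hk h4 h2
    · have h6 : i.val + 1 = 2 * k := by omega
      rw [h6, Nat.mod_self] at h2
      exact (ff_last hk h6 h2).elim

end Cfsg.Agent.H178.MeetTwo
end

-- part: H178/MeetTwo/Eight
section
/-!
# The alternating group of degree `8`
-/

set_option autoImplicit false

namespace Cfsg.Agent.H178.MeetTwo

open Equiv Cfsg.Agent.H68.MeetB

section

variable {α : Type*} [Fintype α] [DecidableEq α]

/-- from the symmetric group to the alternating group -/
theorem alt_of_sub [Nontrivial α] (H : Subgroup (Perm α)) (hi : ¬ 2 ∣ H.index) (x : Perm α)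
    (h : ∀ y ∈ H, Perm.sign y = 1 → x * y * x⁻¹ ∈ H → y = 1) : MeetIn 2 (alternatingGroup α) := by
  have hA : (alternatingGroup α).index = 2 := alternatingGroup.index_eq_two
  obtain ⟨h0, hh0, hs⟩ : ∃ h0 ∈ H, Perm.sign h0 = -1 := by
    by_contra hcon
    push Not at hcon
    apply hi
    rw [← hA]
    apply Subgroup.index_dvd_of_le
    intro y hy
    rw [Perm.mem_alternatingGroup]
    rcases Int.units_eq_one_or (Perm.sign y) with h1 | h1
    · exact h1
    · exact absurd h1 (hcon y hy)
  obtain ⟨x', hx', hxs⟩ : ∃ x' : Perm α, (∀ y, x' * y * x'⁻¹ ∈ H → x * y * x⁻¹ ∈ H) ∧ Perm.sign x' = 1 := by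
    rcases Int.units_eq_one_or (Perm.sign x) with h1 | h1
    · exact ⟨x, fun _ h => h, h1⟩
    · refine ⟨h0 * x, fun y hy => ?_, ?_⟩
      · have h2 := H.mul_mem (H.mul_mem (H.inv_mem hh0) hy) hh0
        have h3 : h0⁻¹ * (h0 * x * y * (h0 * x)⁻¹) * h0 = x * y * x⁻¹ := by group
        rwa [h3] at h2
      · rw [Perm.sign_mul, hs, h1]
        decide
  refine meet_of_sub (H.subgroupOf (alternatingGroup α)) ?_ ⟨x', Perm.mem_alternatingGroup.2 hxs⟩ ?_
  · intro h2
    have h3 : (alternatingGroup α).relIndex H ∣ (alternatingGroup α).index :=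
      Subgroup.relIndex_dvd_index_of_normal _ _
    rw [hA] at h3
    have h4 := Subgroup.relIndex_mul_index (H := H ⊓ alternatingGroup α) (K := H) inf_le_left
    have h5 := Subgroup.relIndex_mul_index (H := H ⊓ alternatingGroup α) (K := alternatingGroup α) inf_le_right
    rw [Subgroup.inf_relIndex_left] at h4
    rw [Subgroup.inf_relIndex_right, hA] at h5
    have h6 : 2 * 2 ∣ (alternatingGroup α).relIndex H * H.index := by
      rw [h4, ← h5]
      exact Nat.mul_dvd_mul_right h2 2
    rcases (Nat.dvd_prime Nat.prime_two).1 h3 with h7 | h7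
    · rw [h7, one_mul] at h6
      exact hi ((Dvd.intro 2 rfl).trans h6)
    · rw [h7] at h6
      exact hi (Nat.dvd_of_mul_dvd_mul_left (by norm_num) h6)
  · intro y hy hxy
    rw [Subgroup.mem_subgroupOf] at hy hxy
    apply Subtype.ext
    exact h y hy (Perm.mem_alternatingGroup.1 y.2) (hx' _ hxy)

theorem alt_of_perm [Nontrivial α] (h : MeetIn 2 (Perm α)) : MeetIn 2 (alternatingGroup α) := by
  have : Fact (Nat.Prime 2) := ⟨Nat.prime_two⟩
  obtain ⟨Q⟩ : Nonempty (Sylow 2 (Perm α)) := inferInstance
  obtain ⟨x, hx⟩ := h Q Q.isPGroup'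
  exact alt_of_sub Q Q.not_dvd_index x fun y hy _ hxy => hx y hy hxy

end

theorem sign_eq {m : ℕ} [NeZero m] {y : Perm (Om m)} (hy : y ∈ Subgroup.centralizer {sg m}) :
    Perm.sign y = ∏ i, Perm.sign (Equiv.addRight (y (i, 0)).2) := by
  have h1 : y = Equiv.prodCongrLeft (fun _ : ZMod 2 => bar m ⟨y, hy⟩) *
      Equiv.prodCongrRight (fun i : ZMod m => Equiv.addRight (y (i, 0)).2) := by
    ext1 a
    obtain ⟨i, s⟩ := a
    rw [Perm.mul_apply]
    simp only [prodCongrRight_apply, coe_addRight, prodCongrLeft_apply, bar_apply]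
    rcases two_cases s with rfl | rfl
    · rw [zero_add]
    · have h2 := comm_apply hy (i, 0)
      rw [sg_apply, sg_apply] at h2
      simp only [zero_add] at h2
      rw [h2, add_comm]
  conv_lhs => rw [h1]
  rw [Perm.sign_mul, Perm.sign_prodCongrLeft, Perm.sign_prodCongrRight, Finset.prod_const, Finset.card_univ,
    ZMod.card]
  have h2 : ∀ u : ℤˣ, u ^ 2 = 1 := Int.units_sq
  rw [h2, one_mul]

/-- the matching on the four edges -/
def f4 : Perm (ZMod 4) := Equiv.swap 0 1 * Equiv.swap 2 3

/-- the conjugating permutation -/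
def x4 : Perm (Om 4) := Equiv.swap (1, 1) (2, 0) * Equiv.swap (2, 1) (3, 0)

theorem f4_sq : f4 ^ 2 = 1 := by decide

theorem f4_ne : ∀ i, f4 i ≠ i := by decide

/-- the conditions -/
def cond4 (b0 b2 : ZMod 4) (a0 a1 a2 a3 : ZMod 2) : Bool :=
  decide (b0 ≠ b2) && decide (b0 ≠ f4 b2) && decide (a0 + a1 + a2 + a3 = 0) &&
  decide (x4 (b0, a0 + 1) = sg 4 (x4 (b0, a0))) && decide (x4 (b2, a2) = sg 4 (x4 (f4 b0, a1))) &&
  decide (x4 (f4 b2, a3) = sg 4 (x4 (f4 b0, a1 + 1))) &&
  decide (x4 (f4 b2, a3 + 1) = sg 4 (x4 (b2, a2 + 1))) &&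
  decide ((x4 (f4 b0, a1)).1 = f4 (x4 (b0, a0)).1) && decide ((x4 (b2, a2 + 1)).1 = f4 (x4 (f4 b0, a1 + 1)).1)

theorem check4 : ∀ (b0 b2 : ZMod 4) (a0 a1 a2 a3 : ZMod 2), cond4 b0 b2 a0 a1 a2 a3 = true →
    b0 = 0 ∧ b2 = 2 ∧ a0 = 0 ∧ a1 = 0 ∧ a2 = 0 ∧ a3 = 0 := by
  decide +kernel

theorem prod4 : ∀ (a : ZMod 4 → ZMod 2), ∏ i, Perm.sign (Equiv.addRight (a i)) = 1 →
    a 0 + a 1 + a 2 + a 3 = 0 := by
  decide +kernel

theorem meet_eight' : MeetIn 2 (alternatingGroup (Om 4)) := by
  refine alt_of_sub (stab f4) (stab_index (k := 2) rfl f4_sq f4_ne) x4 fun y hy hs hxy => ?_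
  obtain ⟨p1, p2⟩ := mem_stab hy
  obtain ⟨q1, q2⟩ := mem_stab hxy
  have hx : x4⁻¹ = x4 := by decide
  rw [hx] at q1 q2
  rw [sign_eq p1] at hs
  have h0 := prod4 _ hs
  obtain ⟨b0, hb0⟩ : ∃ b, (y (0, 0)).1 = b := ⟨_, rfl⟩
  obtain ⟨b2, hb2⟩ : ∃ b, (y (2, 0)).1 = b := ⟨_, rfl⟩
  obtain ⟨a0, ha0⟩ : ∃ b, (y (0, 0)).2 = b := ⟨_, rfl⟩
  obtain ⟨a1, ha1⟩ : ∃ b, (y (1, 0)).2 = b := ⟨_, rfl⟩
  obtain ⟨a2, ha2⟩ : ∃ b, (y (2, 0)).2 = b := ⟨_, rfl⟩
  obtain ⟨a3, ha3⟩ : ∃ b, (y (3, 0)).2 = b := ⟨_, rfl⟩
  simp only [ha0, ha1, ha2, ha3] at h0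
  have y00 : y (0, 0) = (b0, a0) := Prod.ext hb0 ha0
  have y20 : y (2, 0) = (b2, a2) := Prod.ext hb2 ha2
  have y10 : y (1, 0) = (f4 b0, a1) := Prod.ext (by rw [← hb0]; exact p2 0) ha1
  have y30 : y (3, 0) = (f4 b2, a3) := Prod.ext (by rw [← hb2]; exact p2 2) ha3
  have ys : ∀ i b a, y (i, 0) = (b, a) → y (i, 1) = (b, a + 1) := by
    intro i b a h
    have h1 := comm_apply p1 (i, 0)
    rw [h] at h1
    exact h1
  have y01 := ys _ _ _ y00
  have y11 := ys _ _ _ y10
  have y21 := ys _ _ _ y20
  have y31 := ys _ _ _ y30
  have n1 : b0 ≠ b2 := by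
    rintro rfl
    rcases two_cases (a0 + a2) with h | h
    · have h1 : a2 = a0 := by
        rcases two_cases a0 with rfl | rfl <;> rcases two_cases a2 with rfl | rfl <;> first | rfl | (revert h; decide)
      rw [h1] at y20
      have := y.injective (y00.trans y20.symm)
      revert this
      decide
    · have h1 : a2 + 1 = a0 := by
        rcases two_cases a0 with rfl | rfl <;> rcases two_cases a2 with rfl | rfl <;> first | rfl | (revert h; decide)
      rw [h1] at y21
      have := y.injective (y00.trans y21.symm)
      revert this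
      decide
  have n2 : b0 ≠ f4 b2 := by
    rintro rfl
    rcases two_cases (a0 + a3) with h | h
    · have h1 : a3 = a0 := by
        rcases two_cases a0 with rfl | rfl <;> rcases two_cases a3 with rfl | rfl <;> first | rfl | (revert h; decide)
      rw [h1] at y30
      have := y.injective (y00.trans y30.symm)
      revert this
      decide
    · have h1 : a3 + 1 = a0 := by
        rcases two_cases a0 with rfl | rfl <;> rcases two_cases a3 with rfl | rfl <;> first | rfl | (revert h; decide)
      rw [h1] at y31
      have := y.injective (y00.trans y31.symm)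
      revert this
      decide
  have c0 := comm_apply q1 (0, 0)
  have c1 := comm_apply q1 (1, 0)
  have c2 := comm_apply q1 (2, 0)
  have c3 := comm_apply q1 (3, 0)
  have d0 := q2 0
  have d2 := q2 2
  have x00 : x4 (0, 0) = (0, 0) := by decide
  have x01 : x4 (0, 1) = (0, 1) := by decide
  have x10 : x4 (1, 0) = (1, 0) := by decide
  have x11 : x4 (1, 1) = (2, 0) := by decide
  have x20 : x4 (2, 0) = (1, 1) := by decide
  have x21 : x4 (2, 1) = (3, 0) := by decide
  have x30 : x4 (3, 0) = (2, 1) := by decide
  have x31 : x4 (3, 1) = (3, 1) := by decide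
  have s0 : ∀ i : ZMod 4, sg 4 (i, 0) = (i, 1) := by decide
  have f0 : f4 0 = 1 := by decide
  have f2 : f4 2 = 3 := by decide
  rw [s0, Perm.mul_apply, Perm.mul_apply, Perm.mul_apply, Perm.mul_apply, x00, x01, y01, y00] at c0
  rw [s0, Perm.mul_apply, Perm.mul_apply, Perm.mul_apply, Perm.mul_apply, x10, x11, y20, y10] at c1
  rw [s0, Perm.mul_apply, Perm.mul_apply, Perm.mul_apply, Perm.mul_apply, x20, x21, y30, y11] at c2
  rw [s0, Perm.mul_apply, Perm.mul_apply, Perm.mul_apply, Perm.mul_apply, x30, x31, y31, y21] at c3
  rw [f0, Perm.mul_apply, Perm.mul_apply, Perm.mul_apply, Perm.mul_apply, x10, x00, y10, y00] at d0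
  rw [f2, Perm.mul_apply, Perm.mul_apply, Perm.mul_apply, Perm.mul_apply, x30, x20, y21, y11] at d2
  obtain ⟨rfl, rfl, rfl, rfl, rfl, rfl⟩ := check4 b0 b2 a0 a1 a2 a3 (by
    simp only [cond4, Bool.and_eq_true, decide_eq_true_eq]
    exact ⟨⟨⟨⟨⟨⟨⟨⟨n1, n2⟩, h0⟩, c0⟩, c1⟩, c2⟩, c3⟩, d0⟩, d2⟩)
  rw [f0] at y10 y11
  rw [f2] at y30 y31
  ext1 ⟨i, s⟩
  rw [Perm.one_apply]
  fin_cases i
  · rcases two_cases s with rfl | rfl
    · exact y00
    · exact y01
  · rcases two_cases s with rfl | rfl
    · exact y10
    · exact y11
  · rcases two_cases s with rfl | rfl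
    · exact y20
    · exact y21
  · rcases two_cases s with rfl | rfl
    · exact y30
    · exact y31

end Cfsg.Agent.H178.MeetTwo
end

-- part: H178/MeetTwo/Main
section
/-!
# Two Sylow `2`-subgroups of `S_n` (`n ≠ 2, 4, 8`) and of `A_n` (`n ≥ 5`) meeting trivially

* `sym2` : `MeetIn 2 (Perm (Fin n))` for `n ≠ 2, 4, 8`;
* `meet2_alt` : `MeetIn 2 (alternatingGroup (Fin n))` for `n ≥ 5`.
-/

set_option autoImplicit false

namespace Cfsg.Agent.H178.MeetTwo

open Equiv Cfsg.Agent.H68.MeetB

/-- a Sylow `2`-subgroup of the symmetric group of degree `n ≠ 2, 4, 8` meets some conjugate trivially -/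
theorem sym2 {n : ℕ} (h2 : n ≠ 2) (h4 : n ≠ 4) (h8 : n ≠ 8) : MeetIn 2 (Perm (Fin n)) := by
  rcases Nat.eq_zero_or_pos n with h0 | h0
  · subst h0
    exact fun R _ => ⟨1, fun y _ _ => Subsingleton.elim _ _⟩
  have hcases : n % 2 = 1 ∨ n % 4 = 2 ∨ n % 4 = 0 := by omega
  rcases hcases with h | h | h
  · have : NeZero n := ⟨h0.ne'⟩
    have e : ZMod n ≃ Fin n := Fintype.equivOfCardEq (by rw [ZMod.card, Fintype.card_fin])
    exact MeetIn.congr e.permCongrHom (meet_odd (Nat.odd_iff.2 h))
  · have : NeZero (n - 1) := ⟨by omega⟩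
    have e : Option (ZMod (n - 1)) ≃ Fin n :=
      Fintype.equivOfCardEq (by rw [Fintype.card_option, ZMod.card, Fintype.card_fin]; omega)
    exact MeetIn.congr e.permCongrHom (meet_two (by omega) (by omega))
  · have : NeZero (2 * (n / 4)) := ⟨by omega⟩
    have e : Om (2 * (n / 4)) ≃ Fin n :=
      Fintype.equivOfCardEq (by rw [Fintype.card_prod, ZMod.card, ZMod.card, Fintype.card_fin]; omega)
    exact MeetIn.congr e.permCongrHom (meet_four (by omega))

/-- a Sylow `2`-subgroup of the alternating group of degree `n ≥ 5` meets some conjugate trivially -/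
theorem meet2_alt {n : ℕ} (hn : 5 ≤ n) : MeetIn 2 (alternatingGroup (Fin n)) := by
  by_cases h8 : n = 8
  · subst h8
    have e : Om 4 ≃ Fin 8 := Fintype.equivOfCardEq rfl
    exact MeetIn.congr e.altCongrHom meet_eight'
  · have : Nontrivial (Fin n) := Fin.nontrivial_iff_two_le.2 (by omega)
    exact alt_of_perm (sym2 (by omega) (by omega) h8)

end Cfsg.Agent.H178.MeetTwo
end

-- part: H903/MeetStein
section
set_option autoImplicit false

namespace Cfsg.Agent.H903.MeetStein

open Cfsg Cfsg.Lie Cfsg.Agent.H903.SylMeet Cfsg.Agent.H68.MeetB Cfsg.Agent.H903.MeetDZ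

theorem of_stein {G : Type*} [Group G] [Finite G] {p : ℕ} [Fact p.Prime]
    (h : ∃ χ : G → ℂ, IsIrrCharacter G χ ∧ ∀ P : Sylow p G, χ 1 = Nat.card P ∧ ∀ x : G, x ∈ P → x ≠ 1 → χ x = 0) :
    MeetIn p G := by
  obtain ⟨χ, hirr, hχ⟩ := h
  obtain ⟨P⟩ : Nonempty (Sylow p G) := inferInstance
  exact meetIn_of_degree χ hirr P (hχ P).1

variable {F : Type*} [Field F] [Fintype F] {p : ℕ} [Fact p.Prime] [CharP F p]

theorem meetIn_psl {n : ℕ} (hn : 2 ≤ n) : MeetIn p (Matrix.ProjectiveSpecialLinearGroup (Fin n) F) :=
  of_stein (Cfsg.Agent.S2544.result p n hn)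

theorem meetIn_psp {m : ℕ} (hm : 1 ≤ m) : MeetIn p (PSp m F) :=
  of_stein (Cfsg.Agent.S2545.result p m hm)

theorem meetIn_psu {n q : ℕ} (hn : 2 ≤ n) (hF : Fintype.card F = q ^ 2) : MeetIn p (PSU n F q) :=
  of_stein (Cfsg.Agent.S2546.result p n q hn hF)

theorem meetIn_plus {m : ℕ} (hm : 1 ≤ m) : MeetIn p (POmega F (quadFormPlus m F)) :=
  of_stein (Cfsg.Agent.S2548.result p m hm)

theorem meetIn_minus {m : ℕ} (a b : F) (hab : ∀ z₁ z₂ : F, z₁ ^ 2 + a * z₁ * z₂ + b * z₂ ^ 2 = 0 → z₁ = 0 ∧ z₂ = 0) :
    MeetIn p (POmega F (quadFormMinus m F a b)) :=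
  of_stein (Cfsg.Agent.S2549.result p m a b hab)

end Cfsg.Agent.H903.MeetStein
end

-- part: H903/Syl2Class
section
set_option autoImplicit false

namespace Cfsg.Agent.H903.Syl2Class

open Cfsg Cfsg.Agent.H68.MeetB

/-- parity of a finite field -/
theorem field_cases (F : Type) [Field F] [Fintype F] : CharP F 2 ∨ Odd (Fintype.card F) := by
  obtain ⟨r, hr⟩ := CharP.exists F
  obtain ⟨n, hrp, hcard⟩ := FiniteField.card F r
  by_cases h2 : r = 2
  · subst h2
    exact Or.inl hr
  · right
    rw [hcard]
    exact (hrp.odd_of_ne_two h2).pow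

section rows

variable {T : Type*} [Group T]

theorem alt (h : IsAlternating T) : MeetIn 2 T := by
  obtain ⟨n, hn, ⟨e⟩⟩ := h
  exact MeetIn.congr e.symm (Cfsg.Agent.H178.MeetTwo.meet2_alt hn)

theorem psl (h : IsPSL T) : MeetIn 2 T := by
  have : Fact (Nat.Prime 2) := ⟨Nat.prime_two⟩
  obtain ⟨F, _, _, n, hn, h2, ⟨e⟩⟩ := h
  refine MeetIn.congr e.symm ?_
  rcases field_cases F with h1 | h1
  · exact Cfsg.Agent.H903.MeetStein.meetIn_psl hn
  · by_cases hn2 : n = 2
    · subst hn2
      exact Cfsg.Agent.H597.MeetZ.meet2_PSL2 h1 (h2 rfl)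
    · exact Cfsg.Agent.H728.Meet2.meet2_PSL (by omega) h1

theorem psp (h : IsPSp T) : MeetIn 2 T := by
  have : Fact (Nat.Prime 2) := ⟨Nat.prime_two⟩
  obtain ⟨F, _, _, m, hm, h2, ⟨e⟩⟩ := h
  refine MeetIn.congr e.symm ?_
  rcases field_cases F with h1 | h1
  · exact Cfsg.Agent.H903.MeetStein.meetIn_psp (by omega)
  · exact Cfsg.Agent.H458.M2Sp.meet2_PSp h1 hm

theorem psu (h : IsPSU T) : MeetIn 2 T := by
  have : Fact (Nat.Prime 2) := ⟨Nat.prime_two⟩
  obtain ⟨F, _, _, n, q, hF, hn, h2, ⟨e⟩⟩ := h
  refine MeetIn.congr e.symm ?_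
  rcases field_cases F with h1 | h1
  · exact Cfsg.Agent.H903.MeetStein.meetIn_psu (by omega) hF
  · refine Cfsg.Agent.H728.Meet2.meet2_PSU hF ?_ hn
    rw [hF, Nat.odd_iff] at h1
    rw [Nat.odd_iff]
    rcases Nat.mod_two_eq_zero_or_one q with h | h
    · rw [Nat.pow_mod, h] at h1
      simp at h1
    · exact h

theorem pomega_odd (h : IsPOmegaOdd T) : MeetIn 2 T := by
  obtain ⟨F, _, _, m, hm, ho, ⟨e⟩⟩ := h
  exact MeetIn.congr e.symm (Cfsg.Agent.H955.Rig.meet2_odd ho hm)

theorem pomega_plus (h : IsPOmegaPlus T) : MeetIn 2 T := by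
  have : Fact (Nat.Prime 2) := ⟨Nat.prime_two⟩
  obtain ⟨F, _, _, m, hm, ⟨e⟩⟩ := h
  refine MeetIn.congr e.symm ?_
  rcases field_cases F with h1 | h1
  · exact Cfsg.Agent.H903.MeetStein.meetIn_plus (by omega)
  · exact Cfsg.Agent.H955.Rig.meet2_plus h1 hm

theorem pomega_minus (h : IsPOmegaMinus T) : MeetIn 2 T := by
  have : Fact (Nat.Prime 2) := ⟨Nat.prime_two⟩
  obtain ⟨F, _, _, m, a, b, hm, hab, ⟨e⟩⟩ := h
  refine MeetIn.congr e.symm ?_
  rcases field_cases F with h1 | h1
  · exact Cfsg.Agent.H903.MeetStein.meetIn_minus a b hab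
  · exact Cfsg.Agent.H955.Rig.meet2_minus h1 hm a b hab

end rows

end Cfsg.Agent.H903.Syl2Class
end

private theorem dce_9256773aa8b2 : _root_.True := by
  try have : _root_.True := by simp only [_root_.Cfsg.Agent.H178.MeetTwo.cond4.eq_1]
  try have : _root_.True := by simp only [_root_.Cfsg.Agent.H178.MeetTwo.ff.eq_1]
  try have : _root_.True := by simp only [_root_.Cfsg.Agent.H178.MeetTwo.stab.eq_1]
  exact _root_.True.intro
end

-- part: H790/Frm/Chev
section
prune_inst 0x4001000605900020000000094010000044d0000000003000000000a060308026a4002a60024002000100a8000000000400000009000400000040004000001000000881202a048a004a0009e001000000000000000000000000000000000000004000000000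
set_option linter.all false
open scoped Cfsg.Agent.FastGrp

-- part: H790/Frm/Inter
section
/-!
# `U₀ N U₀ ∩ (U₀ N U₀) ^ u` for a regular unipotent element `u` (helper790)

`R : RGD cs h p T n X` a root group datum in characteristic `p`.

* `Big cs h` : the positive roots which are not simple; `U0 = Sup X Big`;
* `KK R = U0 * N * U0`;
* `mem_U0` : `g`, `u g u⁻¹ ∈ KK R` implies `g ∈ U0`, for `u ∈ U` regular (modulo `U0`), if the torus acts freely on `u`;
* `exists_reg` : elements `u` with prescribed simple coordinates;
* `meetIn` : if `K ⊆ KK R` is a subgroup of index prime to `l ≠ p` then `MeetIn l Y`.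
-/

set_option autoImplicit false
set_option linter.unusedSectionVars false

namespace Cfsg.Agent.H790.Frm

open CoxeterSystem Cfsg.Agent.ChevalleyStructure.CoxeterGeom Cfsg.Agent.Tits.Roots Cfsg.Agent.Tits.Core
  Cfsg.Agent.Tits.Exchange Cfsg.Agent.Nodes.Reps Cfsg.Agent.Nodes.BNOf Cfsg.Agent.Nodes.StabComb
  Cfsg.Agent.Nodes.Bruhat Cfsg.Agent.Nodes.OppDec Cfsg.Agent.Nodes.NormalForm

variable {I W Y : Type*} [Fintype I] [DecidableEq I] [Group W] [Group Y] {M : CoxeterMatrix I}
  {cs : CoxeterSystem M W} {A : I → I → ℤ} {h : IsCartan M A} {p : ℕ} {T : Subgroup Y} {n : I → Y}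
  {X : (I → ℤ) → Subgroup Y}

/-- the positive roots which are not simple -/
def Big (cs : CoxeterSystem M W) (h : IsCartan M A) : Set (I → ℤ) := {x | IsRoot cs h x ∧ 0 ≤ x ∧ ∀ i, x ≠ sr i}

/-- the join of the root groups of the positive roots which are not simple -/
def U0 (cs : CoxeterSystem M W) (h : IsCartan M A) (X : (I → ℤ) → Subgroup Y) : Subgroup Y := RGD.Sup X (Big cs h)

theorem U0_le_V (i : I) : U0 cs h X ≤ RGD.Sup X (RGD.PosNe cs h i) :=
  RGD.Sup_mono fun _ hx => ⟨hx.1, hx.2.1, hx.2.2 i⟩

theorem U0_le_U : U0 cs h X ≤ RGD.Sup X (RGD.Pos cs h) := RGD.Sup_mono fun _ hx => ⟨hx.1, hx.2.1⟩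

variable (R : RGD cs h p T n X)

/-- the set `U0 N U0` -/
def KK : Set Y := {g | ∃ b ∈ U0 cs h X, ∃ k ∈ NN cs R.nsys, ∃ c ∈ U0 cs h X, g = b * k * c}

include R

theorem U_le_normalizer_V (i : I) :
    RGD.Sup X (RGD.Pos cs h) ≤ Subgroup.normalizer (RGD.Sup X (RGD.PosNe cs h i) : Set Y) := by
  rw [R.Upos_eq i]
  exact sup_le (R.X_le_normalizer_V i) Subgroup.le_normalizer

theorem conj_V {i : I} {u v : Y} (hu : u ∈ RGD.Sup X (RGD.Pos cs h)) (hv : v ∈ RGD.Sup X (RGD.PosNe cs h i)) :
    u * v * u⁻¹ ∈ RGD.Sup X (RGD.PosNe cs h i) :=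
  (Subgroup.mem_normalizer_iff.1 (U_le_normalizer_V R i hu) v).1 hv

theorem conj_V' {i : I} {u v : Y} (hu : u ∈ RGD.Sup X (RGD.Pos cs h)) (hv : v ∈ RGD.Sup X (RGD.PosNe cs h i)) :
    u⁻¹ * v * u ∈ RGD.Sup X (RGD.PosNe cs h i) := by
  have := conj_V R (inv_mem hu) hv
  rwa [inv_inv] at this

theorem tconj_V {i : I} {t v : Y} (ht : t ∈ T) (hv : v ∈ RGD.Sup X (RGD.PosNe cs h i)) :
    t * v * t⁻¹ ∈ RGD.Sup X (RGD.PosNe cs h i) :=
  (Subgroup.mem_normalizer_iff.1 (R.T_le_normalizer (fun _ hx => hx.1) ht) v).1 hv

theorem tconj_U {t v : Y} (ht : t ∈ T) (hv : v ∈ RGD.Sup X (RGD.Pos cs h)) :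
    t * v * t⁻¹ ∈ RGD.Sup X (RGD.Pos cs h) :=
  (Subgroup.mem_normalizer_iff.1 (R.T_le_normalizer_U ht) v).1 hv

/-- `g`, `u g u⁻¹ ∈ U0 N U0` implies `g ∈ U0` -/
theorem mem_U0 [Finite W] {u : Y} (hu : u ∈ RGD.Sup X (RGD.Pos cs h))
    (hreg : ∀ i, u ∉ RGD.Sup X (RGD.PosNe cs h i))
    (hT : ∀ t ∈ T, (∀ i, u⁻¹ * (t * u * t⁻¹) ∈ RGD.Sup X (RGD.PosNe cs h i)) → t = 1)
    {g : Y} (hg : g ∈ KK R) (hg' : u * g * u⁻¹ ∈ KK R) : g ∈ U0 cs h X := by
  obtain ⟨b1, hb1, k1, ⟨w1, hk1⟩, c1, hc1, e1⟩ := hg
  obtain ⟨b2, hb2, k2, ⟨w2, hk2⟩, c2, hc2, e2⟩ := hg'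
  have hv : b2⁻¹ * u * b1 ∈ RGD.Sup X (RGD.Pos cs h) :=
    mul_mem (mul_mem (inv_mem (U0_le_U hb2)) hu) (U0_le_U hb1)
  have hv' : c2 * u * c1⁻¹ ∈ RGD.Sup X (RGD.Pos cs h) :=
    mul_mem (mul_mem (U0_le_U hc2) hu) (inv_mem (U0_le_U hc1))
  set v := b2⁻¹ * u * b1 with hvd
  set v' := c2 * u * c1⁻¹ with hvd'
  have key : v * k1 = k2 * v' := by
    have h1 : u * (b1 * k1 * c1) = b2 * k2 * c2 * u := by
      rw [← e1, ← e2]; group
    have h2 : v * k1 = b2⁻¹ * (u * (b1 * k1 * c1)) * c1⁻¹ := by rw [hvd]; group
    rw [h2, h1, hvd']; group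
  have hw : w1 = w2 := by
    have h1 : Cell R.nsys cs h X w1 (v * k1) := (cell_of_rp hk1).mul_left (RGD.U_le_B hv)
    have h2 : Cell R.nsys cs h X w2 (v * k1) := by
      rw [key]; exact (cell_of_rp hk2).mul_right (RGD.U_le_B hv')
    exact Cell.unique R h1 h2
  subst hw
  have ht : k1⁻¹ * k2 ∈ T := hk1.unique hk2
  have hB : k1 * v' * k1⁻¹ ∈ RGD.B cs h T X := by
    have h1 : k1 * v' * k1⁻¹ = (k1 * (k1⁻¹ * k2) * k1⁻¹)⁻¹ * v := by
      have : v = k2 * v' * k1⁻¹ := by rw [← key]; group
      rw [this]; group
    rw [h1]
    refine mul_mem (inv_mem (RGD.T_le_B ?_)) (RGD.U_le_B hv)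
    exact (Subgroup.mem_normalizer_iff.1 hk1.mem_normalizer _).1 ht
  have hPW : v' ∈ RGD.Sup X (PW cs h w1) := by
    have h1 := mem_PW_of_conj R hk1.inv hv' (by rwa [inv_inv])
    rwa [inv_inv] at h1
  have hw1 : w1 = 1 := by
    by_contra hne
    obtain ⟨i, hi⟩ := cs.exists_rightDescent_of_ne_one hne
    have hneg : rep cs h w1 (sr i) ≤ 0 := nonpos_of_lt cs h w1 i hi
    have h1 : v' ∈ RGD.Sup X (RGD.PosNe cs h i) := by
      refine RGD.Sup_mono (S := PW cs h w1) (S' := RGD.PosNe cs h i) (fun x hx => ⟨hx.1, hx.2.1, ?_⟩) hPW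
      rintro rfl
      exact (hx.1.act w1).not_pos_neg hx.2.2 hneg
    apply hreg i
    have h2 : u = c2⁻¹ * v' * c1 := by rw [hvd']; group
    rw [h2]
    exact mul_mem (mul_mem (inv_mem (U0_le_V i hc2)) h1) (U0_le_V i hc1)
  subst hw1
  have hk1T := hk1.mem_of_one
  have hk2T := hk2.mem_of_one
  have hUT : v * (k1 * v'⁻¹ * k1⁻¹) = 1 := by
    have h1 : v * (k1 * v'⁻¹ * k1⁻¹) ∈ RGD.Sup X (RGD.Pos cs h) ⊓ T := by
      rw [Subgroup.mem_inf]
      refine ⟨mul_mem hv (tconj_U R hk1T (inv_mem hv')), ?_⟩
      have : v * (k1 * v'⁻¹ * k1⁻¹) = k2 * k1⁻¹ := by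
        calc v * (k1 * v'⁻¹ * k1⁻¹) = (v * k1) * v'⁻¹ * k1⁻¹ := by group
          _ = k2 * k1⁻¹ := by rw [key]; group
      rw [this]
      exact mul_mem hk2T (inv_mem hk1T)
    rwa [U_inf_T R, Subgroup.mem_bot] at h1
  have hk : k1 = 1 := by
    refine hT k1 hk1T fun i => ?_
    have h1 : k1 * u * k1⁻¹ = (k1 * c2 * k1⁻¹)⁻¹ * (b2⁻¹ * u * b1) * (k1 * c1 * k1⁻¹) := by
      have h2 : k1 * v' * k1⁻¹ = v := by
        have : v = v * (k1 * v'⁻¹ * k1⁻¹) * (k1 * v' * k1⁻¹) := by group
        rw [this, hUT, one_mul]
      rw [← hvd, ← h2, hvd']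
      group
    have h3 : u⁻¹ * (k1 * u * k1⁻¹) =
        (u⁻¹ * ((k1 * c2 * k1⁻¹)⁻¹ * b2⁻¹) * u) * (b1 * (k1 * c1 * k1⁻¹)) := by
      rw [h1]; group
    rw [h3]
    refine mul_mem (conj_V' R hu (mul_mem (inv_mem (tconj_V R hk1T (U0_le_V i hc2))) (inv_mem (U0_le_V i hb2))))
      (mul_mem (U0_le_V i hb1) (tconj_V R hk1T (U0_le_V i hc1)))
  rw [e1, hk, mul_one]
  exact mul_mem hb1 hc1

/-- an element of `U` with prescribed simple coordinates -/
theorem exists_reg {x : I → Y} (hx : ∀ i, x i ∈ X (sr i)) :
    ∃ u ∈ RGD.Sup X (RGD.Pos cs h), ∀ i, ∃ v ∈ RGD.Sup X (RGD.PosNe cs h i), u = x i * v := by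
  classical
  have hxU : ∀ i, x i ∈ RGD.Sup X (RGD.Pos cs h) := fun i =>
    RGD.le_Sup (S := RGD.Pos cs h) ⟨isRoot_sr cs h i, sr_nonneg i⟩ (hx i)
  have hxV : ∀ i j, j ≠ i → x j ∈ RGD.Sup X (RGD.PosNe cs h i) := fun i j hji =>
    RGD.le_Sup (S := RGD.PosNe cs h i) ⟨isRoot_sr cs h j, sr_nonneg j, fun he => hji (by
      have h1 := congrFun he j
      rw [sr_self] at h1
      by_contra h2
      rw [sr_ne h2] at h1
      exact one_ne_zero h1)⟩ (hx j)
  have key : ∀ l : List I, l.Nodup → (l.map x).prod ∈ RGD.Sup X (RGD.Pos cs h) ∧ ∀ i,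
      (i ∉ l → (l.map x).prod ∈ RGD.Sup X (RGD.PosNe cs h i)) ∧
      (i ∈ l → ∃ v ∈ RGD.Sup X (RGD.PosNe cs h i), (l.map x).prod = x i * v) := by
    intro l
    induction l with
    | nil => exact fun _ => ⟨one_mem _, fun i => ⟨fun _ => one_mem _, fun hi => absurd hi (by simp)⟩⟩
    | cons j l ih =>
      intro hnd
      rw [List.nodup_cons] at hnd
      obtain ⟨ih1, ih2⟩ := ih hnd.2
      rw [List.map_cons, List.prod_cons]
      refine ⟨mul_mem (hxU j) ih1, fun i => ⟨fun hi => ?_, fun hi => ?_⟩⟩
      · rw [List.mem_cons, not_or] at hi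
        exact mul_mem (hxV i j (Ne.symm hi.1)) ((ih2 i).1 hi.2)
      · rcases eq_or_ne i j with rfl | hij
        · exact ⟨_, (ih2 i).1 hnd.1, rfl⟩
        · have hil : i ∈ l := (List.mem_cons.1 hi).resolve_left hij
          obtain ⟨v, hv, e⟩ := (ih2 i).2 hil
          refine ⟨((x i)⁻¹ * x j * x i) * v, mul_mem (conj_V' R (hxU i) (hxV i j (Ne.symm hij))) hv, ?_⟩
          rw [e]; group
  obtain ⟨h1, h2⟩ := key Finset.univ.toList (Finset.nodup_toList _)
  exact ⟨_, h1, fun i => (h2 i).2 (by simp)⟩

/-- **Elements `g` with `g`, `u g u⁻¹ ∈ U0 N U0`.** -/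
theorem exists_elt [Finite W] {x : I → Y} (hx : ∀ i, x i ∈ X (sr i)) (hx1 : ∀ i, x i ≠ 1)
    (hT : ∀ t ∈ T, (∀ i, t * x i = x i * t) → t = 1) :
    ∃ u : Y, u ∈ RGD.Sup X (RGD.Pos cs h) ∧ ∀ g ∈ KK R, u * g * u⁻¹ ∈ KK R → g ∈ U0 cs h X := by
  obtain ⟨u, hu, huv⟩ := exists_reg R hx
  refine ⟨u, hu, fun g hg hg' => mem_U0 R hu (fun i hi => ?_) (fun t ht htu => ?_) hg hg'⟩
  · obtain ⟨v, hv, e⟩ := huv i
    apply hx1 i
    refine eq_one_of_mem_PosNe R (hx i) ?_
    have : x i = u * v⁻¹ := by rw [e]; group
    rw [this]
    exact mul_mem hi (inv_mem hv)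
  · refine hT t ht fun i => ?_
    obtain ⟨v, hv, e⟩ := huv i
    have h1 := htu i
    have h2 : (x i)⁻¹ * (t * x i * t⁻¹) = v * (u⁻¹ * (t * u * t⁻¹)) * (t * v * t⁻¹)⁻¹ := by
      rw [e]; group
    have h3 : (x i)⁻¹ * (t * x i * t⁻¹) ∈ RGD.Sup X (RGD.PosNe cs h i) := by
      rw [h2]
      exact mul_mem (mul_mem hv h1) (inv_mem (tconj_V R ht hv))
    have h4 : (x i)⁻¹ * (t * x i * t⁻¹) ∈ X (sr i) := by
      refine mul_mem (inv_mem (hx i)) ?_
      have := R.tor (sr i) (isRoot_sr cs h i) t ht
      rw [← this]
      exact conj_mem_cj.2 (hx i)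
    have h5 := eq_one_of_mem_PosNe R h4 h3
    have h6 : t * x i = x i * ((x i)⁻¹ * (t * x i * t⁻¹)) * t := by group
    rw [h6, h5, mul_one]

/-- **`MeetIn`** from a subgroup of index prime to `l` contained in `U0 N U0`. -/
theorem meetIn [Finite W] [Finite Y] {l : ℕ} [Fact l.Prime] [Fact p.Prime] (hlp : l ≠ p) {x : I → Y}
    (hx : ∀ i, x i ∈ X (sr i)) (hx1 : ∀ i, x i ≠ 1) (hT : ∀ t ∈ T, (∀ i, t * x i = x i * t) → t = 1)
    (K : Subgroup Y) (hK : ∀ g ∈ K, g ∈ KK R) (hi : ¬ l ∣ K.index) : H68.MeetB.MeetIn l Y := by
  obtain ⟨S⟩ : Nonempty (Sylow l K) := inferInstance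
  obtain ⟨u, -, hu⟩ := exists_elt R hx hx1 hT
  have hS : ∀ y ∈ (S : Subgroup K).map K.subtype, y ∈ K := by
    rintro _ ⟨z, -, rfl⟩
    exact z.2
  refine H68.MeetB.MeetIn.of_one ((S : Subgroup K).map K.subtype) (S.isPGroup'.map _) ?_ ⟨u, fun y hy hy' => ?_⟩
  · rw [Subgroup.index_map_subtype]
    intro h1
    rcases (Fact.out : l.Prime).dvd_mul.1 h1 with h2 | h2
    · exact S.not_dvd_index h2
    · exact hi h2
  · have h1 : y ∈ RGD.Sup X (RGD.Pos cs h) := U0_le_U (hu y (hK y (hS y hy)) (hK _ (hS _ hy')))
    obtain ⟨a, ha⟩ := R.isPGroup_Upos ⟨y, h1⟩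
    obtain ⟨b, hb⟩ := (S.isPGroup'.map K.subtype) ⟨y, hy⟩
    have ha' : y ^ p ^ a = 1 := by
      have := congrArg Subtype.val ha
      simpa only [_root_.SubmonoidClass.mk_pow, _root_.OneMemClass.coe_one] using this
    have hb' : y ^ l ^ b = 1 := by
      have := congrArg Subtype.val hb
      simpa only [_root_.SubmonoidClass.mk_pow, _root_.OneMemClass.coe_one] using this
    have hc : (p ^ a).Coprime (l ^ b) :=
      Nat.Coprime.pow _ _ ((Nat.coprime_primes (Fact.out : p.Prime) (Fact.out : l.Prime)).2 (Ne.symm hlp))
    have h2 : orderOf y ∣ 1 := by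
      have h3 := Nat.dvd_gcd (orderOf_dvd_of_pow_eq_one ha') (orderOf_dvd_of_pow_eq_one hb')
      rwa [hc] at h3
    exact orderOf_eq_one_iff.1 (Nat.dvd_one.1 h2)

end Cfsg.Agent.H790.Frm
end

-- part: H790/Frm/RankOne
section
/-!
# The rank one groups `LL X y = ⟨X y, X (-y)⟩` and `N` (helper790)

`y` a positive root, `m ∈ LL X y` over the reflection of `y`.

* `form1` : `LL X y = X y T₁ ∪ X y T₁ m X y`, `T₁ = T ∩ LL X y`;
* `mem_form` : the elements of `N ∩ LL X y` are in `T₁ ∪ T₁ m`;
* `two_mul_relIndex` : `2 |LL X y : N ∩ LL X y| = |X y| (|X y| + 1)`.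
-/

set_option autoImplicit false
set_option linter.unusedSectionVars false

namespace Cfsg.Agent.H790.Frm

open CoxeterSystem Cfsg.Agent.ChevalleyStructure.CoxeterGeom Cfsg.Agent.Tits.Roots Cfsg.Agent.Tits.Core
  Cfsg.Agent.Tits.Exchange Cfsg.Agent.Nodes.Reps Cfsg.Agent.Nodes.BNOf Cfsg.Agent.Nodes.StabComb
  Cfsg.Agent.Nodes.Bruhat Cfsg.Agent.Nodes.OppDec Cfsg.Agent.Nodes.NormalForm
  Cfsg.Agent.Nodes.FreeTorus Cfsg.Agent.Nodes.Coroot Cfsg.Agent.Nodes.Perp

variable {I W Y : Type*} [Fintype I] [DecidableEq I] [Group W] [Group Y] [Fintype W] {M : CoxeterMatrix I}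
  {cs : CoxeterSystem M W} {A : I → I → ℤ} {h : IsCartan M A} {p : ℕ} {T : Subgroup Y} {n : I → Y}
  {X : (I → ℤ) → Subgroup Y}

theorem relIndex_mul_card_inf {G : Type*} [Group G] [Finite G] (H K : Subgroup G) :
    H.relIndex K * Nat.card ↥(H ⊓ K) = Nat.card K := by
  have h1 := (H.subgroupOf K).index_mul_card
  have h2 : Nat.card ↥(H.subgroupOf K) = Nat.card ↥(H ⊓ K) := by
    rw [← Subgroup.subgroupOf_map_subtype H K]
    exact (Nat.card_congr ((H.subgroupOf K).equivMapOfInjective _ K.subtype_injective).toEquiv)
  rwa [h2] at h1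

/-- `m ∈ LL X y` represents the reflection of `y` -/
structure Rf (R : RGD cs h p T n X) (y : I → ℤ) (w : W) (m : Y) : Prop where
  mem : m ∈ LL X y
  rp : Rp cs R.nsys w m
  refl : ∀ x, rep cs h w x = x - cpr cs h x y • y

variable (R : RGD cs h p T n X)

include R

theorem exists_rf {y : I → ℤ} (hy : IsRoot cs h y) : ∃ w m, Rf R y w m := by
  obtain ⟨b, hb, hb1⟩ : ∃ b ∈ X (-y), b ≠ 1 := by
    by_contra h0
    push Not at h0
    exact Cfsg.Agent.Nodes.Bruhat.X_ne_bot R hy.neg ((Subgroup.eq_bot_iff_forall _).2 h0)
  obtain ⟨a, ha, c, hc, w, hm, hw⟩ := exists_refl_LL R hy hb hb1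
  exact ⟨w, a * b * c, mul_mem (mul_mem ((le_sup_left : X y ≤ LL X y) ha) ((le_sup_right : X (-y) ≤ LL X y) hb))
    ((le_sup_left : X y ≤ LL X y) hc), hm, hw⟩

omit R in
theorem X_le_LL (y : I → ℤ) : X y ≤ LL X y := le_sup_left

variable {y : I → ℤ} (hy : IsRoot cs h y) (hy0 : 0 ≤ y) {w : W} {m : Y} (hm : Rf R y w m)

include hy

theorem Rf.neg (hm : Rf R y w m) : rep cs h w y = -y := by
  rw [hm.refl, cpr_self cs h hy]; module

include hm

theorem form1 {g : Y} (hg : g ∈ LL X y) : (∃ a ∈ X y, ∃ t ∈ T, t ∈ LL X y ∧ g = a * t) ∨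
    ∃ a ∈ X y, ∃ t ∈ T, t ∈ LL X y ∧ ∃ b ∈ X y, g = a * t * m * b := by
  rcases Cfsg.Agent.Nodes.RankOneSub.exists_form R hy hm.rp hm.refl (show g ∈ T ⊔ LL X y from le_sup_right (a := T) hg) with
    ⟨a, ha, t, ht, e⟩ | ⟨a, ha, t, ht, b, hb, e⟩
  · refine Or.inl ⟨a, ha, t, ht, ?_, e⟩
    have : t = a⁻¹ * g := by rw [e]; group
    rw [this]
    exact mul_mem (inv_mem (X_le_LL y ha)) hg
  · refine Or.inr ⟨a, ha, t, ht, ?_, b, hb, e⟩
    have : t = a⁻¹ * g * b⁻¹ * m⁻¹ := by rw [e]; group
    rw [this]
    exact mul_mem (mul_mem (mul_mem (inv_mem (X_le_LL y ha)) hg) (inv_mem (X_le_LL y hb))) (inv_mem hm.mem)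

include hy0

omit R hm in
theorem X_le_Pos : X y ≤ RGD.Sup X (RGD.Pos cs h) := RGD.le_Sup (S := RGD.Pos cs h) ⟨hy, hy0⟩

theorem X_le_NW : X y ≤ RGD.Sup X (NW cs h w) :=
  RGD.le_Sup (S := NW cs h w) ⟨hy, hy0, by rw [hm.neg R hy]; exact neg_nonpos.2 hy0⟩

/-- uniqueness of the second form -/
theorem form_unique {a t b a' t' b' : Y} (ha : a ∈ X y) (ht : t ∈ T) (hb : b ∈ X y) (ha' : a' ∈ X y) (ht' : t' ∈ T)
    (hb' : b' ∈ X y) (e : a * t * m * b = a' * t' * m * b') : a = a' ∧ t = t' ∧ b = b' := by
  have h1 : ∀ {t : Y}, t ∈ T → Rp cs R.nsys w (t * m) := fun {t} ht => by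
    have := (rp_of_mem (cs := cs) (hN := R.nsys) ht).mul hm.rp
    rwa [one_mul] at this
  obtain ⟨e1, e2, e3⟩ := normal_form_unique R (X_le_Pos hy hy0 ha) (X_le_Pos hy hy0 ha') (h1 ht) (h1 ht')
    (X_le_NW R hy hy0 hm hb) (X_le_NW R hy hy0 hm hb') (by rw [← mul_assoc, ← mul_assoc]; exact e)
  exact ⟨e1, mul_right_cancel e2, e3⟩

/-- the elements of `N ∩ LL X y`, first form -/
theorem mem_form1 {a t : Y} (ha : a ∈ X y) (ht : t ∈ T) (hN : a * t ∈ NN cs R.nsys) : a = 1 := by
  have h1 : a ∈ NN cs R.nsys := by
    have : a = a * t * t⁻¹ := by group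
    rw [this]
    exact mul_mem hN ⟨1, rp_of_mem (inv_mem ht)⟩
  have h2 : a ∈ RGD.B cs h T X ⊓ NN cs R.nsys := ⟨RGD.U_le_B (X_le_Pos hy hy0 ha), h1⟩
  rw [R.B_inf_NN] at h2
  have h3 : a ∈ RGD.Sup X (RGD.Pos cs h) ⊓ T := ⟨X_le_Pos hy hy0 ha, h2⟩
  rwa [U_inf_T R, Subgroup.mem_bot] at h3

/-- the elements of `N ∩ LL X y`, second form -/
theorem mem_form2 {a t b : Y} (ha : a ∈ X y) (ht : t ∈ T) (hb : b ∈ X y) (hN : a * t * m * b ∈ NN cs R.nsys) :
    a = 1 ∧ b = 1 := by
  obtain ⟨v, hv⟩ := hN
  have hk : Rp cs R.nsys w (t * m) := by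
    have := (rp_of_mem (cs := cs) (hN := R.nsys) ht).mul hm.rp
    rwa [one_mul] at this
  have e : a * t * m * b = a * (t * m) * b := by group
  have h1 : Cell R.nsys cs h X w (a * t * m * b) := by
    rw [e]
    exact ((cell_of_rp hk).mul_left (RGD.U_le_B (X_le_Pos hy hy0 ha))).mul_right
      (RGD.U_le_B (X_le_Pos hy hy0 hb))
  have h2 : v = w := Cell.unique R (cell_of_rp hv) h1
  subst h2
  obtain ⟨e1, -, e3⟩ := normal_form_unique R (one_mem _) (X_le_Pos hy hy0 ha) hv hk
    (one_mem _) (X_le_NW R hy hy0 hm hb) (by rw [one_mul, mul_one]; exact e)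
  exact ⟨e1.symm, e3.symm⟩

/-- the two forms exclude each other -/
theorem form_ne {a t a' t' b' : Y} (ha : a ∈ X y) (ht : t ∈ T) (ha' : a' ∈ X y) (ht' : t' ∈ T)
    (hb' : b' ∈ X y) (e : a * t = a' * t' * m * b') : False := by
  have h1 : m ∈ RGD.B cs h T X := by
    have : m = t'⁻¹ * a'⁻¹ * (a * t) * b'⁻¹ := by rw [e]; group
    rw [this]
    have hB : ∀ {z}, z ∈ X y → z ∈ RGD.B cs h T X := fun {z} hz => RGD.U_le_B (X_le_Pos hy hy0 hz)
    exact mul_mem (mul_mem (mul_mem (inv_mem (RGD.T_le_B ht')) (inv_mem (hB ha')))
      (mul_mem (hB ha) (RGD.T_le_B ht))) (inv_mem (hB hb'))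
  have h2 := R.eq_one_of_mem_B hm.rp h1
  have h3 := hm.neg R hy
  rw [h2, map_one, Module.End.one_apply] at h3
  apply hy.ne_zero
  have h4 : (2 : ℤ) • y = 0 := by
    rw [two_smul]; nth_rewrite 2 [h3]; simp
  rcases smul_eq_zero.1 h4 with h5 | h5
  · norm_num at h5
  · exact h5

/-- **the index of `N ∩ LL X y` in `LL X y`** -/
theorem two_mul_relIndex [Finite Y] :
    2 * (NN cs R.nsys).relIndex (LL X y) = Nat.card (X y) * (Nat.card (X y) + 1) := by
  set T1 : Subgroup Y := T ⊓ LL X y with hT1
  have hm' := hm
  -- the cardinality of `LL X y`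
  have hc1 : Nat.card (LL X y) = Nat.card T1 * (Nat.card (X y) * (Nat.card (X y) + 1)) := by
    let f : (↥(X y) × ↥T1) ⊕ (↥(X y) × ↥T1 × ↥(X y)) → ↥(LL X y) := fun z =>
      match z with
      | Sum.inl (a, t) => ⟨(a : Y) * t, mul_mem (X_le_LL y a.2) t.2.2⟩
      | Sum.inr (a, t, b) => ⟨(a : Y) * t * m * b,
          mul_mem (mul_mem (mul_mem (X_le_LL y a.2) t.2.2) hm.mem) (X_le_LL y b.2)⟩
    have hf : Function.Bijective f := by
      constructor
      · rintro (⟨a, t⟩ | ⟨a, t, b⟩) (⟨a', t'⟩ | ⟨a', t', b'⟩) e
        · have e' : (a : Y) * t = a' * t' := congrArg Subtype.val e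
          have h1 : (a' : Y)⁻¹ * a = 1 := by
            have h2 : (a' : Y)⁻¹ * a ∈ X y ⊓ T := by
              refine Subgroup.mem_inf.2 ⟨mul_mem (inv_mem a'.2) a.2, ?_⟩
              have : (a' : Y)⁻¹ * a = t' * (t : Y)⁻¹ := by
                rw [inv_mul_eq_iff_eq_mul, ← mul_assoc, ← e']; group
              rw [this]
              exact mul_mem (show (t' : Y) ∈ T from t'.2.1) (inv_mem (show (t : Y) ∈ T from t.2.1))
            rwa [X_inf_T R hy, Subgroup.mem_bot] at h2
          have h3 : a = a' := Subtype.ext (inv_mul_eq_one.1 h1).symm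
          subst h3
          have h4 : t = t' := Subtype.ext (mul_left_cancel e')
          rw [h4]
        · exact (form_ne R hy hy0 hm a.2 t.2.1 a'.2 t'.2.1 b'.2 (congrArg Subtype.val e)).elim
        · exact (form_ne R hy hy0 hm a'.2 t'.2.1 a.2 t.2.1 b.2 (congrArg Subtype.val e).symm).elim
        · obtain ⟨e1, e2, e3⟩ := form_unique R hy hy0 hm a.2 t.2.1 b.2 a'.2 t'.2.1 b'.2 (congrArg Subtype.val e)
          rw [Subtype.ext e1, Subtype.ext e2, Subtype.ext e3]
      · rintro ⟨g, hg⟩
        rcases form1 R hy hm hg with ⟨a, ha, t, ht, ht', e⟩ | ⟨a, ha, t, ht, ht', b, hb, e⟩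
        · exact ⟨Sum.inl (⟨a, ha⟩, ⟨t, ht, ht'⟩), Subtype.ext e.symm⟩
        · exact ⟨Sum.inr (⟨a, ha⟩, ⟨t, ht, ht'⟩, ⟨b, hb⟩), Subtype.ext e.symm⟩
    rw [← Nat.card_congr (Equiv.ofBijective f hf), Nat.card_sum, Nat.card_prod, Nat.card_prod, Nat.card_prod]
    ring
  -- the cardinality of `N ∩ LL X y`
  have hc2 : Nat.card ↥(NN cs R.nsys ⊓ LL X y) = Nat.card T1 * 2 := by
    let f : ↥T1 ⊕ ↥T1 → ↥(NN cs R.nsys ⊓ LL X y) := fun z =>
      match z with
      | Sum.inl t => ⟨(t : Y), ⟨1, rp_of_mem t.2.1⟩, t.2.2⟩
      | Sum.inr t => ⟨(t : Y) * m, mul_mem (⟨1, rp_of_mem t.2.1⟩ : (t : Y) ∈ NN cs R.nsys) ⟨w, hm.rp⟩,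
          mul_mem t.2.2 hm.mem⟩
    have hf : Function.Bijective f := by
      constructor
      · rintro (t | t) (t' | t') e
        · have e' : (t : Y) = t' := congrArg (fun z : ↥(NN cs R.nsys ⊓ LL X y) => (z : Y)) e
          rw [Subtype.ext e']
        · exfalso
          have e' : (t : Y) = t' * m := congrArg Subtype.val e
          exact form_ne R hy hy0 hm (one_mem _) t.2.1 (one_mem _) t'.2.1 (one_mem _)
            (by rw [one_mul, one_mul, mul_one]; exact e')
        · exfalso
          have e' : (t : Y) * m = t' := congrArg Subtype.val e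
          exact form_ne R hy hy0 hm (one_mem _) t'.2.1 (one_mem _) t.2.1 (one_mem _)
            (by rw [one_mul, one_mul, mul_one]; exact e'.symm)
        · have e' : (t : Y) * m = t' * m := congrArg Subtype.val e
          rw [Subtype.ext (mul_right_cancel e')]
      · rintro ⟨g, hgN, hg⟩
        rcases form1 R hy hm hg with ⟨a, ha, t, ht, ht', e⟩ | ⟨a, ha, t, ht, ht', b, hb, e⟩
        · have h1 := mem_form1 R hy hy0 hm ha ht (by rw [← e]; exact hgN)
          rw [h1, one_mul] at e
          exact ⟨Sum.inl ⟨t, ht, ht'⟩, Subtype.ext e.symm⟩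
        · obtain ⟨h1, h2⟩ := mem_form2 R hy hy0 hm ha ht hb (by rw [← e]; exact hgN)
          rw [h1, h2, one_mul, mul_one] at e
          exact ⟨Sum.inr ⟨t, ht, ht'⟩, Subtype.ext e.symm⟩
    rw [← Nat.card_congr (Equiv.ofBijective f hf), Nat.card_sum]
    ring
  have h1 : (NN cs R.nsys).relIndex (LL X y) * Nat.card ↥(NN cs R.nsys ⊓ LL X y) = Nat.card (LL X y) := by
    exact relIndex_mul_card_inf _ _
  rw [hc1, hc2] at h1
  have h0 : 0 < Nat.card T1 := Nat.card_pos
  have h2 : Nat.card T1 * (2 * (NN cs R.nsys).relIndex (LL X y)) =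
      Nat.card T1 * (Nat.card (X y) * (Nat.card (X y) + 1)) := by
    rw [← h1]; ring
  exact Nat.eq_of_mul_eq_mul_left h0 h2

end Cfsg.Agent.H790.Frm
end

-- part: H790/Frm/Frame
section
/-!
# Frames of commuting rank one groups (helper790)

`β : J → roots` positive roots with `LL X (β i)`, `LL X (β j)` commuting for `i ≠ j` (`Frame R β`); `mp F` is the
homomorphism `∏ LL X (β j) → Y`.

* `mem_NN` : `mp F x ∈ N` only if all `x j ∈ N`;
* `NV V` : the representatives of the elements of `V ≤ W`; `KV F V = ⟨LL X (β j), NV V⟩` if `V` permutes the `± β j`;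
* `KV_subset` : `KV F V ⊆ U0 N U0` if the `β j` are not simple;
* `index_mul` : `|Y : KV| |T| |V| ∏ |X_j| (|X_j| + 1) = 2 ^ |J| |Y|`.
-/

set_option autoImplicit false
set_option linter.unusedSectionVars false

namespace Cfsg.Agent.H790.Frm

open CoxeterSystem Cfsg.Agent.ChevalleyStructure.CoxeterGeom Cfsg.Agent.Tits.Roots Cfsg.Agent.Tits.Core
  Cfsg.Agent.Tits.Exchange Cfsg.Agent.Nodes.Reps Cfsg.Agent.Nodes.BNOf Cfsg.Agent.Nodes.StabComb
  Cfsg.Agent.Nodes.Bruhat Cfsg.Agent.Nodes.OppDec Cfsg.Agent.Nodes.NormalForm
  Cfsg.Agent.Nodes.FreeTorus Cfsg.Agent.Nodes.Coroot Cfsg.Agent.Nodes.Perp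

section Gen

variable {G : Type*} [Group G]

theorem cj_of_comm {g : G} {B : Subgroup G} (hg : ∀ b ∈ B, Commute g b) : cj g B = B := by
  ext x
  rw [mem_cj]
  constructor
  · intro hx
    have h1 := hg _ hx
    have h2 : x = g * (g⁻¹ * x * g) * g⁻¹ := by group
    rw [h2, h1.eq, mul_inv_cancel_right]
    exact hx
  · intro hx
    have h1 := hg x hx
    have h2 : g⁻¹ * x * g = x := by rw [mul_assoc, ← h1.eq]; group
    rw [h2]
    exact hx

theorem index_pi' {ι : Type*} [Fintype ι] {G : ι → Type*} [∀ i, Group (G i)] (H : ∀ i, Subgroup (G i)) :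
    (Subgroup.pi Set.univ H).index = ∏ i, (H i).index := by
  simp_rw [Subgroup.index, ← Nat.card_pi]
  refine Nat.card_congr
    ((Quotient.congrRight (fun x y ↦ ?_)).trans (Setoid.piQuotientEquiv _).symm)
  rw [QuotientGroup.leftRel_pi]

theorem card_sup_mul [Finite G] {M N : Subgroup G} (hn : N ≤ Subgroup.normalizer (M : Set G)) :
    Nat.card ↥(M ⊔ N) * Nat.card ↥(M ⊓ N) = Nat.card M * Nat.card N := by
  let _ := Subgroup.normal_subgroupOf_of_le_normalizer hn
  let _ := Subgroup.normal_subgroupOf_sup_of_le_normalizer hn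
  have h1 := Nat.card_congr (QuotientGroup.quotientInfEquivProdNormalizerQuotient N M hn).toEquiv
  have h2 : M.relIndex N = M.relIndex (N ⊔ M) := h1
  have h3 := relIndex_mul_card_inf M N
  have h4 := relIndex_mul_card_inf M (N ⊔ M)
  rw [inf_eq_left.2 (le_sup_right : M ≤ N ⊔ M), ← h2] at h4
  rw [sup_comm M N, ← h4, ← h3]
  ring

end Gen

variable {I W Y : Type*} [Fintype I] [DecidableEq I] [Group W] [Group Y] [Fintype W] {M : CoxeterMatrix I}
  {cs : CoxeterSystem M W} {A : I → I → ℤ} {h : IsCartan M A} {p : ℕ} {T : Subgroup Y} {n : I → Y}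
  {X : (I → ℤ) → Subgroup Y}

/-- the representatives of the elements of `V` -/
def NV (cs : CoxeterSystem M W) (hN : NSys M T n) (V : Subgroup W) : Subgroup Y where
  carrier := {g | ∃ w ∈ V, Rp cs hN w g}
  mul_mem' := by
    rintro a b ⟨v, hv, hv'⟩ ⟨w, hw, hw'⟩
    exact ⟨v * w, mul_mem hv hw, hv'.mul hw'⟩
  one_mem' := ⟨1, one_mem _, rp_one⟩
  inv_mem' := by
    rintro a ⟨v, hv, hv'⟩
    exact ⟨v⁻¹, inv_mem hv, hv'.inv⟩

/-- a family of positive roots with commuting rank one groups -/
structure Frame (R : RGD cs h p T n X) {J : Type*} (β : J → I → ℤ) : Prop where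
  root : ∀ j, IsRoot cs h (β j)
  pos : ∀ j, 0 ≤ β j
  comm : Pairwise fun i j => ∀ x y : Y, x ∈ LL X (β i) → y ∈ LL X (β j) → Commute x y

variable {R : RGD cs h p T n X} {J : Type*} [Fintype J] [DecidableEq J] {β : J → I → ℤ} (F : Frame R β)

/-- the homomorphism `∏ LL X (β j) → Y` -/
noncomputable def mp : (∀ j, ↥(LL X (β j))) →* Y := Subgroup.noncommPiCoprod F.comm

theorem mp_mem {H : Subgroup Y} {x : ∀ j, ↥(LL X (β j))} (hx : ∀ j, (x j : Y) ∈ H) : mp F x ∈ H := by
  unfold mp
  rw [Subgroup.noncommPiCoprod_apply]
  exact Subgroup.noncommProd_mem _ _ fun j _ => hx j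

theorem mp_single (j : J) (y : ↥(LL X (β j))) : mp F (Pi.mulSingle j y) = y :=
  Subgroup.noncommPiCoprod_mulSingle (hcomm := F.comm) j y

theorem mp_split (j : J) (x : ∀ j, ↥(LL X (β j))) : mp F x = x j * mp F (Function.update x j 1) := by
  rw [← mp_single F j (x j), ← map_mul]
  congr 1
  funext i
  rcases eq_or_ne i j with rfl | hij
  · simp
  · simp [hij]

theorem mp_comm {z : Y} {x : ∀ j, ↥(LL X (β j))} (hx : ∀ j, Commute (x j : Y) z) : Commute (mp F x) z := by
  have : mp F x ∈ Subgroup.centralizer ({z} : Set Y) :=
    mp_mem F fun j => Subgroup.mem_centralizer_singleton_iff.2 (hx j).eq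
  exact Subgroup.mem_centralizer_singleton_iff.1 this

/-- the part away from `j` commutes with `LL X (β j)` -/
theorem mp_update_comm (j : J) (x : ∀ j, ↥(LL X (β j))) {z : Y} (hz : z ∈ LL X (β j)) :
    Commute (mp F (Function.update x j 1)) z := by
  refine mp_comm F fun i => ?_
  rcases eq_or_ne i j with rfl | hij
  · simp
  · rw [Function.update_of_ne hij]
    exact F.comm hij _ _ (x i).2 hz

theorem mp_range : (mp F).range = ⨆ j, LL X (β j) := Subgroup.noncommPiCoprod_range

/-- the action of `mp F x` on `X (β j)` is that of `x j` -/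
theorem cj_mp (j : J) (x : ∀ j, ↥(LL X (β j))) {B : Subgroup Y} (hB : B ≤ LL X (β j)) :
    cj (mp F x) B = cj (x j : Y) B := by
  rw [mp_split F j x, cj_mul]
  congr 1
  exact cj_of_comm fun b hb => mp_update_comm F j x (hB hb)

include F

theorem rep_mp {x : ∀ j, ↥(LL X (β j))} {w : W} (hw : Rp cs R.nsys w (mp F x)) {j : J} {v : W}
    (hv : Rp cs R.nsys v (x j)) : rep cs h w (β j) = rep cs h v (β j) := by
  refine X_injective R ((F.root j).act w) ((F.root j).act v) ?_
  rw [← R.conj_rp hw (F.root j), ← R.conj_rp hv (F.root j), cj_mp F j x (X_le_LL _)]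

/-- the decomposition `x = a κ b` -/
theorem exists_dec (x : ∀ j, ↥(LL X (β j))) : ∃ a κ b : ∀ j, ↥(LL X (β j)), x = a * κ * b ∧
    (∀ j, (a j : Y) ∈ X (β j)) ∧ (∀ j, (b j : Y) ∈ X (β j)) ∧ (∀ j, ∃ v, Rp cs R.nsys v (κ j : Y) ∧
      (v = 1 ∧ b j = 1 ∨ (∀ z, rep cs h v z = z - cpr cs h z (β j) • β j))) := by
  choose w m hm using fun j => exists_rf R (F.root j)
  have key : ∀ j, ∃ a κ b : ↥(LL X (β j)), x j = a * κ * b ∧ (a : Y) ∈ X (β j) ∧ (b : Y) ∈ X (β j) ∧
      ∃ v, Rp cs R.nsys v (κ : Y) ∧ (v = 1 ∧ b = 1 ∨ (∀ z, rep cs h v z = z - cpr cs h z (β j) • β j)) := by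
    intro j
    rcases form1 R (F.root j) (hm j) (x j).2 with ⟨a, ha, t, ht, ht', e⟩ | ⟨a, ha, t, ht, ht', b, hb, e⟩
    · exact ⟨⟨a, X_le_LL _ ha⟩, ⟨t, ht'⟩, 1, Subtype.ext (by simpa using e), ha, one_mem _, 1, rp_of_mem ht,
        Or.inl ⟨rfl, rfl⟩⟩
    · refine ⟨⟨a, X_le_LL _ ha⟩, ⟨t * m j, mul_mem ht' (hm j).mem⟩, ⟨b, X_le_LL _ hb⟩, Subtype.ext ?_, ha, hb, w j,
        ?_, Or.inr (hm j).refl⟩
      · rw [e]
        change a * t * m j * b = a * (t * m j) * b
        group
      · have := (rp_of_mem (cs := cs) (hN := R.nsys) ht).mul (hm j).rp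
        rwa [one_mul] at this
  choose a κ b h1 h2 h3 h4 using key
  exact ⟨a, κ, b, funext h1, h2, h3, h4⟩

theorem neg_of_refl {j : J} {v : W} (hv : ∀ z, rep cs h v z = z - cpr cs h z (β j) • β j) :
    rep cs h v (β j) = -β j := by
  rw [hv, cpr_self cs h (F.root j)]; module

/-- `mp F x ∈ N` only if all `x j ∈ N` -/
theorem mem_NN_of_mp {x : ∀ j, ↥(LL X (β j))} (hx : mp F x ∈ NN cs R.nsys) (j : J) :
    ∃ v, Rp cs R.nsys v (x j : Y) ∧ (v = 1 ∨ ∀ z, rep cs h v z = z - cpr cs h z (β j) • β j) := by
  obtain ⟨a, κ, b, e, ha, hb, hκ⟩ := exists_dec F x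
  choose v hv hv' using hκ
  have hκN : mp F κ ∈ NN cs R.nsys := mp_mem F fun i => ⟨v i, hv i⟩
  obtain ⟨w, hw⟩ := hκN
  have hfa : mp F a ∈ RGD.Sup X (RGD.Pos cs h) := mp_mem F fun i => X_le_Pos (F.root i) (F.pos i) (ha i)
  have hfb : mp F b ∈ RGD.Sup X (NW cs h w) := by
    refine mp_mem F fun i => ?_
    rcases hv' i with ⟨-, h1⟩ | h1
    · rw [h1]; exact one_mem _
    · refine RGD.le_Sup (S := NW cs h w) ⟨F.root i, F.pos i, ?_⟩ (hb i)
      rw [rep_mp F hw (hv i), neg_of_refl F h1]
      exact neg_nonpos.2 (F.pos i)
  have hfb' : mp F b ∈ RGD.Sup X (RGD.Pos cs h) := mp_mem F fun i => X_le_Pos (F.root i) (F.pos i) (hb i)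
  obtain ⟨u, hu⟩ := hx
  have e1 : mp F x = mp F a * mp F κ * mp F b := by rw [e, map_mul, map_mul]
  have h1 : Cell R.nsys cs h X w (mp F x) := by
    rw [e1]
    exact ((cell_of_rp hw).mul_left (RGD.U_le_B hfa)).mul_right (RGD.U_le_B hfb')
  have h2 : u = w := Cell.unique R (cell_of_rp hu) h1
  subst h2
  obtain ⟨e2, -, e3⟩ := normal_form_unique R (one_mem _) hfa hu hw (one_mem _) hfb
    (by rw [one_mul, mul_one]; exact e1)
  have triv : ∀ c : ∀ j, ↥(LL X (β j)), (∀ j, (c j : Y) ∈ X (β j)) → mp F c = 1 → ∀ j, c j = 1 := by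
    intro c hc hc1 j
    obtain ⟨g, hg, hg1⟩ : ∃ g ∈ X (-β j), g ≠ 1 := by
      by_contra h0
      push Not at h0
      exact Cfsg.Agent.Nodes.Bruhat.X_ne_bot R (F.root j).neg ((Subgroup.eq_bot_iff_forall _).2 h0)
    refine Subtype.ext (Cfsg.Agent.Nodes.RankOneSub.ti R (F.root j) (hc j) hg hg1 ?_)
    have h3 : (c j : Y) = (mp F (Function.update c j 1))⁻¹ := by
      rw [mp_split F j c] at hc1
      exact eq_inv_of_mul_eq_one_left hc1
    have h4 := (mp_update_comm F j c (z := g) ((le_sup_right : X (-β j) ≤ LL X (β j)) hg)).inv_left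
    rw [← h3] at h4
    rw [h4.eq, mul_inv_cancel_right]
    exact hg
  have ha1 := triv a ha e2.symm j
  have hb1 := triv b hb e3.symm j
  have hxj : x j = κ j := by
    rw [e]
    change a j * κ j * b j = κ j
    rw [ha1, hb1, one_mul, mul_one]
  rw [hxj]
  exact ⟨v j, hv j, (hv' j).imp And.left id⟩

variable {V : Subgroup W}

/-- the group `⟨LL X (β j), NV V⟩` -/
noncomputable def KV (V : Subgroup W) : Subgroup Y := (mp F).range ⊔ NV cs R.nsys V

variable (hV : ∀ w ∈ V, ∀ j, ∃ i, rep cs h w (β j) = β i ∨ rep cs h w (β j) = -β i)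

include hV

theorem NV_le_normalizer : NV cs R.nsys V ≤ Subgroup.normalizer ((mp F).range : Set Y) := by
  have key : ∀ g ∈ NV cs R.nsys V, cj g (mp F).range ≤ (mp F).range := by
    rintro g ⟨w, hw, hg⟩
    rw [mp_range F, cj_iSup]
    refine iSup_le fun j => ?_
    obtain ⟨i, hi⟩ := hV w hw j
    refine le_trans ?_ (le_iSup (fun j => LL X (β j)) i)
    unfold LL
    rw [cj_sup, R.conj_rp hg (F.root j), R.conj_rp hg (F.root j).neg, map_neg]
    rcases hi with hi | hi
    · rw [hi]
    · rw [hi, neg_neg]
      exact sup_le le_sup_right le_sup_left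
  intro g hg
  rw [mem_normalizer_iff_cj]
  refine le_antisymm (key g hg) ?_
  have h1 := cj_mono g (key g⁻¹ (inv_mem hg))
  rwa [cj_cj_inv] at h1

/-- **`KV ⊆ U0 N U0`** -/
theorem KV_subset (hs : ∀ j i, β j ≠ sr i) {g : Y} (hg : g ∈ KV F V) : g ∈ KK R := by
  classical
  have hbig : ∀ j, β j ∈ Big cs h := fun j => ⟨F.root j, F.pos j, hs j⟩
  have h1 : g ∈ (((mp F).range ⊔ NV cs R.nsys V : Subgroup Y) : Set Y) := hg
  rw [Subgroup.coe_mul_of_right_le_normalizer_left _ _ (NV_le_normalizer F hV), Set.mem_mul] at h1
  obtain ⟨_, ⟨x, rfl⟩, k, ⟨v, hvV, hk⟩, rfl⟩ := h1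
  choose w m hm using fun j => exists_rf R (F.root j)
  -- make `k` positive on the frame
  let s : ∀ j, ↥(LL X (β j)) := fun j => if 0 ≤ rep cs h v⁻¹ (β j) then 1 else ⟨m j, (hm j).mem⟩
  have hsN : mp F s ∈ NN cs R.nsys := mp_mem F fun j => by
    by_cases h0 : 0 ≤ rep cs h v⁻¹ (β j)
    · simp only [s, h0, if_true]; exact one_mem _
    · simp only [s, h0, if_false]; exact ⟨w j, (hm j).rp⟩
  obtain ⟨r, hr⟩ := hsN
  have hk' : Rp cs R.nsys (r⁻¹ * v) ((mp F s)⁻¹ * k) := hr.inv.mul hk
  -- `(r⁻¹ v)⁻¹ β_j` is in the frame
  have hpos : ∀ j, ∃ i, rep cs h (r⁻¹ * v)⁻¹ (β j) = β i := by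
    intro j
    obtain ⟨i, hi⟩ := hV v⁻¹ (inv_mem hvV) j
    refine ⟨i, ?_⟩
    rw [mul_inv_rev, inv_inv, rep_mul_apply]
    by_cases h0 : 0 ≤ rep cs h v⁻¹ (β j)
    · have h2 : rep cs h r (β j) = β j := by
        have h3 : Rp cs R.nsys 1 (s j : Y) := by
          simp only [s, h0, if_true]; exact rp_one
        rw [rep_mp F hr h3, map_one, Module.End.one_apply]
      rw [h2]
      rcases hi with hi | hi
      · exact hi
      · exfalso
        rw [hi] at h0
        exact (F.root i).neg.not_pos_neg h0 (neg_nonpos.2 (F.pos i))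
    · have h2 : rep cs h r (β j) = -β j := by
        have h3 : Rp cs R.nsys (w j) (s j : Y) := by
          simp only [s, h0, if_false]; exact (hm j).rp
        rw [rep_mp F hr h3]
        exact (hm j).neg R (F.root j)
      rw [h2, map_neg]
      rcases hi with hi | hi
      · exact absurd (by rw [hi]; exact F.pos i) h0
      · rw [hi, neg_neg]
  obtain ⟨a, κ, b, e, ha, hb, hκ⟩ := exists_dec F (x * s)
  refine ⟨mp F a, mp_mem F fun j => RGD.le_Sup (hbig j) (ha j), mp F κ * ((mp F s)⁻¹ * k),
    mul_mem (mp_mem F fun j => ?_) ⟨_, hk'⟩, ((mp F s)⁻¹ * k)⁻¹ * mp F b * ((mp F s)⁻¹ * k), ?_, ?_⟩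
  · obtain ⟨v', hv', -⟩ := hκ j
    exact ⟨v', hv'⟩
  · rw [← mem_cj]
    refine mp_mem F fun j => ?_
    rw [mem_cj]
    obtain ⟨i, hi⟩ := hpos j
    have h2 := R.conj_mem' hk' (F.root j) (hb j)
    rw [hi] at h2
    exact RGD.le_Sup (hbig i) h2
  · have h2 : mp F x * k = mp F (x * s) * ((mp F s)⁻¹ * k) := by rw [map_mul]; group
    rw [h2, e, map_mul, map_mul]
    group

variable (hVr : ∀ j w, (∀ z, rep cs h w z = z - cpr cs h z (β j) • β j) → w ∈ V)

omit hV in
include hVr in
theorem NN_inf_range : NN cs R.nsys ⊓ (mp F).range = NV cs R.nsys V ⊓ (mp F).range := by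
  apply le_antisymm
  · rintro g ⟨hg, x, rfl⟩
    refine ⟨mp_mem F fun j => ?_, x, rfl⟩
    obtain ⟨v, hv, h1⟩ := mem_NN_of_mp F hg j
    refine ⟨v, ?_, hv⟩
    rcases h1 with rfl | h1
    · exact one_mem _
    · exact hVr j v h1
  · rintro g ⟨⟨w, -, hw⟩, hg⟩
    exact ⟨⟨w, hw⟩, hg⟩

omit hV in
theorem relIndex_range : (NN cs R.nsys).relIndex (mp F).range = ∏ j, (NN cs R.nsys).relIndex (LL X (β j)) := by
  rw [← Subgroup.index_comap]
  have h1 : (NN cs R.nsys).comap (mp F) =
      Subgroup.pi Set.univ (fun j => (NN cs R.nsys).subgroupOf (LL X (β j))) := by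
    ext x
    rw [Subgroup.mem_comap, Subgroup.mem_pi]
    constructor
    · intro hx j _
      obtain ⟨v, hv, -⟩ := mem_NN_of_mp F hx j
      exact ⟨v, hv⟩
    · intro hx
      exact mp_mem F fun j => hx j (Set.mem_univ j)
  rw [h1, index_pi']
  rfl

omit hV F in
theorem rp_unique {v w : W} {g : Y} (hv : Rp cs R.nsys v g) (hw : Rp cs R.nsys w g) : v = w :=
  Cell.unique R (cell_of_rp (X := X) hv) (cell_of_rp hw)

omit hV F in
theorem card_NV [Finite Y] : Nat.card ↥(NV cs R.nsys V) = Nat.card T * Nat.card V := by
  classical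
  choose r hr using fun v : W => exists_rp cs R.nsys v
  let f : ↥T × ↥V → ↥(NV cs R.nsys V) := fun z => ⟨r z.2 * z.1, ⟨z.2, z.2.2, (hr z.2).mul_mem_right z.1.2⟩⟩
  have hf : Function.Bijective f := by
    constructor
    · rintro ⟨t, v⟩ ⟨t', v'⟩ e
      have e' : r v * t = r v' * t' := congrArg (fun z : ↥(NV cs R.nsys V) => (z : Y)) e
      have h1 : (v : W) = v' := by
        have h2 := (hr v).mul_mem_right t.2
        rw [e'] at h2
        exact rp_unique (R := R) h2 ((hr v').mul_mem_right t'.2)
      have h3 : v = v' := Subtype.ext h1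
      subst h3
      have h4 : t = t' := Subtype.ext (mul_left_cancel e')
      rw [h4]
    · rintro ⟨g, w, hw, hg⟩
      exact ⟨(⟨(r w)⁻¹ * g, (hr w).unique hg⟩, ⟨w, hw⟩), Subtype.ext (mul_inv_cancel_left _ _)⟩
  rw [← Nat.card_congr (Equiv.ofBijective f hf), Nat.card_prod]

/-- **The index of `KV`.** -/
theorem index_mul [Finite Y] (hVr : ∀ j w, (∀ z, rep cs h w z = z - cpr cs h z (β j) • β j) → w ∈ V) :
    (KV F V).index * ((Nat.card T * Nat.card V) * ∏ j, (Nat.card (X (β j)) * (Nat.card (X (β j)) + 1))) =
      2 ^ Fintype.card J * Nat.card Y := by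
  have h1 := card_sup_mul (NV_le_normalizer F hV)
  have h2 : (NN cs R.nsys).relIndex (mp F).range = (NV cs R.nsys V).relIndex (mp F).range := by
    rw [← Subgroup.inf_relIndex_right, NN_inf_range F hVr, Subgroup.inf_relIndex_right]
  have h3 := relIndex_mul_card_inf (NV cs R.nsys V) (mp F).range
  rw [← h2, relIndex_range F] at h3
  have h4 : 2 ^ Fintype.card J * ∏ j, (NN cs R.nsys).relIndex (LL X (β j)) =
      ∏ j, (Nat.card (X (β j)) * (Nat.card (X (β j)) + 1)) := by
    rw [← Finset.card_univ, ← Finset.prod_const, ← Finset.prod_mul_distrib]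
    refine Finset.prod_congr rfl fun j _ => ?_
    obtain ⟨w, m, hm⟩ := exists_rf R (F.root j)
    exact two_mul_relIndex R (F.root j) (F.pos j) hm
  have h5 := (KV F V).index_mul_card
  rw [card_NV (R := R) (V := V), inf_comm] at h1
  rw [← h4, ← h5]
  have h6 : 0 < Nat.card ↥(NV cs R.nsys V ⊓ (mp F).range) := Nat.card_pos
  refine Nat.eq_of_mul_eq_mul_right h6 ?_
  have h7 : Nat.card ↥(KV F V) * Nat.card ↥(NV cs R.nsys V ⊓ (mp F).range) =
      Nat.card ↥(mp F).range * (Nat.card T * Nat.card V) := h1
  calc (KV F V).index * (Nat.card T * Nat.card V *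
        (2 ^ Fintype.card J * ∏ j, (NN cs R.nsys).relIndex (LL X (β j)))) *
          Nat.card ↥(NV cs R.nsys V ⊓ (mp F).range)
      = 2 ^ Fintype.card J * (KV F V).index * (Nat.card T * Nat.card V *
          ((∏ j, (NN cs R.nsys).relIndex (LL X (β j))) * Nat.card ↥(NV cs R.nsys V ⊓ (mp F).range))) := by ring
    _ = 2 ^ Fintype.card J * (KV F V).index * (Nat.card T * Nat.card V * Nat.card ↥(mp F).range) := by rw [h3]
    _ = 2 ^ Fintype.card J * (KV F V).index * (Nat.card ↥(mp F).range * (Nat.card T * Nat.card V)) := by ring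
    _ = 2 ^ Fintype.card J * ((KV F V).index * Nat.card ↥(KV F V)) *
          Nat.card ↥(NV cs R.nsys V ⊓ (mp F).range) := by rw [← h7]; ring

end Cfsg.Agent.H790.Frm
end

-- part: H790/Frm/Comb
section
/-!
# `MeetIn 2` from a frame (helper790)

`SS β` : the roots `± β j`; `VS cs h S` : the stabiliser of `S` in the Weyl group; `Frame.orth` : the roots of a frame are
orthogonal; `meetIn_of_frame` : `MeetIn 2 Y` from a frame without simple roots, with `[W : VS]` odd, if the `2`-part
of `|Y|` is that of `|T| |W| ∏ (|X_j| + 1) / 2`.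
-/

set_option autoImplicit false
set_option linter.unusedSectionVars false

namespace Cfsg.Agent.H790.Frm

open CoxeterSystem Cfsg.Agent.ChevalleyStructure.CoxeterGeom Cfsg.Agent.Tits.Roots Cfsg.Agent.Tits.Core
  Cfsg.Agent.Tits.Exchange Cfsg.Agent.Nodes.Reps Cfsg.Agent.Nodes.BNOf Cfsg.Agent.Nodes.StabComb
  Cfsg.Agent.Nodes.Bruhat Cfsg.Agent.Nodes.OppDec Cfsg.Agent.Nodes.NormalForm
  Cfsg.Agent.Nodes.FreeTorus Cfsg.Agent.Nodes.Coroot Cfsg.Agent.Nodes.Perp

section Act

variable {I W : Type*} [DecidableEq I] [Fintype I] [Group W] {M : CoxeterMatrix I}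
  (cs : CoxeterSystem M W) {A : I → I → ℤ} (h : IsCartan M A)

/-- the action of the Weyl group on the sets of vectors -/
@[reducible] def actS : MulAction W (Set (I → ℤ)) where
  smul w S := rep cs h w '' S
  one_smul S := by
    change rep cs h 1 '' S = S
    rw [map_one]; ext x; simp
  mul_smul a b S := by
    change rep cs h (a * b) '' S = rep cs h a '' (rep cs h b '' S)
    rw [Set.image_image]
    exact Set.image_congr fun x _ => rep_mul_apply cs h a b x

/-- the stabiliser of a set of vectors -/
def VS (S : Set (I → ℤ)) : Subgroup W := @MulAction.stabilizer W _ _ (actS cs h) S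

theorem mem_VS {S : Set (I → ℤ)} {w : W} : w ∈ VS cs h S ↔ rep cs h w '' S = S := Iff.rfl

end Act

/-- the roots `± β j` -/
def SS {I J : Type*} (β : J → I → ℤ) : Set (I → ℤ) := {x | ∃ j, x = β j ∨ x = -β j}

theorem SS_finite {I J : Type*} [Finite J] (β : J → I → ℤ) : (SS β).Finite := by
  have : SS β = Set.range β ∪ Set.range (fun j => -β j) := by
    ext x
    constructor
    · rintro ⟨j, h | h⟩
      · exact Or.inl ⟨j, h.symm⟩
      · exact Or.inr ⟨j, h.symm⟩
    · rintro (⟨j, h⟩ | ⟨j, h⟩)
      · exact ⟨j, Or.inl h.symm⟩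
      · exact ⟨j, Or.inr h.symm⟩
  rw [this]
  exact (Set.finite_range _).union (Set.finite_range _)

variable {I W Y : Type*} [Fintype I] [DecidableEq I] [Group W] [Group Y] [Fintype W] {M : CoxeterMatrix I}
  {cs : CoxeterSystem M W} {A : I → I → ℤ} {h : IsCartan M A} {p : ℕ} {T : Subgroup Y} {n : I → Y}
  {X : (I → ℤ) → Subgroup Y}

variable {R : RGD cs h p T n X} {J : Type*} [Fintype J] [DecidableEq J] {β : J → I → ℤ} (F : Frame R β)

include F

/-- the roots of a frame are orthogonal -/
theorem Frame.orth {i j : J} (hij : i ≠ j) : cpr cs h (β i) (β j) = 0 := by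
  obtain ⟨w, m, hm⟩ := exists_rf R (F.root j)
  have h1 : rep cs h w (β i) = β i := by
    refine X_injective R ((F.root i).act w) (F.root i) ?_
    rw [← R.conj_rp hm.rp (F.root i)]
    exact cj_of_comm fun b hb => F.comm hij.symm m b hm.mem (X_le_LL _ hb)
  rw [hm.refl] at h1
  have h2 : cpr cs h (β i) (β j) • β j = 0 := by
    have := sub_eq_self.1 h1
    exact this
  rcases smul_eq_zero.1 h2 with h3 | h3
  · exact h3
  · exact absurd h3 (F.root j).ne_zero

theorem Frame.refl_mem {j : J} {w : W} (hw : ∀ z, rep cs h w z = z - cpr cs h z (β j) • β j) :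
    w ∈ VS cs h (SS β) := by
  rw [mem_VS]
  have hsub : rep cs h w '' SS β ⊆ SS β := by
    rintro _ ⟨x, ⟨i, hx⟩, rfl⟩
    rcases eq_or_ne i j with rfl | hij
    · have h1 := neg_of_refl F hw
      rcases hx with rfl | rfl
      · exact ⟨i, Or.inr h1⟩
      · exact ⟨i, Or.inl (by rw [map_neg, h1, neg_neg])⟩
    · have h1 : rep cs h w (β i) = β i := by rw [hw, F.orth hij, zero_smul, sub_zero]
      rcases hx with rfl | rfl
      · exact ⟨i, Or.inl h1⟩
      · exact ⟨i, Or.inr (by rw [map_neg, h1])⟩
  have hinj : Function.Injective (rep cs h w) := by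
    intro x y hxy
    have := congrArg (rep cs h w⁻¹) hxy
    rwa [rep_inv_apply, rep_inv_apply] at this
  refine Set.eq_of_subset_of_ncard_le hsub ?_ (SS_finite β)
  rw [Set.ncard_image_of_injective _ hinj]

omit F in
theorem VS_frame {w : W} (hw : w ∈ VS cs h (SS β)) (j : J) :
    ∃ i, rep cs h w (β j) = β i ∨ rep cs h w (β j) = -β i := by
  rw [mem_VS] at hw
  have : rep cs h w (β j) ∈ SS β := by
    rw [← hw]
    exact Set.mem_image_of_mem _ ⟨j, Or.inl rfl⟩
  exact this

/-- **`MeetIn 2` from a frame.** -/
theorem meetIn_of_frame [Finite Y] [Fact p.Prime] (hp : p ≠ 2) (hs : ∀ j i, β j ≠ sr i)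
    (hodd : ¬ 2 ∣ (VS cs h (SS β)).index)
    (hv : Fintype.card J + padicValNat 2 (Nat.card Y) ≤ padicValNat 2 (Nat.card T) + padicValNat 2 (Nat.card W) +
      ∑ j, padicValNat 2 (Nat.card (X (β j)) + 1))
    {x : I → Y} (hx : ∀ i, x i ∈ X (sr i)) (hx1 : ∀ i, x i ≠ 1)
    (hT : ∀ t ∈ T, (∀ i, t * x i = x i * t) → t = 1) : H68.MeetB.MeetIn 2 Y := by
  set V := VS cs h (SS β) with hVdef
  have hV : ∀ w ∈ V, ∀ j, ∃ i, rep cs h w (β j) = β i ∨ rep cs h w (β j) = -β i := fun w hw j => VS_frame hw j
  refine meetIn R (l := 2) (Ne.symm hp) hx hx1 hT (KV F V) (fun g hg => KV_subset F hV hs hg) ?_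
  have h1 := index_mul F hV (fun j w hw => F.refl_mem hw)
  have h2 : V.index * Nat.card V = Nat.card W := V.index_mul_card
  have e1 : padicValNat 2 V.index = 0 := padicValNat.eq_zero_of_not_dvd hodd
  have e2 : padicValNat 2 (Nat.card W) = padicValNat 2 (Nat.card V) := by
    rw [← h2, padicValNat.mul Subgroup.index_ne_zero_of_finite Nat.card_pos.ne', e1, zero_add]
  have e3 := congrArg (padicValNat 2) h1
  have hne : ∀ j ∈ (Finset.univ : Finset J), Nat.card (X (β j)) * (Nat.card (X (β j)) + 1) ≠ 0 := fun j _ =>
    mul_ne_zero Nat.card_pos.ne' (Nat.succ_ne_zero _)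
  rw [padicValNat.mul Subgroup.index_ne_zero_of_finite (mul_ne_zero (mul_ne_zero Nat.card_pos.ne' Nat.card_pos.ne')
      (Finset.prod_ne_zero_iff.2 hne)),
    padicValNat.mul (mul_ne_zero Nat.card_pos.ne' Nat.card_pos.ne') (Finset.prod_ne_zero_iff.2 hne),
    padicValNat.mul Nat.card_pos.ne' Nat.card_pos.ne',
    padicValNat.mul (pow_ne_zero _ two_ne_zero) Nat.card_pos.ne', padicValNat.prime_pow] at e3
  have e4 : padicValNat 2 (∏ j, (Nat.card (X (β j)) * (Nat.card (X (β j)) + 1))) =
      ∑ j, padicValNat 2 (Nat.card (X (β j)) * (Nat.card (X (β j)) + 1)) := by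
    clear e3 h1
    induction (Finset.univ : Finset J) using Finset.induction_on with
    | empty => simp only [_root_.Finset.prod_empty, _root_.padicValNat_one_right, _root_.Finset.sum_empty]
    | insert a s ha ih =>
      rw [Finset.prod_insert ha, Finset.sum_insert ha, padicValNat.mul
        (mul_ne_zero Nat.card_pos.ne' (Nat.succ_ne_zero _))
        (Finset.prod_ne_zero_iff.2 fun j _ => mul_ne_zero Nat.card_pos.ne' (Nat.succ_ne_zero _)), ih]
  have e5 : ∑ j, padicValNat 2 (Nat.card (X (β j)) + 1) ≤
      ∑ j, padicValNat 2 (Nat.card (X (β j)) * (Nat.card (X (β j)) + 1)) := by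
    refine Finset.sum_le_sum fun j _ => ?_
    rw [padicValNat.mul Nat.card_pos.ne' (Nat.succ_ne_zero _)]
    exact Nat.le_add_left _ _
  intro hd
  have h0 : padicValNat 2 (KV F V).index ≠ 0 := by
    intro h3
    rcases padicValNat.eq_zero_iff.1 h3 with h4 | h4 | h4
    · omega
    · exact Subgroup.index_ne_zero_of_finite h4
    · exact h4 hd
  omega

end Cfsg.Agent.H790.Frm
end

-- part: H790/Frm/Orb
section
/-!
# Odd index of the stabiliser of a frame (helper790)

`index_dvd` : `G` generated by the `s i`, `𝓕 : Fin N → Ω` with `s i • 𝓕 k = 𝓕 (nx i k)`, `nx i` involutions, every `k`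
reachable from `0`: the index of the stabiliser of `𝓕 0` divides `N`.
`VS_index_dvd` : the same for the Weyl group and sets of vectors.
-/

set_option autoImplicit false
set_option linter.unusedSectionVars false

namespace Cfsg.Agent.H790.Frm

open CoxeterSystem Cfsg.Agent.ChevalleyStructure.CoxeterGeom Cfsg.Agent.Tits.Roots Cfsg.Agent.Tits.Core
  Cfsg.Agent.Tits.Exchange Cfsg.Agent.Nodes.Reps Cfsg.Agent.Nodes.BNOf

theorem index_dvd {G Ω ι : Type*} [Group G] [MulAction G Ω] (s : ι → G)
    (hs : Subgroup.closure (Set.range s) = ⊤) {N : ℕ} (hN : 0 < N) (𝓕 : ℕ → Ω) (nx : ι → ℕ → ℕ)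
    (hlt : ∀ i, ∀ k < N, nx i k < N) (hnx : ∀ i, ∀ k < N, nx i (nx i k) = k)
    (heq : ∀ i, ∀ k < N, s i • 𝓕 k = 𝓕 (nx i k))
    (hreach : ∀ k < N, k ≠ 0 → ∃ i, nx i k < k) : (MulAction.stabilizer G (𝓕 0)).index ∣ N := by
  classical
  let f : Ω → ℕ := fun ω => ((Finset.range N).filter fun k => 𝓕 k = ω).card
  have hf : ∀ i ω, f (s i • ω) = f ω := by
    intro i ω
    refine Finset.card_bij' (fun k _ => nx i k) (fun k _ => nx i k) ?_ ?_ ?_ ?_
    · intro k hk
      rw [Finset.mem_filter, Finset.mem_range] at hk ⊢
      refine ⟨hlt i k hk.1, ?_⟩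
      have h1 := heq i (nx i k) (hlt i k hk.1)
      rw [hnx i k hk.1, hk.2] at h1
      exact smul_left_cancel _ h1
    · intro k hk
      rw [Finset.mem_filter, Finset.mem_range] at hk ⊢
      refine ⟨hlt i k hk.1, ?_⟩
      rw [← heq i k hk.1, hk.2]
    · intro k hk
      rw [Finset.mem_filter, Finset.mem_range] at hk
      exact hnx i k hk.1
    · intro k hk
      rw [Finset.mem_filter, Finset.mem_range] at hk
      exact hnx i k hk.1
  have hfg : ∀ (g : G) ω, f (g • ω) = f ω := by
    intro g
    have hg : g ∈ Subgroup.closure (Set.range s) := by rw [hs]; trivial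
    induction hg using Subgroup.closure_induction with
    | mem x hx => obtain ⟨i, rfl⟩ := hx; exact hf i
    | one => intro ω; rw [one_smul]
    | mul x y _ _ hx hy => intro ω; rw [mul_smul, hx, hy]
    | inv x _ hx => intro ω; rw [← hx (x⁻¹ • ω), smul_inv_smul]
  have horb : ∀ k < N, 𝓕 k ∈ MulAction.orbit G (𝓕 0) := by
    intro k
    induction k using Nat.strong_induction_on with
    | _ k ih =>
      intro hk
      rcases eq_or_ne k 0 with rfl | h0
      · exact MulAction.mem_orbit_self _
      · obtain ⟨i, hi⟩ := hreach k hk h0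
        obtain ⟨g, hg⟩ := ih _ hi (hlt i k hk)
        have h1 := heq i (nx i k) (hlt i k hk)
        rw [hnx i k hk] at h1
        exact ⟨s i * g, by change (s i * g) • 𝓕 0 = 𝓕 k; rw [mul_smul, ← h1]; congr 1⟩
  have hpos : 0 < f (𝓕 0) := Finset.card_pos.2 ⟨0, by rw [Finset.mem_filter, Finset.mem_range]; exact ⟨hN, rfl⟩⟩
  have himg : (((Finset.range N).image 𝓕 : Finset Ω) : Set Ω) = MulAction.orbit G (𝓕 0) := by
    ext ω
    rw [Finset.mem_coe, Finset.mem_image]
    constructor
    · rintro ⟨k, hk, rfl⟩
      exact horb k (Finset.mem_range.1 hk)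
    · rintro ⟨g, rfl⟩
      have h1 : 0 < f (g • 𝓕 0) := by rw [hfg]; exact hpos
      obtain ⟨k, hk⟩ := Finset.card_pos.1 h1
      rw [Finset.mem_filter] at hk
      exact ⟨k, hk.1, hk.2⟩
  have hcard : N = ((Finset.range N).image 𝓕).card * f (𝓕 0) := by
    conv_lhs => rw [← Finset.card_range N]
    rw [Finset.card_eq_sum_card_image 𝓕]
    rw [Finset.sum_const_nat (m := f (𝓕 0))]
    intro ω hω
    have h1 : ω ∈ (((Finset.range N).image 𝓕 : Finset Ω) : Set Ω) := hω
    rw [himg] at h1
    obtain ⟨g, rfl⟩ := h1
    exact hfg g _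
  rw [MulAction.index_stabilizer, ← himg, Set.ncard_coe_finset]
  exact ⟨_, hcard⟩

section Act

variable {I W : Type*} [DecidableEq I] [Fintype I] [Group W] {M : CoxeterMatrix I}
  (cs : CoxeterSystem M W) {A : I → I → ℤ} (h : IsCartan M A)

/-- the index of the stabiliser of `𝓕 0` -/
theorem VS_index_dvd {N : ℕ} (hN : 0 < N) (𝓕 : ℕ → Set (I → ℤ)) (nx : I → ℕ → ℕ)
    (hlt : ∀ i, ∀ k < N, nx i k < N) (hnx : ∀ i, ∀ k < N, nx i (nx i k) = k)
    (hsub : ∀ i, ∀ k < N, ∀ x ∈ 𝓕 k, rep cs h (cs.simple i) x ∈ 𝓕 (nx i k))
    (hreach : ∀ k < N, k ≠ 0 → ∃ i, nx i k < k) : (VS cs h (𝓕 0)).index ∣ N := by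
  letI := actS cs h
  refine index_dvd (G := W) (Ω := Set (I → ℤ)) cs.simple cs.subgroup_closure_range_simple hN 𝓕 nx hlt hnx ?_ hreach
  intro i k hk
  change rep cs h (cs.simple i) '' 𝓕 k = 𝓕 (nx i k)
  apply Set.Subset.antisymm
  · rintro _ ⟨x, hx, rfl⟩
    exact hsub i k hk x hx
  · intro y hy
    refine ⟨rep cs h (cs.simple i) y, ?_, ?_⟩
    · have := hsub i (nx i k) (hlt i k hk) y hy
      rwa [hnx i k hk] at this
    · have h1 : rep cs h (cs.simple i * cs.simple i) y = y := by
        rw [cs.simple_mul_simple_self, map_one, Module.End.one_apply]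
      rwa [rep_mul_apply] at h1

end Act

end Cfsg.Agent.H790.Frm
end

-- part: H790/Frm/FCert
section
/-!
# Certificates for the orbit of a frame (helper790)

`FC` : packed list of the `N` frames of `b` roots (numbers of pairs `± v r`, `r < m`), of the action of the simple
reflections on them and of their bit masks. `FC.odd` : the index of the stabiliser of the first frame is odd.
-/

set_option autoImplicit false
set_option linter.unusedSectionVars false

namespace Cfsg.Agent.H790.Frm

open CoxeterSystem Cfsg.Agent.ChevalleyStructure.CoxeterGeom Cfsg.Agent.Tits.Roots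
open Cfsg.Agent.ChevalleyStructure.FastBase Cfsg.Agent.ChevalleyStructure.FastRefl

/-- the certificate -/
structure FC where
  /-- rank -/
  l : ℕ
  /-- number of pairs of roots -/
  m : ℕ
  /-- size of a frame -/
  b : ℕ
  /-- number of frames -/
  N : ℕ
  /-- packed tables of the simple reflections on the pairs of roots, one byte each -/
  W : ℕ
  /-- frames, one byte for a root -/
  FR : ℕ
  /-- images of the frames, two bytes each -/
  NX : ℕ
  /-- masks, `m` bits each -/
  MK : ℕ

/-- a bit -/
def bitB (x r : ℕ) : Bool := Nat.beq (Nat.land (Nat.shiftRight x r) 1) 1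

theorem bitB_eq (x r : ℕ) : bitB x r = x.testBit r := by
  unfold bitB
  have h : Nat.land (Nat.shiftRight x r) 1 = (x >>> r) % 2 := Nat.and_one_is_mod _
  rw [h]
  rw [Nat.testBit]
  rcases Nat.mod_two_eq_zero_or_one (x >>> r) with h1 | h1
  · rw [h1]
    simp [h1]
    rfl
  · rw [h1]
    simp [h1]

namespace FC

variable (c : FC)

/-- the image of the pair `r` -/
def w (i r : ℕ) : ℕ := byte c.W (Nat.add (Nat.mul c.m i) r)

/-- the `a`-th root of the frame `k` -/
def fr (k a : ℕ) : ℕ := byte c.FR (Nat.add (Nat.mul c.b k) a)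

/-- the image of the frame `k` -/
def nx (i k : ℕ) : ℕ := Nat.land (Nat.shiftRight c.NX (Nat.mul 16 (Nat.add (Nat.mul c.l k) i))) 65535

/-- the mask of the frame `k` -/
def msk (k : ℕ) : ℕ := Nat.land (Nat.shiftRight c.MK (Nat.mul c.m k)) (Nat.sub (Nat.shiftLeft 1 c.m) 1)

/-- the computed mask -/
def comp (k : ℕ) : ℕ := Nat.rec 0 (fun a acc => Nat.lor acc (Nat.shiftLeft 1 (c.fr k a))) c.b

/-- the check of one pair -/
def chk1 (i k k' : ℕ) : Bool :=
  and (Nat.ble (Nat.succ k') c.N) (and (Nat.beq (c.nx i k') k)
    (force (c.msk k') fun x => allLt c.b fun a => bitB x (c.w i (c.fr k a))))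

/-- the check -/
def chk : Bool :=
  allLt c.N fun k => and (Nat.beq (c.msk k) (c.comp k)) (allLt c.l fun i => force (c.nx i k) fun k' => c.chk1 i k k')

/-- bounded existence -/
def anyLt (n : ℕ) (p : ℕ → Bool) : Bool := Nat.rec false (fun k ih => or (p k) ih) n

theorem anyLt_iff {n : ℕ} {p : ℕ → Bool} : anyLt n p = true ↔ ∃ k < n, p k = true := by
  induction n with
  | zero => simp [anyLt]
  | succ n ih =>
    have h : anyLt (n + 1) p = or (p n) (anyLt n p) := rfl
    rw [h, Bool.or_eq_true, ih]
    constructor
    · rintro (h1 | ⟨k, hk, h1⟩)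
      · exact ⟨n, Nat.lt_succ_self n, h1⟩
      · exact ⟨k, Nat.lt_succ_of_lt hk, h1⟩
    · rintro ⟨k, hk, h1⟩
      rcases Nat.lt_succ_iff_lt_or_eq.1 hk with h2 | rfl
      · exact Or.inr ⟨k, h2, h1⟩
      · exact Or.inl h1

/-- reachability -/
def chkR : Bool := allLt c.N fun k => or (Nat.beq k 0) (anyLt c.l fun i => Nat.ble (Nat.succ (c.nx i k)) k)

variable {c}

theorem testBit_comp (k : ℕ) (r : ℕ) : (c.comp k).testBit r = true ↔ ∃ a < c.b, r = c.fr k a := by
  unfold comp
  generalize c.b = b
  induction b with
  | zero => simp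
  | succ b ih =>
    have h : (Nat.rec 0 (fun a acc => Nat.lor acc (Nat.shiftLeft 1 (c.fr k a))) (b + 1) : ℕ) =
        (Nat.rec 0 (fun a acc => Nat.lor acc (Nat.shiftLeft 1 (c.fr k a))) b : ℕ) ||| (1 <<< (c.fr k b)) := rfl
    rw [h, Nat.testBit_or, Bool.or_eq_true, ih]
    have h2 : (1 <<< (c.fr k b)).testBit r = true ↔ r = c.fr k b := by
      rw [Nat.one_shiftLeft, Nat.testBit_two_pow]
      simp [eq_comm]
    rw [h2]
    constructor
    · rintro (⟨a, ha, h1⟩ | h1)
      · exact ⟨a, Nat.lt_succ_of_lt ha, h1⟩
      · exact ⟨b, Nat.lt_succ_self b, h1⟩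
    · rintro ⟨a, ha, h1⟩
      rcases Nat.lt_succ_iff_lt_or_eq.1 ha with h3 | rfl
      · exact Or.inl ⟨a, h3, h1⟩
      · exact Or.inr h1

theorem chk_msk (h : c.chk = true) {k : ℕ} (hk : k < c.N) : c.msk k = c.comp k := by
  have h1 := allLt_iff.1 h k hk
  rw [Bool.and_eq_true] at h1
  exact Nat.eq_of_beq_eq_true h1.1

theorem chk_all (h : c.chk = true) {k i : ℕ} (hk : k < c.N) (hi : i < c.l) : c.nx i k < c.N ∧
    c.nx i (c.nx i k) = k ∧ ∀ a < c.b, ∃ a' < c.b, c.w i (c.fr k a) = c.fr (c.nx i k) a' := by
  have h1 := allLt_iff.1 h k hk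
  rw [Bool.and_eq_true] at h1
  have h2 := allLt_iff.1 h1.2 i hi
  rw [force_eq] at h2
  unfold chk1 at h2
  rw [Bool.and_eq_true, Bool.and_eq_true, force_eq] at h2
  have h3 : c.nx i k < c.N := Nat.le_of_ble_eq_true h2.1
  refine ⟨h3, Nat.eq_of_beq_eq_true h2.2.1, fun a ha => ?_⟩
  have h4 := allLt_iff.1 h2.2.2 a ha
  rw [bitB_eq, chk_msk h h3, testBit_comp] at h4
  exact h4

theorem chkR_all (h : c.chkR = true) {k : ℕ} (hk : k < c.N) (hk0 : k ≠ 0) : ∃ i < c.l, c.nx i k < k := by
  have h1 := allLt_iff.1 h k hk
  rw [Bool.or_eq_true] at h1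
  rcases h1 with h2 | h2
  · exact absurd (Nat.eq_of_beq_eq_true h2) hk0
  · obtain ⟨i, hi, h3⟩ := anyLt_iff.1 h2
    exact ⟨i, hi, Nat.le_of_ble_eq_true h3⟩

end FC

variable {l : ℕ} {W : Type*} [Group W] {M : CoxeterMatrix (Fin l)} (cs : CoxeterSystem M W)
  {A : Fin l → Fin l → ℤ} (h : IsCartan M A)

/-- **The index of the stabiliser of the first frame is odd.** -/
theorem FC.odd {c : FC} (hl : c.l = l) (hchk : c.chk = true) (hchkR : c.chkR = true) (hN : c.N % 2 = 1)
    (v : ℕ → Fin l → ℤ) (hv : ∀ i : Fin l, ∀ r < c.m, rep cs h (cs.simple i) (v r) = v (c.w i r) ∨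
      rep cs h (cs.simple i) (v r) = -v (c.w i r)) (hlt : ∀ k < c.N, ∀ a < c.b, c.fr k a < c.m) :
    ¬ 2 ∣ (VS cs h (SS fun a : Fin c.b => v (c.fr 0 a))).index := by
  intro h2
  have h1 := VS_index_dvd cs h (N := c.N) (by omega) (fun k => SS fun a : Fin c.b => v (c.fr k a))
    (fun i k => c.nx i k) (fun i k hk => (FC.chk_all hchk hk (by rw [hl]; exact i.2)).1)
    (fun i k hk => (FC.chk_all hchk hk (by rw [hl]; exact i.2)).2.1) ?_ ?_
  · have := h2.trans h1
    omega
  · rintro i k hk x ⟨a, hx⟩
    obtain ⟨a', ha', e⟩ := (FC.chk_all hchk hk (i := i) (by rw [hl]; exact i.2)).2.2 a a.2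
    have h3 := hv i (c.fr k a) (hlt k hk a a.2)
    rw [e] at h3
    refine ⟨⟨a', ha'⟩, ?_⟩
    rcases hx with rfl | rfl
    · exact h3
    · rw [map_neg, neg_eq_iff_eq_neg, neg_inj]
      exact h3.symm
  · intro k hk hk0
    obtain ⟨i, hi, h3⟩ := FC.chkR_all hchkR hk hk0
    exact ⟨⟨i, by rw [← hl]; exact hi⟩, h3⟩

end Cfsg.Agent.H790.Frm
end

-- part: H790/Frm/Num
section
/-! `2`-adic valuations of the orders of the groups of Lie type (helper790). -/

set_option autoImplicit false

namespace Cfsg.Agent.H790.Frm

/-- the valuation of `q ^ k - 1`, `k` even -/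
theorem val_even {q k : ℕ} (hq : q % 2 = 1) (hq1 : 1 < q) (hk : k ≠ 0) (he : Even k) :
    padicValNat 2 (q ^ k - 1) + 1 = padicValNat 2 (q + 1) + padicValNat 2 (q - 1) + padicValNat 2 k := by
  have := padicValNat.pow_two_sub_pow (x := q) (y := 1) (n := k) hq1 (by omega) (by omega) hk he
  rwa [one_pow] at this

/-- the valuation of `q ^ k - 1`, `k` odd -/
theorem val_odd {q k : ℕ} (hq : q % 2 = 1) (hq1 : 1 < q) (ho : Odd k) :
    padicValNat 2 (q ^ k - 1) = padicValNat 2 (q - 1) := by
  have h1 : (∑ i ∈ Finset.range k, q ^ i) * (q - 1) = q ^ k - 1 := by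
    have h2 := geom_sum_mul_add (q - 1) k
    rw [Nat.sub_add_cancel hq1.le] at h2
    omega
  have h3 : (∑ i ∈ Finset.range k, q ^ i) % 2 = 1 := by
    rw [Finset.sum_nat_mod]
    have h4 : ∀ i ∈ Finset.range k, q ^ i % 2 = 1 := by
      intro i _
      rw [Nat.pow_mod, hq, one_pow]; rfl
    rw [Finset.sum_congr rfl h4]
    rw [Finset.sum_const, Finset.card_range, smul_eq_mul, mul_one]
    exact Nat.odd_iff.1 ho
  rw [← h1, padicValNat.mul (by intro h; rw [h] at h3; omega) (by omega), padicValNat.eq_zero_of_not_dvd (by omega),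
    zero_add]

/-- the valuation of `q ^ k + 1`, `k` odd -/
theorem val_odd_add {q k : ℕ} (hq : q % 2 = 1) (hq1 : 1 < q) (ho : Odd k) :
    padicValNat 2 (q ^ k + 1) = padicValNat 2 (q + 1) := by
  have hk : k ≠ 0 := by rintro rfl; exact absurd ho (by decide)
  have h1 := val_even hq hq1 (k := k * 2) (by omega) (even_two.mul_left k)
  have h2 := val_odd hq hq1 ho
  have hqk : 1 < q ^ k := Nat.one_lt_pow hk hq1
  have h3 : q ^ (k * 2) - 1 = (q ^ k - 1) * (q ^ k + 1) := by
    rw [pow_mul, Nat.mul_comm]
    have := Nat.sq_sub_sq (q ^ k) 1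
    rw [one_pow] at this
    exact this
  have h4 : padicValNat 2 (k * 2) = 1 := by
    rw [padicValNat.mul hk two_ne_zero, padicValNat.eq_zero_of_not_dvd (fun h => ?_), padicValNat.self (by norm_num)]
    have := Nat.odd_iff.1 ho
    omega
  rw [h3, padicValNat.mul (by omega) (by omega), h4, h2] at h1
  omega

/-- number of even entries -/
def evs (ds : List ℕ) : ℕ := (ds.filter fun k => k % 2 = 0).length

theorem val_prod {q : ℕ} (hq : q % 2 = 1) (hq1 : 1 < q) {ds : List ℕ} (h0 : ∀ k ∈ ds, 0 < k) :
    evs ds + padicValNat 2 (ds.map fun k => q ^ k - 1).prod =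
      ds.length * padicValNat 2 (q - 1) + padicValNat 2 ds.prod + evs ds * padicValNat 2 (q + 1) := by
  induction ds with
  | nil => simp [evs]
  | cons k ds ih =>
    have ih' := ih fun i hi => h0 i (List.mem_cons_of_mem _ hi)
    have hk := h0 k List.mem_cons_self
    have hq' : ∀ i, 0 < i → q ^ i - 1 ≠ 0 := fun i hi => by
      have := Nat.one_lt_pow hi.ne' hq1
      omega
    have hp1 : (ds.map fun k => q ^ k - 1).prod ≠ 0 := by
      rw [Ne, List.prod_eq_zero_iff, List.mem_map]
      rintro ⟨i, hi, h⟩
      exact hq' i (h0 i (List.mem_cons_of_mem _ hi)) h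
    have hp2 : ds.prod ≠ 0 := by
      rw [Ne, List.prod_eq_zero_iff]
      intro h
      exact absurd (h0 0 (List.mem_cons_of_mem _ h)) (lt_irrefl 0)
    rw [List.map_cons, List.prod_cons, List.prod_cons, List.length_cons, padicValNat.mul (hq' k hk) hp1,
      padicValNat.mul hk.ne' hp2]
    rcases Nat.even_or_odd k with he | ho
    · have h1 := val_even hq hq1 hk.ne' he
      have h2 : evs (k :: ds) = evs ds + 1 := by
        unfold evs
        rw [List.filter_cons_of_pos (by simpa using Nat.even_iff.1 he), List.length_cons]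
      rw [h2]
      have e1 : (ds.length + 1) * padicValNat 2 (q - 1) = ds.length * padicValNat 2 (q - 1) + padicValNat 2 (q - 1) := by
        ring
      have e2 : (evs ds + 1) * padicValNat 2 (q + 1) = evs ds * padicValNat 2 (q + 1) + padicValNat 2 (q + 1) := by
        ring
      rw [e1, e2]
      omega
    · have h1 := val_odd hq hq1 ho
      have h2 : evs (k :: ds) = evs ds := by
        unfold evs
        rw [List.filter_cons_of_neg (by simpa using Nat.odd_iff.1 ho)]
      have h3 : padicValNat 2 k = 0 := padicValNat.eq_zero_of_not_dvd (by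
        have := Nat.odd_iff.1 ho
        omega)
      rw [h2, h1, h3]
      have e1 : (ds.length + 1) * padicValNat 2 (q - 1) = ds.length * padicValNat 2 (q - 1) + padicValNat 2 (q - 1) := by
        ring
      rw [e1]
      omega

end Cfsg.Agent.H790.Frm
end

-- part: H790/Frm/Chev
section
/-!
# Frames in the Chevalley groups (helper790)

`OKc D l c` : the kernel checks for the datum `D` and the certificate `c`; `meet2` : `MeetIn 2 (D.group K)`, `|K|` odd.
-/

set_option autoImplicit false
set_option linter.unusedSectionVars false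

namespace Cfsg.Agent.H790.Frm.Chev

open CoxeterSystem Cfsg.Agent.ChevalleyStructure.CoxeterGeom Cfsg.Agent.Tits.Roots Cfsg.Agent.Tits.Core
  Cfsg.Agent.Nodes.Reps Cfsg.Agent.Nodes.BNOf Cfsg.Agent.Nodes.Bruhat Cfsg.Agent.Nodes.RGDChev
  Cfsg.Agent.Nodes.FreeTorus Cfsg.Agent.Nodes.Perp Cfsg.Agent.Nodes.RGDFold
open Cfsg.Lie Cfsg.Agent.ChevalleyStructure Cfsg.Agent.ChevalleyStructure.Elts
  Cfsg.Agent.ChevalleyStructure.RootVec Cfsg.Agent.ChevalleyStructure.RootCombGood

universe u

/-- the torus acts faithfully on the simple root elements -/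
theorem torus_eq_one {D : ChevalleyDatum} {F : Type u} [Field F] (hD : InList D) {t : GL D.Idx F}
    (ht : t ∈ D.diagonalSubgroup F)
    (hc : ∀ i < D.rank, ∃ u : F, u ≠ 0 ∧ t * xG hD (D.simple i) u * t⁻¹ = xG hD (D.simple i) u) : t = 1 := by
  have G := RootComb.good_of_mem hD
  obtain ⟨c, hc0, hcm, hcx⟩ := H190.torus_form hD ht
  have h1 : ∀ i < D.rank, ∏ k ∈ Finset.range D.rank, c k ^ (D.cartan k (D.simple i)) = 1 := by
    intro i hi
    obtain ⟨u, hu, hcu⟩ := hc i hi
    rw [hcx _ (G.simple_lt hi)] at hcu
    have h2 := xG_injective hD (G.simple_lt hi) hcu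
    exact mul_right_cancel₀ hu (by rw [h2, one_mul])
  have h2 : ∀ r < D.nroots, ∏ k ∈ Finset.range D.rank, c k ^ (D.cartan k r) = 1 := by
    refine RootWord.root_induction G h1 fun i hi r hr hP => ?_
    have h3 : ∏ k ∈ Finset.range D.rank, c k ^ (D.cartan k (D.reflectRoot i r)) =
        (∏ k ∈ Finset.range D.rank, c k ^ (D.cartan k r)) *
          ((∏ k ∈ Finset.range D.rank, c k ^ (D.cartan k (D.simple i))) ^ (D.cartan i r))⁻¹ := by
      rw [← Finset.prod_zpow, ← Finset.prod_inv_distrib, ← Finset.prod_mul_distrib]
      refine Finset.prod_congr rfl fun k hk => ?_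
      have hk' := Finset.mem_range.1 hk
      rw [G.cartan_reflect hi hr hk', zpow_sub₀ (hc0 k hk'), div_eq_mul_inv, mul_comm (D.cartan i r), zpow_mul]
    rw [h3, hP, h1 i hi]
    simp
  refine H190.torus_ext hD ht (Subgroup.one_mem _) fun r => ?_
  have h3 : H190.ent t r = 1 := by
    rw [H190.ent_of_dmat hcm]
    exact h2 r r.2
  rw [h3]
  unfold H190.ent
  rw [Units.val_one, Matrix.one_apply_eq]

/-- the root groups of `r`, `s` commute -/
def Nil (D : ChevalleyDatum) (r s : ℕ) : Prop := s ≠ r ∧ s ≠ D.neg r ∧ D.commTerms r s = []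

instance decNil (D : ChevalleyDatum) (r s : ℕ) : Decidable (Nil D r s) := inferInstanceAs (Decidable (_ ∧ _ ∧ _))

/-- the kernel checks -/
structure OKc (D : ChevalleyDatum) (l : ℕ) (c : FC) : Prop where
  two : D.nroots = 2 * c.m
  hl : c.l = l
  odd : c.N % 2 = 1
  pos : 0 < c.N
  chk : c.chk = true
  chkR : c.chkR = true
  lt : ∀ k < c.N, ∀ a < c.b, c.fr k a < c.m
  wlt : ∀ i < l, ∀ r < c.m, c.w i r < c.m
  refl : ∀ i < l, ∀ r < c.m, D.reflectRoot i (r + c.m) = c.w i r + c.m ∨ D.reflectRoot i (r + c.m) =
    D.neg (c.w i r + c.m)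
  nonneg : ∀ a < c.b, ∀ i < l, 0 ≤ rt D (c.fr 0 a + c.m) i
  ns : ∀ a < c.b, ∀ i < l, c.fr 0 a + c.m ≠ D.simple i
  comm : ∀ a < c.b, ∀ b < c.b, a ≠ b → ∀ r ∈ [c.fr 0 a + c.m, D.neg (c.fr 0 a + c.m)],
    ∀ s ∈ [c.fr 0 b + c.m, D.neg (c.fr 0 b + c.m)], Nil D r s

section

variable {D : ChevalleyDatum} {l : ℕ} {M : CoxeterMatrix (Fin l)} (hp : IsType D l M) {c : FC} (hc : OKc D l c)

include hp hc

/-- the roots of the frame -/
theorem frlt {k : ℕ} (hk : k < c.N) (a : Fin c.b) : c.fr k a + c.m < D.nroots := by
  have := hc.lt k hk a a.2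
  rw [hc.two]; omega

/-- the index of the stabiliser is odd -/
theorem index_odd {W : Type*} [Group W] (cs : CoxeterSystem M W) :
    ¬ 2 ∣ (VS cs hp.isCartan (SS fun a : Fin c.b => vec D l (c.fr 0 a + c.m))).index := by
  refine FC.odd cs hp.isCartan hc.hl hc.chk hc.chkR hc.odd (fun r => vec D l (r + c.m)) ?_ hc.lt
  intro i r hr
  have h1 : r + c.m < D.nroots := by rw [hc.two]; omega
  have h2 : c.w i r + c.m < D.nroots := by
    have := hc.wlt i i.2 r hr
    rw [hc.two]; omega
  change rep cs hp.isCartan (cs.simple i) (vec D l (r + c.m)) = vec D l (c.w i r + c.m) ∨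
    rep cs hp.isCartan (cs.simple i) (vec D l (r + c.m)) = -vec D l (c.w i r + c.m)
  rw [rep_vec hp cs i h1]
  rcases hc.refl i i.2 r hr with h3 | h3
  · left; rw [h3]
  · right; rw [h3, vec_neg hp h2]

variable {K : Type u} [Field K]

omit hc in
theorem comm_rootSubgroup {r s : ℕ} (hr : r < D.nroots) (hs : s < D.nroots)
    (h : Nil D r s) {x y : GL D.Idx K} (hx : x ∈ D.rootSubgroup K r)
    (hy : y ∈ D.rootSubgroup K s) : Commute x y := by
  obtain ⟨t, rfl⟩ := (mem_rootSubgroup_iff hp.inList r x).1 hx
  obtain ⟨u, rfl⟩ := (mem_rootSubgroup_iff hp.inList s y).1 hy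
  exact commute_of_nil hp hr hs h.1 h.2.1 h.2.2 t u

omit hc in
theorem comm_LL {r s : ℕ} (hr : r < D.nroots) (hs : s < D.nroots)
    (h : ∀ r' ∈ [r, D.neg r], ∀ s' ∈ [s, D.neg s], Nil D r' s')
    {x y : ↥(D.group K)} (hx : x ∈ LL (fun x => (XV D l K x).subgroupOf (D.group K)) (vec D l r))
    (hy : y ∈ LL (fun x => (XV D l K x).subgroupOf (D.group K)) (vec D l s)) : Commute x y := by
  have key : ∀ r' ∈ [r, D.neg r], ∀ s' ∈ [s, D.neg s],
      ∀ a ∈ (XV D l K (vec D l r')).subgroupOf (D.group K), ∀ b ∈ (XV D l K (vec D l s')).subgroupOf (D.group K),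
      a * b = b * a := by
    intro r' hr' s' hs' a ha b hb
    have h1 : r' < D.nroots := by
      rcases List.mem_cons.1 hr' with rfl | h2
      · exact hr
      · rw [List.mem_singleton.1 h2]; exact NPerm.neg_lt hp.inList hr
    have h2 : s' < D.nroots := by
      rcases List.mem_cons.1 hs' with rfl | h2
      · exact hs
      · rw [List.mem_singleton.1 h2]; exact NPerm.neg_lt hp.inList hs
    rw [Subgroup.mem_subgroupOf, XV_vec hp K h1] at ha
    rw [Subgroup.mem_subgroupOf, XV_vec hp K h2] at hb
    exact Subtype.ext (comm_rootSubgroup hp h1 h2 (h r' hr' s' hs') ha hb).eq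
  have hL : LL (fun x => (XV D l K x).subgroupOf (D.group K)) (vec D l s) ≤
      Subgroup.centralizer ((LL (fun x => (XV D l K x).subgroupOf (D.group K)) (vec D l r) : Subgroup _) : Set _) := by
    rw [Subgroup.le_centralizer_iff]
    unfold LL
    rw [← vec_neg hp hr, ← vec_neg hp hs]
    refine sup_le ?_ ?_
    · rw [Subgroup.le_centralizer_iff]
      refine sup_le ?_ ?_
      · intro b hb
        exact Subgroup.mem_centralizer_iff.2 fun a ha => key r (by simp) s (by simp) a ha b hb
      · intro b hb
        exact Subgroup.mem_centralizer_iff.2 fun a ha => key r (by simp) _ (by simp) a ha b hb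
    · rw [Subgroup.le_centralizer_iff]
      refine sup_le ?_ ?_
      · intro b hb
        exact Subgroup.mem_centralizer_iff.2 fun a ha => key _ (by simp) s (by simp) a ha b hb
      · intro b hb
        exact Subgroup.mem_centralizer_iff.2 fun a ha => key _ (by simp) _ (by simp) a ha b hb
  exact (Subgroup.mem_centralizer_iff.1 (hL hy) x hx)

theorem frame [Finite K] {W : Type*} [Group W] (cs : CoxeterSystem M W) (p : ℕ) [Fact p.Prime] [CharP K p] :
    Frame (_root_.Cfsg.Agent.Nodes.RGDChev.rgd (K := K) hp cs p) (fun a : Fin c.b => vec D l (c.fr 0 a + c.m)) where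
  root a := isRoot_vec hp cs (frlt hp hc hc.pos a)
  pos a i := by
    rw [vec_apply]
    exact hc.nonneg a a.2 i i.2
  comm a b hab x y hx hy :=
    comm_LL hp (frlt hp hc hc.pos a) (frlt hp hc hc.pos b)
      (hc.comm a a.2 b b.2 fun h => hab (Fin.ext h)) hx hy

omit hc in
theorem card_X [Fintype K] {r : ℕ} (hr : r < D.nroots) :
    Nat.card ↥((XV D l K (vec D l r)).subgroupOf (D.group K)) = Fintype.card K := by
  rw [XV_vec hp K hr, ← Nat.card_eq_fintype_card]
  symm
  refine Nat.card_congr (Equiv.ofBijective
    (fun a : K => (⟨⟨xG hp.inList r a, xG_mem_group hp.inList r a⟩, xG_mem_rootSubgroup hp.inList r a⟩ :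
      ↥((D.rootSubgroup K r).subgroupOf (D.group K)))) ⟨?_, ?_⟩)
  · intro a b h
    have h1 : xG hp.inList r a = xG hp.inList r b := congrArg (fun z => (z.1 : GL D.Idx K)) h
    exact xG_injective hp.inList hr h1
  · rintro ⟨⟨g, hg'⟩, hg⟩
    obtain ⟨t, rfl⟩ := (mem_rootSubgroup_iff hp.inList r g).1 hg
    exact ⟨t, rfl⟩

end

/-- **`MeetIn 2`** for the Chevalley groups over fields of odd order. -/
theorem meet2 {D : ChevalleyDatum} {l : ℕ} {M : CoxeterMatrix (Fin l)} (hp : IsType D l M) {c : FC}
    (hc : OKc D l c) {d : ℕ → ℕ} {N : ℕ} {ds : List ℕ} (hD : H172.SI.Deg D d N ds) (hb : c.b = evs ds)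
    (h0 : ∀ k ∈ ds, 0 < k) (hW : Nat.card M.Group = ds.prod) (K : Type) [Field K] [Fintype K]
    (hK : Odd (Fintype.card K)) : H68.MeetB.MeetIn 2 ↥(D.group K) := by
  obtain ⟨p, hpK⟩ := CharP.exists K
  have hpf : Fact p.Prime := ⟨CharP.char_is_prime K p⟩
  obtain ⟨n, -, hn⟩ := FiniteField.card K p
  have hp2 : p ≠ 2 := by
    rintro rfl
    rw [hn] at hK
    exact absurd hK (Nat.not_odd_iff_even.2 (Nat.even_pow.2 ⟨even_two, n.pos.ne'⟩))
  let cs : CoxeterSystem M M.Group := M.toCoxeterSystem
  have hfW : Finite M.Group := _root_.Cfsg.Agent.Nodes.RGDChev.finite_W hp cs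
  let _ : Fintype M.Group := Fintype.ofFinite _
  set q := Fintype.card K with hq
  have hq1 : 1 < q := Fintype.one_lt_card
  have hq2 : q % 2 = 1 := Nat.odd_iff.1 hK
  have hsi : ∀ i : Fin l, D.simple i < D.nroots := fun i => NPerm.simple_lt hp.inList (lt_rank hp i)
  refine meetIn_of_frame (frame hp hc cs p (K := K)) hp2 ?_ (index_odd hp hc cs) ?_
    (x := fun i => ⟨xG hp.inList (D.simple i) 1, xG_mem_group hp.inList _ _⟩) ?_ ?_ ?_
  · intro a i
    rw [← vec_simple hp i]
    intro h
    exact hc.ns a a.2 i i.2 (vec_inj hp (frlt hp hc hc.pos a) (hsi i) h)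
  · -- the orders
    have e1 : ∀ a : Fin c.b, Nat.card ↥((XV D l K (vec D l (c.fr 0 a + c.m))).subgroupOf (D.group K)) = q :=
      fun a => card_X hp (frlt hp hc hc.pos a)
    have e2 : Nat.card ↥((D.diagonalSubgroup K).subgroupOf (D.group K)) = Nat.card ↥(D.diagonalSubgroup K) := by
      refine Nat.card_congr (Subgroup.subgroupOfEquivOfLe ?_).toEquiv
      exact Elts.diagonal_le_group hp.inList K
    have h1 := hD.card (F := K)
    have h2 := hD.tor (F := K)
    have h3 := val_prod hq2 hq1 h0
    rw [← hq] at h1 h2
    have hne : (ds.map fun k => q ^ k - 1).prod ≠ 0 := by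
      rw [Ne, List.prod_eq_zero_iff, List.mem_map]
      rintro ⟨i, hi, h⟩
      have := Nat.one_lt_pow (h0 i hi).ne' hq1
      omega
    have h4 := congrArg (padicValNat 2) h1
    have h5 := congrArg (padicValNat 2) h2
    have hqN : q ^ N ≠ 0 := pow_ne_zero _ (by omega)
    have hvq : padicValNat 2 (q ^ N) = 0 := by
      rw [padicValNat.pow, padicValNat.eq_zero_of_not_dvd (by omega), mul_zero]
    rw [padicValNat.mul (hD.d0 _) Nat.card_pos.ne', padicValNat.mul hqN hne, hvq, zero_add] at h4
    rw [padicValNat.mul (hD.d0 _) Nat.card_pos.ne', padicValNat.pow] at h5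
    rw [e2, Fintype.card_fin, hW]
    simp only [e1]
    rw [Finset.sum_const, Finset.card_univ, Fintype.card_fin, smul_eq_mul, hb]
    omega
  · intro i
    rw [Subgroup.mem_subgroupOf, XV_sr hp i]
    exact xG_mem_rootSubgroup hp.inList _ _
  · intro i h
    have h1 : xG hp.inList (D.simple i) (1 : K) = 1 := congrArg Subtype.val h
    exact one_ne_zero ((xG_eq_one_iff hp.inList (hsi i) _).1 h1)
  · rintro ⟨t, htG⟩ ht hcomm
    refine Subtype.ext ?_
    refine torus_eq_one hp.inList ht fun i hi => ⟨1, one_ne_zero, ?_⟩
    have hi' : i < l := by rw [← hp.rank_eq]; exact hi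
    have h1 := congrArg Subtype.val (hcomm ⟨i, hi'⟩)
    rw [mul_inv_eq_iff_eq_mul]
    exact h1

end Cfsg.Agent.H790.Frm.Chev
end

private theorem dce_99ba9139b3fd : _root_.True := by
  try have : _root_.True := by simp only [_root_.Cfsg.Agent.H790.Frm.FC.anyLt.eq_1]
  try have : _root_.True := by simp only [_root_.Cfsg.Agent.H790.Frm.mp.congr_simp]
  try have : _root_.True := by simp only [_root_.Cfsg.Agent.Nodes.Reps.Rp.congr_simp]
  try have : _root_.True := by simp only [_root_.Cfsg.Agent.H790.Frm.evs.eq_1]
  try have : _root_.True := by simp only [_root_.Cfsg.Agent.Nodes.Reps.NN.congr_simp]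
  exact _root_.True.intro
end

-- part: H790/Frm/ChevRows
section
set_option linter.all false
open scoped Cfsg.Agent.FastGrp

namespace Cfsg.Agent.H90F

private noncomputable def frc {α : Type} (x : ℕ) (f : ℕ → α) : α := Nat.rec (f 0) (fun k _ => f (Nat.succ k)) x

private theorem frc_eq {α : Type} (x : ℕ) (f : ℕ → α) : frc x f = f x := by cases x <;> rfl

private noncomputable def nth {α : Type} (d : α) (l : List α) : ℕ → α :=
  List.rec (fun _ => d) (fun a _ ih n => Nat.rec a (fun k _ => ih k) n) l

private theorem nth_eq {α : Type} (d : α) (l : List α) (n : ℕ) : nth d l n = l.getD n d := by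
  induction l generalizing n with
  | nil => rfl
  | cons a l ih => cases n with
    | zero => rfl
    | succ k => exact ih k

private theorem nth_arr {α : Type} (d : α) (a : Array α) (n : ℕ) : a.getD n d = nth d a.toList n := by
  rw [nth_eq, List.getD_eq_getElem?_getD, Array.getD_eq_getD_getElem?, Array.getElem?_toList]

private noncomputable def row (D : Cfsg.Lie.ChevalleyDatum) (r : ℕ) : List (ℕ × Array (ℕ × ℤ)) := (nth #[] D.chain.toList r).toList

private noncomputable def fnd (s : ℕ) (l : List (ℕ × Array (ℕ × ℤ))) : List (ℕ × ℤ) :=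
  List.rec [] (fun e _ ih => Bool.rec ih e.2.toList (Nat.beq e.1 s)) l

private theorem ce_eq0 (D : Cfsg.Lie.ChevalleyDatum) (r s : ℕ) : D.chainEntry r s = fnd s (row D r) := by
  unfold Cfsg.Lie.ChevalleyDatum.chainEntry row
  rw [nth_arr]
  generalize (nth #[] D.chain.toList r).toList = l
  induction l with
  | nil => rfl
  | cons e l ih =>
    show _ = (Bool.rec (fnd s l) e.2.toList (Nat.beq e.1 s) : List (ℕ × ℤ))
    by_cases h : e.1 = s
    · rw [List.find?_cons_of_pos (by simpa using h), Nat.beq_eq.mpr h]
    · rw [List.find?_cons_of_neg (by simpa using h), ih, Bool.eq_false_iff.2 fun h1 => h (Nat.eq_of_beq_eq_true h1)]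

private noncomputable def fce (D : Cfsg.Lie.ChevalleyDatum) (r s : ℕ) : List (ℕ × ℤ) := frc r fun r => frc s fun s => fnd s (row D r)

private theorem ce_eq (D : Cfsg.Lie.ChevalleyDatum) : D.chainEntry = fce D := by
  funext r s
  rw [fce, frc_eq, frc_eq, ce_eq0]

private noncomputable def fcr (D : Cfsg.Lie.ChevalleyDatum) (r s i : ℕ) : Option ℕ := ((fce D r s)[i - 1]?).map Prod.fst

private theorem cr_eq (D : Cfsg.Lie.ChevalleyDatum) : D.chainRoot = fcr D := by
  funext r s i
  rw [fcr, ← ce_eq]; rfl

private noncomputable def fcm (D : Cfsg.Lie.ChevalleyDatum) (r s i : ℕ) : ℤ := (((fce D r s)[i - 1]?).map Prod.snd).getD 0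

private theorem cm_eq (D : Cfsg.Lie.ChevalleyDatum) : D.chainM = fcm D := by
  funext r s i
  rw [fcm, ← ce_eq]; rfl

private noncomputable def gct (cr : ℕ → ℕ → ℕ → Option ℕ) (cm : ℕ → ℕ → ℕ → ℤ) (r s : ℕ) : List (ℕ × ℤ × ℕ × ℕ) :=
  ([(cr r s 1, cm r s 1, 1, 1), (cr r s 2, cm r s 2, 2, 1), (cr s r 2, cm s r 2, 1, 2), (cr r s 3, cm r s 3, 3, 1),
      (cr s r 3, - cm s r 3, 1, 3),
      ((cr r s 3).bind fun k => cr k s 1, ((cr r s 1).map fun k => cm k r 2 / 3).getD 0, 3, 2),
      ((cr s r 3).bind fun k => cr k r 1, ((cr r s 1).map fun k => -2 * cm k s 2 / 3).getD 0, 2, 3)] :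
    List (Option ℕ × ℤ × ℕ × ℕ)).filterMap fun c => c.1.map fun k => (k, c.2)

private theorem gct_eq (D : Cfsg.Lie.ChevalleyDatum) (r s : ℕ) : D.commTerms r s = gct (fcr D) (fcm D) r s := by
  rw [← cr_eq, ← cm_eq]; rfl

private noncomputable def msk (l : List (ℕ × Array (ℕ × ℤ))) : ℕ := List.rec 0 (fun e _ ih => Nat.lor ih (Nat.shiftLeft 1 e.1)) l

private theorem fnd_nil {s : ℕ} {l : List (ℕ × Array (ℕ × ℤ))} (h : (msk l).testBit s = false) : fnd s l = [] := by
  induction l with
  | nil => rfl
  | cons e l ih =>
    have h1 : (msk l ||| 1 <<< e.1).testBit s = false := h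
    rw [Nat.testBit_or, Bool.or_eq_false_iff, Nat.one_shiftLeft, Nat.testBit_two_pow] at h1
    show (Bool.rec (fnd s l) e.2.toList (Nat.beq e.1 s) : List (ℕ × ℤ)) = []
    rw [Bool.eq_false_iff.2 fun h2 => of_decide_eq_false h1.2 (Nat.eq_of_beq_eq_true h2)]
    exact ih h1.1

private noncomputable def fc2 (D : Cfsg.Lie.ChevalleyDatum) (r s : ℕ) : List (ℕ × ℤ) → List (ℕ × ℤ) → List (ℕ × ℤ × ℕ × ℕ)
  | [x], [_] => [(x.1, x.2, 1, 1)]
  | _, _ => gct (fcr D) (fcm D) r s

private noncomputable def fct (D : Cfsg.Lie.ChevalleyDatum) (r s : ℕ) : List (ℕ × ℤ × ℕ × ℕ) :=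
  frc r fun r => frc s fun s =>
    Bool.rec (fc2 D r s (fnd s (row D r)) (fnd r (row D s))) []
      (Nat.beq (Nat.land (Nat.lor (Nat.shiftRight (msk (row D r)) s) (Nat.shiftRight (msk (row D s)) r)) 1) 0)

private theorem ct_eq (D : Cfsg.Lie.ChevalleyDatum) : D.commTerms = fct D := by
  funext r s
  rw [fct, frc_eq, frc_eq]
  cases h : Nat.beq (Nat.land (Nat.lor (Nat.shiftRight (msk (row D r)) s) (Nat.shiftRight (msk (row D s)) r)) 1) 0
  · show _ = fc2 D r s _ _
    rw [← ce_eq0, ← ce_eq0]
    unfold fc2
    split
    · rename_i h1 h2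
      unfold Cfsg.Lie.ChevalleyDatum.commTerms Cfsg.Lie.ChevalleyDatum.chainRoot Cfsg.Lie.ChevalleyDatum.chainM
      rw [h1, h2]; rfl
    · exact gct_eq D r s
  · have h1 : ((msk (row D r) >>> s ||| msk (row D s) >>> r)).testBit 0 = false := by
      have h2 : (msk (row D r) >>> s ||| msk (row D s) >>> r) &&& 1 = 0 := Nat.eq_of_beq_eq_true h
      rw [Nat.and_one_is_mod] at h2
      rw [Nat.testBit_zero, h2]; rfl
    rw [Nat.testBit_or, Bool.or_eq_false_iff, Nat.testBit_shiftRight, Nat.testBit_shiftRight, Nat.add_zero, Nat.add_zero] at h1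
    show _ = []
    unfold Cfsg.Lie.ChevalleyDatum.commTerms Cfsg.Lie.ChevalleyDatum.chainRoot Cfsg.Lie.ChevalleyDatum.chainM
    rw [ce_eq0 D r s, ce_eq0 D s r, fnd_nil h1.1, fnd_nil h1.2]; rfl

private theorem ct_fun : Cfsg.Lie.ChevalleyDatum.commTerms = fct := funext ct_eq

private noncomputable def fng (D : Cfsg.Lie.ChevalleyDatum) (r : ℕ) : ℕ := frc r (nth 0 D.negIdx.toList)

private theorem ng_eq (D : Cfsg.Lie.ChevalleyDatum) : D.neg = fng D := by
  funext r
  rw [fng, frc_eq]
  exact nth_arr _ _ _

private noncomputable def fsi (D : Cfsg.Lie.ChevalleyDatum) (i : ℕ) : ℕ := frc i (nth 0 D.simpleIdx.toList)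

private theorem si_eq (D : Cfsg.Lie.ChevalleyDatum) : D.simple = fsi D := by
  funext r
  rw [fsi, frc_eq]
  exact nth_arr _ _ _

private noncomputable def fca (D : Cfsg.Lie.ChevalleyDatum) (i s : ℕ) : ℤ :=
  frc i fun i => frc s (nth 0 (nth #[] D.cartanSR.toList i).toList)

private theorem ca_eq (D : Cfsg.Lie.ChevalleyDatum) : D.cartan = fca D := by
  funext i s
  rw [fca, frc_eq, frc_eq, ← nth_arr, ← nth_arr]
  rfl

private noncomputable def frr (D : Cfsg.Lie.ChevalleyDatum) (i s : ℕ) : ℕ :=
  frc i fun i => frc s fun s => frc (fsi D i) fun p => frc (fng D p) fun q =>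
    Bool.rec (Bool.rec
      (Int.rec (fun a => Nat.rec s (fun k _ => (fcr D q s (Nat.succ k)).getD s) a)
        (fun k => (fcr D p s (Nat.succ k)).getD s) (fca D i s))
      p (Nat.beq s q)) q (Nat.beq s p)

private theorem rr_eq (D : Cfsg.Lie.ChevalleyDatum) : D.reflectRoot = frr D := by
  funext i s
  rw [frr, frc_eq, frc_eq, frc_eq, frc_eq, ← cr_eq, ← ng_eq, ← si_eq, ← ca_eq]
  unfold Cfsg.Lie.ChevalleyDatum.reflectRoot
  dsimp only
  by_cases h1 : s = D.simple i
  · rw [if_pos h1, Nat.beq_eq.mpr h1]
  rw [if_neg h1, Bool.eq_false_iff.2 fun h => h1 (Nat.eq_of_beq_eq_true h)]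
  by_cases h2 : s = D.neg (D.simple i)
  · rw [if_pos h2, Nat.beq_eq.mpr h2]
  rw [if_neg h2, Bool.eq_false_iff.2 fun h => h2 (Nat.eq_of_beq_eq_true h)]
  generalize D.cartan i s = A
  rcases A with (_ | k) | k
  · rfl
  · exact if_pos (Int.ofNat_succ_pos k)
  · rw [if_neg (Int.negSucc_lt_zero k).not_gt, if_pos (Int.negSucc_lt_zero k)]; rfl

private theorem rr_fun : Cfsg.Lie.ChevalleyDatum.reflectRoot = frr := funext rr_eq

private theorem ng_fun : Cfsg.Lie.ChevalleyDatum.neg = fng := funext ng_eq

private noncomputable def dOf {P : Prop} (b : Bool) (h : b = true ↔ P) : Decidable P :=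
  Bool.rec (motive := fun c => b = c → Decidable P) (fun e => isFalse fun hp => Bool.noConfusion (e.symm.trans (h.2 hp)))
    (fun e => isTrue (h.1 e)) b rfl

private noncomputable def flt (n : ℕ) (p : ∀ k, k < n → Bool) (m : ℕ) : Bool :=
  Nat.rec true (fun k ih => Bool.rec false ih
    (Bool.rec (motive := fun b => Nat.ble (Nat.succ k) n = b → Bool) (fun _ => true)
      (fun h => p k (Nat.le_of_ble_eq_true h)) (Nat.ble (Nat.succ k) n) rfl)) m

private theorem flt_one (n : ℕ) (p : ∀ k, k < n → Bool) (k : ℕ) (b : Bool) (e : Nat.ble (Nat.succ k) n = b) :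
    (Bool.rec (motive := fun b => Nat.ble (Nat.succ k) n = b → Bool) (fun _ => true)
      (fun h => p k (Nat.le_of_ble_eq_true h)) b e : Bool) = true ↔ ∀ h, p k h = true := by
  cases b
  · exact ⟨fun _ h => absurd (Nat.ble_eq_true_of_le h) (by rw [e]; exact Bool.false_ne_true), fun _ => rfl⟩
  · exact ⟨fun h _ => h, fun h => h _⟩

private theorem flt_iff (n : ℕ) (p : ∀ k, k < n → Bool) (m : ℕ) :
    flt n p m = true ↔ ∀ k, k < m → ∀ h, p k h = true := by
  induction m with
  | zero => exact ⟨fun _ k h => absurd h (Nat.not_lt_zero k), fun _ => rfl⟩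
  | succ m ih =>
    have e : ∀ a b : Bool, (Bool.rec false a b : Bool) = true ↔ b = true ∧ a = true := by decide
    refine (e _ _).trans ((and_congr (flt_one n p m _ rfl) ih).trans ⟨fun h k hk => ?_, fun h => ⟨h m (Nat.lt_succ_self m), fun k hk => h k (Nat.lt_succ_of_lt hk)⟩⟩)
    rcases Nat.lt_succ_iff_lt_or_eq.1 hk with h1 | h1
    · exact h.2 k h1
    · exact h1 ▸ h.1

private noncomputable def fbl (n : ℕ) (P : ∀ k, k < n → Prop) [H : ∀ k h, Decidable (P k h)] : Decidable (∀ k h, P k h) :=
  dOf (flt n (fun k h => @decide _ (H k h)) n)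
    ((flt_iff _ _ _).trans ⟨fun h k hk => of_decide_eq_true (h k hk hk), fun h k _ hk => decide_eq_true (h k hk)⟩)

private theorem bl_fun : @Nat.decidableBallLT = @fbl := by
  funext n P H; exact Subsingleton.elim _ _

private noncomputable def fal {α : Type} (l : List α) (p : α → Bool) : Bool :=
  List.rec true (fun a _ ih => Bool.rec false ih (p a)) l

private theorem al_fun : @List.all.{0} = @fal := by
  funext α l p
  induction l with
  | nil => rfl
  | cons a l ih => rw [List.all_cons, ih]; show _ = (Bool.rec false (fal l p) (p a) : Bool); cases p a <;> rfl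

private noncomputable def fba {α : Type} (p : α → Prop) [H : DecidablePred p] (l : List α) : Decidable (∀ x ∈ l, p x) :=
  dOf (fal l fun a => @decide _ (H a)) (by
    rw [← al_fun, List.all_eq_true]
    exact ⟨fun h a ha => of_decide_eq_true (h a ha), fun h a ha => decide_eq_true (h a ha)⟩)

private theorem ba_fun : @List.decidableBAll.{0} = @fba := by
  funext α p H l; exact Subsingleton.elim _ _

end Cfsg.Agent.H90F

-- part: H790/Frm/DataG2
section
/-! The orbit of a frame of type G2 (generated, helper790). -/

set_option autoImplicit false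
set_option maxRecDepth 100000

namespace Cfsg.Agent.H790.Frm.DataG2

open Cfsg.Agent.ChevalleyStructure.FastBase

/-- the certificate -/
noncomputable def fc : FC where
  l := 2
  m := 6
  b := 2
  N := 3
  W := 0x40503010200050002030104
  FR := 0x50103000402
  NX := 0x20001000000020001
  MK := 0x22254

theorem chk : fc.chk = true := by decide +kernel

theorem chkR : fc.chkR = true := by decide +kernel

theorem lt' : (allLt fc.N fun k => allLt fc.b fun a => Nat.ble (Nat.succ (fc.fr k a)) fc.m) = true := by
  decide +kernel

theorem lt : ∀ k < fc.N, ∀ a < fc.b, fc.fr k a < fc.m := fun k hk a ha =>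
  Nat.le_of_ble_eq_true (allLt_iff.1 (allLt_iff.1 lt' k hk) a ha)

end Cfsg.Agent.H790.Frm.DataG2
end

-- part: H790/Frm/DataD4
section
/-! The orbit of a frame of type D4 (generated, helper790). -/

set_option autoImplicit false
set_option maxRecDepth 100000

namespace Cfsg.Agent.H790.Frm.DataD4

open Cfsg.Agent.ChevalleyStructure.FastBase

end Cfsg.Agent.H790.Frm.DataD4
end

-- part: H790/Frm/DataF4
section
/-! The orbit of a frame of type F4 (generated, helper790). -/

set_option autoImplicit false
set_option maxRecDepth 100000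

namespace Cfsg.Agent.H790.Frm.DataF4

open Cfsg.Agent.ChevalleyStructure.FastBase

/-- the certificate -/
noncomputable def fc : FC where
  l := 4
  m := 24
  b := 4
  N := 3
  W := 0x16171514131112100f0d0e0b0c0a0908060704050301020017151614121311100e0f0d0c0a0b09070806050304000102171613141512110f100c0b0e0d090a08020105040307060017161510080706140f0e0d050403091312110c0b0a020100
  FR := 0x171106011513080016120702
  NX := 0x20002000200010000000100010002000100000000
  MK := 0x820042280101440084

theorem chk : fc.chk = true := by decide +kernel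

theorem chkR : fc.chkR = true := by decide +kernel

theorem lt' : (allLt fc.N fun k => allLt fc.b fun a => Nat.ble (Nat.succ (fc.fr k a)) fc.m) = true := by
  decide +kernel

theorem lt : ∀ k < fc.N, ∀ a < fc.b, fc.fr k a < fc.m := fun k hk a ha =>
  Nat.le_of_ble_eq_true (allLt_iff.1 (allLt_iff.1 lt' k hk) a ha)

end Cfsg.Agent.H790.Frm.DataF4
end

-- part: H790/Frm/DataE6
section
/-! The orbit of a frame of type E6 (generated, helper790). -/

set_option autoImplicit false
set_option maxRecDepth 100000

namespace Cfsg.Agent.H790.Frm.DataE6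

open Cfsg.Agent.ChevalleyStructure.FastBase

/-- the certificate -/
noncomputable def fc : FC where
  l := 6
  m := 36
  b := 4
  N := 135
  W := 0x2322211f201e1c1d1a1b1917181615141311120f100e0c0d0b0a08090706040503010200232220211f1d1e1c1b191a1816171514121311100e0f0d0b0c0a09070806050304000102232122201f1e1b1a1d1c19181715161413100f12110e0d0c0a0b0908060702010305040023221e1d1c21201f1b1a1918171614151312110d0c0b100f0e0a05040306090807020100222321201f1e1d1c1817161b1a1915141312110908070504030a100f0e060d0c0b020100232221201f131211100f0e09080706141e1d1c1b1a190d0c0b0a18171615050403020100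
  FR := 0x23180803211d110a1f140c031a1611062314050121140d041b171306201c130a231609041d1a130e221b0f0b2318070423170903201e110a211c120a1f140b041c150f0720140d03191711061b16120622140d01231509012314040221140c051e1510081d1713071a1813061f1d130a201a130b2219100c231608051e19120f1c1b130e23180601221b0e0c221a100b23170705201e0f0b1f1e120a1f140a011c150e0820140b051d15100719170f071918120623140300201713032215100122140c02231508021e1612081e150f091c1813071f1b130b2119120c22190f0d1e1911101c1b120f221b060123170602201e0803211d0e0c221a0e0d1f1e100b1c150a0120140a021a160e081d150e0919170c031918100722140b00231507001f1813032116120422150f021e1611091c1812081f1b120c2119110d1d1a1110110a06010e0c080323160600211d0704221a06021f1e0903211c0e0d1f1d100c21140a001a160b041d150a021b160e0919180d031a18100822150e001f181204211611051d171109201a110d0f0b0704120a06020e0d090322190600211c07051f1d0904201c0f0d1e150a001b160b051b170f091a180d041f18100121160e0020171105130a0600100b07050f0d09041f1b090121190700201c08051c180d011e160b001b170c0520170f02110d0901130b0700100c08051e1903001c1b0501201a08021d170c02130e030011100501120c08021d1a0402120f0402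
  NX := (by
  refine (?fq1 : (Nat.add 
    (nat_lit 0x4d002500240051002f004d0027002f00500024004f004e00260030004d004e004d00240025004d0022003600230036003600460021002300350023002300420034004b003f00340020003f001f004a004c004a0049003d004c0020001f0032004b003c004a001e0031001f0047003e0049001d00480047001f0038001d00470039001d001e0039002e00450040001c002e002e001b004200460044004200230046001c001b0045002c00220044001a0043001b0041004100420019002a0041001b0021001a0041003a0019001a001a0028003c00170040003f00200016003e0018003a0039001e003d0016003c003b0038001f003a003b001a00160037003a00390038001d00370016001d00140035003600350035002d00360015001400220022002c00350013002100140014002a0020003200110020003400280033001000320031003000260010003100120010002f0027002f00300024002f00100024001c002c000e002e001c0015002d000d002c002b002a00140029002b0025000d00290029000d002a000f0029000d0013000c00180027000f001200120017000c0028000e0011001100270026000c00250024001000150022000a00150015001c00230009002200210021001b00090021000b00090009001900060012001e000700180018001100060020000800170017001e001f0006001e001d00160005000f001900180007000b000e0005001c00170008000a0019001b0005001a001900090018001700160005000600060002000b001300030003000f000a0002001500040004000e00130014000200130013000d0008000100080011000e00040001000700010012000f00030012001100100001000c000c000f000e000d000c00010002000400000004000a000a0008000000030000000b000b0007000b000a0009000000000005000700080007000600050000000300040003000200020001)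
    (Nat.shiftLeft (Nat.add 
    (nat_lit 0x5b00740083005e00830080005c0073005a005c00560072008100570082007200550071007e0082005700650082005900820055005600700081005d005600530081006f0053005c00540081005300800052005400800058007d00540080005a0052006c00800053007f00600051007f006b006000510050007f007d00580061004f00630050004f007e0064007e00620055007e004f0062004e007d004e00500054007d007d004d007d00510052004e004b0065007b0065004c00710048007c0049007c007b0069007c006900780048007a007c007b0068004b007a004800680047004900790049004a006a0079006b004700780060006b0045005f00770046005f005f0043007600440077007600740077006f004500430075005d0076006e00730075004300730041004400740042004400440074006c0041005a00730043005900700059003f00400059003e003d0058006d006a004a003c0057003d00720071004c00720040006f003c007000560071003f00680070003c004b003b006d006e003d0067006d006e0043003b006f006e006c006d003a006c003e0066003b006a0039006b0066003e00470038006a00690067003d00490069004800380069006800480067003700670038003b00660037006600370039003a00370032004c0033004c00650057006500340062004b0032005500310033004a0033006100580030006100640061003300500064004f003000630062004f0061002f0060003000310051002c0046002d005f00460036005f002e005d002c00450045002b005b005e002d005b005b005e0053002b005d005c005a002a002d0042005b002d0035005b0029005a002a002b002b00400056002e002800590040003f0055003400590028003400580027003e0052005100310026005800570054005000330057002800260056005500320054002500530026004e00520025005200290027)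
    (Nat.shiftLeft 
    (nat_lit 0x7a007b0086007b007c007a00780079007c007900850078007500770084007600770084007300740076008300740076007000820070007100720082006f00750072006e006f0081006c0073006d0080006c006e006b0078006a006b007f00790068007a007100680069007b006600670066006a006d006700630064008500640086006300620086006500860064007e0086007e007a00620063008600600085006100850079007f0085007f0063006000780085005d0084005f005e00840077005c005e00830084005e0083008400810075005c005d0075005a0083)
    (nat_lit 5600)))
    (nat_lit 5600)))
    = ?xq1 → Nat) ?hq1; (case hq1 => (conv => lhs; whnf)); intro _; exact OfNat.ofNat ?xq1 : Nat)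
  MK := 0x8010001082200204000801010080044200408001000222001020100088800401100804008004002100240840004080088008010000908008002081400204002100404000801008100102080801001020080028200400084400404001020028002002028001000142001010200402101000208800800050800400a00804001040808004020110008004001200420480000180840008010000424080050004040108008008000a01400088000c004040008010040201020410010010082002021008000280808000304004080010000910088000840021000240010100480020010404044010004020820001108008008808080020204100040200a0000420300000180480004080000428008000441400001082200050004040060000c00108000102004021001004040044041000202042000028010080030100804001008018002000810810800082004400104002080040404202000110401000880410002020220000240300000000204420000051088004000412200000904040000440c00002082100060000a00110002001004010044008100202004040084042000030020080050101004002040010810400102004200200208202001040220000000088900000404440000062084020000412100000a00a000021011000a0000402004010084008200088082000050020100810100022004040011008200200000804410000108a000000a210088000202202000081110000120011002002040400801008801020100808004000022202000080881000011120042000009018000022104000104020801004000084009000030022000041104024000014000048014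

theorem chk : fc.chk = true := by decide +kernel

theorem chkR : fc.chkR = true := by decide +kernel

theorem lt' : (allLt fc.N fun k => allLt fc.b fun a => Nat.ble (Nat.succ (fc.fr k a)) fc.m) = true := by
  decide +kernel

theorem lt : ∀ k < fc.N, ∀ a < fc.b, fc.fr k a < fc.m := fun k hk a ha =>
  Nat.le_of_ble_eq_true (allLt_iff.1 (allLt_iff.1 lt' k hk) a ha)

end Cfsg.Agent.H790.Frm.DataE6
end

-- part: H790/Frm/DataE7
section
/-! The orbit of a frame of type E7 (generated, helper790). -/

set_option autoImplicit false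
set_option maxRecDepth 100000

namespace Cfsg.Agent.H790.Frm.DataE7

open Cfsg.Agent.ChevalleyStructure.FastBase

/-- the certificate -/
noncomputable def fc : FC where
  l := 7
  m := 63
  b := 7
  N := 135
  W := 0x3e3d3c3b3a3839373634353331322f302e2d2b2c292a2826272524222321201f1e1d1b1c191a1816171514121311100f0d0e0c0b0a080907060405030102003e3d3c3b393a3837353634323331302e2f2c2d2b2a282927252624232122201f1e1c1d1b1a181917151614131112100f0e0c0d0b0a090708060503040001023e3d3c3a3b39383637353433302f32312e2d2a292c2b2827262425232220211f1e1d1a191c1b1817161415131210110f0e0d0b0c0a090806070201030504003e3d3b3c3a393837333231363534302f2e2d2c2b2726252a2928242322211f201e1d1c1b1716151a1918141312110f100e0d0c0a0b050403060908070201003e3c3d3b3a3938373635342d2c2b2a2928333231302f2e27262524232221201e1f1d1c1b1a191813121110171615140f090807060a0e0d0c0b0504030201003e3d3c373635343b3a3938333231302f2e2d2c2b2a292823222120272625241f1e1d1c1b1a19180e0d0c0b090807060f171615140a131211100504030201003d3e3c3b3a393837363534333231302f2e1d1c1b1a1918171615140e0d0c0b0a1e2d2c2b2a292827262524131211100f232221201f09080706050403020100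
  FR := 0x31302c291d180f31302d281c190f34302c261d1510322f2b2a1d180f332e2b2a1c190f38302c221d0c0634322a261d141134302d251c1610322f2d281b1a0f352f2b271d151034322d241a1611353129271d1411332e2c291b1a0f362e2b271c161038322a221d0b0738302d211c0d06392f2b231d0c0634332a251c1412352f2d251b171038322d201a0d0734332c241a151235312d241917113835331e130803372e29271a1611393129231d0b073a2e2b231c0d06363128271c1412362e2c261b1710383527221d0a0338332a211c0b08392f2d211b0e06353329251b141336312c2418171238352d1f170d0338332c201a0c0839312d20190e0735332b241915133836321e1307043934331e1209033b2e29231a0d07372f28271a1512372e2a26191711393426231d0a033a3128231c0b083a2e2c221b0e06363228261b1413383627211c0a04393329211b0b09372f2a2518171239342d1f160e033a312c20180e0836322b241816133a34321e11090438362c1f170c0439332b20190c093837301e1306013a372e1e1106003936311e1207053c2e2623170d033b2f28231a0c083b2e2a22190e07373028261915133a3425231c0a043a3228221b0b09383727201a0a013a372520180a00393626211b0a053b2f2a21180e08373029251816133a342c1f150e043a322b20180d093b34301e1009013b362e1e1007003a35311e11080538372a1f170b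013a37281f150b0039362b1f160c0539372f1e1206023c2e2722160e033d2826231308033c2f2523170c043b302822190c093b3424231a0a013b362421180a003a3525221b0a0539372620190a023e1816130e08033c332e1e0f03003c31301e0f05013c2f2721150e043b302921180d093b342a1f140e013b36281f140c003a352b1f150d053b352f1e1008023937291f160b023d2925231307043d2827221209033c312423170b013c332421150b003c302522160c053b352422190a023e1915130e07043e1817120d09033d2927211109043d2d281f0f03003d2b2a1f0f05013c322f1e0f04023c312720140e013c332520140c003c302621150d053b35291f140d023d2b24231306013d2d24211106003d2a25221207053c322422160b023e1917110c09043e1d180f0a03003e1b1a0f0a05013e1b14130e06013e1d14110c06003e1a15120d07053d2b27201009013d2d25201007003d2a26211108053d2c291f0f04023c322620140d023d2c24221206023e1b17100b09013e1d15100b07003e1a16110c08053e1c190f0a04023e1c14120d06023d2c26201008023e1c16100b0802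
  NX := (by
  refine (?fq2 : (Nat.add 
    (nat_lit 0x46004500440027003100210027001f002000300020001f001f0037002f001b002f003e001d002f002f001b002e001b003f001c002e002e00180038001a0043001e0036003600430035004000180043004200350017002b0041001a003f003c0034002a0017003b0019003e003b00330041003a00170040003d003a0032003f003e003d001b001700390028003c003b003a003100390017003100140037001600370036001e00200037001e0025001400380037001f00130024003600340016001a001a002300130019003300150019001900360018001300350014001800180034003300320013002100310017000d0030000f003000120012002600300012001f000d003000300025000a0025000c000a002d00260012001d0009001d000b002f001d00110009001c0009000c002e001c0010002e002f002e00280009001b001b0008001a002d002b000c00240024001900080023002a000b00230023002d00220008002c000a00220022002b002a0029000800280027002100070016002600160024000c000f00150007000b00150023000b000e0026000a000700250022000a000d00240023002200210007000800080004001f0006000400200020001e001100030011000500110011001d000300100003000600100010001c0002000f0020000f000600060016000e00020005000e000500050015002000040002001f0004000400140001000c001e001c001a00160006000b00010015001d001900150005001e00140001001e001800140004001c001d001c0001001b00090003001a00190018001700010013001300160015001400070013000100020000000600120010000f000f000c00050000000e0011000e000e000b0012000d00000012000d000d000a0010001100100000000300030009000f000e000d0002000000000007000c000b000a00090008000700000006000500040003000200020001)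
    (Nat.shiftLeft (Nat.add 
    (nat_lit 0x7300540068005500500071006e0072005300670053007100500067004d0070004f0070005100520061007000520060004d005500700060004a004b006d004c004b006f004a0049006f006c0056006f004b0056006f0056006b006f0049004a006f006a0048005c006e005c006a00550047006e004b0048006d006c0054006d0068004a005a0047006b006d006c006700490067006b004700530044006a0046006900580048005100690047005000440068006700500042005d0066005e00420043005e006500410055006300600065005c004000630043004100400066005b0066006200420062006600400059003d0060003f003d004100610052003a0065003c0064006100410058006400400057003a0063006200570039004f0061004f003c003f004f004e0039003e004e003b003e004e0061003d00390060003a003d004d00380036004c005f0037003800380035005f005b0036005f005e0043005f0043005a00380035005d005f005e004200590042005d003500420032005c0034005b004800580041005b005700350032005a00590040003100460058003c00460034003c004500310033003b00450033003b005800320031005700440032003a002c004a0054002d002c0056004b00560049005300490056002c004900290055002b005400520051004800540050002c00290054005300470028003f0052002e002b004f003f003e0028004e002f002a004e003e0052004d002800520029004d003d0027003c00510046004f002b0046003b0027002a0045004e002a00450051002900270050004d00290044004f004e004d0039002700280039004c002d0038004a0025004c004c0025002600370026004c002500300022004c0024004b0026002d002d004b002c00470022004a0049002c002100340048002400340046002b003300210045002300330045002a0048004400210047003200440029)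
    (Nat.shiftLeft 
    (nat_lit 0x83008500830084008300860085007e0086007e007f008200850086007d007f0080008600800081007f008600820086007d00860083007e007a0083007a007900850082007a0076007700780081007800840077007b00750084007b00840078007c00740084007c00850075007700840085007a00850074007a007e008300840079007b0083007b0076007400710072007f00710072007300800080006c007d0080007d006e00710082007e0082006b007e007a0082006b007d006f0082006c006d006b006e00690081006a00810080007300680081007300770069007f00810081006d006e0076006e007d0068006700800072006c007f00690072007f006b0071007e00670068007d00630064007700650064007c00780062007c00750066007c00640075007c00660074007c00620063007b0060006100700061006500600070005d005e0079005d005e005f005d0078005b0076005c0076007b0063005a0076005f006d005b0079005a0059007b005e00750079005b006600790074005d007a0059005a0079005c0058006a0078006a005c006500570078006400580077007500640077005a006300680057007400760075005900620059007400570062005300710056007200530054006c005500510065007300700055006a0050007300690051007300720069)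
    (nat_lit 5600)))
    (nat_lit 5600)))
    = ?xq2 → Nat) ?hq2; (case hq2 => (conv => lhs; whnf)); intro _; exact OfNat.ofNat ?xq2 : Nat)
  MK := 0xc48008402000000190800900400000111040202100000009180042010000002130004802000008088021000082000140440201200000022404020820000001284003002000001044401010800000142010044200000044050040240000002148003002000002024400820800001040404200008800202400420004080080220208000410000c0210080a00000020a020088100000208400208004100006040401090000001110080141000001280000400801080100850008840000080808208000220020024040800102000420180101400000080a0801102000004800210800010200840201080004800200a00208004040005004401030000001084040061000000901000404010040108100104001100040440020400810000a0204008a000000a200002004004802180000400402081000841008004100020206001090000004022200141000002100048200004080804021020001200100140102001010002200a0040c00000140008210000410041004041000140002021080061000001081000402020040402100101004100008810200290000010500001000808400a00800404008080208080102001200030200008010008412010001000801041210000200200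5010004048008020081001021008002200200110100801020004080a00114000004100028100004100808020810001400060002041000100824000108080020082400042080004201001080402008200020408800520000020808004010200804040801010022001022000080020404210100010004020421100002001009001800400808008020900020100401002090020020100408014040002002002210004084004040084000029000100210400200a00200404040080820100090008100018040004021080002402000802108000902000108014000208100020240000000014841082010800080010012400c00010002008880040410010200808010202010022001020080100208004210004020040400421004004010101008208000400101040500040100801008800008a00020024100000c200020104100200180080080220100024004010024004009001004080410000a010002024000000002284090800000000308441080000a0800080841000108040004004a0000c008000802220090000800100284008020400410008804001080080800900100420020202010400401002040088000206000200109000100900010020a0000424000400a02008002800801009000000000a084842000000010804204c00000000c0084228000000010308085000000008048410600000000212105020000881000102024000404200020102800011080008048100009004000400a10040041001020044000202800080089000000002204280a000000010108440c000000004421120800000002401082900000000405081110000820800080824000000010410904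

theorem chk : fc.chk = true := by decide +kernel

theorem chkR : fc.chkR = true := by decide +kernel

theorem lt' : (allLt fc.N fun k => allLt fc.b fun a => Nat.ble (Nat.succ (fc.fr k a)) fc.m) = true := by
  decide +kernel

theorem lt : ∀ k < fc.N, ∀ a < fc.b, fc.fr k a < fc.m := fun k hk a ha =>
  Nat.le_of_ble_eq_true (allLt_iff.1 (allLt_iff.1 lt' k hk) a ha)

end Cfsg.Agent.H790.Frm.DataE7
end

-- part: H790/Frm/DataE8
section
/-! The orbit of a frame of type E8 (generated, helper790). -/

set_option autoImplicit false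
set_option maxRecDepth 100000

namespace Cfsg.Agent.H790.Frm.DataE8

open Cfsg.Agent.ChevalleyStructure.FastBase

/-- the certificate -/
noncomputable def fc : FC where
  l := 8
  m := 120
  b := 8
  N := 2025
  W := 0x76777574737271706f6e6d6c6a6b696867666563646261605e5f5d5c5a5b595758555654535250514f4d4e4b4c4a494748454644424341403f3d3e3b3c3a3839373634353332312f302e2d2c2b2a292728252624222321201e1f1d1c1b191a1817161513141211100f0d0e0c0b0a0809070604050301020077757674737271706f6e6d6b6c6a6968676664656362615f605e5d5b5c5a585957565455535152504e4f4d4c4a4b484947464445434142403e3f3d3c3a3b393738363533343231302e2f2d2c2b2a282927262425232122201f1d1e1c1b1a181917161514121311100f0e0c0d0b0a0907080605030400010277767475737271706f6e6c6d6b6a696867656664636260615f5e5c5d5b5a595655585754525351504f4c4b4e4d4a494645484744434240413f3c3b3e3d3a393836373534323331302f2d2e2c2b2a292625282724232220211f1e1c1d1b1a191718161514131112100f0e0d0b0c0a0908060702010305040077767573747271706f6d6e6c6b6a696866676564636162605f5e5d5958575c5b5a565554534f4e4d5251504c4b4a494847434241464544403f3e3d3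938373c3b3a363534333132302f2e2c2d2b2a292827232221262524201f1e1d1b1c1a191816171514131210110f0e0d0c0a0b0504030609080702010077767574727371706e6f6d6c6b6a69676866656463625d5c5b5a61605f5e595857565554535251504948474645444f4e4d4c4b4a434241403f3e3d3c3b3a353433323938373631302f2e2d2b2c2a2928272625241f1e1d1c232221201b1a1918171516141312110f10090807060a0e0d0c0b050403020100777675747371726f706e6d6c6b6a69686261605f5e67666564635d5c5b5a595857565554535251504f4e4d4c4b4a3f3e3d3c3b3a39383736494847464544434241403534333231302f2e2d2c2a2b292827262524232221201a191817161f1e1d1c1b150e0d0c0b0a0f1413121110090807060504030201007776757473706f72716e6d6c6b6a686967666564636261605f5e535251504f4e4d4c4b4a5d5c5b5a595857565554494847464544434241403f3e3d3c3b3a39383736302f2e2d2c35343332312b2a2928272625242322212014131211100e0d0c0b0a151f1e1d1c1b0f1a19181716090807060504030201007776757473726970686766656463716f6e6d6c6b6a6261605f5e5d5c5b5a595857565554535251504f4e4d4c4b4a49484746454443424140292827262524232221201f1e1d1c1b14131211100f2a3f3e3d3c3b3a3938373635343332311a1918171615302f2e2d2c2b0e0d0c0b0a09080706050403020100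
  FR := (by
  refine (?fq3 : (Nat.add (Nat.add (Nat.add (Nat.add 
    (nat_lit 0x1e0d0705726f28201913060272683f362e18060072683c372f19070572683b392e18090473673d352d170e0173673f332d170c0073673c342e180d05736248342d1c130273673e322f190b0274663d392b15090174663f372b15070075653c382b15080574663e342c160d02736249442a150300736247462a150501746148422a150802716847432d1c0901716849412d1c0700716846422e1d080571674e422d200d0271674f4a2b1b030071674d4c2b1b05017166514b2b1c080272624e4b2a1604026f6758552b10040270693d39320b090170693f37320b070070693c38330c080570693e36340d06026f694944311003006f694746311005016f694842321108026e694e4b310f0402726f292018120600726f262119130705726f252318120904736e271f17110e01736e291d17110c00736e261e18120d05736e281c19130b02746d2723150f0901746d2921150f0700756c2622150f0805746d281e16100d02717027231c0b0901717029211c0b0700717026221d0c0805717028201e0d060272683d392d17090172683f372d17070072683c382e18080573673e342d170d0273673f3a2b15030073673d3c2b15050174663e382b150802736248452a150402716849442c1b0300716847462c1b0501716848422d1c080271674e4b2b1b040270693f3a310a030070693d3c310a050170693e38320b08026f69484531100402726f272317110901726f292117110700726f262218120805736e281e17110d02736e2924150f0300736e2726150f0501746d2822150f0802717029241b0a0300717027261b0a0501717028221c0b080272683f3a2c16030072683d3c2c16050172683e382d17080273673e3b2b150402716848452c1b040270693e3b310a0402726f292416100300726f272616100501726f282217110802736e2825150f0402717028251b0a040272683e3b2c160402726f282516100402)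
    (Nat.shiftLeft (Nat.add 
    (nat_lit 0x746d231d19130c09776a2521150f0704766b2820150f0602766b2423150f0903756c291c16100b00756c251f16100e04766b261d16100c05756c231e17110d09746d271b1a140a01746d291b18120a00756c261b19130a05717025211f0e0704717024231e0d0903726f27201a14060172683b37301a070472683a392f19090373673b352e180e04746639342e180d09736247352d1c1401736249332d1c1200736246342e1d130573673d32301a0b0173673f322e180b0073673c332f190c05736248322f1e110275653f362b15060076643c372b15070575653b392b15090474663d352c160e0174663f332c160c0075653c342c160d05746148342c1b130274663e312f190a02746147432a150901746149412a150700756046422a150805745d4e422a160d02716849402e1d0600716846412f1e0705716845432e1d090471674d432d200e0171674f412d200c0071674c422e210d0572624e382d2013026f675842322019027166504c2b1c09017166524a2b1c07007165514d2b1d0805716651452c200d0272624f4a2a16030072624d4c2a1605017261514b2a1708026f6759542b1003006f6757562b1005016f665b552b110802706258552a0a040270693b39330c090470693d36350e060170693f36330c060070693c37340d07056f6948403413060272683e362f1906026f694743321109016f694941321107006f694642331208056e694e4236110d026e694f4a310f03006e694d4c310f05016d69514b320f08026e6858552c0f0402726f25211a140704726f242319130903736e251f18120e04746d231e18120d09736e271c1a140b01736e291c18120b00736e261d19130c05756c2920150f0600766b2621150f0705756c2523150f0904746d271f16100e01746d291d16100c00756c261e16100d05746d281b19130a02717025231d0c0904717027201f0e0601717029201d0c060071702621)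
    (Nat.shiftLeft 
    (nat_lit 0x2f190e03746638352e180e08736245352e1d1404746143342e1d130973673b33301a0c04746639332f190c0973624732301f1101736249322e1d1100736246332f1e120577633b372b15070476643e362b15060276643a392b15090375653f322c160b0075653b352c160e0476643c332c160c05756539342d170d09746147352c1b1401746149332c1b1200756046342c1b130574663d31301a0a0174663f312e180a0075653c312f190a05746148312f1e1002756049402a150600765f46412a150705756045432a150904745d4d432a160e01745d4f412a160c00755c4c422a160d05745d4e382b1b1302745853422a190a0271684541301f0704716844432f1e090371674f402e210b0071674b432e210e0471674c412f220c0571664c452e240d0972624d392d20140172624f372d20120072624c382e21130572624e362f2211026f67574332201a016f675941322018006f675642332119057062583832201e027165534a2b1d06007164524d2b1e07057165504e2b1d0904716650462c200e01716652442c200c00716551472c210d057261513b2c2013026f665b45312019027261504c2a1709017261524a2a1707007260514d2a180805735d51452a170d026f665a562b1109016f665c542b1107006f655b572b1208056e665f552c110d02706259542a0a0300706257562a0a050170615b552a0b080270693b37350e070470693a39340d09036f6947403514060172683d36301a0601716848402f1e06026f694940331206006f694641341307056f694543331209046e694d4336110e016e694f4136110c006e694c4237120d056e694e4038130b026e685842361c19026d69504c320f09016d69524a320f07006c69514d330f08056d69514536100d026e6859542c0f03006e6857562c0f05016d685b552d0f0802726f24221a140803736e241f19130e03746d221f18120e08736e251d1a140c04)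
    (nat_lit 5600)))
    (nat_lit 5600)))
    (Nat.shiftLeft (Nat.add 
    (nat_lit 0x72624f362e21110072624c372f2212056f675940332117006f67554333211a046f675641342218056f665645332419097062573932201f017062593732201d007062563833211e057062583634221c027163524e2b1f07047164534b2b1e06027164504f2b1e0903716553442c210b00716550482c210e04716452472c220c0571654e472d240d097261503c2c2014017261523a2c2012007260513d2c211305726151362f2510026f665a4631201a016f665c44312018006f655b473121190570615b3b31201e027260534a2a180600725f524d2a1907057260504e2a180904735d50462a170e01735d52442a170c00735c51472a180d05735d513b2b1c1302735b53452a190b026f655d542b1206006f645c572b1307056f655a582b1209046e665e562c110e016e6660542c110c006e655f572c120d056e6461552c130b026e665f4b311c190270615a562a0b090170615c542a0b070070605b572a0c0805705f5d552a0d060270693a38350e080371684740301f06016f694541351407046f694443341309036e694b4337120e046d694c453a120d096e694d4039140b016e694f4037120b006e694c4138130c0571674e402f220b026e685743361c1a016e685941361c18006e685642371d19056e685840381e17026c69534a330f06006b69524d340f07056c69504e330f09046d69504636100e016d69524436100c006c69514737100d056d6951403b130a026d685b45361b19026d685a562d0f09016d685c542d0f07006c685b572e0f08056d675f552d100d02736e241e1a140d03746d221d1a140c08746d211f19130e07776a2720150f0601776a2422150f0803766b241f16100e03776a251d16100c04766b281c16100b02766b231d17110c09756c221f17110e08756c291b17110a00756c251b1a140a04766b261b18120a05756c231c19130b09717024221f0e080372683a38301a080373673a35)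
    (Nat.shiftLeft (Nat.add 
    (nat_lit 0x391f17016e685940371d17006e685641381e18056f675840342217026a69524e350f07046b69534b340f06026b69504f340f09036c69534437100b006c69504837100e046b69524738100c056c694e473a110d096d6950403c140a016d6952403a120a006c6951413d130a05716651402f250a026d685a46361b1a016d685c44361b18006c685b47371b19056d685b403b1e16026c685d542e0f06006b685c572f0f07056c685a582e0f09046d675e562d100e016d6760542d100c006c675f572e100d056d6462552d130a026d675f4b321b1902746d211e1a140d07776a241e16100d03776a271c16100b01776a221d17110c08766b211f17110e07766b241b1a140a03776a251b18120a04766b281b17110a02756c221c1a140b08766b231c18120b09756c201f19130e06736244352f1e1403746142352e1d1408745d43382e21130e73673a34301a0d0374663833301a0c08746637352f190e0773624533301f1204746143332f1e120977633d362b15060177633a382b15080376643a352c160e0377633b332c160c0476643e322c160b02766439332d170c09756538352d170e08756049322c1b1100756045352c1b1404765f46332c1b1205756043342d1c130975653f312d170a0075653b31301a0a0476643c312e180a05756539322f190b0974614731301f1001746149312e1d1000756046312f1e1005775e45412a150704765f48402a150602765f44432a150903755c4f402a160b00755c4b432a160e04765b4c412a160c0575594c452a170d09745d4d392b1b1401745d4f372b1b1200755c4c382b1b1305745d4e312f220f02745753432a1a0a01745953412a180a00755652422a190a05745853382b1e100271684442301f0803716652402e240a0071674a432f220e0371674b4130230c0471664c442f250c0971664b462e240e0872624b392e21140472614c3b2e24130972624d3630231101)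
    (Nat.shiftLeft 
    (nat_lit 0x75564f452a190b09745753392b1f1001745953372b1d1000755652382b1e1005745853342c220f0271674a4230230d0371664b4430260c0871654e442f270b0971664a462f250e0772624a392f22140372614b3c2e241408735d463b2e24130e72624b373023120472614c3a2f2512096f665c40332416006f67544334221a036f675541352318046f66554633241a086f665644342518096e66564b3724190e7062553933211f047061563b33241e097062573635231c017062593633211c007062563734221d057163534c2b1f06017163514f2b1f0803716553412d240a00716450492c220e03716352482c230c04716453452c220b0271644f472d250c0971654d482d240e087260533a2c2111007260503e2c211404725f523d2c22120572604e3d2d2413097261503630261001726152362e241000726051372f2710056f655d44312117006f655a4831211a046f645c47312218056f6558473224190970615a3c31201f0170615c3a31201d0070605b3d31211e05705f5d3b31221c0270615b3634251b02725e524e2a1a0704725f504f2a190903735c50482a180e0474594e472a180d09735d503c2b1c1401735d523a2b1c1200735c513d2b1d1305735d51322f250f02735a53462a1a0b01735c53442a180b00735b52472a190c05735b533b2b1e11026f635c582b1407046f645a592b1309036e655e582c120e046d655f5a2d120d096e6361562c140b016e6561542c120b006e6460572c130c056b6761552f100b026e665e4c311c1a016e66604a311c18006e655f4d311d19056e64614b311e170270605a582a0c0904705e5d562a0e060170605d542a0c0600705f5c572a0d07056f645d552b130602725f534b2a1906026f694442351408036e694a4338130e036d694b463a120e086e694b4139140c046d694c443b130c0971674d4030230b016e685543371d1a046d6856453a1d19096e685740)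
    (nat_lit 5600)))
    (nat_lit 5600)))
    (nat_lit 16800)))
    (Nat.shiftLeft (Nat.add (Nat.add 
    (nat_lit 0x350f06016a69514f350f08036b69504938100e036a69524839100c046b69534538100b026b694f473b110c096c694d483a110e086c6953413a110a006c6950413e140a046b6952423d120a056c694e443d130b097166504030260a01716551412f270a056c685d44371b17006c685a48371b1a046b685c47381b18056c6858473a1c19096d685a403c1f16016d685c403a1d16006c685b413d1e16056d675f403b2215026f665b40342516026a685c58300f07046b685d552f0f06026b685a592f0f09036c6761542e100b006c675e582e100e046b6760572f100c056c665f5a2e110d096d6362562d140a016d6562542d120a006c6462572e130a056b6662552f110a026d675e4c321b1a016d67604a321b18006c675f4d331b19056d64624b321e1602776a211e17110d07776a241b19130a03776a271b17110a01766b211c1a140b07776a221c18120b08766b201f18120e06756c201e1a140d06745d42392e21140d7453433833211e1a746141352f1e140774663734301a0d0773624434301f130374614233301f1208745d43372f22120e77633a342c160d0377633d322c160b01776338332d170c08766437352d170e07765f44352c1b1403775e45332c1b1204765f48322c1b1102756042352d1c1408765f43332d1c1209755c43382d20130e76643a31301a0a0377633b312e180a0476643e312d170a0275653832301a0b08766439322e180b09756536352f190e06756049312d1c100075604531301f1004765f46312e1d1005756043322f1e1109775e47402a150601775e44422a150803765b4a432a160e03775a4b412a160c04765b4e402a160b0276584c442a170c0975594b462a170e08755c4f362b1b1100755c4b392b1b1404765b4c372b1b120575594c3b2b1c1309745d4d3130230f01745d4f312e210f00755c4c312f220f05755952402a170a00755552432a1a0a04765651412a180a05)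
    (Nat.shiftLeft (Nat.add 
    (nat_lit 0x72624a383023130372614b3a30261208735d463a2f25120e6e666040372415006f675442352319036f66544634251a076f665544352618086f655844342717096e66564a3825180e6e61564b41241e146e66554c37241a0d7062543934221f037061553c33241f08705d563b3724220e7062553735231d047061563a34251d09716351492c230d03716353462c230b01716453422d250a0271634f482d260c0871644f452e270b0971644d492d250e07725f503f2c221403725e523e2c23120472604d3e2d241408725f4f3d2d251209735c483d2d24130e726053372d2410007260503730281004725f52382e27100572604e3a2f2711096f655d41322416006f645a4931221a036f635c48312318046f65574832241a086f645947322518096e65584d3624190e70605a3e31211f047060583d32241e09705e5d3c31231c0170605d3a31211c00705f5c3d31221d0570615a3635261b0170615c3633241b0070605b3734271b05705f5d3832251b02725e514f2a1a0803735b50492a190e0374594d482a180e08735c503e2b1d140474594e3d2b1d1309735d503230260f01735d52322e240f00735c51332f270f05735a52482a1a0c0474584f472a190c09735a533c2b1f1101735c533a2b1d1100735b523d2b1e1205725f533b2c221102735b53342d250f026f635b592b1408036e645e592c130e036d655e5b2d120e086e6360582c140c046d64605a2d130c096a67615630100b016e655e4e311d1a046d655f50321d19096e63614c311f17016e65614a311d17006e64604d311e18056f645d45312217026b67614b341b1702705e5c582a0e0704705f5a592a0d09036f635d562b140601725e534c2a1a06016e694a4239140d036d694b443c140c086d694a463b130e076e685443381e1a036d6855463a1d1a086d67564b3a21190e6e685541391f18046d6856443b1e18096f675740352317016a69534c)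
    (Nat.shiftLeft 
    (nat_lit 0x3c2315016d6760403a2115006c675f413d2215056f665a40352616016f655b41342716056e665f40382515026a685d56300f06016a685b59300f08036b675e592f100e036a67605830100c046b66605a2f110c096c665e5b2e110e086c6362582e140a046c64615a2e130b096a66625630110a016c6662542e110a006b6562572f120a056c67614a331b17006c675e4e331b1a046b67604d341b18056c665f50331c19096d63624c321f16016d65624a321d16006c64624d331e16056d646245362215026b66624b341c1602776a211c19130b07776a201e18120d06766b201d1a140c067453423933211f1974614134301f1307745d42373023120d745d41392f22140c7453433734221d1a776337342d170d07775e44342c1b1303775e47322c1b1101765f41352d1c1407775e42332d1c1208765b43372d20120e755c42392d20140d7552433832201e1a77633a312f190a0377633d312d170a0176643732301a0b07776338322e180b08766436352e180e06756040352f1e140675653634301a0d06765f4431301f1003775e45312e1d1004765f48312d1c100275604232301f1108765f43322e1d1109755c43362f22110e775a4a422a160d03775a4d402a160b0177574b442a170c0876584a462a170e07765b4a392b1b1403775a4b372b1b1204765b4e362b1b110275594b3c2b1c140876584c3a2b1c12097559463b2c20130e755c4f312d200f00755c4b3130230f04765b4c312e210f0575594c322f250f09765451432a1a0a03775550412a180a04765851402a170a0275554f462a1a0b0876564e442a180b0975564b492a190e06755952362b1c1000755552392b1f1004765651372b1d100575564f3b2b1e1109745753352c230f01745953332c210f00755652342c220f0571654d4430280b0871664a4530260d0771654a482f270e0672614a3c2f251407735d453c2e24140d7353463b33241e1a)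
    (nat_lit 5600)))
    (nat_lit 5600)))
    (Nat.shiftLeft (Nat.add 
    (nat_lit 0x71634e492d260d0771644b492e270e06725e513f2c231303725f4d3f2d251407725e4f3e2d261208735b493d2d25120e735c473e2d24140d7352483d32241e1a725f503830291003725e52392e28100472604d3a30281108725f4f3b2e271109735c483a2f27110e6e656141362415006f635b49312319036f64574932251a076f635948322618086f645945332717096e64594d3625180e6e60584d40241e146e65574e36241a0d705f5a3f31221f037060573e32241f08705c583d3624220e705e5c3e31231d04705f593d32251d0970605a3735281b047060583a34271c09705e5d3932261b0170605d3732241b00705f5c3833271b05735b503f2b1e140374594d3e2b1d14087459483d2c21130e735c503330280f0474594e332f270f09735a51492a1a0d0374574f482a1a0c0874584d492a190e07735a523e2b1f120474584f3d2b1e1209725e533c2c231101735a53352d260f01735c53332d240f00735b52342e270f05725f53382d2510026e635f592c140d036d63605b2d140c086d645e5c2d130e076e645e4f311e1a036d655e51321d1a086d655b503621190e6e63604e311f18046d646050321e18096f635d46312317016f645d42322516026a67614c351b1701705e5b592a0e08036d694a453c140d076d6854463b1e1a076d62564b44211e146d67554c3a211a0d6e685442391f19036d6855443c1f18086d67564a3b22180e6a69514939100d036a69534639100b016a694f483c110c086b694d493b110e076b6950423f140a036a6952433e120a046b6953423b110a026c694d443e140b086b694f453d120b096c694a483d130e067165504130280a04716452422e270a056b685a49381b1a036a685c48391b18046b685d45381b17026c6857483a1c1a086b6859473b1c18096c67584d3a20190e6c685d413a1c16006c685a413e1f16046b685c423d1d16056c6858443d1e17096d675e40)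
    (Nat.shiftLeft (Nat.add 
    (nat_lit 0x331e17096d636246362315016d656244362115006c646247372215056e646142362515026a66624c351c16016c66624a331c16006b65624d341d16056b66624538201502776a201d19130c06745d41383023130c7453423735231d197453413934221f18775e41342d1c1307775a42372d20120d765b41392d20140c7651433732201d1a7552423932201f19776337322f190b07776336342e180d06765f40352e1d140676643633301a0c0675604034301f1306775e44312f1e1003775e47312d1c1001765f4132301f1107775e42322e1d1108755c42363023110d765b43362e21110e755c40392f22140b7552433634221c1a77574a452a170d07775a4a382b1b1303775a4d362b1b110176584a3c2b1c140777574b3a2b1c12087658463a2c20120e7559453c2c20140d754f463b31201e1a765b4a3130230f03775a4b312e210f04765b4e312d200f0275594b3230260f0876584c322e240f09755946362f25100e775450422a190a03775750402a170a0176544e462a1a0b0777554d442a180b0876564a482a180e0675564b3f2b1e140675554c492a1a0d06765451392b1f1003775550372b1d1004765851362b1c100275554f3c2b1f110876564e3a2b1d11097556493b2c22110e755952322c200f00755552352c230f04765651332c210f0575564f342d250f0971644d4530290b0771654a4730280d0672604a3e2f2714067353453c33241f1972614a3b30261307735d453a3026120d735d443c2f25140c7353463a34251d1a6f65544834271a066f665445352619076f655744352817086e66554a3926180d6e65584a3827170e6e61564a42251d146761564b413a34306e66544c38251a0c6e61554c41241f137061543c34251f07705d553c3724230d6f5d56454124221472534c3b3724221a7062543835231e037061553a35261d08705d563a3825210e716353432d260a0171634f462e280b08)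
    (Nat.shiftLeft 
    (nat_lit 0x6760584d403a34306e64574f36251a0c6e60574e40241f13705f573f32251f07705c573e3624230d6f5c58474024221472524e3d3624221a705e5b3f31231e03705e593e32261d08705b593d3625210e705f5a3835291b037060573a35281c08705c583a3827200e705e5c3933281b04705f593b33271c097459473e2c21140d744f483d31211e1a735b503430290f0374594d3330280f08745948372f27100e74584d3f2b1e140774574e492a1a0d07735a513f2b1f130374574f3e2b1f12087458493d2c22120e735a52352e280f0474584f342e270f09725e53392d2610016d635f5c2d140d076d645e52321e1a076d605b5040211e146d655a5136211a0d6e635f4f311f19036d636051321f18086d645c503622180e6f635d43322616016662564b443734306d62554c44211f136d6854453c1f19076d67554a3c23180d6d62564a45221d146d67544c3b221a0c6a694e493c110d076a6951433f130a036a6953433c110a016b694d453f140b076a694f463e120b086b694b493d120e066c694a473e140d066c6854483d1e1a067164504230290a03716352432e280a046a685b49391b19036a685d46391b17016b6857493b1c1a076a6859483c1c18086b67594d3b20180e6c62584d44201e146c67574e3a201a0d6b685a423f1f16036a685c433e1d16046b685d423b1c16026c6857443e1f17086b6859453d1d17096c67584a3d22170e6c6761413a2015006c675e413e2315046b6760423d2115056c665f443d2515096f655a41352816046f645c42332716056e665e40392615016e655f41382715056a675f5930100d036a66605b30110c086b665e5c2f110e076b6362592f140a036c63615b2e140b086c645e5d2e130e066a65625830120a046b65615a2f120b096b675e4f341b1a036a67604e351b18046c665e51331c1a086b666050341c18096c665b503720190e6c63624e331f16046c646150)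
    (nat_lit 5600)))
    (nat_lit 5600)))
    (nat_lit 16800)))
    (nat_lit 33600)))
    (Nat.shiftLeft (Nat.add (Nat.add (Nat.add 
    (nat_lit 0x2f1e1107765b41363023110c775a42362e21110d765b40392e21140b755c40383023130b7552423635231c197651433633211c1a7552403934221f1777574a3b2b1c13077757453a2c20120d7658443c2c20140c764e463a31201d1a754f453c31201f19775a4a312f220f03775a4d312d200f0176584a3230260f0777574b322e240f08755945363026100d765846362e24100e7559403c2f25140a754f463634251b1a77544d452a190b0777554a472a180d0676564a3e2b1d140675564b3430290f0676544c482a1a0c0675554c3f2b1f1306775450382b1e1003775750362b1c100176544e3c2b1f110777554d3a2b1d11087555493c2c23110d7656483a2c21110e7556453f2c22140b754c493b31221c1a765451352c230f03775550332c210f04765851322c200f0275554f352d260f0876564e332d240f09755649382d25100e71644b4730290c0672604a3d30281306735d443b3026130c7353453a35261d197353443c34251f186f655447352819066f645745352917076e65574a3928170d6d655b4a3b27160e6e61554a43261d136e60584a42271c146761564a423b33306e66544b3926190c6e65544e38271a0b6e61544c42251f126761554c413a352f7060543e34271f06705d543c3825230c6f5d554641242313685d5645413a383072534b3c3724231971534c454124221f7061543b35261e07705d553a3926210d6f5d56444225211472534c3a3825211a71634e462f290b0771634c492e280d06725f4b3f2e271406725e4e3f2d261307735a493e2d26120d735b473f2d25140c7351493d32251d1a7352473e32241f19725e51392f291003725f4d3b30291107725e4f3c2e281108735c473a3028110d735b493b2e27110e735c443e2f27140b7352483a34271c1a6f64554933271a066f635849322619076f635946332817086e63594e3626180d6e64594b3727170e6e5f594d40251d14)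
    (Nat.shiftLeft (Nat.add 
    (nat_lit 0x705e593c33281c08705b593b3727200e744f473e31211f19745947373028100d7459413e2f27140a744f483734271b1a74584d3430290f0774574e3f2b1f13077457493e2c23120d7458473f2c22140c744e493d31221d1a735a51352f290f0374574f352e280f08745849382e27100e66605b50403734306d605a5140211f136d635f52321f19076d635c513623180d6d5f5c5040221d146d645a5236221a0c6662554c4437352f6d62554a46231d136662564a453833306d67544b3c23190c6d62544c45221f126a694e463f130b076a694c493e120d066b694b473f140c066c6854473e1f1906716351432f290a036b6855493d1d1a066a6858493c1c19076a67594e3c20180d6b62594d45201d146562584d443634306b67574f3b201a0c6c62574e44201f136a685b433f1e16036a685d433c1c16016b6857453f1f17076a6859463e1d17086c67574a3e23170d6b67594b3d21170e6c62584a47221c146c67544e3d221a0b6b675e423f2315036a6760433e2115046c665e443e2615086b6660453d2415096c665b4a3d25160e6f645a42352916036f635c43332816046e655e41392815046d655f443b2715096a665f5c30110d076b63615c2f140b076c635f5d2e140d066c645e53331e1a066a64625930130a036a65615b30120b086b655e5d2f120e066a675f4f351b19036b665e52341c1a076a666051351c18086b665c503820180e6c615b5041201e146c665a5137201a0d6b63624f341f16036c636151331f17086c645d503722170e6c636248372315046c6461473a2515096e636143362615016e646042372715056a65624e351d16046b656150341d17096a666246392015016c666244372015006b656247382115056b6761423b2015027453413835231e18775a41382d20130c7750423732201d197651413932201f18775e40342e1d1306776336332f190c06765f4033301f1206775e4132)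
    (Nat.shiftLeft 
    (nat_lit 0x34251f1677554a3d2b1d130676564a3330280f0677544b472a190c0675554c352f290f0676544c3e2b1f120677544d3b2b1e11077654483c2c23110c7755473a2c21110d7555463f2c23130b7656443e2c21140b755645383029100b754b493c31231c19764c483a31211c1a754c453f31221f17775450342c220f03775750322c200f0176544e352d260f0777554d332d240f08755549392d26100d765648372d24100e7556423f2d25140a754c493832251b1a7353443b35261e186f645547352918066e64574b3929170c6d655a4a3c28160d6e60574a43281c136d605b4a45271b146761554a433c332f6760584a423d32306e65544d3928190b6d6554513b271a0a6e61544b43261e126e60544e42271f116761544c423b352e705c543e3827230b6f5d544642252312685d5546413a392f72534a3c3825231871534b464124231e69534c45413a38357060543d35281e06705d543b3926220c6f5d554443262113685d5644423b373072534b3a3926211971534c444225211f71634c482f290c06725e4c3f2e281306735a483f2d26130c7350493e32261d197351473f32251f18725f4b3d30291206725e4e3c2f291107735b473b3029110c735a493c2e28110d735b453f2e27140b735c443d3028130b7352473a35281c197351493b33271c1a7352443e34271f176f635649332819066f635846342917076e63594c3728170d6d645c4b3a27160e6e5e594e40261d136e5f594b41271c14675f594d403b33306e63584f3626190c6e64554f37271a0b6e5f574f40251f126760574e403a352f705f553f33271f06705b573f3625230c6f5c574840242313685c5847403a383072524d3e3624231971524e474024221f705e583f32261e07705a593e3626210d6f5b59474025211472514f3d3625211a705f573b35291c07705c573a3928200d6f5c58444227201472524e3a3827201a705e5b3934291b03)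
    (nat_lit 5600)))
    (nat_lit 5600)))
    (Nat.shiftLeft (Nat.add 
    (nat_lit 0x745847383029100c744d493e31231d19744e473f31221f1874574e352f290f07745749392e28100d7458423f2e27140a744e493833271b1a66605a514037352f6d5e5c5140231d13665f5c50403833306d635b523623190c6d5f5a5240221f126662554a4639332f6d62544b46231e126662544c4538352e6a694c483f130c066a6856493e1d19066a62594e46201d136462594d453633306a67584f3c20190c6b62574f45201f126562574e4436352f6b6855473f1f18066a6858463f1e17076b67574b3f23170c6a67594c3e21170d6c62574a48231c136b62594b47211c146562584a473832306c67544d3e23190b6b67554f3d211a0b6c62544e47221f116a675f433f2215036b665e453f2615076a6660463e2415086c665a4a3e26160d6b665c4b3d24160e6c615b4a47251b146c6654513d251a0a6f635b43342916036e645e42392915036d655e443c2815086c635f53331f19066a64615c30130b076a655f5d30120d066b63605d2f140c066b655e53341d1a066a665f52351c19076a665c513920180d6b615c5042201d1465615b50413634306b665a5238201a0c6c615a5141201f136b636152341f17076c635d513723170d6c5f5d5041221c146c645a5337221a0b6b636249382315036c6361483a2615086c645d4d3a25160e6e636043372815046d6460453a2715096a64624f351e16036a656151351d17086b655d503821170e6a656248392115046b6561473b2415096a6761433c2015017750413832201e18775e40332f1e1206775a41362f22110c775a40382e21130b765b40373023120b7651413635231c187750423633211c197651403933211f177552403835231e177757443b2c20130c774d453a31201d19764e443c31201f1877574a322f250f07765844363026100c775745362e24100d7658403c2e24140a7559403b3026130a754f453635261b19764e463633241b1a754f403c)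
    (Nat.shiftLeft (Nat.add 
    (nat_lit 0x2c21130b755546392f29100b765644373028100b764a483c31231c18774b473a31211c19764c443e31211f17754b463f31231e17754c453835291b1776544c352e280f0677544d342d250f07765448392d26100c775547372d24100d7555433f2d26130a7656413e2d24140a7556423b3029110a754b493932261b19764c483732241b1a754c423f32251f166d645a4b3c29160c6e5f574b43291c126d605a4a46281b136760574a433e322f66605b4a453d31306e64554d3929180b6d6554503c28190a6e60544d43281e116d60545145271f106761544b433c342e6760544e423d352d7059543e3b27260a6f5c544842272311685d5446423b392e69534b46413a3934705c543d3928220b6f5d544543262212685d5544433c372f72534a3b3926221871534b444326211e71534a464225231d69534c44423b37357350483f32261e18725e4c3e2f291206735a483c2f29110c735a463f2e28130b735b453d3029120b7351473b35291c187350493c33281c197351453f33271f1772524a3e382723177352443d35281e176f635648342918066e63584c3829170c6d635c4c3a28160d6e5e594c41281c136d5f5c4b44271b14675e594e403c332f675f594b413d32306e63564f3728190b6d6455523a271a0a6e5e584f40261e126e5f554f41271f11675f574f403b352e705b553f3727230b6f5b574940252312685c5748403a392f72514d3f3625231871524d484024231e69524e47403a3835705e563f33281e06705a583f3626220c6f5a594840262113685b5947403b373072504f3e3626211971514f474025211f705f553d35291d06705b573b3929200c6f5c574443282013685c5844423d363072524d3a3928201971524e444227201f705e583c34291c07705a593c3728200d6f5b59454127201472514f3b3727201a7459413d3028130a744f473735281b19744f413e34271f167457483f2c23130c)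
    (Nat.shiftLeft 
    (nat_lit 0x705e563e34291d06705a583c3829200c6f5a594641282013685b5945413d363072504f3c3728201971514f454127201f7449413e38272315744f413d35281e16744d483f31231e18744e473835291b18745748392f29100c7457433f2e28130a7458423d3029120a744d493933281b19744e423f33271f16665e5c514039332f6d5e5b5240231e12665f5a524038352e6662544b4639342e6362594e4636332f6a62584f46201e126462574f4536352e6a6856483f1e18066a67584c3f22170c6b62574b49231c126a62594c48211c136562574a4839322f6462594b473732306b67554d3f23180b6a67564f3e21190b6b62554f47211f116c62544d48231e116562544e4738352d6b655e473f2815066a665f463f2515076b665a4b3f26160c6a665c4c3e24160d6c615a4a48261b136b615c4b47241b1465615b4a473b31306c6654503e26190a6b6655523d241a0a6c61545147251f106d645e453c2915076a64605d30130c066a655f53351d19066a615c5143201d1364615c50423633306a665b523920190c6b615a5242201f1265615a514136352f6b636053341f18066b635d523823170c6c5e5d5141231c13655f5d50413832306c635b533723190b6c5f5a5341221f116b6361493b2615076c635d4e3a26160d6c5f5d4d44251b146c6457533a251a0a6e635f43382915036d6360463a2815086a646152351e17076a655d513921170d6b605d5042211c146b655a5338211a0b6a646249392215036a6561483c2415086b655d4d3b24160e775a40372f22120b7750413634221c187750403833211e177651403735231d17774d443b31201e18775744362f25100c7757403b2e24130a7658403a3026120a764e443635261b18774d453633241b19764e403c33241f167549403c38252315754f403b35261e1677554a332f270f0677544b3d2b1e12067754473b2c22110c7654463e2c23120b7755443d)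
    (nat_lit 5600)))
    (nat_lit 5600)))
    (nat_lit 16800)))
    (Nat.shiftLeft (Nat.add (Nat.add 
    (nat_lit 0x423732306a655b533921190b6b605a5342211f116a6461493c2515076a655d4e3c24160d6b605d4d45241b146b6557533b241a0a7750403734221d177757403a2f25120a774d443634251b18774d403b33241e167648403c37242315764e403a35261d167549403b392622157754453d2c22120b775544372f27100b774a473b31221c18774b443d31211e17764a463e31231d17764c443735281b17754b463934291b1777544b342e270f06765446392e28100b775447382d25100c7654433e2d26120a7755413d2d24130a7555433c2f29110a7656413a3028110a764a483932261b18774b473732241b19754b433f32261e16764c413e32241f167546423f36252315754c423b35291c166c645a4d3e29160b6d5f5a4b46291b12675f574b433f322e66605a4a463e312f6d6455503c29180a6e5f554d43291d116d60545046281e106d5c54514b27230f6760544d433e342d66605451453d352c6f59544845272610685c5448423d392d7059543d3c28250a6f5c544743282211685d5445433c382e71534a454326221d69534b44433c373469534a46423b3933735a463e2f29120b7350483c34291c187350463f33281e17724f4a3e3b2726167351453d35291d1772524a3d392822176d635b4c3b29160c6e5e584c42291c126d5e5c4c44281b13675e594c413e322f665f5c4b443d31306e63564e3829180b6d6356523a28190a6e5e564f41281e116d5f555244271f10675e584f403c342e675f554f413d352d7058553f3a27260a6f5b554941272311685b5749403b392e72514b3f3727231769524d48403a3934705a563f3728220b6f5a584940262212685a5948403c372f72504e3f3626221871504f484026211e71514d494025231d69514f47403b3735705b553d3929210b6f5b574543292012685c5744433e362f72514d3b3929201871524d444328201e71524a484227231c69524e44423d3635)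
    (Nat.shiftLeft (Nat.add 
    (nat_lit 0x7350463e34291d17724f4a3d3c2825166c635b4e3d29160b6d5e5b4c45291b12675e584c423f322e665e5c4c443e312f6d6356513b29180a6e5e564e42291d116d5e565244281e106d5b55524a27230f675e564f413e342d665f5552443d352c6f58554944272610685b5549413d392d724e4b3f3a2726167057563f3a28250a6f5a564941282211685a5849403c382e72504c3f3728221771504e494026221d69504f48403c373469514d49403b39337058553d3c29240a6f5b554743292111685b5745433f362e72514b3d3929211771514d454329201d71524a474328221c714f4a484527261b69524d44433e363469524a48423d3932705a563e3829210b6f5a584642292012685a5946413e362f72504e3c3829201871504f464128201e71514b494127231c69514f45413d36357349443e3b2726157449413d392822157457433e2f29120a744d483934291b18744d433f33281e167448423f37272315744e423d35291d16665e5b524039342e6362584f4636342e6a62584c49221c126462574b4939322e6362594c4837322f6a67564e3f22180b6a62564f48211e116b62554d49231d116462554f4737352d6562544d4839342d6a655f483f2715066b655a4d3f28160b6a665b4c3f25160c6b615a4b49261b126a615c4c48241b1365615a4a483c312f64615c4b473a31306b6655503f26180a6a6656523e24190a6c61545048261e106b61555247241f106c5d54514d25230f65615451473b352c6c645e473e29150663615c514336332f6a615b5243201e1264615a524236352e6b5e5d5242231c12655e5d514139322f6b635c533823180b6c5e5b5341231e11655f5a534138352d6b6360493d2815066b635d4f3b26160c6c5e5d4e44261b13655f5d4d443b31306c6358533a26190a6c5f575344251f106d635f463b2915076a646053351e18066a645d523922170c6a605d5143211c1364605d50)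
    (Nat.shiftLeft 
    (nat_lit 0x453d3c3169524a47433e38327057563e3b29240a6f5a564842292111685a5846423f362e72504c3e3829211771504e464229201d71504c494128221c714e4b494427261b69504f46413e363469514b49413d39327349443d3c2825157447433f372822157348453f3a272615744d433e34291d167448423d392921156362584c4938322e6a62564e49221d116362564f4837342d6462554d4939332d6a655b4e3f27160b6b605a4d49281b116a615b4c49251b1264615a4b493c312e63615c4c483a312f6b6557503f28170a6a6656513f25180a6b61555049261d106a61565248241e106b5d55524d24230f6c5d54504e26220f65615450483c342c64615552473a352c655d54514d3b392b63615b524336342e645e5d524239322e655e5b534139342d6b635c4f3d28160b6b5e5d4f45261b12655e5d4e443c312f6b6359533b26180a6c5e585344261e106c5b57534a25230f655f5753443b352c6c635f483d2915066a5f5d5243221c1263605d514337322f6a645c533922180b6a605b5343211e116b5e5c5342231d1164605a534237352d6a6460493e2715066a645d4f3c25160c6a605d4e46241b1364605d4d453a31306a6558533c24190a6b60575345241f107747403b37242215774d403a34251d167648403a39262115774a453d31221d17774b443734271b17775445382e27100b7754423d2d25120a7654433c2e28110a7755413a2f27110a764a463933281b17774a473832251b18764a433e32261d16774b413d32241e167646413e362423157545433f36262215754b433c34291c16764c413a35281c167546423b392920156c5f5a4d48291b11665f5a4b463f312e6c6457503e29170a6d5f555046291d106d5c54504c28220f675f554d433f332d66605450463e342c665c54514b3d392b6e59544e4b27260f68595448453d3c2c6f59544746282510685c5447433e382d69534a45433c3833)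
    (nat_lit 5600)))
    (nat_lit 5600)))
    (Nat.shiftLeft (Nat.add 
    (nat_lit 0x6e58554d4c29240f68585547463f3a2c714e4b474629241b694f4a47463e3b316f57564845292410685a5648423f372d724d4c3e3b29241671504c484229211c714d4c494428251b69504e46423f363369504c49413e3832694e4b49443d3c3169514b47433f37327347463f3a2825157348453d3c2924157447433e382921156362564e4938332d6a605b4e49271b1164605a4d493e312d63615b4c493b312e6a6558513f27170a6b60575049281c106a61565149251d106a5d56524e24220f6b5d55504f26210f64615550493c332c63615652483a342c645d55524d3a392b655d54504e3c382b605d54514d45432a6b5e5c4f47281b11645e5d4f453c312e6b6359523d28170a6c5a58534a26220f655e5853443c342c655b57534a3b392b635f5d524338322e6a5f5c5343221d116b5e595345261d1063605b534337342d645e5c534239332d6a645c4f3e27160b6a5f5d4f46251b1263605d4e463a312f6a6459533c25180a6a60585346241e106b5c57534b24230f64605753453a352c7747403a382521157754423b2e27110a774a453833271b17774a423d32251d167745413d362422157644433e36262115764a433c33281c16774b413a34271c167646413a392820157545433c38292015655f5a4d483f312d6c5f575048291c106d5b55504c29210f665f5550463f332c665c54504c3e382b615c54514b47432a6759544e4b3d3c2b6e59544d4c28250f68595447463e3b2c6c5e5b4e47291b11665e5b4c453f312e6c6358513d29170a6d5e565145291d106d5a56524a28220f675e564e423f332d665e5652443e342c665b55524a3d392b6e58554f4a27260f68585549443d3c2c6f57564944282510685a5649413e382d724d4c3f3a28251669504e49403c38336f58554746292410685b5547433f372d724e4b3d3c29241671514b474329211c714f4a474628251b69514d45433f3633694f4a48)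
    (Nat.shiftLeft (Nat.add 
    (nat_lit 0x4c3b372b645a59524d3e362b5e5c58534c44422a5f5a59534b46412a605b57504e49402a655a58514d3f362b615a56514b49412a6257564f4a48452a6258554d4c49442a6757564e4b3f3a2b694d4c48453f3a316a5c58514f27200f63605851493d322c635d56514f3b372b645c57504f3e362b5e5d56524e44422a5f5d55504f46412a605a58534a46422a645e5952473e322c635f5c4f483d312d6a5f595248271c106a5b59534c25210f6b5a59524d28200f635f5953463b332c635c58534c3a382b645a59534b3c372b5f5c57534b44432a7744423b37272015655b57504e3f362b615b55504c49412a6259544d4c48452a6c5a58514d29200f655e5851473f322c665a56514b3f372b615a56524a48422a6258554f4a47462a6757564f4a3e3b2b6758554d4c3f3a2b6e57564e4b29240f68575648453f3a2c714d4c484529241b694d4c49443e3b3169504c48423f3732694e4b47463f3a317347463e3b29241563605b4e493d312d6a60585149271c106a5d56514f25210f6b5c57504f28200f64605750493e322c63615651493b332c635d56524e3a382b645d55504f3c372b5f5d55524d44432a605d54504e46422a645e5c4f473e312d655a58534a3c382b605b57534a45432a6b5e595247281c10645e5953453c332c635f5c534338332d6a5f5c4f48271b11635f5d4f463b312e6a6459523e27170a6a5f595346251d106a5c58534c24220f6b5a59534b26210f63605853463a342c645c57534b3a392b7744423d36252115774a423b33271c167745413a382720157644433c372820156c5b57504e29200f655f5750483f322c665b55504c3f372b615c54504c48422a6259544e4b47462a6759544d4c3e3b2b655e5b4e473f312d6c5e585147291c106d5a56514b29210f665e5651453f332c665a56524a3e382b615b55524a47432a6758554f4a3d3c2b6e57564f4a28250f68575649443e3b2c)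
    (Nat.shiftLeft 
    (nat_lit 0x5e5b59524e47402a5e5c58514f47402a635b59524e3d362b5f5a59524d48402a5e5b59534c45412a605a58514d49402a6257564e4b49442a635c58514f3d362b5e5d56514f45412a5f5c57504f48402a6a5b59524e27200f635f5952483d322c635b5953)
    (nat_lit 5600)))
    (nat_lit 5600)))
    (nat_lit 16800)))
    (nat_lit 33600)))
    (nat_lit 67200)))
    = ?xq3 → Nat) ?hq3; (case hq3 => (conv => lhs; whnf)); intro _; exact OfNat.ofNat ?xq3 : Nat)
  NX := (by
  refine (?fq4 : (Nat.add (Nat.add (Nat.add (Nat.add (Nat.add 
    (nat_lit 0x5c00130010005b005b004a000d002a005a000e005900160016003d0029000d0058000f005800150015003c005a0057000d005a005700140014003b0059005800570027000d00560056003a000a00260053000b00520046003d00160025000a0055000c00510045003c001500530054000a005300500044003b0014005200510050004a000a004f004e0013002200090022004c000c004900220012000900210009004d000b004800210011004d004c004b0009004a0047002000100048004900480047003f0009001f001f001e0008001e00450042000c003900390008001d000800460041000b0038003800460045004400080043000a0037003700410042004100400008003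f003e0036001a0007001a003c001a0039000c000f000700190007003d00190038000b000e003d003c003b0007003a0037000a000d0038003900380037003600070008000800040016003300050032002a002a00260015000400350006003100290029002500330034000400330030002800280024003200310030002b0004002f002f0023001200030012002d0006001200120022000300110003002e0005001100110021002e002d002c0003002b001000100020000f0002000f0029000f00060006001a0002000e0002002a000e000500050019002a0029002800020027000400040018000c0001000c00250022001e001a00060001000b000100260021001d0019000500260025002400010023001c0018000400210022002100200001001f00090003001d001e001d001c001b0001001700170019001a00190018000700170001000200060000000600150012000f000f000c00000005000000160011000e000e000b00160015001400000013000d000d000a00110012001100100000000300030009000e000f000e000d0002000000000007000b000c000b000a000900080007000000050006000500040003000200020001)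
    (Nat.shiftLeft 
    (nat_lit 0x2800340034007300a1003500340056002f0027002700710055007100250055009800890074003500a000240071009f00970088007300340024009f00260024009e00870076003300230052009e00920026009c0099003200510023009800910025009b00980031009e00970023009d0024009a00970030009c009b009a008f0083002300960096009900980097008e007100960023002f0020004d009300210092008d004d002e004c0020009500220091008c004c002d00930094002000930090008b004b002c00920091009000230020008f008e002b0049001f0049008c007d002200490049001f0048001f008d007c002100480048008d008c008b001f008a002000470047001c00460087001d00860026007000700045001c0089001e00850025006f006f00870088001c008700840024006e006e008600850084007e001c00830082006d0042001b00420080001e007d007a006c001b0041001b0081001d007c0079006b00810080007f001b007e007b0078006a007c007d007c007b001f001b0077003f0079007a0079007800690077001b00690018003d00760019007500700026002a003c00180074001a0074006f0025002900760073001800760073006e00240028007500740073003a0018007200710027003900170039006f006c001a001e001e0017003800170070006b0019001d001d0070006f006e0017006d0018001c001c006b006c006b006a001700360069001b003500560015003500630058005800550068001400560067006200570057005400140067001600140066005a005a0053001300320066005e0016006400640052003100130063005d001500630063005100660062001300650014006200620050006400630062005b005600130013004e0010002e005f0011005e002e002e004d002d001000610012005d002d002d004c005f00600010005f005c002c002c004b005e005d)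
    (nat_lit 5600)))
    (Nat.shiftLeft (Nat.add 
    (nat_lit 0xda00de00dd00dc00db00d200ba00da004300ba0040008100d7004100d600d100cd00b90080004000d9004200d500d000cc00b800d700d8004000d700d400cf00cb00b700d600d500d40043004000d300d200b6007d003f007d00d00049004200c9007d003f007c003f00d10048004100c8007c00d100d000cf003f00ce004000c7007b007a003e007a00cc00b500c9004200b5003e0079003e00cd00b400c8004100b400cd00cc00cb003e00ca00c7004000b300c800c900c800c70077003e003f0077003b00c5003d003b00c600bf0053005a003a007500c60075003d00c400c300590074003a003c0074003c00c10055005800c6003b003a00c5003b00c00054005700c400c100c0007200bb003a00c200c200c3005500540071004e00c2003a00560037007000bf003800be003d00460046006f003700c1003900bd003c0045004500bf00c0003700bf00bc003b0044004400be00bd00bc00b6003700bb00ba0043006c0036006c00b80039006c00b500420036006b003600b90038006b00b4004100b900b800b7003600b6006a00b3004000b400b500b400b3003e00690036003e003400b200a100b200af00a300a300a000b200330067003400b100a200a2009f003000b1003200b0003300af00af009e00b000ae00a7003000b000ae00ae009d002f006400af00a600a10032003200990063002f003100a5003500310031009800af0030002f00ae0034003000300097006100ac002d006100aa00610061009500ad002c00ac00ab00a8006000600094002c00ab002e002c00a9005f005f0093002b005e00a90032002e00a600a60092005d002b00aa0031002d00a500a5009100a900a8002b00a7002c00a400a4009000a600a500a4002f005b002b002b008e002800a2002a002800a30033003300760027005900a30059002a00a100a100750058002700290058002900350035007400a30028002700a2)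
    (Nat.shiftLeft (Nat.add 
    (nat_lit 0x11500650109006201140065006501010060011201130112011000ad00ad00fd01130061006000ac010f00ac00ac00fc0112005f00ab0060011100ab00ab00fb00aa010f005d010c0061010c010c00fa005c0111005e010d005f010b010b00f90110005c010f010e0060010a010a00f8010d010e0065005c010d0109010900f7005b00a6010b006400a6005e005e00f300a5005b010c006300a5005d005d00f2010b010a005b010900a4005c005c00f10057010800590108005a0068006800c60108005a00a2005701080067006700c5005600a1006800a100640059005900c30054010700c30107010200e700c6006801070053009f0054010600e600c50067005001060052010500530104010200660105010100f700500105010301010065004f009c010400f600e1005201000100009b004f00ff00f500e0005100ff00ff010400fe004f010300df005000fe00fe004e0099010200f300c30100005200640098004e005100f2005500ff0051006301020050004e0101005400fe00500062010000ff00fe00f000de004e004f004f009500fc004c009500fa00ef0095006100fd004b00fc00fb00f800ee00940060004b00fb004d004b00f900ed0093005f004a009200f90052004d00f600f3005e0091004a00fa0051004c00f500f2005d00f900f8004a00f7004b00f400f1005c00f600f500f4004f00e9004a00f000f000f300f200f1004e008e00f0004a005b0047008d00ed004800ec004d008d008d008c004700ef004900eb004c008c008c00ed00ee004700ed00ea004b008b008b00ec00eb00ea00ce004700e900e8008a008900c20045008900e5005500c100c100e7004400c200e600e3005400c000c0004400e60046004400e4005300bf00bf0043008600e400d6004600e100dd00be0085004300e500d5004500e000dc00bd00e400e3004300e2004400df00db00bc00e100e000df00d3004f0043)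
    (Nat.shiftLeft 
    (nat_lit 0x1550145015400820083015400d90152008000d901500144013c01220153007f01520151014e0143013b0121007f01510081007f014f0142013a0120007e00d6014f00860081014c0148011f00d5007e015000850080014b0147011e014f014e007e014d007f014a0146011d014c014b014a0083013e007e01450149014801470146008201350145007e011b007b00d10142007c01410081013400d100d0007b0144007d01400080013300d001420143007b0142013f007f013200cf01410140013f008a007b013e013d00ce007800cd013a0079013901340081011a00cc0078013c007a0138013300800119013a013b0078013a01370132007f01180139013801370117007801360135011700c9007700c9013300c9007a007d00c9007700c80077013400c80079007c00c8013401330132007701310078007b00c700730130007501300076012e00a000a30130007600c500730130012d009f00a2007200c4012e00c4012a0075012f012f007100c300a000c30099012f007500a1012f0089008800c2012700710072007200c10072006f00c10129007400890089012e006e0072012d0128007300880088006e012d0070006e012c007600870087006d00be012c011f0070012a0126008600bd006d0129011e006f012901250085012c0128006d012b006e012801240084012a01290128011c0072006d01230127012601250124011b00820123006d0082006a00b90120006b011f00b9011a008100b8006a0122006c011e00b80119008001200121006a0120011d00b70118007f011f011e011d006d006a011c011b007e00b5006900b50119007a00b5006c007a006900b40069011a007900b4006b0079011a011901180069011700b3006a00780067006800b2006801160108010801070116006600b10114006701160116010600650114010d0066006501150115010500620116006401150068006600660102)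
    (nat_lit 5600)))
    (nat_lit 5600)))
    (nat_lit 11200)))
    (Nat.shiftLeft (Nat.add (Nat.add 
    (nat_lit 0x9f018f018c00b1009d018a0181009e009d018e018b00b0009a018f009c018e0160009e01890189018e0188017d009a018d009d018801880097018c0099018b00a00189009e00af018b009d01790097018a0188009d00ae0096010001890178015e0099009c009c00ff0096009b0177015d0098009b009b0189009a00960188015c0097009a009a00940186018701860184017500fd00ad01870095009400fc0183017400fc00ac0186009300fb00940185017300fb00ab00fa01830091017c00950180017c00aa00900185009201810093017f017b00a901840090018301820094017e017a00a801810182009d00900181017d017900a7008f00f6017f009c016e00920178017800f5008f0180009b016d009101770177017f017e008f017d016c009001760176008e00f3017b009900f30178009200a600f2008e017c009800f20177009100a5017b017a008e017900f10176009000a40178017701760096016b008e008f008f00ef0174008c00ef0172009500ef00ef0175008b017401730170009400ee00ee008b0173008d008b0171009300ed00ed008a00ec01710141008d016e016a00ec00eb008a01720140008c016d016900eb01710170008a016f008b016c016800ea016e016d016c013e008f008a0167016b016a01690168013d00e80167008a00e800880166012f0166016300a0012e012e0166008700e600880164009f012d012d00e50127008501650089015d015b0129008401640086016100870160015a012c01630084012701620088015c0159012801610162014d00840161015f0158012b008300e10160014c009c00860157015e00e00083015d014b009b00850156015d0160015c0083015f009a00840155015c015e015d015c01490096012701540083008200dd015a0148012601570086012600dc0082015b01470125015600850125015a015900820158012401550084012401570156)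
    (Nat.shiftLeft (Nat.add 
    (nat_lit 0xcf013201c201c101c0013100c701bf01be013100c500c6013000c600c501bd0107010800c2012f00e7012f01b800c300c400c400c001bd00c401bd01ba00c600e700e701bd00bf012d00c001bc00c500e600e600bc01bc00be01bb00bf01ba01b700e401bb01b901ab00bc01bb01b901b600e200bb012a01ba01aa00c400be01b501b8012900bb00bd01a900c100bd01b400e501ba00bc00bb01b900c000bc01b300e301b800e500e301a700c200de01b200bb00ba012601b701a600dd01b500be00dd012500ba01b401a500dc01b400bd00dc01b701b300ba01b600db01b300bc00db01b501b401b301a301b200ba00bb01b2012201b000b8012201ae012201a200d901b100b701b001af01ac012101a100d800b701af00b900b701ad012001a000d700b6011f01ad00be00b901aa01a600d6011e00b601ae00bd00b801a901a500d501ad01ac00b601ab00b701a801a400d401aa01a901a800bb011c00b601a301a701a601a501a400ba019b01a300b600d200b3011a01a000b4019f011a00b900cd011900b301a200b5019e011900b800cc01a001a100b301a0019d011800b700cb019f019e019d00ca00b3019c019b00ca00b100af0116019a00b200b100b1018c00ae019a019200af019a00b000b0018b019a00b0019000b100ae019a019a018a00ac011300ad0113019801130113018700ab00ad011200ad0199011201120186019900a90111019600ab01950195018500a801990198019700ad019401940184019800aa00a8019300ac019301930183019700a7019100a8019601910191018200a7019600b000a900a7019201920181010c019300a500aa010c00aa00aa017c00a4019500a60192010b00a900a9017b019400a401930191010a00a800a8017a0192019100ae00a4019000a700a7017900a200a3010800a300a200b200b20130009f00a0010700a0018c0166013000b2018c009e0106018a)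
    (Nat.shiftLeft 
    (nat_lit 0x15d00de00e001e600ff00e501f500e0020000df00de01ff00fe00e301f400df015b01b200dc01fe01b401f500e501b400db01fd00dd01fb01b701f800e401b701fc00db01b201fa01b301f400e301b301fb01fa01e100db01f901f700e201b600da015701f801e001f600dd00e101f6015600da01f501df01f500dc00e001f501f801f400da01f701f400db00df01f401f601f501f401dc00da01b200de00da00d801f201f301f201ef01db01cf01b101f300d900d8015201ee01be01bf01b001f200d7015100d801f001da01ce01af015001ee00d501f100d901eb01e401ae00d401f000d601ec00d701ea01e301ad01ef00d401ee01ed00d801e901e201ac01ec01ed00e200d401ec01e801e101ab00d3014c01ea00e101d700d601e001e7014b00d301eb00e001d600d501df01e601ea01e900d301e801d500d401de01e501e701e601e500de01d401a701dc00d300d2014801e300dd01c701e000d601a6014700d201e400dc01c601df00d501a501e301e200d201e101c501de00d401a401e001df01de00da01dd00d200d301dc014401be00d0014401d200d901c1014401db00cf01be01da01d100d801c0014300cf01da00d100cf01d900d701c3014200ce014101d900ec00d101d701d30141014000ce01d200eb00d001d601d2014001d901d100ce01d800cf01d501d1013f01d701d601d500e900d300ce01d001d401d301d201d100e801be01d000ce013d013c01bf00cc013c01ca01c100d901a201cf00cb01bf01ce01c901c000d801a100cb01ce00cd00cb01cd01c300d701a000ca013901cd019f00cd01cb01c7019f013800ca01ca019e00cc01ca01c6019e01cd01c900ca01cc00cb01c901c5019d01cb01ca01c9019c01bf00ca01c401c801c701c601c5019b00d201c400ca019b00c7013401c300c801c200cd00d10134013300c701c100c901c100cc00d0013301c301c000c701c301c000cb)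
    (nat_lit 5600)))
    (nat_lit 5600)))
    (Nat.shiftLeft (Nat.add 
    (nat_lit 0x1000233020001020104010402330103021e00fe023201010103010300fc018700fd01870230021d0187011300fb00fd018600fd0231021c01860112023100f90185022e00fb022d0227011100f802310230022f00fd022c02260110023000fa00f8022500fc022b0225010f022f00f7022300f8022e02290223010e00f7022e010500f900f7022a0224010d0180022b00f50221021600fa0221022100f4022d00f6022a021500f902200220022c00f4022b0229021400f8021f021f022a0229010300f4022800f7021e021e017c022500f200fa017c022100fa010c00f1022700f30224017b022000f9010b022600f102250223017a021f00f8010a02240223010100f10222021e00f7010900f0017802200100021200f300f600f6017700f0022100ff021100f200f500f50220021f00f0021e021000f100f400f400ee021c021d021c021a00fd01750175021d00ef00ee0174021900fc01740174021c00ed017300ee021b00fb017301730172021900eb020f00ef0216020f017200ea021b00ec021700ed0215020e0171021a00ea0219021800ee0214020d01700217021801d800ea02170213020c016f00e9016e021501d700f600ec020b0212016d00e9021601d600f500eb020a02110215021400e9021300f400ea0209021002120211021001d400f0016b020800e900e8016a020e01d3016a020b00ec016a016900e8020f01d20169020a00eb0169020e020d00e8020c0168020900ea0168020b020a020901d0020800e800e9020800e600e7016600e70207010701bd01bd016501a701f100e5016501e601fe01a9020700e40164020400e6020301fd01bc00e3020701b8020600e7020001fc01ba020600e2020500e3020401ff01fa01b900e2020401ec00e400e2020201fb01bb00df020300e10202010400e401f80200020201ff01e800df020100e201f701ff00de015e020001e7010001b801f600e1)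
    (Nat.shiftLeft (Nat.add 
    (nat_lit 0x2650126012a026501b4012301250252015b01250129015b026701240123026601590124012801590265015b0159024f01230154012701230121026302640263026101b1024e015302640122012101b0026001b0024d01520263012001af0121026201af024c015101ae0260011e025d0122025d02570150011d0262011f025e0120025c0256014f0261011d0260025f0121025b0255014e025e025f012b011d025e025a0254014d011c01aa025c012a01aa011f0253025901a9011c025d012901a9011e02520165025c025b011c025a01a8011d02510258025901650258012701a70149024f011c011b01a60256012602430253011f014801a5011b0257012502420252011e014702560255011b025402410251011d014602530252025101230250011b011c024f01a2024d011901a2024b01a20122013c024e0118024d024c024901a10121013b0118024c011a0118024a01a00120013a0117019f024a0139011a024702430139019e0117024b01380119024602420138024a02490117024801180245024101370247024602450136019c0117024002440243024202410135011b02400117013501140115023901160115011401140235011101100199023f0112023e023e0231010f01980110023d0113023d023d0230010e023f023b0110023f023b023b022f023f010d023a0111010e023c023c022e023e010b0195023c0195011101110227010a023e023d023b0194011001100226023d010c010a010f0193010f010f02250109023c0115010b0239010d010d0224023b0109010e010a023a010e010e02230239023a01140190010902390239022202340104018f0236020301060234023401030236022a010402380105023302330238023202280201010302380237023201060102018c02350107023401060116010102350224010202350233010501150235010502220106010102360235011400fe0234)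
    (Nat.shiftLeft 
    (nat_lit 0x14d0254014501e00296015702940148014c029101df01450293015602930147014b0290029602920145029502920146014a028f029402930292028e014502730280028e02910290028f0154028e024f014901450143028d026e028d02850153027101db028d014201da0143028c0151027001da013f028c0141028b0142028a028501d9028b0284016f013f028b0289028401d8013e01d7028a016e014c01410283028801d6013e0282016d014b014002820287028a0281013e0289014a013f02810286028802870286016b014901d4027f013e013d01d30285016a026e0283014101d301d2013d0140016901440282014001d20285013f013d028401430281013f01d102830282028101670280013d013e027f013b027e026f027e027b02710153024e027e013a01ce013b027d02700151024c0137027d0139027c013a027b0278024a027c027a02480137027c027a02770248013601cb027b0247026f01390276027901ca013601380246013c01380275024b027b01370136027a013b0137027402490279024b02490244024d024402720136013501c702780243014802760139024301c60135027502420147027501380242027802740135027701460274013702410276027502740240027301350136027201320270013401320271013a014201c3013101c2027101c20134026f026e01c201c10131013301c10133013c014401c102710132013102700132013b014301c0026f013c013b01bf013601310152024d026e0144014301be013d0152013101be012d012e01bd012e026d013001660166026d012c01bc026b012d026d026a0164012b026b025e012c012b026c026901610128026d012a026c012e012c02670163026c012b025a0128026b012b02660162012701b801630259012f015e0265012a0124026a01260269015a0267012c015a026902660254012402680266012b0158012301b502670253)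
    (nat_lit 5600)))
    (nat_lit 5600)))
    (nat_lit 16800)))
    (nat_lit 28000)))
    (Nat.shiftLeft (Nat.add (Nat.add (Nat.add 
    (nat_lit 0x2cb02ca0284016802c902c5016f020c0167020b02c7028302c4016a016e02c4020a016702c8028202c30169016d02c302c702c6016702c502c20168016c02c202c402c302c2027f01670208016b016701640163020702c0016602bb02b7026d016202c002c1016302c002ba02b5026c02c102a70162025802bf029d02b4025a02c0016102bf0164016202be02b6026b02bb0160020302be018f016402b002bb015f02be02a3016002bd016102af02ba02bd02b902a1018d015f02bd02bc02b9015c02bb015e02ba0189016302ad016002ba015f029d015c02b9016202ac015f01fe024f029c015b02b802900165025202b7015a01fd02b6026a02b00164026a015902b7026502b5026702ad01630267015802b60299015a02b102af0161026902b5015802b4015902b302ac0162026602b102b302970268015802b202b10268015502b0015702af02ad015a016002ad02af02ac0295015502ae0158015f02ac015401f602ad029101570265015e015701f50154015602900156015b015d015602ad0155015402ac01550159015c0155015201f3015301f302aa026e026f02640151015301f2015302ab028d027e026301f102a90165015001f102a0029c025d02ab014f01f002a6015102a5029b0262014e02ab02aa02a8015302a4029a026102aa0150014e02a9015202800273026002a8014d02a7014e02a602a20298025f014d02a60161014f014d02a30299025e01eb0280014b02a002820150029302a0014a02a5014c02a3028a014f0296029f02a4014a028002a20281014e0292029e02a302a2015f014a02a1014d0295029d014901e7029f015e028802590291014c01e6014902a0015d028701650290014b029f029e0149029d02860258028f014a01e402730147029c02750293015002570146029b0148029902780296014f0256029a01460273029802740292014e0255029902980158014602970295)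
    (Nat.shiftLeft (Nat.add 
    (nat_lit 0x2eb02bd018e018d02f602f402f602f202ea02bc02f202f6018d02f202f5018e02e4018f02f3018a02f502f5018a018b02e3018c018b02f5018a019a018f0189023402f502bb018c018f018f018802f502df018902f4018b018e018e02f4018d02dd02b9018802f302f2018d01850184023102f1018602f002e9019901830230018402e8018702ef02e80198018202f102e6018402f102ed02e6019702f1018102e50185018202ee02e7019602f0017f022d02ee02d8018502e202e2017e02f002ef02ed02d7018402e102e102ef0180017e02e002d6018302e002e0017d02ee018e017f02eb018102df02df02ed017d02de017e02ec018202de02de02eb02ec018d02d3017d02eb02ea02dd02e9017b022702e7022702e201850195017a02e902e802e6022602e10184019402e8017c017a0183022502e001830193017902e7018b017b02e302df0181019202e601790182017a02e502de0182019102e302e5018a0222017902e402e30190022102e00177018002d2017c01800180017602e2017802df02d1017b017f017f02e1017602e002de02d0017a017e017e02df02de0188017602dd0179017d017d0174021d0175021d02db0187021d021d01730175021c017502dc0186021c021c02dc0171021b02d9017302d802ce021b017002dc02db02da017502d702cd021a02db0172017002cc017402d602cc021902da016f02ca017002d902d402ca0218016f02d9028b0171016f02d502cb0217021602d6016d02c80180017202c802d2016c02d8016e02d5017f017102c702d102d7016c02d602d4017e017002c602d002d502d40289016c02d3016f02c502cf016b021202d102880178021202c4016e0211016b02d202870177021102c3016d02d102d0016b02cf0176021002c2016c020f02cc01690172020f02c80172020f016802ce016a02cb020e02c70171020e02cd016802cc02ca020d02c60170020d)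
    (Nat.shiftLeft 
    (nat_lit 0x3280264030d01f301af01b1026301b103290263030c01f2032901ad0262032601af0325031d01f001ac03290328032701b10324031c01ef032801ae01ac032301b00323031b01ee032701ab032101ac03260321031901ed01ab032601bb01ad01ab0322031a01ec025d032301a901ae025d01ae031701f101a8032501aa0322025c01ad0316031f032401a803230321025b01ac0315031e0322032101b901a8032001ab0314020501a70259031f01b8025901e7031001aa031f031e01a70205025801e5030f01a80257031b01a503170302031701ae01e401a4031d01a6031a0301031601ad01e3031c01a4031b03190300031501ac01e2031a031901b601a40318031401ab01e101a30253031601b5031301a601aa0310025201a3031701b4031201a501a901fe0316031501a30314031101a401a8030f031303120311030e01a302fb0250030e031001fe030f01b2030e01dc01a701a301a1030c030d030c030a024e01b101cf030d01a201a1024d01c8024d01b001bf030c01a0024c01a1030b024c01af01ce024b01c8019e030401a20304030201ca019d030b019f030801a00307030101cd030a019d01c8030901a10303030001c90308030901cc019d0308030602ff01cc019c0247030701cb0247019f02fe03050246019c030401ca0246019e02fd030403070303019c03060245019d02fc030303050304030301c8024401c802fa019c019b0243030101c701a602fe019f01c70242019b030201c601a502fd019e01c603010300019b02ff01a402fc019d01c502fe02fd02fc01c402fb019b019c02fa0196019702f80199019702f902f902f101950194023e02f9023e0199019902e90193023d01940198023d0198019802e802f9019202f7019502f70196019602e7019102f90197019402f80197019702e602f801900196023a019102f702f702e5019002f7019a023901920190019002e3018d02f3)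
    (nat_lit 5600)))
    (nat_lit 5600)))
    (Nat.shiftLeft (Nat.add 
    (nat_lit 0x1e601df0350034c01dc034f034c030f01e501de034e034d034c01dd01dc0333033d01dd01da01db028d01db034601f20331028d034601d9028c034401da034b0346028c01d80344021701d901d8034a0345028b01d5034b01d7034a01ea01d903430348034a0342021301d5034901d80342034701d402880348021201e70288034001d7028701d4033f021101e60287033f01d60348033e01d4034701e50286033e01d501d1034601d3034501db034301d90285034501d8020c01d10344034201d8028401d002830343020b034101d301d70340028201d001d6020a01eb01d201d6033f034301d501d0034201e901d101d5033e034101eb01e9033d01d001ee01dd033d0340033f033e0208033d027f01d401d001ce01cf027e01cf033c033101f2030c033c01cd027d033a01ce033c0339030b01cc033a030801cd01cc033b0338030801c9033c01cb033b01cf01cd0336030a033b01cc030601c9033a01cc0335030901c80279030a0305030d0305033201cb01c5033901c7033801e3033601cd03010338033502ff01c50337033501cc02ff01c40276033602fe033401c701cb0332027501c401c602fd01e401c601ca0302033601c501c4033501e201c501c90300033401e401e2033301c401dd01ee031b03320302030002fa031b02fa01c801c401c0033101c2033101c301cf01db0271033101c3027001c0033101ce01da027001bf026f01cf026f01cb01c201f3030d01be026e01db026e01d301f301c2026e01bc01ba026d033001bd01bc032c020701b90330032201ba033001bb032b0206033001bb032001bc01b90330032f0204032c01b7026a032f01fd032c01bc01fd01b6032f031a01b7032d032b01bb01fb032d032a031801f901b6032e032d01f901b3032c01b5032b01fc01b701ba01fc032b01b6031401b3032a01b601b901fa01b2026501fc031001b501f601b801b501b0026401b10264)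
    (Nat.shiftLeft (Nat.add 
    (nat_lit 0x203020002bb038002340207036f020301ff038003600200037f0206036e0202037f0201035e023201ff037e037d020102b8030e035d031201fe035d02b8031201fd01fc02b7037b032c036f0207032c037b01fb037c01fd037503730204032f01fa037b037a01fc0379036e0206032b037a035901fa030f0378034f02050314037901f90378032a01fa03770375032a037403770357032e037101f90374037601f903750356032d01fb037401f9032d036f01f802b00373036f01fd0203036f01f70373035401f8037201fb0202036e0372036d0353036d01f703710370036d01f4036f01f6036e01f801fc020001f8036e01f7034f01f4036d01fa01ff01f701f001ef02ab036a01f20368035c032901ee02aa01ef036c01f3034103340328036c01f1031e01ee02a9033d0333032301ed036a036b01ef036a0366035a0327036b020501ed031e0369035f03590321036a01ec036901f001ed0367035b0326036801ea02a50367034b01f00355036201e9036803410366034301ef0352036101e80367020201ea036401ec03540360036601e8035f01e9036501ed0351035f036403650201034901e803640363035e02a0033d01e601eb033f01f1034d01eb01e5036201e703600348031f035001ea036101e5033d035f033e031e034c01e90360035f01ff01e5035e0205034f01e8029c033301fe01e4035d034d01f10317035c01e3029b035b0339035501f0031d01e2035c0334035a0336035201ef031c01e1035b01fb01e30356035401ec031a035a01e1035901e20358035101ed03190356035801f9033701e103570356031801de035501e00354035201e301ea03500354035101f701de035301e101e8034f01dd02940352034e01e003340341034e029301dd01df034d01df01e401eb034d035201de01dd035101de01e201e9034c01dc0291035001f6034e031001e701e0029001dc034d01f5034d01fe)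
    (Nat.shiftLeft 
    (nat_lit 0x3ad022703ad03a9022e023c022303b0022f022603af03a8022f023b03af0222022e02e5022303ae03ad023a03ac03ae023602e403a5022203ac03ac022203ad023502e3022403ac0222023903ab022002e203a9039b0227022d022d021f03ab03aa03a8039a0226022c022c03aa0221021f022b03990225022b022b021e03a90233022003a70224022a022a03a8021e0229021f03a602230229022903a703a602320396021e03a503a40228021b021a02dc03a3021c03a2039502dc021902db021a0394021d03a1039402db021803a30392021a03a3039f039202da03a302170391021b021803a0039302d903a2021502d803a0022d021b038e039b021403a203a1039f022c021a038d039a03a102160214038c022b0219038c0399021303a0034a0215039d0217038b0398039f0213038a0214039e0218038a0397039d039e034902280213039d039c039602d2039902110388022102d2038802160210039b02120398022002d103870215039a021003990397021f02d0038602140398039703470210039602cf038502130395020e02ce039302ce038e021b02ce020d03950394039202cd038d021a02cd0394020f020d021902cc038c021902cc020c03930345020e038f038b021702cb0392020c0218020d0391038a021802ca038f0391034402c9020c0390038f02c902c8038c020a02160388020f021603880209038e020b038b0387020e02150387038d0209038c038a0386020d02140386038b038a034202090389020c02130385020802c403870340020b02c40212020b02c302080388033f020a02c30211020a0387038602080385020902c202100209020503840206031f03830360037a0322020402060383020702060380037b033003830369020402bf02050382037c03200380020203820203037e0204037303800201037e03640238020202010381037f0381037d03630237037003810201037d)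
    (nat_lit 5600)))
    (nat_lit 5600)))
    (nat_lit 16800)))
    (Nat.shiftLeft (Nat.add (Nat.add 
    (nat_lit 0x25303c1031303d20312025003d802b8025203c0031202b803d703d6025003d5025103bf031103d1024f031003d4026503d202910259025303d403d3024f02b403d1028f0258025103d202b803d10250024f03be030e0250024d030d024e030d0279030d0264026f024c024e030c024e03d0030c0263027e03d0024a030b03ce024c03cd03c8027d024903d0027903cf024e03ca03c7027b03cf024803c9024903ce03c903c5027a024803ce027c024a024803cc03c6027c024503cd024703cc0307024a03c303ca03cc03c9027a024503cb024803c203c90244030503ca02790305027903bd0247030402440246024b0304024b03bc024603ca0245024403c90303024903bb024503020272024203bc025703bc024b0275024103c8024303c6025603c3024a027803c70241027203c5025503bb0249027403c603c50277024103c403c202480277024002fe03c3027603c10243024703bd02fd024003bc027503c00242024603bc03c303bb024003c203bf0241024503bb03c103c003bf03be0240025002fb03ba03bd03bc03bb027203ba027202440240023c023b03b9023e03b9023f023f03b0023a03b9023f02f8023b03b903b903af03b90239023c02f7023c023a023a03ad023703b603b1038103b70237023803b70236023303ac023403b8023502360236023203b803a7037f023303b803b7023803b8023803a5037e0236023203b603b803b7023703a4037d023703b602320237022e022f03af0231022f03b503b0023f022d022c02f003b503a2023103ab03ab022b02ef022c03aa03a1023003aa03aa03b5022a03ae022d03b3022e03a903a9022903b503a8022c03b4022f03a803a803b4022803a6039e022903b303b203a6022803b30238039d022a022803b103a703b103b20237039c03a403b1022803a40227022602e903b002e903ab0231023e022502e80226023002e803aa0230023d03b00224)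
    (Nat.shiftLeft (Nat.add 
    (nat_lit 0x287028204000286027f03ff029e033e0286028103fe02a0029e0280027f02a9028e0280027d027b033c03fd027e027d03f903d0027a03fd03cc027b03fd027c03f803cf03fd027c03cb027d027a03fd03fc03ce03f90278033903fc029b03f9027d03c8027703fc03c6027803fa03f8027c03c603fa03f703c40297027703fb03fa03c4027403f9027603f8029a0278027b03c703f8027703c2027403f70277027a03c502730334029a03f60276029402aa03e403f6029c03d3027303be028e02a903dc0272033203c703bd03e403bd0279027602700271033102710270027e028d0331026b026c03e9026d026c026b03f302c003f3026903e8026a03f003f3026b02b603f403f103e002b203f1026803f403f5026803f003df02b1026903f4026802b1026a0267032c03f302b7026a026d02b7026603f303db026703f20269026c02b503f2026803d902b3026603f103f002b302620261032903ef026303ee03e502ab02600328026103ed026403ed03e402aa025f03ef03eb026103ef03eb03e202a803ef025e03ea0262025f03ec03e302a603ee025c032503ec0325026203de03e7025b03ee03ed03eb0324026103dd03e603ed025d025b02600323026003dc02a9025a03ec026c025c03e9025e03db02c103eb025a025f025b03ea025f03da02a703e903ea026b0320025a03e903e802bf025803e7025902c1031f029f03d4025c03e6025802a902a7031e029e03d3025b03e50256031d03e303c803de0262029b025503e503e403e203c703dd0261029a03e40257025503dc027203dc02600273025403e30269025603df03db025e029903e2025403da025503e103da025f029803df03e1026803c4025403e003df0297031703dc0252025703d80257025d029c025103de025303db03d70256025c03d403dd025103dc03da03d60255025b03d303db03da0266025103d90254025a02b40250031303d703d2)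
    (Nat.shiftLeft 
    (nat_lit 0x2a602a8042d02ab02a8042b041e03ef042d02bf02a6036902a7042c041f03ea02a502a40368042b040302ab04120426042b02a3042c02a5042902a60416042502a2042b042402a4042a02a804110424042a02a10422040102a204290428042202a1042902bd040a02a302a1042704230427042802bc04090413042702a104200426029f03620425040803e7040f02a5029e042603fe0424040003e6040c02a4029d042502ba029f042302c1040e02a30424029d02a2029e042202a7040b02a20423042202b90406029d0421042002a1035d03be02b803c0029c02b8035d03d8029b029a035c041e03f9041202ab03e5041e0299041f029b0418041602a603e30298041e041d029a041c041102a803e2041d02b4029803d3041b040b02a703da041c0297041b03f70298041a041803e10417041a02b203fb04140297041704190297041802b103fa02990417029703df04120296035504160412029b02a5040f0295041602af02960415029902a3040e0415041002ae0410029504140413040d02920412029404110296029a02a4040c04110295040b02920410029802a2040b028f040f0291040e040c03d4029f0296040e040b02ac028f040d02b4029d0295028e034e040c0294029103f603fe0294034d028e029002930290029c02a00293040c028f028e040b028f03d3029e02920403028a034b040502a5028c040304080289040502d5028a040a028b04020407040a040102d302a10289040a040904060286040802880407029f03480400028a040703ff02cf02860406034703ff0289028c028503460404028d0403028c03460284040402cb028504040402028b03450404028b02c9028c0284040504040344028104030283040202a40285028a04000402028902c5028104010284028903ff0280034102a403fe028302aa029403fe027f0340040002c403fe034002880283033f027f028702c302a0033f)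
    (nat_lit 5600)))
    (nat_lit 5600)))
    (Nat.shiftLeft (Nat.add 
    (nat_lit 0x40602dd02cf045e045d02d302ce02cd0395045c0395045602dc039502cc039402cd02db0394045502db0394045c02cb045802ce0458045402d9039302ca045c02da02cd045b045302da0392045b02c902d9039102ca045a045803910457045a04050390045002c90457045902c904580404038f02cb045702c9038f045602c7038e0454044e02ce02d8044e02c6045604550453044d02cd02d7044d045502c802c602d6044c02cc02d6044c02c50454040202c7045202cb02d5044b045302c502d402c6045102ca02d4044a045204510401044902c50450044f04490388044c02c302d202c8038802d202c802c2044e02c4044b02c7038702d102c7044d02c2044c044a02c6038602d002c6044b044a03ff02c20449038502cf02c5042e02c1044803e704480425044203ec02bf044802c0038302c10447044303e90447042c02be0382042102bf0438044702bc0444042702f6043402bc02bd044502be02ba044702bb044602c0043202be02b90446042302f402ba0446044502bd044602bd042102f302be02b904440446044502bc042002f2042f044402b902bc0443041f02b6037c043b043802bf03e802b602b5044302b7043c043202c003f302b4044202b503d40441040e02c103db02b3043c044103f202b5043f043c03f20441041b02b3044002b4043e043b03d9043f02b2043e03f1043002b3043a043d0439043d041903f5043503f5043902b2043c02b1043b03f002b6043a02b303f002b2043a041703f4043602b102b20439043202af043802b0043702b602be043202ae04370415043102af043604340431043604300414043002b202ae043304350434042f0413042f02bc043302ae042f02b002ad036f043202b002b702bb02b002ac0432040e02ad043102b502ba02af043102ae040d02ae02ac0430042f02ae02a9036c03e602aa036c03fe03f603ed02a7042e02a803e6042d0424041d03eb)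
    (Nat.shiftLeft (Nat.add 
    (nat_lit 0x48302ff0306047d02fb03c10482048002fe031303c1047c03c002fb047b035d02fd031203c0047b0482047a02fb048102fc031103bf047a0480035d047f02fb0333030e03be047902fa03bd047e0332047c0332030502fe03bc02fa02fd0302047b0302030402fd047e02fc02fa047d047a0300030302fc047c047b047a047902fa047903ba02fb02f702f802f903b902f902f802f8047302f302f4046d044602f502f4047802f302f20478046c044502f6047802f402f6047802f6046a0444047802f202f3047802ee02ed047402f0047702f10471047102ec0477046f046802ed04770476046f047702eb046e046702ee02ec04750470047602ea046b0466046b047502ec046b02ea047502f60465046c02ea02eb046c02e702e6047302e90473047102f102f902e5047302f103af02e60474047302f8047402e402ee03ae046e02e504720472047302e302e703ad02e7047202e502f702e4047202f503ac046d02e302e402e402e202e103ab0471046402e902f002f002e003aa02e102ef046302e802ef02ef047102df047202e2047002e702ee02ee02de047102ed02e1046f02e602ed02ed02dd047002f4046002df046d046c02eb046f02dd02ec045f02de046e046b02ec046d046e02f3045e02e402dd046a046d046c046b02f2045d02ea046a02dd02ea02d902da045b02dc02da0469045c03a302d802d703a2046902f002dc0456046402d603a102d7045502ef02db04550463046902d5045a02d8046702d90454046202d40469045302d7046802da04530461046802d3045102ec02d404670466045f02d30467040a02eb02d502d30465046004650466040902ea044f046502d3045d046402d1039b046202e2039b044e02d802d004640463046102e1039a044d02d7046302d202d0044c02e00399044c02d602cf0462040702d104600398044b02d5046102cf044a02d0045f0397044a02d40460045f)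
    (Nat.shiftLeft 
    (nat_lit 0x4a304ab032303ed0324032803ed032804a2036c04af032204ad032504ad032604a10384032104af0327032404ae032704a0036b04ae0320032603ea032104ad04aa0369032004ad033003e90322032004ac038304ac04aa032f03e8049c04ac0320037c04ab031f03e7038403e7036204960325031e04ab036c036b03e6036104950324031d031c03e504a9048b04a30329035c031b03e4031c04a2033204a20328033404a9031a04aa031d04a504a10326035b031904a904a0031c04a804a00327035a04a80318049e0488031904a704a5035804a404a7032e0487049d031804a404a6031804a5032d0486031a04a40318035604a3031603de04a1049b031d03250496031504a304a204a0049a031c0324049504a203170315031b0479031b03230333031404a1032b0316049f031a0322037a04a0031403190315049e031903210359049f049e032a04970314049d049c037803d804790312047b0317047b03d8035d0311049b031304990316048203d70494049a0311047904980315047a03d6047f04990498049303110497048103d50493030f04960310037a04940350031f03160495030f03330359047f034c031e0315030e03d2049403130310048003d203130494047f030e0493030f047f03d10311030b030a03d00492030c048e048b033c03090492048d030a0492048d0489033b04920308048c030b03090491048a033a048e030703cd049103cd030b0485048e03060491033b0307049003080484048d0490048c033a03cb03060490048f048c0303048e0305048d03ca030a047e0307048d030603090303048c0309047d0306048b030103c8048a031d0485030b03390300048b03320489031c047e030a033602ff048a033803010486048403080338048902ff047d03000488047d03090335048604880337031802ff04870486033702fc048502fe0484048203010307047e0484047d033502fc)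
    (nat_lit 5600)))
    (nat_lit 5600)))
    (nat_lit 16800)))
    (nat_lit 33600)))
    (nat_lit 61600)))
    (Nat.shiftLeft (Nat.add (Nat.add (Nat.add (Nat.add 
    (nat_lit 0x4d804dc037604ba04d404a604d8035704db035604da04b5035b04d9035804a5035704d9037404b904d50356035704d804d1035404d7035504d6035b036704cd035304d6037204d0035404d504d304cc04d504cf037104cf0357035304d204d404d304ce037004ce036304d2035304ca03550352041204d10355035c036804c9035104d104c8035204d0035a036604c804d0035304c70353035104cf04ce04c704c90350040f04cd04c9049603620355034f04cd036e035004cc037a0360035404cc04c7036d04c7034f04cb04ca0353034c04c9034e04c8035004950361035204c8034f0351034c04c70359035f0351034904bf039d0364034a034904c604c504c604be039c036304be04c6034904c304bd0348040804c20362040804bd034b034704c20398034804c5040704bc034a04c504bb0396035e034704c404c3034904c1034a0390034b04bf034404c104c203440345038f0346034504c103440404034b0343040304c103680346034b04bd034204c1038b034304c00345034a04bc04c0034903890365034204bf04be04bb033e04bd034004bc036104000348034304bc03470385033e04bb03ff03470342033d03fe036103410340036c034e0341033a033b0490033c033b033a04b8049204b80338048f033904b504b8033a048a04b904b60487035704b6033704b904ba033704b504860356033804b9033704860339033603f904b8035c0339033c048b033504b80484033604b70338033b048904b7033704830358033504b604b50488033303f6049503340480034e036c04a204b404b204a6037604b2037604b4032e032e04b004a4037404b3032d032e04b4032f032b04ac032c04b1032f0330037b032a04b1049f0379032b04b304b1037904b3032e049d0377032e032a04b004b204b1032d049c0375032f04b0032a03750326032704ae0329032704af04a9036a0325032403ee04af03ee0329)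
    (Nat.shiftLeft (Nat.add 
    (nat_lit 0x4e503b704f20509037f03810509038104e303b604f9037d037e0509037c0508037b0443050104f6038304ac04e1037a05080496050704cd038404a10378050703790506037a05050501049f050604df049703780493050405000497037704ff050504b304f4037904ff0503050504dd0377050404cb037804fe050205030376050204b204f304b204fd037703750379050104b1037b04ff037904b1050104da03750500037c04fe0378049c04ff037404fe04b004fb0375037704fd037604fd04d804b404fa04b40376037404f604d70373043804fc037c038204f604f5037204fc04f5037304fb04f904f5037104fb04d504f40374037204f804fa04fa04f304d404f3037604f304f70371037004f904d304f2038104f8037204f204f804f104d204f104f80370037104f70373036e04f6036f04f5037b03800373036d04f504cc0372036e04f404f2037204f4037104cb03710377036d04f104f304f2037004ca0370037d04f1036d03700384036b04f004ab04f004ea04e104af036904f0036a042d036b04ef04e204ae04ef03820367042c04e7036904d704eb0367036604ef036804ee036a04d104ea036504ee04e804c0036604ee04ed04e804ee036404e704bf0367036504ec04e904ed036304e404be04ce04ec036504e4036304ec038104c604d30363036404e503620361042604ea04bd04ab04c9036804ea036004eb036204e9038404cd0367035f04ea0366036104e8036b04c80366035e04e9037f04c5036004e604e5036404e8035e036504bb035f04e704e4036504e604e7037e04c40382035e04e304e604e504e4037d04c304ca04e3035e036304e2037c035b041f04da04d7036904aa035b035a04e2035c04db04d1036a04a9035904e1035a049504e004c8036b04a0035804db04e004b7035a04de04db04a804e00378035804df035904dd04da049e04de035704dd04b604cf035804d904dc)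
    (Nat.shiftLeft 
    (nat_lit 0x53103b003b503b5053103a7052f052603a9052f052e03b303a6053103b4052503a80530052d03b4053003a503b3052403ae03a6052c052f03a5052f03b8052303ac03a7052b03a503a4052e03b7052203b1052b03a703b1052d03a403b2052103b2052c03a603b2052b052c03b60520052b03a403a5052b03a0039f051f03a2052a03a3051a0527039e052a051803b4039f052a05290525052a039d051603b303a0039e052805260529039c051303b205130528039e0521039c052804c603b10514039c039d0522039b039a0464052703ab0464051103a203990463039a051003aa0463051003a105270398051e039b05260462050f03a003970527050e039a05250461050e039f0396052604c503a7039805230522039d05250396050c03a6039705240521039e0523052404c403a5045e0396052005230522052104c303a4050a05200396039c03930392051d0395051d051a03a3045c0391051d03a3045b0392051f051d045b051f039003a0045a05160391051b051e051c051e04c2045905150459051c0390051d038f039304580393051b039104580390051b04c104570517038f0390051c038e038d0456051a0511039503a20511038c0455038d03a10510039403a10510051a038b051b038e0519039303a0050f038a051a039f038d05180392039f050e0389051904c0050d038b05170514050d05180389039e050c038a05160513050c0517051604bf050b03900389051205150514051304be050a039c05120389050a05110387044e050f038e044e039b038e038605110510050e038d044d039a038d0510038803860399038c044c0399038c0385050f04bc0387050d044b0398038b050e038503970386050c044a0397038a050d050c04bb03890385050b050a038904f0038303840448038404eb050804ad038204eb0380044704e6038304f60382037e037f04e603b80380037f0509037e037d0509)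
    (nat_lit 5600)))
    (nat_lit 5600)))
    (Nat.shiftLeft (Nat.add 
    (nat_lit 0x558055b055a055903f0055103e8055803d9043b055703d7049b055603de053e049b054f03d605570534055503dd0536049a053b03d50556054e03d70554053d0499054e055503d5053503d6055305350498053a05540553044003d903d5055205510440055003d404960442054f040f03e703de03d3055003f6041d053b040c03e603dd03d1054f03d2054e03d4053b049403d7054e053a03d503d10440053a049303d503ce03cf054b03d003cf054c054803fd054c03cc054a03cd054a03ce0542054c03cb054a03fd049003cc03cb054d054b054d054903fc048f053f054d03cb054903cd03ca048e054c048e03d0053903cd03c9054c03cf03ca054b03cf053803cc054b03cb03ce048c03c9054a054903cb03c803c7048b054803e5053903d003f9054803c6054903c80544054203ce03fc03c50548053803c70547053803cf03f8054703c4053703e103c50546054403f70543054603fb03e0054003c40543054503c4054403fa03df03c6054303c403fa053903c304850542053e03c803cd053903c2054203f803c3054103c603cc05380541053703f7053c03c20540053f053703bf053e03c1053d03c303d704820536053d0535053a03bf053c03d50481053503be0480053b03c103f603d204800534053b03d103be053a03d303d1047f03d603bb053903bd0538053603c703ca03c3053803c203c503bb053703c503c903c203ba047c0536053403bd0534047c03c1047b03ba03c003d803bc03d8047b03c0053603bf03ba053503bb03d6047a03bf053403d803d603ba03dc03ba047903be03b603b7052b050903b603b703b803b603b303b40530052a03b503b40533053103b20533052d0529052d053303b4052d053303b1052c0528052e03b203b3052e03ae053203b50474053003af0532053203ad03af03b0047303b0053203af03b9053203ac03a90472052f03ad03ae03ae03a903a8053203ab)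
    (Nat.shiftLeft (Nat.add 
    (nat_lit 0x40b057f0411040c057e041d04240411057e040d0410040d040b057d057c0410040905750465042705760409040a057a04060577046004230407057b057a040a057b0572045e042104c404060579057b057a0571045d042005710579040604090574040704590408057704c20574040504050402045704030578040404050574040105780452042a04020578057605730578040a04500429040504010575057705760409044f042804090575040105710408040004bd0574042604bd0408040303ff0574044b0400057304bc04070402057304060449042203ff0572057104010570056e05450419056e0545057003fb03fb056c05430417056f03fa03fb057003fc03f8054d03f9056d03fc03fd054803f7056d0541041c03f8056f056d0547056f03fb0540041a03fb03f7056c056e056d03fa053f041803fc056c03f7054403f5056905620439056b043903f503f403f1056a055d043f03f403f2056a056b056b03f5055b043d03f5043d056903f103f003f2055a043c03f3056a03f2043c056a03f40558043a056a03f003f1056903ec03eb056803ee056803ef0560042e03ea056803ef04ae03eb05680567042d056803e903ec04ad03ec03ea0561044803e8056103f304ac055a03e803e9044303e703e604ab042e04ab0426055003ee056703e803e304aa0559056103ea041f03e303e2056703e50564056003ef041e03e10564055e054703e205660564041c056603e0055c0546055c03e1056305650562056503f50545055b0419056203e0056403df0559054403e3056303e1041803e0056303f40543055d03df03e0056203de03dd04a30560055703e503ee055003dc04a203dd03e4053403e403ed03f6056003db056103de055f03e303ec044203da056003e203dd055e03e203eb041d03d9055f03f2055403db055d055a0441055e03d903e1055303da055c0559041b055d055c03f1055203e003d9)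
    (Nat.shiftLeft 
    (nat_lit 0x5830436043f043105aa05ac05ac043505820435043d043505a80430042f05ab05810434044505aa0431043405aa04330580043305a9042f043005a80448042d042e04f0042e05a6059d0568042c05a6042b04ef05a4042d058b05a60429042a05a40578042b042a05a705a5042805a705a10576058705a7042a05a105a7042705a00575058e0428042905a205a60447042504eb05a304480585042c0425042405a6042605a5042e057f042b05a5042305a30577042505a305a20429042205a5042a0573042405a405a1042a05a4042104290572042c042205a005a3042105a30446057b04470423059e0421042005a20445057a0581059e0423042705a1042004280571057c05a004220428059e05a004440579059f04200421059e041f059d041e04e20596058b042d05670442041d059d0550059c057f042e0560041b059c041c059b041d059a0596055e059b0440053c041b053a059905950553041a0594059a056f0589041c05940598059a043e041a0599057d041b05930597059804190597056e058805650592041a0418041c0596056d041e0594041c05640596043b04180595041f0593041b0559059404170593056c05900418041a05920419059204390570058f056204190417058b0438041604d70591041f042c0585058a04150591058a04160590058e0584041405900436058904170415058d058f058f05880435058804190582058c04140413058e043405870427058d04150581058d058604330586058d04130414058c04160411058b0412058a041e042b057f0410058a057e0415041105890587057e05890414057d0414041a04100586058805870413057c0413042805860410057c057f040e0585040f0584044204250416040d05840431057e040e0583058104150583057d0430057d043e040d058005820581057c042f057c04200580040d0413040f040c04c9057f040f055004260412)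
    (nat_lit 5600)))
    (nat_lit 5600)))
    (nat_lit 16800)))
    (Nat.shiftLeft (Nat.add (Nat.add 
    (nat_lit 0x5d5045d045e05d4045a05d20469051f05cf045b05d205d305d304590462051e05cd051e05c7045a0458045b045c051d045c05d2045b051d045905c70574051c05ce051c0459045705d204570454051b05d00458045a05c70454045305d2045605d1045c046905c605d1045205d005c5045405d005cc05c5045105d1046805c4045305cf05cb05c4045005d0057805c30457045205c905ce05cf0450046705c2045a045105ca05cd05ce05cd057705c1045905c105c80450044f05cc057605c0046505c9045205c005cb044f046605bf046605ca045105bf05c905ca057505be05c9044f045005c8044e044d051105c60456051104640456044c0510044d0463045505100463045505c6044b05c7044e05c5050f04620454044a05c60461044d05c4050e04610453044905c505730452044b05c305c0045205c40449045f0451044a05c205bf045105c305c205720450050b044905be05c105c005bf0571044f045d05be0449044f04440445059e047805ab044504460444059d04430442050805b8058504480561059c044105b805bd044205bc05b8055f044005bd05540441054e05bb05b70554043e05bc043f05bb0583044105b605ba05bb05990552043e0599044005b505b9043d05b405ba056b05ac056b05b4043f05ba0597043d05b90582055b05b3043e043b05b8043c05b7044305b60441055a05b705950551043b050005b504400551043a043f05b6056a05ad043c043f05b405b60593043a05b505b1043b043e05b305b4043905b3056905b00569043d043a05ae0591043705b2043805b1059f05ae05ad043605b105ad043a043705a905b0043505b0058f05ac043905ac05af043605ab0434059f05ab044405a9043705ab043305a9058d05aa04330434043605af05af05a8058c05a805af05a80435043304380585043204f605ae0443044704380437043105ae0437043205ad05ab0437043005ad)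
    (Nat.shiftLeft (Nat.add 
    (nat_lit 0x5e70491048c05fa0492054b048d05fa05f9049005fa04900491054a0491048c05f305fa05f9048f048a054905e405f3048c048f048a048905f9048b05f605e7049204b8048805f605e604a8048905f805f604b705f8048705e504a705e5048805f505f705f405f704ba04a605f004ba05f4048705f6048605e404a5048a05f5048804b5048705f504b904a405f10486048705f405e7048405f3048505f2048a049105e7048305f204b705ec048405f105ef05e605f105e504b605eb0487048305ee05f005ef05e404b505ea048f05ee048305e405e30482053e05ed0485049b053e05e3048105ed05e8048205ec0499053d05e205ec05e104df0483048105eb05ea05e1047f05e9048005e804950494053b049a05e804930481047f04df0493053a04980485047e053905e705e3048b048e0485047d05e70489047e05e60489048d048405e60483048805e1047d05e505e40483047a05e3047c05e2047e049a0536048205e204810498047a05e104980535048104790534049a047c04a2047c053404800475047605de05dc05df0476047705df047204740471053205e00473047404740470046f05e005db047105e005df0477046e05e0047705da0474046f05de05e005e0046d047005d90472047005dd046e05df046c05dd05d8047505dd04700475046b05df047605d7047605de046f047605de046a047505d605dd046b046e05dd046a05dd047805d4046a046c046d046a0467046805cf04770469046805dc05db046605dc05cb047605cb05dc046805d705dc046505ca047505cc0466046705d80462046105d3046405db052705c6046905db046005cd0470046205d905d80467045f05db05c4046f046105da05d7046805da045e05c2046e0524045f05d605d9045e05d9057b046d0523046005d4045e045d05d8057a046c05c005d40460046505d7045d05bf046b05bf05d6045f046605d405d60579046a)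
    (Nat.shiftLeft 
    (nat_lit 0x61c04c5051504e904c2061a061d04bf04be061e051404ed04c6061e04c00619061e04c6051204ec061e04be04bf061d04c204bc051c04bd061c057404c204c104bb061c050d04e804bc061b061904c0061b04c4050b04e7057204bb0618061a061904c3050a04e404c3061804bb04be04ba061505f404d8061705f404ba04b904b6061605f104de04b904b706160617061704ba05f004dc04ba05f7061504b604b504b705ef04db04b8061604b705f6061604b905ee04d9061604b504b6061504b20614060c050304b40503061404b304b004b3060704ff04b004b104b30614061404b4060604fd061404fd04b204b004ad04ae04af056804af04ae061004f004aa061004a905670609061004ae04e204a70612060d05f8060d04a806120613061304a6060b05f7060b04dc061104a704a504a8060905f604a9061204a804db061204a4060805f5060e04a504a7061104a6061104b405f4060c04d804a604a4061004ac04a10561060a04aa04ad050804a104a0061004a3060f04a904af04e1060f049f060a060304a1060e060a0507049e060f04a8060204a0060d060904e0049d060e04b3060104a4049f0607060c060d049d04a7060004a7049e0608060b060c060b04b205ff04a605020606049d049c060a04b105fe04ac0607049f05010609049c04a505fd04aa0608049e04da0607060804b005fc0607049c049d0606049b049a0557060404a305e3055705e9060404990605049b060305ed055605fb0498060405e2049a060205e2055505e8049706030506049f0499060105fe05060602049705e1049e0498060005fd04df060106000504049d05eb049705fc05ff05fe05fd0500049c055105fc0497050004960495055004e105e904c904ab04a305e90494054f05fb049605e9054f049b049305fb04990494050605e8054e0499048f05f304b8054d05ef048f049005f90491048d05fa048e05fa0492)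
    (nat_lit 5600)))
    (nat_lit 5600)))
    (Nat.shiftLeft (Nat.add 
    (nat_lit 0x4e9061a04eb04e9064604e7064904e50646061d062a064604e904ec04e4064904ed06190622064804e804ed064804e304ec0618063604e404e706460645063604f9064704e3062804fc064504e306460509061f064504e504e604e3050804e204e1059d063f062604f00610050704e0063f064404e10643063f060f04df064405ec04e005e80642063e060204dd064304de0642062404e0063d06410642050405eb04dd050404df063c064004dc063b0641061706320613063b04de0641050204dc06400623060b063a04dd04da063f04db063e04e2063d04e00609063e050005ea04da0595063c04df05fd04d904de063d0616063304db04de063b063d04fe04d9063c063804da04dd063a063b04d8063a06150637061104dc04d9063404fc04d6063904d706380636062d063304d50638063304d904d6062f063704d4063704fa063204d8062b063504d5063104d30636063104ec062f04d6062a04d2062f04f8063004d204d304d506350635062e04f7062e0635062704d404d204d7062604d1058b063404e204ef062604d604d0063404d604d106330631062504cf0633062404d504de04d006300632063204d4062304d404dc0623062e04cf04ce0631062204d304ed063004d00622063004d2062104d2062f04ce04cf062e062604f604cd0585062d050804eb04d7062504cc062d062504cd062c062a04d604cb062c04f40624050504cc0629062b062b062304f30623050204d4062704cb04ca062a04f2062204e5062904cc04d30629062104f10621062804ca04cb062704cd04c8062604c9062504e104ea04d104c7062504d004cc04c80624062204d0062404cb04cf04cb04dd04c706210623062204ca04ce04ca04e4062104c704ce04c4061a052304e6057b04c5061f04c404c3061d052204e50619061f04c504c6061f0618052004e3062004c304c4061f04bf04c0051704ee04c104c0061e061c)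
    (Nat.shiftLeft (Nat.add 
    (nat_lit 0x51f0518066d066f05150668061c0664051c0664066a0517066f051505260663051e0663066b0516066e0514066c06620528066c051906620513066e052906610529066d05180661066d05120528065f066c05130516066b0512066c061e0660051205140517066a066a066b061d065d066a065d051505120669051c050f05c7066805c7051e051b050f050e06690511066705c60527051a0667050d06680519050f066606620519050c066705250518050e066506610518050b0666061b051705c3050d066006640665050b0524051605c2050c065f066306640663061a051505c10515065d050b050a06620619051405220660050d05140661050a052105130521065f050c05130660065f06180512065e050a050b065d06440506065c050705fb065b06580603064305050657065b062c05070657065a0504065b0601050506420506065606590502065a05030659062b060c065405050659064005ff0502064005ff06530504063f050105070658050806570507060a0500065805fe050105b70656050605fe04fe065704ff0656064f0501050506540656063c05fc04fe065505000504065304fd050306540614064e0614050304ff0654063a04fd065306510606050204fe06500639065004fc05b2065206470650064f063804fb065204fe04fc06280651064e04fa0651064e04fd064e064b04fb04f7064b0635064c04f7064c04fa04f804fc062d04f5065004f6064f064504fc04fb04f4064f04fb04ff04f5064d064e04f3064e062b04fa050304fa064c04f404f904f2064504f90509064d04f504f904f1064d062904f8064d04f204f4064c064d04f80628064d04f104f904fb064b064c04f7062704f7064b04f704f304f104ec04ed0648061e063104ed04ee064904eb04ef04ea05a6064a04f0062604ef04e904e8064a061c04ea064a064904ee04e7064a04ee061b04ef04e80648064a064a04e6)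
    (Nat.shiftLeft 
    (nat_lit 0x5fb0556054a054b054c05fa054c054b0681054a05490681054805f9067d0681054b054d0546068f067f0566067f0547068f069006900545067e0565067e056e068e054605440547067d05640548068f0547056d068f0543067c0563068d05440546068e0545068e05700562068c0570054505430681054d054205f3068b0549054a068106800541068b06870542068d068b06800540068d056f068605430541068a068c068c067e056e06850545067e06890540053f068b056d0684054d068a0541067d068a067c056c0683068a053f05400689067b053d0688053e0687055605ed067b053c0687059b0541053d06860684067a06860679059905400552053c06830685068406780595053f05ea0683053c0678054f053b05e906820550054f05e90557053a0682053d053b059b054e05e80555054205380681053906800548054c0542053706800547067a0538067f067d0541067f05400546067905460537067c067e067d053f054406780549067c0537053f053e053605e3067b0539055705e3053e0535067b05550536067a055505e2053d067a053c05530537053506790678053c052f0530053106760532053106770530052e052d067706750533067705310533052c0677053306740677052d053006770677052b052e0672052c052e052f052c05280529066d0533066e0529052a067505260525066f0531052706760675052a052406760665053005da052506740676067605230663052f05d905260672052406750522066b052e0662067205260528052106750661052d066106740525052906740520065f052c067305210524067206710673062006710520065e05d5067105200672061f052b0671052205230520051e0669052705d3066f05d30669051f051b051f051a05d20670051d051f06690519051806700667051a0670066e06670670051705190666051b0519066c066805160670052a0665)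
    (nat_lit 5600)))
    (nat_lit 5600)))
    (nat_lit 16800)))
    (nat_lit 33600)))
    (Nat.shiftLeft (Nat.add (Nat.add (Nat.add 
    (nat_lit 0x585058b057f062606b6059d05a6058b0584057e06b60584057f06b506b3058a057d06b505890583059a057e06b206b406b40582058805820597058806b0057d057c06b30587058105a106b2057e058706b205800586058006b1057c057d06b006ae06aa05d506af057906aa062006ae057906a905d4059e06ae057a057b05790575057605c905a705750576057806ac06ac057a05c805a206ac06a9057705750577057305ce05a5057406ad06ac0578057206ad05c305a4061b057306ab06ad06ad057b05c105a3061a057706a90572057106ac05c005a1057a06ab0573057606ab057905be05a006aa0571057206a9056e06a8068c05980570069006a8056f056c056f068a0594056c056d056f06a806a805700689059206a8068e056e056c0569056b069f05b4056905b4056b056a056506a706a4069006a4059806a705660563056606a2068f06a60564056606a706a7056206a0068e06a5059205650563056105670560061006a305670568059d055f055e06a3069c056006a606a3059c06a6055d06a1069b0563055f06a106a5055c06a60566069a0566055e06a206a4055b06a5056b0699056205ba069f055d06a4055b056506980565059706a0055c06a3055a055f0697056106a1055f05b8055906a305640696056706a2055e059606a205580563069406a10559055c06a0055806a1056a06950558055a055d069f069f06a005690692069f05b3055b0558069e069105560605069d06880605069105560555069e0557069c067b06040682069c0554069d055f0556069b069705bd0553069c067a055e0555069a0696059b0552069b05bb055d0686055406950699069a05520679055c06790553069406980699069805b9055b068505b9069205520551069705b7055a05fe0695055405b7069605510678055905fd0694055305950695069405b5055806930551055206920682054e0691054f05bd0682)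
    (Nat.shiftLeft (Nat.add 
    (nat_lit 0x6d805b106da05b206b906d906d706c805b006d905b306d706b705b105b206bf05b205ae065006d806d405b205b106be05ad06d805b605ae06ba06d705b005ac06d705b005b405b006d605ad05a905aa06ba05a905aa05ab05ad06d605a806d606b805af06d605af05ac05aa06d605af06b706d605a806d605b005a905a305a405a506ad05a605a506d505a405a205a106d506ac06b306d505a505a705a006d505a706ab06c305a105a406d506d406c706d4059f06af06b905b206d406d5059e05a206a906bc05a205a305a0059f06bc05ab06d4059e06ba05ae059f05bd059b06d3059c068206d206cf069c05bc059a06ce06d206b5059c06ce06d1059906d20686059a05bb059b06cd06d0059706d1059806d006b406a406cb059a06d005b90685059705b9069806ca059905b80596059c06cf059d06ce059c06a3059506cf06840596063e06cd059b0696059306ce059406cd06c50596059a06cb06cd05b50683059306cc0595059906ca0592059806cb06a806c406a70598059406cb05b3059206ca06c806a00597059306c605b206c60591063906c906c706bf06c505b1059006c90593059106b106c806c4058f06c806c4059206bd06c0059006c3059f058e06c705a006b1059106bc058c06c005af06c1058c06b8058f058d059106b6058a06c6058b06c506c306b60590058906c505900594058a06c206c4058806c406b4058f059806b406c10589058e058706c3058e05a706c2058a06b3058606c206b2058d06c20587058906c106c2058d06b106c20586058e059006c006c1058c06b0058c06c006b00588058606b605ae058406bf058506be06bc059106b5058306be06b505bc058406bb06bd058206bd05ac06b405ba058f06b8058306b3058106bc06b305a206bb0584058e058006bb05aa06b206ba0581058306b806ba06b105a906b90580059f05b106b706b806b005a806b006b7058c05820580)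
    (Nat.shiftLeft 
    (nat_lit 0x5f705f006fb05e505e406fe05f606f605f906fd05e605ef06fd05ee05f506f506fc05e405e506fb05ed05e206fa05e306f90604067b05ed05e106f9060205e605e206f806f605ec06f805eb060005e5060005e106f506f706f605ea05fd05e4067806f505e105ea05dd05de05df06f305de05df05e005de05d905da06ec05e0067605db06f305da05d805d706f005df06ea06f305db05dc05d606f306e805de06f405d705da06f306f405d506e706f205d606e7067306f206f305d406e405dd06f205d805d905d605d506f206ae05d505d406e6067105d505d005cf05d106ee05d205d106f106ef05cd06ef05db06ec05d306ec06f005cf05cc05cb06f106ea05dc06f105d106ea05ca06f105dc06e806f105cb05cf06f006f105c905cc06e905ca05cc05d006eb06f005c805d806e406eb06e405cd05ca05c806eb06ac06e505c806e505ce05c905c705d305c6066906ef066905d305d206ef05ce05c506ed05c706ed06eb05d005c505c406ef05d105c606ee06ea05d106ee05c306ed05d0066605c506e906ed05c206ee05da05cf066505c406e806ec05c106ed06ad05ce066405ce06e505c306ec05c105d905cd066305cd06e405c206ea05c006eb05cc05d806e905c505cc05bf06ea05d705cb05d706e805c405cb05be06e906ab05c906e605c005c306e506e805be05d605ca06e705bf05c206e406e606e706aa06e605be05d5065e06e306e506e406a905c806e305c805c105be06d3069d05bd06e0069106e206e0069d06d205bb06e205bc06d205bd06df06e106d105ba06dd06e106bd06a506dd05bc05b906e1069905ba06d0069906dc05bb06cf05b706e005b8065806df05bd069706ce05b605bc06df06be05b805bc06dd05b506df069505b606de05b705bb06dc06de06cc069306da05b5065506cc06db05b306dd05b406dc06d7069f05ba05b606dc06ca069205b306db069205b905b506d806c9)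
    (nat_lit 5600)))
    (nat_lit 5600)))
    (Nat.shiftLeft (Nat.add 
    (nat_lit 0x6aa071e071f061f065d0646071e061d061a0618061506170709063b0615070b0617061606110613071b070b071d063b06130612060e060d071c07170612060f071c071d071d060c071a07160611065a071a060e060b071d0613071506130641071b060d060a0609060f07130610071c060f063f0608071c06120711071c0609060d071b071c0607060e07120608060a060e071a071b06060611070d071a063a060b06080606071a0614070e06060654060c0607060506fa0604069e071906fa069e07010719065c06030714060507180714065c060306020719060f0604071707130644071706010718060e07070603071207160600071706f8060d06f806020711071505ff07160659060c07060659070e0601071505ff06f7060b06f70640070d0600071305fe0714060a069707120603065805fd071306f60609069607110602063e05fc071206560607070f05fe0601070e071105fc06f50608071005fd0600070d070f07100655070f05fc06930703070c070e070d06530606070c065305ff05fc0701060505fb0691065c07010691060505f7070b06ff061306ff0617070b05f805f505f806fd0612070005f605f8070b070b05f406fb0611070a061505f705f5070005f106fc070705f505f206fc070a05f0070a0617070605f406ff070905f106fe05ef05f2070505f306fc05f206fe05ee06fc0616070405ee05ef05f10709070906fb06150702070906fb05f005ee06fa070105ed068807080605068806fa06f905ec070805f205ed0707070506f905eb0707064205f1060105ec07040706070606f7064005f005ff06f7070205eb05ea0705063e05ef0684070405ec06f6070406f5063c05ee070305ea05eb070205fb05e8070105e9064405fb0682060405f305f905e7068106fe05f905fa05f305f205e606fe06f905e7070006fe05f205e5070005f806f805f805e606fd06ff06ff05f005f706f7)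
    (Nat.shiftLeft (Nat.add 
    (nat_lit 0x64606480649071f07280649064a064806470731064706450722072f06500647065c07080644073f07010741073f0719065b064207410643065b0644073e0740065a0641073c07400729071d073c0643064007400706064106590715073b06420658063e073f063f06cf073e064407130657063d0643073e072a063f0643073c063c073e0704063d073d063e0642073b073d065507030739063c06cc0655073a063a073c063b073b0736071b0641063d073b06530702063a073a070d0640063c073706520737063807390639072507380736065106370738063a073207230638073506470735063607200725063907310639072b0639063406c607370735072b0638072a06330737063d0634072607360637063207360637063b07290734063306360728063107350648072606340728062f06300726062f0630063106330734062e07340724063507340724063206300734063507230734062e072e0637062f072b0650072b062d06bf073307310639072a064f062c07330657062d073007320729062b07320729065a0637072e062c07280645062a073106460730062d063607270629073007270730062a062c072e06280730064d072f06290645064f072c072f0725072f0628072506470652072d0627072e064c0724072c0635062b0629072c0723064b072d0627072c06510628062d06340625072b0626072a07280634062c0624072a062c0643062507270729062307290632062b0641063207240624062a06220728062a06490727062506310621072706300629072606220624072407260628062f0725062106360638072307240627062e06270723062e0623062107220720072206200647072006af07220620071e06710722061f072106ae0620061a061b0664064a06ad061c071f061b061d0619066a0649061d071f061c061e0618071f0660064807210619061b071f07210620065e072006180620)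
    (Nat.shiftLeft 
    (nat_lit 0x682070106d306910701069e068d067f075f075a068f0680075f0760067e0760069007590690068c075d067f068b067d068007580681075f0680068b067c075f068f0757075f067d067f075d075f068a068d075e067c068b068d075c075d0689068e0755075c0689067e067c0688069e067b06fa075b069e06fa06880687067a075b0680067b075a075806870679075a069a067f069a067a07570759075906850698067e0698068507550679067807580696067d06f60757067a0684075706830694067c075606780679075506730754075007540674075006f4075406720674074d0677075406750676067407540671074c06730672074f06f20673066c066d066e0751066d066e06700752066b07520675074d0752074d066f066d0668066f066707530669075307520670066606650753067006ee066707510753075306640666066806ed0668074e0666066307530676066f06ec066f074d06650752066a0662074e066b074e0668066c066206610752066e067507510667066e07510660074e066c074f06620666074e065f07510674066d075006610665074d0750065e0673074f065f067306e7074c065e074f0721065e0660067106e6074b065d074e071f066a074b066a06640660074d065d0672066b074c066b0663065f074b074c071e074b065d074b06e3065e07410718065b07490741065c0749074a07400659074a065a074007160747065b073f07140658065c06e00749065c0714073e06560749065707480658065b074706550748070f0743065606de073d0746073c0654065a07470732071a065a065706530747070e06540746070e065906560746073a070c074406530745073a06550743073907430655065206da07390744074207380742065107440742072d0652065207330652064f07430650072f074206510732064e074206540651072c064f064b064c072c064b064c064b064e064d)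
    (nat_lit 5600)))
    (nat_lit 5600)))
    (nat_lit 16800)))
    (Nat.shiftLeft (Nat.add (Nat.add 
    (nat_lit 0x779078106d906b906b7077806d6078106b806b706d706ba06bf06c606bf06b6072b0780077e06c606be06c506b5078006ce06b6077d077f06bd06b4077f06bd06d106c4077b06b506bc06c306b3077e06d5077d06b606c306bb06b2077d06bb077d06b306b5077b06b1077d06c2077c06b206c306c5077a077c06b9077c06b106b906c706c9077906b0077b06c106b8077a06c106b406b2077a06b706c0077906b0077806c806b106af077606af06ae06d40777072206af06aa077506e6077706ab06ae07210775077706af077706aa06c706af0720077606a906ab06e506d5077506ac06ad06ab077506ae06e3077606a90775071e06aa06a506a40774077106a706d1077406a606a106a206a6076e06a206a306a6077406a0077406a7076a077406cb06a406a20774069f06a5076b06a006dd06a506a1069d075b069c0770069e0773077006d3077306e2069b076f0766069d076f0772069b069a077306a6075a069c076e077107710699077206a5076506e1076b069b06980771075906a4075906d0076a069a077006e00697069d0714076f069d06e006970696077006a30713076e069c06cf076e0695076f06a1076c0697069b076b0694076e075706a2076d0696069a076a076d06930756076c06940710075607690693076c06de06930695070f076307680692076b06dc069f076806dc06990695076a0692075506a0076906ca069806940768076906db07680692076707610693068e0690075d06a7076006a80690068f0760068c075c0765068e0760075c068d0689075c06a807620689075d068c068a075b06d306870764068807660764075b075a06860766068d069b0687075e07650685076506d0068c0699075907620686075806840764068b0705075e068707580683075e06cd068a07630684068607620763075606cc076306830703069307610762075506ca0689076107550685068306910688)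
    (Nat.shiftLeft (Nat.add 
    (nat_lit 0x79906f8070506f6079d06fe0758079c06f9070506f5079c071106fd079b06f606f80799079b07030710079a06f507560710079807990702070d06fb0798070206f706f506f206f4079506f406f30797075406f406ed06ec06ee06ef075306ef079606ee06eb06f006ea079606f0079606ef06f106e906e8079606f1079706ea06ee079606e7079706f4079706e806f407500795079706e6079406e706e906f2074f0794079606e506e906eb079406eb06ed06e906e4079606f306f0079506f006ec06e8079506e306f2079406e40794074c06e706e30794077506e306e506e3074b06e6078d077206e10792078d0772079206e2078c076f06df06e2079306e006e20792078b06de0793078406df0748078b0791078a06dc079206dd0791076b06e106df06db07910768078e06dc0790078906de079007880767078f076706db07880745078e0787078e06db06d9078f078706da06da078406da06de06d807430786078e06d9078306d906d7078e06d9078106d806e2076606d2078c06e206d3078c078d06e106d0078d06d106e10771078a06d206e0076406cf06d3073f078c06d3077006df06cd078c06ce078b06cf06d2078a06cc078b0763078606cd073d06de078906dd06cb06d1078a077f077406d106ce06ca078a076206cb0789076a06d006cd078906db0761078706ca078806db06cc078606da078606cc06c9073906da0787078506d9078506c807870783077906c906c9078006c906c5078606c6077c078506c8077f06c4078506cb077f077a06c506c7077e06c706c30777077c06c6077e06c006c1077a06c006c1077b06c406c2078006d8078006be078406bf07820783077f06d706bd078306dd06c8077806be077e06d4077e06bc0776078206bf06c7077d06ba06bb078206bb06bc06be077806b9078206b906ba077c06d406d80781077b06b80778077b077806c006bd06bb07810779078106b7)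
    (Nat.shiftLeft 
    (nat_lit 0x7b6074307b607480733078407b607b707b5074207b5073207b7073807b1073307b4072f07b4073007b40731073307b1072d07b1072d072c07b3072d0742072f073307370733072a07b6072b07b407b507320736072907b5073c073607b2072a073107350731072807b007b4072b073507300726072707b407270728072a07b2072507b407250726072f0735073707b3072e072407b2072e07b2073407290727072307b2073407b3072407b20736072607b3072d07b30723072d07b10738072507b2072c072e07b1072e072307320730072007b00720072107350722077707b007b0072207b0071e073107b007760720071e0721074b07b0071f071e07750721071a071b071d07aa071b073c071d071c0718079f071707ae079f071907ae07af07af074a071607ab07a5074a07ab07180716071507af071d079e074007aa07170714079d07130719077007ae0719073f07ae07490712071807ac0714071807ab0712071107ae071c07ad0713071707aa071007ad079b07ad0711076d079b07a907ad070f07ac07100712076c079a07a807aa070e07ab071a07a8074707160712070d07aa0799071b07a9073b0715071107a9070c079807a8070d07a707980710070c07a80746070c070e07a607a4070f07a607a7074507a60745070c07a30767079f0741070707a20718070807a207a5079e070607a5070a0716079e07a10707079d073f07050708076407a20708079d0703079a073d070307040763070f07a4070207a1073b070907a407990706070407a40798073a07a4070207a3070c0703070a06ff07a0079e070b070a07a0070006fc06fd0700079c06fd06fe070007a0079c070407a206fc079a0705070707a106fb07a0070b079907a0070906ff06fd07a00709070a07a106fb07a0070a06fc0708071906f9079d06fa079f079d0708070706f8079f0700071706f9079c079e06f7079e071506ff07150706)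
    (nat_lit 5600)))
    (nat_lit 5600)))
    (Nat.shiftLeft (Nat.add 
    (nat_lit 0x7760775077e077607b00777077207c9077107d007c9078d07d00773076f07c8076e077307d10770077307d0076c076d07d1076d076e07ad07c707cf07d10793076c07c6076f07ac07c607ce07d00792076b077207ce07920772076f076b076a07d0077407cf078a0771076e076907cf07c407cf076a07cd07c4076d07cf076807ce0769076b07cc07c3076c07cd076707c207cc0788076907c207a7076707cc079007670790076807cb07a607c9078d076507ca077207c907ca0766076107c307890761076207cb0768076307cb07c2078807cb07c20761076707a307c8078c075e076607c60764076607ca07c5076207ca075c07c307c50765075e075c075d076007c5075d075c0760075f07660773075a07c80773075b07c807c90765075907c907600771076507c5075a076407700758075b079d07c8075b0764075e075707c8075f07c70758075a07c5075607c7076d07c70757079b076d07c407c7076307c60756075e079a076c07c3075507c5076a075d07c407620759075707c40761076907c3075507c207690756074f075007c1075007510754079707c1074e074d0751075207c1075207530751074c07c1075407c1074d07c10795075007c1074b074f074c074e074c0794074f07bd07ac074807bd0749079307bd07c007bc07ab0747074a07c007ab074a074907bb074607c007b7074707bf07bb0748074507bf07a607be07a6074607ba079007be07b907be074507be074407b9078f074407b707440746074207be07b80743074a07a5074007bc074a07af07bc0741074907a2073e074107bd073f074107bc0748073d07bd07b6073e078b074807bb0747073b07bc073c07bb07aa0740073e073a07bb07a407b8073b07ba0746073d07ba074507a307b907a7073a0745078807b8074407b8073a073807b907440739073907b60739073d07370786074307b8073807b50738073607b807b507b30737)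
    (Nat.shiftLeft (Nat.add 
    (nat_lit 0x7c507e407cf07c707e607d707c307ce07ca07e507ce07c607c207e407cd07e407cb07c407cd07da07e407cb07e507c207e407c307cc07d907e307df07bf07e307df07c007e307d807c007db07bb07c007bc07e307c007bd07bf07ba07e307e207e007bb07bf07d607b907e207b907ba07e207b807be07d507e207be07e207bf07b907b707e207d407b707b807b707bb07b507e207b707b607b107b307b107b207b107b307b507b407ac07de07ad07de07ae07d107de07e107ab07dd07aa07af07e107bc07af07ae07a807a907e107a907aa07e007dc07ad07e107c007a807db07ab07df07db07ac07a707e007da07e007ba07a907da07cd07e007a607df07a707bf07a807d907cc07a307d907ba07a307da07a407a607cb07dd07bc07a107a507db07dd07a507a207a507af079e07dd07af07a507dd079f07a207ae079c079f07de079d079f07dd079a079b07de079b079c07c707ad07dc07de07bd079a07ac07a207c607ac07db07a1079907dd07a007dc07a1079e079c079807dc07a907dc079907da07a9079b07dc07a407db079807a107d907a8079a07da07a307a707d907a3079807a707c207940795079707950796079507c1079707d707ce079107d7079207d807d7079307d6079007d807d407cc079107d607bf078f07d4078f0790078f078e07d507be079307c6078b0793078c07bd079307d7079207ca078a078d07d707d0078d078c0791078907d707d3078a07d60791078b078807d607cb07d507cd0789079007ba07d5078f07d5078807d40787078f07b9078707d307870789078507d5078e078607d3078e07d30791078307d407d30784078407860784078b078007b6078407d3078307850783077f07d3078507d207800782077c0782077d0782077e078007d2077907d20779077a078107d20785077c0778077a077b07d2077b077a077f077d07d2078107d2077807d207790783078207760777)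
    (Nat.shiftLeft 
    (nat_lit 0x7e507e707e407e707e507e607e707e807df07e807e007e807e307e107e807e707db07e107dc07e107dd07e807e107de07e807e307d907df07e807db07df07e507d907da07e807da07d907dc07e007e407d807e507d607d807e707d707d807e307d407d507d407d607d507d307d407e207ce07e607cf07e607d007e707e607d107cc07cd07e707cd07d607cf07e407e007e707d807cc07e507d807ce07e507df07c607d107c707d107c807de07d107e607ca07d007c507c907e607ca07c907c807c307c407e607c4)
    (nat_lit 5600)))
    (nat_lit 5600)))
    (nat_lit 16800)))
    (nat_lit 33600)))
    (nat_lit 67200)))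
    (nat_lit 128800)))
    = ?xq4 → Nat) ?hq4; (case hq4 => (conv => lhs; whnf)); intro _; exact OfNat.ofNat ?xq4 : Nat)
  MK := (by
  refine (?fq5 : (Nat.add (Nat.add (Nat.add (Nat.add (Nat.add 
    (nat_lit 0x8800208202102000000000000000020200208081201000000000000000004400208120102000000000000000010040412004030000000000000000008810000a02030000000000000000020210000881030000000000000000004420001120030000000000000000010140002044040100000000002200200000800202040100000000008080200000800081040100000000001100400001000120080080000000004010200000802004080080000000008400080000200009080080000000003000080000200022100040000000004100080000200104080004000001200000040000200014020100000002100000100008000009020100000000c00000100008000022020100000001040000200010000104020080000048000000080008000014010200000000008402000000000409010200000000003002000000000422010200000000004104000000000904008200000001200002000000010014048000000000000000008800820202048000000000000000020200820081048000000000000000004401040120084000000000000000010040822004084000000000000000021000208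00908400000000000000000c00020802210200000000000000001040020810403000000000000000002100800040903000000000000000000c00800042203000000000000000001041000090404010000000000840010000040000904010000000000300010000040002204010000000000410020000080010408008000000000480008000020001402010000000120000010000800001401020000000000480200000000041404800000000000000002100041000904800000000000000000c000410022048000000000000000010400820104084000000000000000012000208014030000000000000000012008000414040100000000004800100000400014048000000000000000012000410014)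
    (Nat.shiftLeft 
    (nat_lit 0x2041100120100000000000000000404041202010200000000000000001000a0804040300000000000000000028200012100300000000000000000081800040420300000000000000000201200010410300000000000000000042400020a00480000000000000000101020800440401000000000080404000010000410401000000000010808000020000a0040100000000000a00400001000210080080000000002020200000804002080080000000008008200000801001080080000000001010400001002020080004000001000010200010080004080080000000004004800002000804100040000000002200080000200202100040000000008080080000200081200020000000001100080000200120100040000000004010100000402004080004000002100000040000200009080004000000c00000040000200022100002000001040000040000200104020100000000880000200010000202020100000002020000200010000081020100000000440000400020000120020080000040040000200100002004020080000084000000080008000009020080000030000000080008000022020040000208000000080010000104040004000048000000040000400014008080012000000000080000010014010200000000002204000000000a02010200000000008084000000000881010200000000001108000000001120010200000000004050000000002044008200000002100002000000010009008200000000c000020000000100220082000000010400040000000201040042000000480000020000000080140480000000000000000201010400410480000000000000000042020800a00480000000000000000028010402100840000000000000000080808240020840000000000000000200208210010840000000000000000040410420200840000000000000000100120808041020000000)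
    (nat_lit 5600)))
    (Nat.shiftLeft (Nat.add 
    (nat_lit 0x2000010000004400000400002001201000002000400400000400004020040201000000020100004000200000410201000000004200008000400000a002010000000028000040002000021002008000002008000020010000400202008000008002000020010000100102008000001004000040020000202004000400004000010020010008000400808001000004000400010200000402004000011000000008001000020202004000040400000008001000008102002000022000000008002000012002004000020020000010010000200404000400008400000004000040000904000400003000000004000040002204000200020800000004000080010400808002100000000008000001000900808000c000000000080000010022008040082000000000080000020104010004012000000000040000000414010200000000000a080000000012100102000000000020600000000040420102000000000080480000000010410102000000000010900000000020a00082000000010100100000000800440401000000000040408000020000440082000000008800040000000202020082000000020200040000000200810082000000004400080000000401200042000000400400400000000220040042000000840000020000000080090042000000300000020000000080220022000002080000040000000081040041000120000000001000000080140480000000000000000022041000900480000000000000000018020802080840000000000000000020810440101020000000000000000008410422000840000000000000000080141008020840000000000000000200110408010840000000000000000040220810202010000000000000000201002080414008000000000000000042002080a020100000000000000000280020821010200000000000000000808041400210200000000000000002)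
    (Nat.shiftLeft (Nat.add 
    (nat_lit 0x4004000001200000400220000011000000400000000820200220000040400000400000000808100120000022000000800000000812000220000020020004000000001200400410002100000000010000000800900410000c00000000010000000802200210008200000000020000000810404800000000000000000140410010808400000000000000000108208400810200000000000000000048104410008400000000000000000202410101010200000000000000000082208120080040000000000000000220020809040080000000000000001010020804440080000000000000000180020820820100000000000000002001041080120100000000000000000208041401040080000000000000000402041102020100000000000000000084082220010200000000000000000800c10040210200000000000000002000904040120100000000000000000400a0804200300000000000000000022800040900300000000000000000018400022080480000000000000000081041000420401000000000008810000040000900401000000000006008000020002080800800000000008204000010040101000400000000002104000010022000800040000008000202000101000020800040000020000082000100400010800040000004000104000200800200800800000000020050000040008020800800000000080044000010008010800800000000010088000020010200800040000010000048000400200042000200000000080400800002000414000100000000010800800002000a0200020000000000a00080000200210100040000000002020100000404002100040000000008008100000401001200020000000001010100000402020100002000001000010100008080004100040000000004002800002000404100002000000880000040000200202100002000002020000040000200081)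
    (Nat.shiftLeft 
    (nat_lit 0x80800041000000108000400000400020004040201000000002200010000800000900201000000001800008000400002080200800000800100004002000008010200800000080800004002000040100200800000100200008004000010200200400000102000004010000022000400040000200002002001001000020400040000800000802001000400010400040000100001004002000800200400040000400000408004000200040080800080000800040001040000020080800200000200040001010000010080800040000400080002020000200100040100000001040001400000040200200008040000000800200000410200100004200000000800400000a002002000014000000008002000021002004000010040000010010000400202004000040010000010010000100102002000020080000010020000202004000200020000080010010008000400804008000020000200010200000404000200011000000004000080020204000200040400000004000080008104000100022000000004000100012008000020020020000004000080200400804004400000000008000002020200804010100000000008000002008100802008800000000008000004012000404080200000000010000002200401000402100000000004000000040901000400c0000000000400000004220100020820000000000400000009040102000000000008a00000000040900102000000000006100000000022080082000000008100200000001000420401000000000020410000040000420201000000010100008000400000440082000000020100080000000400410082000000004200100000000800a00082000000002800080000000402100042000000200800400000000240020042000000800200400000000210010042000000100400800000000420200042000000400101000000000808040041000100)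
    (nat_lit 5600)))
    (nat_lit 5600)))
    (nat_lit 11200)))
    (Nat.shiftLeft (Nat.add (Nat.add 
    (nat_lit 0x208080200000000020000001200408400000000000000000104410200810200000000000000000042410110010200000000000000000028208408080040000000000000000810020804280040000000000000000140020810840080000000000000000108041400880040000000000000000202041101040080000000000000001001041080440080000000000000000082082120020100000000000000000048082410020100000000000000002000882040120100000000000000000200c100410400800000000000000004009040420201000000000000000000812080a000300000000000000000014800041080401000000000005010000040001080800800000000004208000020040081000400000000001204000010041000800040000002000204000201000101000020000000800104000200802000800800000000008090000040010101000400000000002088000020012000800040000008000050000800200020800040000020000044000200200010800040000004000088000400400208000080000000008800800002000904000100000000040400800002000444000100000000006000800002002082000200000000080041000004008012000200000000008201000004040104000100000000010081000004010202000200000000002102000008022001000020000008000201000081000021000020000020000081000080400012000010000004000101000080800201000400000000020030000040004021000400000000080024000010004012000200000000010028000020004201000020000010000028000400100042000010000020100000400002000414000008000004200000400002000a020000100000028000004000020021010000020002008000004000040400210000020008002000004000040100120000010001004000004000040202010000020004000010008)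
    (Nat.shiftLeft (Nat.add 
    (nat_lit 0x8000020002020000200100020800000008020001400000040400010008040000000400010000410400008004200000000400020000a00400010001400000000400010002100800002001004000000400008040020800002004001000000400008010010800001002008000000400010020200800002002000008000800100800040800000808002000000400020008040080202010000000000800000400410080101080000000000800000800a0008020050000000000080000040210004040404000000000100000024002004041001000000000100000021001004020808000000000100000042020004012002000000000100000080804004040800008000002000012000004010002044000000000040000000a02010002101000000000040000000881010001088000000000040000001120010000a02000000000040000002044010200000000000520000000004108020100000000810001000080000042008200000000220020000000100090008200000000180010000000080208004200000008080080000000044010002200000010200400000000042200004200000020010200000000100802004200000080010080000000040801004200000010020100000000081020020080000040010000800400000804004100008000080040000014000002004100020000020040000011000001004100004000040080000022000020004100010000010100000040800004001200000804000008000000008041000a000004200000100000000080a000120000014000000800000000821000220000010040004000000001400200220000040010004000000001100100120000020080008000000001202000220000020001080000000008040400210008000020004000000a000004002100044000000000200000008202002100101000000000200000008081001100088000000000400000008120)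
    (Nat.shiftLeft 
    (nat_lit 0x2000904000008000010100000400002000444000008000001800000400002002082000001000800100000400004008012000001000080800000400004040104000000800100200000400004010202000000200102000000400008022001000002000200002000800081000021000002000800000800800080400012000001000100001000800080800201000002000400000028004000080041000000088000800000400040004021000000208000200000400010004012000000044000400000400020004201000000108000001000800400100040201000000001400010000800001080200400004000100004010000004010200800000040800008004000040080200800000080200010008000010100200400000101000008020000012000200400000084000004010000041000400040000080002004002001000100400020000100008004010000802000400040000200000410008000200020400040000800000404002000200010400040000100000808004000400200080800200000100080002008000010080800020000800080002040000100080800040000200100004010000200080400040002000080010020002000100040080000002040001800000020100040200000000840001200000010100040040000001080002400000200100040100000000500004100000040200080004400000000800800000900200100008080000000800400000440200100001800000000800400002080200200008001000001002000008010200200001010000001002000040100200100004008000001004000010200200200000408000002010000022000400020001000010001001001000020400020004000004001001000400010400010002000020001002000800200400020002000000408020000100040080400400004000020001040000020080401000001000020001010000010080200800)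
    (nat_lit 5600)))
    (nat_lit 5600)))
    (Nat.shiftLeft (Nat.add 
    (nat_lit 0x21000800000108000000404000040011002010000000004000000080410009001080000000008000000080a000110005000000000040000000821000208040400000000020000001400200208100100000000020000001100100108080800000000040000001202000201400200000000020000008040400208080000800000400000a00000410200000000000000000024410208080040000000000000000104041200880040000000000000000801041080280040000000000000000042082110040080000000000000000028082408040080000000000000000100c100408800400000000000000002009040410400800000000000000010008820404201000000000000000000414100900400800000000000000000811040a002010000000000000000001820840400800040000001000208000401000081000020000000400204000201001001000002000000801004002000840000800800000000004110000040020081000400000000001090000040011001000400000000000a0800002004080080004000000200009000080040010100002000000080008800040040200800008000000002040080000200042800008000000000500080000200108400010000000000420100000404008800008000000000808100000401010400010000000004004100000400804400010000000000208200000801200200020000000000120200000804100200001000002000004100008020001200001000000200020100008100010400000800000400008100008040020200001000000080010200010080200200020000000008002200000800401200020000000000803000004000410400010000000001002400001000420200020000000000204800002000a0010000200000080000300008001000210000200000200000240002001000120000100000040000280004001002080000040000022000004)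
    (Nat.shiftLeft (Nat.add 
    (nat_lit 0x10000004000100080108000008040080000004000200102008000008080000080008004002000400800811000000000008000010009000801006000000000008000008020800402041000000000010000004401000202084000000000020000004220000400a0040000000001000001008020040220010000000001000000408010040110080000000001000000810200008820020000000008000000108040040404000100000020000140000020040410000040000020000110000010040208000200000020000220000200040120000080000020000408000040100010500000000000400000012100100006040000000000400000040420100012010000000000400000010410100009080000000000400000020a0008010202000000000080000080044040000800808000000040002000044008200000000140020000000100108004200000004080100000000084008002200000008400400000000044100004200000008020200000000101010002200000010100800000000081200020080000020010001000800000802004100002000080080000024000010002100004000200400000022000200004100008000010200000080800002004100020000010080000020800001004100004000020100000041000020008080010000010010000400800004000600000440000020000000008090000a00000808000010000000008044000a00000180000010000000008208001200000800100080000000010801001200000101000080000000014010000a0000040080010000000001102000120000004080040000000002220000220000010001100000000010040200220000040001040000000004040100120000020002200000000008042002004000020001000080200000040400210004000040004000000c00000200210010000010004000000900000100110008000080008000000a000020)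
    (Nat.shiftLeft 
    (nat_lit 0x1000084000040004000008000081000800040010040002000010000400802000040200008040100000010008001000400001008080001000080010000404000008008080002000020020000801000010008040002000400008001004000100008040004000100010002001000200004040004008000080001002004000010004002000000208000280000010010002004000000808001040000200010004008000000060000810000002010004020000000048000210000001010004004000000090000420000020020008000810000000080080000042020008000280000000080080000108020020000800020000201000000401020010000102000000100400004008020008000401000000100800001010020010000800200000100400000804020010000080800000202000001200020020000021000000201000004100040001000800000400100200020001040001000100004000100200100010040000800400002000100400040020040001000040002000201000080200040002000100000041004000010002040002000400000040401000010001040001000200000080808000010020008020200000100002000200800001008020040001000002000204000010008010100000800002000401000020008020010000800004001002000200010002040000001002000180000002010002100000000402000120000001010001080000002002000240000020010000a000000008020004100000040100020800000000500020080000040400004004400000000400040000900400008001800000000400020002080800001001010000000400010040101000000200408000000400010022000800002001000010000800101000020800002004000004000800100400010800001002000020000800200800200800002002000000048020000080040800000408004000000400040008020800001008)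
    (nat_lit 5600)))
    (nat_lit 5600)))
    (nat_lit 16800)))
    (nat_lit 28000)))
    (Nat.shiftLeft (Nat.add (Nat.add (Nat.add 
    (nat_lit 0x8000080000000001082000008011004000100000000000a0200000804080400000800000100020100008100008800000400000200008100008040010400000800001000004100008020004200001000000040020200010100100400000800000080008200010040200200000100000080100200100084000400010000000000403000004000408800008000000000802400001000410400010000000004002200000800404200020000000000105000004000900400010000000000204400001000a00200020000000000060800002004040200001000002000002200010010001200001000000200003000080010010400000800000400002400020010020200001000000080004800040020200800000400000810000040000200042800000400000140000040000200108400000080004080000040000404008800000040008020000040000401010400000080040010000040000400804400000010010100000040000801200200000020008400000040000804100200000100080000040080008020001200000100008000200080008100010400000080010000080080008040020200000020010000800080010080200100000200020000003000800008002100000200080000002400200008001200000100010000002800400008020200000020400010000040000800401200000002400080000040004000410400000004200020000040001000420200000004080200000040002000a00100000008800000200080080010002100000020800000080080020010001200000004400000100080040010020100000010800000010100400008004020080000004040001000800002008020040000008100001004000001100020020000040100000808000000a0002004000000440000080200000408004000400000400020080040010000804000200000800100040100010010008000020000040080040)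
    (Nat.shiftLeft 
    (nat_lit 0x21000400000000024100001200000800020400000000020401001200000100024000000000100410000a00000400042000000000040420001200000040102000000000080a0002004000010001000100400000040202002000020002000080800000042000110020000010008000000880000100110004000100008000000c00001000090010000080010000000900002000110001000080040000001200020000210004000001100000008040000200210010000001040000002040000100110008000002200000004040002000208080000001080000040020000400804008000001001000200040000400050011000000000100000000809000090020200000000080000000804400090006000000000080000000820800108200100000000040000001080100108041000000000040000001401000088100800000000080000001102000104084000000000040000002220000200c00400000000020000010040200202400100000000020000004040100101400800000000040000008042000084400200000000080000002040400208040001000000400000c00000200208100000400000400000900000100108080002000000800000a00002000201400000800000400004040000480040000000000000000024082208080040000000000000000100a080408800400000000000000008008820402400800000000000000000214100880800400000000000000000411040900400800000000000000000181044040201000000000000000000144102040100000200000040200400200102000100000000800080108000244000000100002000000020020800040100080100040000000000091000004002080080004000000100011000080080008100002000000040009000080040100100000200000080080800400044000800008000000000410100000402008800008000000002004100000400802)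
    (nat_lit 5600)))
    (Nat.shiftLeft (Nat.add 
    (nat_lit 0x40001080800000801020000000400020040081000000200210000000400010041000800001001000040000800201000101000000200400020000800200802000800002001000000050040000080020800002004000000044010000080010800001002000000088080000080200800000404010000000400040010101000000100808000000400020012000800000408000010000800800200020800001008000004000800200200010800000804000020000800400400200400008008000008001004000200040800000808000000102020000080040080080a000000000008000010010800401042000000000010000008400800202048000000000020000004410000400901000000000010000010101000201104000000000020000008120000048200400000000100000001080200402040004000000200002400001000202080010000000400002200020000400a000010000002000080800002004022000004000002000020800001004011000020000002000041000020008010200000200002000400800004000882000008000010000008800004010000510000000000040000004090010000860000000000040000002208008008204000000000080000100042040000400810000000040004000042004200000004040200000000102008002200000008101000000000101100002200000004400800000000084080004100001000080100000044000008002100002000400400000024000100002080004008000400000202004000004100002000020200000081000010002100004000100800000041000200008080008000010020000800800002000600000810000020000000008042000600000280000020000000008108000a00000102000100000000014008000600000401000200000000011010000a00000800200100000000010804000a000000808008000000000212000012000000)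
    (Nat.shiftLeft (Nat.add 
    (nat_lit 0x400040000040001010008000800080400020000080004010040000401000800002000004004008020000440000040410000000100800010002000010080800010000400200008020000080080400010004000100020040000800080400020001000200040010001000080200100001000100080008002000040400040040001000020010040000040020040080200000010401000000040400020100000800010040020000100040010000002100004800000080100020020000010080010800001000100002040000008800014000040000100040020000000a0000820000010010002004000000410002020000200020008000202000000100800002008020008000800400000100800000802020010000800040000202000000404020008000081000000204000001100020010000080200000408000000a00020010000022000000202000004080040000800100008000100400100008040000400400004000100800040010040001000020004000201000100100040000800080002000202000040200080000100001002000201000084000040001000800000080201000010001040001000100000081010000010010040000800400000100408000010020040001000040000400808000020200008020200000020004001000400001008010040002000002000404000008008008100001000002000801000010008020008001000004001004000100008010020000800004002001000200004020010020000040001002004000010001040000004002000280000010010001010000002004001040000200010000600000001002000810000002010001200000000402000210000001010000900000002002000420000020010002040000000060004008000002010002100000000048001008000001010001080000000090008008000020010000a0000000010400200800000404000040028000000004)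
    (Nat.shiftLeft 
    (nat_lit 0x80104000144000000800008000000000402800002000408800008000000002002200000800402400010000000000085000004000880800008000000000104400001000900400010000000000060400001004040200001000000010020800040100040200020000000000051000004002040400000800000100003000080010008800000400000200002400020010010400000800001000002200010010004200001000000040005000080020100400000800000080004400020020200200000100000080040800400024000800000040004040000040000402008800000040020010000040000400802800000008008100000040000801100400000010004400000040000804080400000080004000200080008100008800000040008000080080008040010400000080040000040080008020004200000020008001000080010100100400000010010000400080010040200200000020000400800100100084000200000100080000002200100008001200000100008000003000800008010400000080010000002400200008020200000020010000004802000008200400000001200080000040004000408800000002100020000040001000410400000010200010000040000800404200000002080400000040004000900400000004040100000040001000a0020000000400a000000040002004040200000020400000040080010010001200000002400000200080080010010400000004200000080080020010020200000004080000800080040020200100000008800000020100800008002100000020800000008100200008001200000004400000010100400008020020020000020100001010000000900020040000004200001004000002080020020000005000000808000004040040002000004001000802000100080080000200000201000401000102000080000000800400808001044000000)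
    (nat_lit 5600)))
    (nat_lit 5600)))
    (nat_lit 11200)))
    (Nat.shiftLeft (Nat.add (Nat.add 
    (nat_lit 0x110002000010800100200004000001020040000011002000000204000000104000010011000400000240000000804000100009001000000420000000204000200011000100001020000000408002000020804000000110000008002000020020810000000104000002002000010010808000000220000004002000200080400400000100200040004000020080200800000200100080004000200040408000000101000020002000040005002040000000010000000080420005000a000000000100000000810800088042000000000080000001400800048101000000000100000001101000084104000000000080000002120000104048000000000040000002410000100c010000000000400000100410001012040000000000400000080a0000044400400000000100000002040200104400100000000040000002040100082400800000000080000004042000108200000400000800000880000100108040004000000800000c00001000088100002000001000000900002000104080010000000800001200020000200c0000100000040000804000020020240000040000040000204000010010140000200000080000404000200020140000002000400004002000040008440000080000100000104000048004000000000000000002120808808004000000000000000001410420404008000000000000000001241010401000000008000402080002820000001000020000000200110000800800801000002000000400810008000420001000002000000202008004001010001000000008000800900004240000008000080000000000902000008020808000004000001000101000080800088000004000008000041000080200024000008000000200202000101000808000004000000400082000100401004000000800000800802001000440002000001000000402002001001020002000000004)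
    (Nat.shiftLeft (Nat.add 
    (nat_lit 0x1000000200400000088080000082000800000402020000000400040020081000000080810000000400040011001000000100220000000400020040800800000404000040000800800400101000000100800020000800400402000400004008000010001008000200020800000408000000202040000080020800001008000000082010000080010800000804000000104080000080200400008008000001002020000100040040088200000000001000001020080020090800000000002000001011000020105000000000002000000840800040104000800000020000440000080020204002000000040000240001000020200801000000400002020040000040090000400000020000810000100020110001000000040000410002000080082000004000020008008000020080102000000400040020004000040004820000100000200000088000020100004a0000000000040000004108002200000004201000000000102080002100001000400800000044000080002004004008100000000240100000002080002010000400000204002000004100001000040200000082000008002100002000101000000081000100002080004004000800000401004000000600000202000200000000012008000600000800400200000000010802000600000081001000000000021100000a00000022000800000000024080000a00000100048000000000100408000600000400084000000000040410000a00000800040800000000020404001200000020104000000000100900000a00000080202000000000040a0000120000000500200000000008404002002000010002000101000000041002001000040004000040800000042000090004000200010000000c00000800050010000100020000000900001000090020000020010000000880000400110000800100040000001400010000090002000080080000)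
    (Nat.shiftLeft 
    (nat_lit 0x802041100000000000000404000101000010000200400100000400200201002000000108008000001000200100000101000208000008001000020200000108000180000200000800020400022000000140010000004000000081000088000140400000001000400100000012000084000000801000200200000042000402000010001000020400000050000220000400002000800080008000020400000040202000800008040000041000000090002000800004200000020400000208002001000000a0000004080000040400400004002000080001008000800080400008000200080002020001000800400004000800040002040000401000800000800020020002020000440000800001000008040002010001020000800000004010020040010440000000400008001000001010200000100080400004004000002004100000100100400010000200004010100000201000400008000800008004080000202000800001000010004008080000240000040220000000200400010002000010080080800020000020008020000080080100080020000040020040000800080080200010000040040010001000080100200002000080080008002000040100200200000400020010040000040010100200100000010401000000040200080400000400010040020000100008400000080020004800000080100010080000040040010800001000100001100000020400014000040000100005000000040020008200000100100008200000020040020200002000100010400000000a0010008000010010001010000000410008010000200010000600000000204004008000002010001200000000084001008000001010000900000000108008008000020080000080100008000080040100008100000020020004000080020100100100000020001002000100200084000080000100100000009010000008010)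
    (nat_lit 5600)))
    (nat_lit 5600)))
    (Nat.shiftLeft (Nat.add 
    (nat_lit 0x4001008002000000004000800500004140000008000000080042000000400008020808000000400040001000800080800088000000400200000400800080200024000000100040010000800101000808000000080080004000800100401004000000100004004001001000440002000000200002010001001001020002000000000804008020001440000004000000800040000030008000080088000000400080000024002000080104000000800400000022001000080042000000200080000050040000081004000000100100000044010000082002000000200004000408020000140008000000011000400000400020004088000000081000100000400008004024000000010404000000400040008808000000020201000000400010009004000000040050000000400010040402000000040080080000800401000402000000020120000000400040020404000000012000002000800800100088000000021000000800800200100104000000102000000400800100100042000000020800010000800800201004000000040400004000800200202002000000040020008001004000240002000000204000000041001000080012000000024000000201008000080104000000042000000081002000080202000000040800000102020000082000200100000202000010200000008800200200000048000010100000020400400010000040040008080001000400800000008002010080010820000000400020000040008010040000800800800002000002004010040000420000800002000001010008020001010000800000008004004100020240000000080200010010000100080040000400080400010002000200040020000800080200080001000200100008001000040400020040002000040010020000040200100040001000080008040000040020040040400000020201000000000820040)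
    (Nat.shiftLeft (Nat.add 
    (nat_lit 0x801010000004000800800040002000404040000001020000400020000200402080000002010000800020002000048082000000000100000001200800044108000000000100000002110000084050000000000080000002408000080c02000000000080000010040800100a080000000000400000100900001010600000000000400000084040000424010000000001000000040410000822040000000000800000040a0000088040008000001000000c00000800048100004000002000000900001000104040020000000800001400010000084100010000001000001100020000104008010000008000010200400000100c00004000000800008040001000101200010000000800004080020000200c0000004000400008002000020020240000001000400002002000010010140000008000800004002000200040120000000400400020002000040004440000100000200000104000020010440000040000080000104000010008240000200000100000204000200008440000002001000001002000048004000000000000000001220810401000002000000201010008000810001000000008000400a000082200000010000000080002021000048100000080000040000002001020001008008080000004000004008020010004200040000008000002020020010010100040000000020008008400012400000020000000040004020400018200000080000800000000008480000200088080000800000000005040000100204040000080000001002040002010004040001000000000004900000400104020000100000001001100008008004080000040000010000280004001000880000040000080000220001001000240000080000002000500008002008080000040000004000440002002010020000010000004004100080002200040000008000008004040020002400020000010000001020080)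
    (Nat.shiftLeft 
    (nat_lit 0x80004000080080040100100000010002002000100400044000080000040400000020410000008010100000010080000010408000008200040000400800000200204000010002002008900000000000200000102080002010400400000004000044000080002001080100010000000240100000002020040200000040000204002000004008800080000002000082000008002009000200000004000081000100002010100100000040000401004000008008200000080004004000400002000044004008100091000000000000002004002010100000000280080000002100001000201000000082000080002080002004001000000801002000002004004004200000000420100000002080001010000800000404001000000600000042001000000000022080000600000200088000000000080408000600000800081000000000020402000a00000020208000000000100880000600000080404000000000040900000a0000000a00200000000004404000120000000480400000000010204000110000100100200000004400004002001000010004000102000000040802000800040008000041000000041000050008000200020000000a000008000500200000400200000008800002000900008002000800000014000080000500020001001000000011000100000880020020000800000101004000001004010020100000000140100000001080008040000400000104002000000900040000048000000080400008000500100000084000000020400010000900200000040800000010400004001100008000104000000080800100000900020000202000000020800200001080010004002000000400804000001082000000020400000100200001001080400000024000000800200010000881000000042000000200200020001040800000102000002000200200008020040000020020010000400010)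
    (nat_lit 5600)))
    (nat_lit 5600)))
    (nat_lit 16800)))
    (nat_lit 28000)))
    (nat_lit 61600)))
    (Nat.shiftLeft (Nat.add (Nat.add (Nat.add (Nat.add 
    (nat_lit 0x42000020000080002040001400000022001000000400000008100005000022040000000200080000404000008200000008800200080000120000004100000020400400008000080080004080001000400400004000400080002040000800800800000400020040002040000420000800000800008080002020001010000800000002020020040020240000000800000004008040040010820000000400004002000002008200000100080400008000200008010200000200800400004000800010004100000201000800001000008004010100000220000800000800020008004080000240000800001000001040008080001008000800000004010004100080140000000080100020020000080080040000400080080100020000040040020000800080080200004000080100008001000040080200400000400040010020000040100200080000800080008040000040008200200100000020201000000000810100200104110000000000000040100080800000400020040010000040010080400100000010800800000100008080000080040020800000800100001080000040400018000020000080001100008100000014001000000400000004400020400014040000000100004800000080020008400000080100004200000040040040200001000100000a00000020400022000040000100008400000001200200080000080100010080000004200100100001000100001100000005000081000040000100005000000002080100080000100100008200000008080080100002001000000200008040001002001020001000000000810020020002440000000800000801000000110200000080081000000200200000090100000081001000000200010000808080000140001000000100200080000800401000801000000080420000000400040020800800000402000080000800800800081000000080)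
    (Nat.shiftLeft 
    (nat_lit 0x40000001000040004040100001400020000002000001100080200010040020000000008040005000200c00000080000000102020000004000200088080000000200480000004000100204040000000400400400008002010004020000000400800001102000000804040000000101100000004000400104020000000201000800008008008004080000000110000010008004001000880000000810000004008001001000240000000104000100008008002008080000000202000040008002002010020000000200200100010080002200040000000400100040010020002400020000000400020800010040010080020000000001200080200041400000040000000120000002010080000800880000000210000000810020000801040000001020000000410010000800420000000208000002020400000810040000000404000000820100000820020000000400200010020200001400002001000000880000102000000104004000100000400200101000008004008000020000010080100400008100008000000080020042000402200000008000000080010101000208100000000802000100080002001000200004000801000800020002002000080008000402000800400020001000080200000202008000400080000800040400000400200200408000000402008000000400101000404000000801010000000008200400404080900000000000000404000100800020000400200100000402000104000010000800400080000400200101004000000208004000000008200201002042080000000000001000100100000401000808000004001000020100000110000280000100000800020200042000000180008000000010020400022050100000000000004000000080800108000180200000002000000081022000000148000000001000200100000082000404000008001000020200000060000)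
    (nat_lit 5600)))
    (Nat.shiftLeft (Nat.add 
    (nat_lit 0x100000008040800042208000000000100000004090000082060000000000080000004404000048080008000002000000a00000800084040040000001000001400008000044100020000002000001100010000084010010000010000010100400000100208010002000000014010000000104004020000008000010400200000080c00008000001000008040000800100a00020000000800008080010000101020010000008000040080400000100c00000100008000080020001000101200000080040000200020020000400a000000080040004000200002004011000000040080008000200020000424000040000020000020400010000822000100000010000020800200000444000000400200000100200002001044000000100080000100200001000824000000800100000200200020000882000000040800000100200004100000000800020120000841000000800000040000020100200100081000800000000100040084000122000000400000000200020204000181000000800000400000010010400020080040800008000000000048800002001040400000800000010009000080040040800000400000020004800040020080400000080000020041000800021000800000040000040040400200022000400000080000010200400200100800200000100000010101000800080800200000000400040060000812000000400000000200080048000214000000200000000400010210000480800000800000008004000800080010080080800000008000200400100100042000400000010000101000100100101000400000000040400402000124000000200000000080201002000182000000800000040004000002800400008008800000040020000002200100008002400000010004000005004000008080800000008008000004401000008100200000020000200041004000012000)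
    (Nat.shiftLeft (Nat.add 
    (nat_lit 0x80081000000080800000204100000081001000000100020001004080000140000000410801000100910000000000000020010402000100000002800800000020088004000000040000820000800020081002000000400008010020000020009001000100000004201000000020100404000000400004040010000000440020101000a0800000000000002004002004400000000820080000000044004004200109000000000000002080001008001000000802001000002004001010200000000480040000000600000040408000000000080880000600000012004000000000042040000a0000000880800000000010104000110000100080400000008200004002000800020008000082000000040800090000200200200000002400004000050001000200100000001200008000048002004000100000010100200000080402002020000000012010000000002401002010005100000000000000088000808000080000010400100000100400804010000000018008000000050008000008800000004040000800050020000008100000001040000200090000800020800000008080008000050002000040400000002080010000108000800400400000080080200000088002000800200000020080400000100401000480000000041010000000108000104000200000040400080000088040000004800000080020000800048100000008400000020020001000104040000010400000400020010000084100000020200000100020020000104008000400200000200040400000801004000004002002000040000800800810000008000801000040001000402040000002020001000020001000202080000010080000800020020000044090000000000100000002208000080a100000000000800000100880001008a000000000004000001020400010104008000000080000440000400004140200)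
    (Nat.shiftLeft 
    (nat_lit 0x400008000080020010200000400400400004000400010008200000200800800000800008008010200000210000800000400020010004100000220000800000800002080004080001008000800001000001020010100000808000800000004008004200100120000000800000002020008080080140000000800000004001040100080808000000080080040020000080100020000400080080100004000100200008000800040080200100000800100008020000020101000080004000080004040000040004200400100000040200800000040008200080200000080101000000000808200200108090000000000000040080100800000400040020010000040100020800000800080040008000040008080800100000020800400000000810080400104208000000000000100008020000080080080800000400100000880000080400028000010000080001080010100000018000800000001001100008105010000000000000400000004200040400018020000000200000004408100000014800000000100004100000080040040400000800100000600000040400042000020000080000a00008100000022001000000400000002800020400022040000000100008080000008200200100000800100001080000006000101000020000080001100001400000081001000000400000004400005000081040000000100004800000002100200080000080100004200000010080100100001000100000a000000088000810000400010000000008080400200028200000010000002000080008101000001200010000002000002400080800010040010000000008100009000800c00000010000001002000001102000000808010000000804000800008008008008010000000800200400010080004200010000001000080800010040010100010000000004200200200042400000008000004020000002082)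
    (nat_lit 5600)))
    (nat_lit 5600)))
    (nat_lit 11200)))
    (Nat.shiftLeft (Nat.add (Nat.add 
    (nat_lit 0x2000080008004002008040000000100100100010080002100080000000200080040010020002200020000000200040800010080008080040000000400010400010020010080020000000400020010102000001080020000000000a00100200081200000040000000001100040200021400000020000000001020800200048080000080000000110000001010040000800880000000810000000410010000800240000000104000002020400000808080000000202000000820100000810020000000200200020020400001200040000000400100008020100001400020000000400004800020200010040020000000001200010400200c000000080000000800100820004041000000008010002000800020020001000040004010008008000200020000801000002020040004001000010000402000004001008004080000010010080000002001080004200000008008100000000082002004081008800000000000000081010004042005000000000000004020001020000200010002000800002020001200000800008004000400004002001008080000004040040000004001001040040000008080020000000082001010040820400000000000010000101000004100008800000800008000201000440000002800040000000100202000420600800000000000040000000804001100002801000000020000000808420000001840000000000200000810220520000000000000010001001000002020010040000040010000201000000a00004400001000008000202000180000004200080000000100204000140881000000000000040000000808000600004202000000020000000810140000002280000000020008000011000000820000001040040000400010008000410000080040080000040001008000204000081000080000000102004004004022000000080000000200808004002081000000)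
    (Nat.shiftLeft (Nat.add 
    (nat_lit 0x2400004000044080040000002000001200008000044010020000020000010100200000080210010004000000012010000000002208010002005100000000000000084004040000010000010400100000100204020002000000018008000000080a000400000010000080800080001008200200000080000800802000001000a0010002000000041010000000101004080000008000040400080000080c00000200010000080020000800100a00000100040000400020010000101020002000040000200040400000400900000008008001000020001000201100000020040000800020020000041400008000002000004040000800042200020000002000002080010000082020010000010000020080400000042400000100020000020020001000082200000080080000100020020000048200000008100000010020000280000000010002010400014100000080000040000001000880004004004080000004000002004080040002100080000004000001010040020008080040000008000001008100080004080040000000020002006000081100000080000000010004004800021200000040000000020001020800028080000020000000040001012000084080000080000000800010080010010008100080000000002020040200012200000040000000004010100200018100000080000000800400000480200000808040000001000010004100400001100080000000800020004040100001200040000001000001100040100010040020000002000001080100400008040020000000008020006000400a00000040000000004040004800100c0000002000000000800110100020804000008000000020040020000800200800404000000040040000090100000080408000000010088000000400020010402000000020100000208200000080404000000010100040000800800400408000000010)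
    (Nat.shiftLeft 
    (nat_lit 0x10000001000080010102000001100010000000002200400200082200000010000000004080800200048100000010000000804000002082000000808010000000800200020041000001200010000001000004800040800010040010000000004200010800800c0000000000410402000100a0800000000000002000500200010000000820080000000040900100010109000000000000002008080400000040000802001000002000840400010000000480040000000044002004400208800000000000002004001008400000000840040000000044001010200120400000000000000600000011008000000000081040000500004002004000000022000040000404020040400000000120080000000014020020200049000000000000000480010080001000000102001000000804008080200000000180040000000024008040100060800000000000000900002000808000000081000040000500010000408000000040800080000880008008008000000800801000000480020010004000000200802000001004008005000000000810080000000804020008800000000210100000000024010004800105000000000000001080001020004000000802000800000880002080002000000204000800001004001040800000000480020000000480800000088000000400200008000840400000208000004000200080000441000000404000001000200100001040040004004000004000402000000840100008002000001000404000001002080004800000002008100000001040001200002000002004000400008008080000080010020000400008004010400000040200020000200008002020400000101000010000200100001008800800000008000082000040000412100000000001000000080880000420a0000000000100000004204000080920000000000080000010104000082040080000001000)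
    (nat_lit 5600)))
    (nat_lit 5600)))
    (Nat.shiftLeft (Nat.add 
    (nat_lit 0x100040008200000400400800000400010010008200000210000800000400004080004100000808000800000800002020010200000408000800000002008008200200110000000800000001020010080100120000000800000002002080080080808000000400000004040041000088008000000800000004001020200100408000000080080040010000100200010000400040080100100001000200008010000020081000100004000100004020000040004200100200000100100800000020009000081000000080081000000000804200400110088000000000000000808200080220050000000000000040080040800000800100020008000020100024000004000080040004000040004100800100000040400400000040008020800200000080800200000000808080800108204000000000000100000820000080800088000008000080000880020100000028000400000001001080010106008000000000000400000002200080400028010000000200000004210100000018400000000002000004408105200000000000000100004040000080080100400000400100000500000080400044000010000080000600010100000042000800000001000a0000810881000000000000040000000180004040004202000000020000000280810000002280000000010000802000002020020020000040010000088000000a000201000010000080001080001800000101000800000001001100001420410000000000000400000004200006000101020000000200000004401400000081800000000100004100000010100200100000800100000600000010800101000020000080000a00002200000081001000000400000002800008800081040000001000000200000220010100000804001000000000808000a001000a000000100000000080024010008080400000100000008001008000100800081000)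
    (Nat.shiftLeft (Nat.add 
    (nat_lit 0x280020000020000000008001082000404040000080000000200400000880800000804080000000100800200008004004004080000000100080080010040002100040000000100040400010080004080080000000200010200010020008080020000000200040020082000001080040000000400010008101000001080040000000000500100200081100000080000000000880040200021200000040000000001010400200028080000020000000000840800200084080000020000000001020012002000880000040000000101000002041000000804080000000102000001020200000808040000000100100020020400001100080000000200080008020100001200020000000200008800020400008040040000000400002400020100010040020000000400004080102000002040020000000000a00020400400a00000040000000001100008400100c00000020000000001004800400208040000000201004000800100002000040100000400080800808000002001004000000200104000440000001000808000000008100800408400480000000000000004108000420200300000000000000401000202000020002000100080000202000110000100001000200040000400100102008000001004002000000200100120020000000808001000000008200100808101040000000000000008100104004202020000000000001000002100000480000c000000400008000101001040000008800020000000100201000440a00400000000000000200000808420610000000000000010000101000002200010400000800008000201000280000004400040000000100202000181080800000000000040000000804000a000044010000000200000008081800000042400000000200000008044400000028200000000002000008101408a00000000000000800000001010080040040410000000400004000)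
    (Nat.shiftLeft 
    (nat_lit 0x840040008008000004000401000000440100010004000001000402000001002040005000000004008080000000802100008800000001008100000000022080004800803000000000000001040001100004000004002000400000840002400002000001004000400001002001200800000002080010000002010400000201000020000200080000411200000000001000000081040000420800800000020000022000040000402100200080000000120080000000012100100040049000000000000000440080400000200000102001000000802040400040000000180040000000022040200020060800000000000000809000800000010000081000040000808200400000100000800801000001000600200020000000810080000000020a0010002010500000000000000100808080000008000080200080000100084080002000000048002000000080a000002000800004000200080001008200040000400004000402000001000a000201000000020081000000010100088000004000020040004000040088000000801000200002000080020090000004004000100002001000004120004000000200000408000800004202002000002000002008020000008012001000400000002101000000008200408000001000002040008000004140000020002000004002000080004220000010010000010002001000008202000200008000010004040008000000400000100808004000408008000000001000200500004110000008000000001000101080002408000004000000002000100a000082080000080000000002010080200014100000080000000800010004080200001100080000000800001080040100008040040000001000001040100400004040040000000004010006000400900000080000000002020004800100a00000040000000004001100800108040000020000000000201110000)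
    (nat_lit 5600)))
    (nat_lit 5600)))
    (nat_lit 16800)))
    (nat_lit 28000)))
    (Nat.shiftLeft (Nat.add (Nat.add (Nat.add 
    (nat_lit 0x10110808000000000000400000001400080400044010000000200000001810100000042400000000200000002220100000028200000000002000002808108a0000000000000010000082000002200020200000800008000088000280000020100040000000100108000184040800000000000040000000220000a000201010000000200000004201800000101400000000200000004050400000088100000000002000004401420600000000000000100004040000040100200200000400100000500000011000201000010000080000600004200000101000800000001000a000022204100000000000004000000018000108001010200000002000000028022000000818000000010000000000202410000880020000010000000008002202001004040000010000000002100800200084100000010000000004080012002000900000010000000800100020082000001100010000000800008800041000008040010000001000004200102000004040010000000002200020801000a00000010000000004004800800808040000000004050020001020880000000000000200048040001000000084004000000004084040001012040000000000000004400100840021040000000000000000c02004040004880000000000000040401008040000000014004000000001400808020006040000000000000050000400100800000004100004000048001001000800000040080100000080400800a000000000810040000000404020011000000000210080000000024008005000204800000000000000014020008800085000000000000000880002020008000000801000800000480004080004000000202000800000804002080800000000280020000001004001021000000000840020000000024001040800120200000000000000820400000808000010000200040000440800000408000002000200080)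
    (Nat.shiftLeft 
    (nat_lit 0x100a00000020000000000808800400404040000040000000001002400400108040000020000000000044804000280020000020000000001004082002001040000000101004002000400002000040080000200084000840000002000804000000008080800808800440000000000000004104000440400280000000000000201000210000100002000100040000400080202008000002002002000000200100110040000001004001000000200010120800000000880000800000008100102008401020000000000000004100120020202010000000000000800002100120000000c000010000000100101001042200200000000000010000021000003000012000000400008000101000880000010400020000000100201000281100400000000000020000000804280000004420000000000200000808181090000000000000000200000804440a0800000000000008000004000040400082000004080008000000010100101002001100000008000000010040800801004080000004000000008400480000c00040000008000000020020202002002080000004000000040400220001040080000000200808001000080002000040100000400041001004000002001004000000200050001010000001000808000000008042001002400480000000000000004090000810200300000000000000400800404000010002000100080000200800440000040001000200040000400040408002000001004002000000200080240010000000808001000000008041008001101040000000000000008080208002202020000000000001000001200000840000c000000400008000082002020000008800020000000100088002010a004000000000000400000002080080800088008000000002000004210106100000000000000100000440000080800104000008000080000500020100000044000400000001000600)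
    (nat_lit 5600)))
    (Nat.shiftLeft (Nat.add 
    (nat_lit 0x402080400080000000140040000000012040400040060400000000000000800600400040000000810040000000020600200020204800000000000000808100800000100000801000800001000480800020000000840020000000020840800020120200000000000000809000002002000010000200040000808200080000800004000401000001000600040100000004008080000000020a00020100803000000000000001008010800000400004002000400001000808800100000002080010000002008800000400800020000200080000411000800000020000041000040000410200400000200000400801000000401200200080000000210080000000011200100040085000000000000000420080800000200000202000800000801040800040000000280020000000412000002001000002000200080000420200040001000001000402000000801200020200000001008100000000820008800000800001004000400800000000100010090000420800000800000008000010400802000040400800000000020100050002009000000800000000020010808001040400000400000000001011080001800200000400000000040010420004020400000200000000002010a000044002000008000000010002020001004000408008000000020001000808080000108008000000000048008020004110000008000000000081020020002408000004000000000044040020008208000004000000000101000a001000880000020000000000840021002000880000080000000100800001040800000804040000000100040020041000001080080000000100080010020200001100040000000100008400020400004040080000000200002200020100008040020000000200008100082000002040040000000400002040101000002040040000000000500020400400900000080000000000880008400)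
    (Nat.shiftLeft (Nat.add 
    (nat_lit 0x88000002020002000000010008800028804040000000000004000000020800220002020080000002000000022028000002012000000002000000040488000001041000000002000000008520000000c00800000000020000042018405000000000000000020000040504220400000000000001000004400000410002020000080000800005000044000002010004000000010006000042404080000000000004000000014000110002010100000002000000018042000001014000000002000000020a02000000881000000000020000028022206000000000000008000000000210480000c00020000010000000000202220001040020000010000000800008400082000004040010000000002100021002000900000010000000002008800801004040000010000000000104808000880020000010000000004004202002002040000000004048040001021040000000000000000c01008040005040000000000000040401001200000000041004000000001400800a00020440000000000000000c0200110000848000000000000004800040400080000004010008000004040040810000000002400200000008040020220000000008200200000000140020808000a020000000000000002400102100021020000000000000042080000100800000800020004000082004002000800001000040080000044008001000800000200040100000080204000a00000000400804000000040210001100000000100808000000002204000500100280000000000000001210000880040300000000000000084000210000800000400100040000044000440000400000100200040000100200110100000000404001000000080200240080000000108001000000100020122000000000280000800000002200120080082010000000000000101040000080400002000020004000000a100200080048800000000000)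
    (Nat.shiftLeft 
    (nat_lit 0x20400800000002000020400808000020400400000000004400208010008800000800000000004800104002009000000400000000004084004004020400000800000000008022004001040400000400000000000424040001800200000200000000000288040004400200000200000000008081010020010400000400000000010020420010010400000200000000000440a0002010020000000100084002100000002000802000000004084000840800240000000000000101000810000400002000080040000200080210040000002002001000000200010111000000001040000800000008080202008800820000000000000004100110040401010000000000000004010120800220008000000000000400002104800000000c000008000000100021001203000100000000000008000021000c0000001200001000000010010100088410020000000000000020000080428110800000000000008000000010040401002002080000004000000008400300001200040000000100808004000200002000040080000200048001020000002000804000000008041001004800440000000000000004050001010400280000000000000200800420000080002000100040000400040404004000002002002000000200040440010000001004001000000200008240400000000880000800000008040408002401020000000000000004080240010202010000000000000800001200210000000c00001000000010008200202220020000000000004000000004800840000c00040000001000000c000008400012000000400008000044002020000010400020000000100050002011100400000000000040000000110008080010400800000020000000142010000004420000000000200000181011090000000000000000200000222010a080000000000000100000120000030000210000004000080000820)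
    (nat_lit 5600)))
    (nat_lit 5600)))
    (nat_lit 11200)))
    (Nat.shiftLeft (Nat.add (Nat.add 
    (nat_lit 0xc00408100009020000000000000001400202200020820000000000000042008004000800000800040080000080104002200000001000802000000040208001200000000200804000000001204000a00100240000000000000000a100011000402800000000000000820008100008000010000800400000440004200008000002001000400000802002102000000004020010000000402004401000000001040010000000800202420000000001800008000001000201140000000004400008000000022001101001010100000000000000012002400800420100000000000000020201220000a0008000000000000000a080400080050400000000000000010600400040204400000000000000020480800020210200000000000000808100080002000010000400800000800600080200000004008040000000020600040101002800000000000000808020800000800004001000400001000410800100000004040010000001000088804000000002800008000000020808800100820100000000000001008800001002000020000200040000400a004000800000004100400000000092002000800848000000000000004101008000002000004010008000004010808000800000002400200000008005008000400000008200200000000110408000400a020000000000000041100000200400000800020004000041020008000100000200040100000040120004040000000100808000000001120002020040300000000000000042001080000100000100200040000080100880020000000108001000080000000000081088000140020000080000000002001041000202040000040000000000101060000420020000080000000000420200200042080000080000000000810009000800880000080000000100020010040800001080080000000100004200020200004040040000000100008100041)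
    (Nat.shiftLeft (Nat.add 
    (nat_lit 0x21008002200000000000001000808101000000020010010000002000082110000000020200008000000040802100408008100000000000000040101110004100080000000000000002101208880000040000000000000080021048003000080000000000004000021030000000012000008000000100021000c0480010000000000000100048004080000002000802000000004048001020800240000000000000100801020000200002000080040000200040420020000002002001000000200004440400000001040000800000008040404004800820000000000000004040440010401010000000000000004008240400220008000000000000400001208400000000c00000800000010001200210300010000000000000800000c002100000012000010000000100044002024100200000000000040000000030008400012000400000000200000142011108000000000000008000012000c00000021000010000000100082000888080200000000000040000000048003000021000400000020000000208880000020210000000020000000084c0000001200800000000020000022028804800000000000000020000008520300200000000000000020000040488410400000000000001000000c00000480002100000040000800004400104000002020002000000010005000044804040000000000004000000011000410002020080000002000000014044000002012000000002000000011202000001041000000002000000004a10000000c00800000000020000018042405000000000000000020000020a02220400000000000008000000000210300001200020000010000000000088808001040020000008000000000120840000c00020000010000000002008401002002040000010000000000104220002020020000000000c010012000104400000000000000404004042000000000420020000)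
    (Nat.shiftLeft 
    (nat_lit 0x200000208888084000000000000080000000000c0840001200020000008000000000120300002100020000010000000000088410002020020000000000c00404200010820000000000000040108004200000000800802000000001104002200400220000000000000000a08001200080240000000000000042001020000800000800080040000080100810200000001001001000000040200420200000000202001000000040020444000000000140000800000080020218000000000420000800000001200210200100810000000000000000a004401000410100000000000000010202420000600080000000000000020201140001100080000000000000001201220280000040000000000000800500080800000010008020000000010600080201002400000000000000808020400002000010000800400001000050804000000004400008000000020410800101010100000000000000020088804000a00080000000000000008a00400080104400000000000000400900800080000000420020000000800420800200000004020010000000009080800080090200000000000000010500800040208200000000000000410100080004000008000400800000400a000804000000020080400000000092000404004028000000000000004100208000010000020010004000004010108004000000010400100000008001088080000000018000080000000110088002004201000000000008000000000008105000022002000008000000010000408004080000204008000000000042001080080088000008000000000040420040020204000008000000000002220400014002000004000000000001840400042002000004000000000040810080100104000008000000000080204100080104000004000000000004206000101002000002000000000002811000201002000000000208400)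
    (nat_lit 5600)))
    (nat_lit 5600)))
    (Nat.shiftLeft (Nat.add 
    (nat_lit 0xa02420180000040000000000000001201140440000040000000000000010500080804002200000000000000020050804001100080000000000000001088804280000040000000000000800420400800000010010010000000010420800201008100000000000000008900800080108200000000000000400900081000000008008020000000008a00080400802400000000000000410020400004000008000800400000400820800400000002020010000000400110810000000001400008000000800060808000000004200008000000009010800400410100000000000000010108808000600080000000000800000000000142040002200200000800000000004040808008010400000800000000000220500008100200000400000000000181080010100200000001000088140000000020100008000000020808101008004100000000000000040082110008080080000000000000002101111040000040000000000000004021048c0000004000000000000008002103000480008000000000000002048004080800220000000000000100041020080000002001001000000200004420800000002020000800000004040420020800810000000000000004004440400410008000000000000000208240488000004000000000000008001208400300008000000000000400000c08400000001200000800000010000c002104800100000000000004000012030000000021000008000000100012000c08400100000000000020000000048c00000021008000000000200000084c0480200000000000000800000c00120000002100001000000010004400104808020000000000004000000003000480002100040000002000000011104000002021000000002000000003210000001200800000000020000014044804800000000000000020000011202410400000000000000020000004a10300200)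
    (Nat.shiftLeft (Nat.add 
    (nat_lit 0xa02000004000000000000000400c08520000004000000000000000401203210000004000000000000008000c048008400080000000000000200000031208402000000000000000400110280000000008100008000000009010202002004100000000000000008204280000880080000000000000010108180004040080000000000000000604440140000040000000000000000a021804200000400000000000000010508044400000400000000000000104204008040041000000000000000089000810020022000000000000004008204010000000080100100000004000a0810000000002200008000000800060420000000010100008000000008820800400808100000000000000008110810000500080000000000000010060808001080080000000000000000908808180000040000000000800000000000140880008100200000000020088140008040080000000000000002082112020000040000000000000004021031200000040000000000001000050220000000020100008000000020410200808004100000000000000040044208008080080000000000000002044405040000040000000000000004012084c0000004000000000000008000c08400480008000000000000008001203000840008000000000000400000c04800000002100000800000010000c001208400100000000000020000000031200000021008000000000200000032104802000000000000000200000111048084000000000000000200000048c08402000000000000080000000000c0480002100020000000000908004200200220000000000000040101020200000000801001000000040020428000000000220000800000080010818000000001010000800000001100810200400410000000000000000a004202000808100000000000000008204440000500080000000000000010202180001080080000000000)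
    (Nat.shiftLeft 
    (nat_lit 0x4a04408100000400000000000000005102808100000400000000000000080a04400020400800000000000000008604210100000400000000000000004a081022000004000000000000000105022201000004000000000000000400c04a1000000400000000000000081102800020400800000000000000006042802200000400000000000000009081810100000400000000000004000a04400000000081000080000000088204010020041000000000000000080a08100008800800000000000000100604200040400800000000000000005108101400000400000000000000008608084200000400000000000000010881420100000400000000000000200502200080400800000000000000020442)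
    (nat_lit 5600)))
    (nat_lit 5600)))
    (nat_lit 16800)))
    (nat_lit 28000)))
    (nat_lit 61600)))
    (nat_lit 123200)))
    = ?xq5 → Nat) ?hq5; (case hq5 => (conv => lhs; whnf)); intro _; exact OfNat.ofNat ?xq5 : Nat)

theorem chk : fc.chk = true := by decide +kernel

theorem chkR : fc.chkR = true := by decide +kernel

theorem lt' : (allLt fc.N fun k => allLt fc.b fun a => Nat.ble (Nat.succ (fc.fr k a)) fc.m) = true := by
  decide +kernel

theorem lt : ∀ k < fc.N, ∀ a < fc.b, fc.fr k a < fc.m := fun k hk a ha =>
  Nat.le_of_ble_eq_true (allLt_iff.1 (allLt_iff.1 lt' k hk) a ha)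

end Cfsg.Agent.H790.Frm.DataE8
end

-- part: H790/Frm/ChevRows
section
/-!
# `MeetIn 2` for the Chevalley groups `G₂, D₄, F₄, E₆, E₇, E₈` over fields of odd order (helper790)
-/

set_option autoImplicit false
set_option linter.unusedSectionVars false
set_option maxRecDepth 100000

namespace Cfsg.Agent.H790.Frm.Chev

open Cfsg.Lie Cfsg.Agent.ChevalleyStructure Cfsg.Agent.Nodes.RGDChev

/-- the check of `OKc.lt` -/
theorem ok_G2 : OKc chevG2 2 DataG2.fc where
  two := by decide +kernel
  hl := rfl
  odd := by decide +kernel
  pos := by decide +kernel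
  chk := DataG2.chk
  chkR := DataG2.chkR
  lt := DataG2.lt
  wlt := by decide +kernel
  refl := by decide +kernel
  nonneg := by decide +kernel
  ns := by decide +kernel
  comm := by decide +kernel

theorem ok_F4 : OKc chevF4 4 DataF4.fc where
  two := by decide +kernel
  hl := rfl
  odd := by decide +kernel
  pos := by decide +kernel
  chk := DataF4.chk
  chkR := DataF4.chkR
  lt := DataF4.lt
  wlt := by decide +kernel
  refl := by (refine of_decide_eq_true ?_; rewrite [H90F.rr_fun, H90F.ng_fun, H90F.bl_fun]; decide +kernel)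
  nonneg := by decide +kernel
  ns := by decide +kernel
  comm := by decide +kernel

theorem ok_E6 : OKc chevE6 6 DataE6.fc where
  two := by decide +kernel
  hl := rfl
  odd := by decide +kernel
  pos := by decide +kernel
  chk := DataE6.chk
  chkR := DataE6.chkR
  lt := DataE6.lt
  wlt := by decide +kernel
  refl := by (refine of_decide_eq_true ?_; rewrite [H90F.rr_fun, H90F.ng_fun, H90F.bl_fun]; decide +kernel)
  nonneg := by decide +kernel
  ns := by decide +kernel
  comm := by decide +kernel

theorem ok_E7 : OKc chevE7 7 DataE7.fc where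
  two := by decide +kernel
  hl := rfl
  odd := by decide +kernel
  pos := by decide +kernel
  chk := DataE7.chk
  chkR := DataE7.chkR
  lt := DataE7.lt
  wlt := by decide +kernel
  refl := by (refine of_decide_eq_true ?_; rewrite [H90F.rr_fun, H90F.ng_fun, H90F.bl_fun]; decide +kernel)
  nonneg := by decide +kernel
  ns := by decide +kernel
  comm := by (refine of_decide_eq_true ?_; delta Cfsg.Agent.H790.Frm.Chev.decNil._aux_1 Cfsg.Agent.H790.Frm.Chev.decNil Cfsg.Agent.H790.Frm.Chev.Nil; rewrite [H90F.ct_fun, H90F.ng_fun, H90F.bl_fun, H90F.ba_fun]; decide +kernel)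

/-! the check of `OKc.refl` for `E₈`, two simple reflections at a time (memory) -/

theorem refl_E8_0 : ∀ i < 2, ∀ r < DataE8.fc.m,
    chevE8.reflectRoot (i + 0) (r + DataE8.fc.m) = DataE8.fc.w (i + 0) r + DataE8.fc.m ∨
      chevE8.reflectRoot (i + 0) (r + DataE8.fc.m) =
        chevE8.neg (DataE8.fc.w (i + 0) r + DataE8.fc.m) := by
  (refine of_decide_eq_true ?_; rewrite [H90F.rr_fun, H90F.ng_fun, H90F.bl_fun]; decide +kernel)

theorem refl_E8_2 : ∀ i < 2, ∀ r < DataE8.fc.m,
    chevE8.reflectRoot (i + 2) (r + DataE8.fc.m) = DataE8.fc.w (i + 2) r + DataE8.fc.m ∨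
      chevE8.reflectRoot (i + 2) (r + DataE8.fc.m) =
        chevE8.neg (DataE8.fc.w (i + 2) r + DataE8.fc.m) := by
  (refine of_decide_eq_true ?_; rewrite [H90F.rr_fun, H90F.ng_fun, H90F.bl_fun]; decide +kernel)

theorem refl_E8_4 : ∀ i < 2, ∀ r < DataE8.fc.m,
    chevE8.reflectRoot (i + 4) (r + DataE8.fc.m) = DataE8.fc.w (i + 4) r + DataE8.fc.m ∨
      chevE8.reflectRoot (i + 4) (r + DataE8.fc.m) =
        chevE8.neg (DataE8.fc.w (i + 4) r + DataE8.fc.m) := by
  (refine of_decide_eq_true ?_; rewrite [H90F.rr_fun, H90F.ng_fun, H90F.bl_fun]; decide +kernel)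

theorem refl_E8_6 : ∀ i < 2, ∀ r < DataE8.fc.m,
    chevE8.reflectRoot (i + 6) (r + DataE8.fc.m) = DataE8.fc.w (i + 6) r + DataE8.fc.m ∨
      chevE8.reflectRoot (i + 6) (r + DataE8.fc.m) =
        chevE8.neg (DataE8.fc.w (i + 6) r + DataE8.fc.m) := by
  (refine of_decide_eq_true ?_; rewrite [H90F.rr_fun, H90F.ng_fun, H90F.bl_fun]; decide +kernel)

theorem ok_E8 : OKc chevE8 8 DataE8.fc where
  two := by decide +kernel
  hl := rfl
  odd := by decide +kernel
  pos := by decide +kernel
  chk := DataE8.chk
  chkR := DataE8.chkR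
  lt := DataE8.lt
  wlt := by decide +kernel
  refl := by
    intro i hi
    obtain h | ⟨j, hj, rfl⟩ | ⟨j, hj, rfl⟩ | ⟨j, hj, rfl⟩ :
        i < 2 ∨ (∃ j, j < 2 ∧ i = j + 2) ∨ (∃ j, j < 2 ∧ i = j + 4) ∨ ∃ j, j < 2 ∧ i = j + 6 := by
      rcases Nat.lt_or_ge i 2 with h | h
      · exact Or.inl h
      rcases Nat.lt_or_ge i 4 with h' | h'
      · exact Or.inr (Or.inl ⟨i - 2, by omega, by omega⟩)
      rcases Nat.lt_or_ge i 6 with h'' | h''
      · exact Or.inr (Or.inr (Or.inl ⟨i - 4, by omega, by omega⟩))
      · exact Or.inr (Or.inr (Or.inr ⟨i - 6, by omega, by omega⟩))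
    · exact refl_E8_0 i h
    · exact refl_E8_2 j hj
    · exact refl_E8_4 j hj
    · exact refl_E8_6 j hj
  nonneg := by decide +kernel
  ns := by decide +kernel
  comm := by (refine of_decide_eq_true ?_; delta Cfsg.Agent.H790.Frm.Chev.decNil._aux_1 Cfsg.Agent.H790.Frm.Chev.decNil Cfsg.Agent.H790.Frm.Chev.Nil; rewrite [H90F.ct_fun, H90F.ng_fun, H90F.bl_fun, H90F.ba_fun]; decide +kernel)

variable (K : Type) [Field K] [Fintype K] (hK : Odd (Fintype.card K))

include hK

theorem meet2_G2 : H68.MeetB.MeetIn 2 ↥(chevG2.group K) :=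
  meet2 (l := 2) (M := CoxeterMatrix.G₂) (by simp [IsType, typeList]) ok_G2 H172.SI.deg_G2 (by decide +kernel)
    (by decide) (S1092.result (⟨2, CoxeterMatrix.G₂⟩, 12) (by simp)) K hK

theorem meet2_F4 : H68.MeetB.MeetIn 2 ↥(chevF4.group K) :=
  meet2 (l := 4) (M := CoxeterMatrix.F₄) (by simp [IsType, typeList]) ok_F4 H172.SI.deg_F4 (by decide +kernel)
    (by decide) (S1092.result (⟨4, CoxeterMatrix.F₄⟩, 1152) (by simp)) K hK

theorem meet2_E6 : H68.MeetB.MeetIn 2 ↥(chevE6.group K) :=
  meet2 (l := 6) (M := CoxeterMatrix.E₆) (by simp [IsType, typeList]) ok_E6 H172.SI.deg_E6 (by decide +kernel)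
    (by decide) (S1093.result (⟨6, CoxeterMatrix.E₆⟩, 51840) (by simp)) K hK

theorem meet2_E7 : H68.MeetB.MeetIn 2 ↥(chevE7.group K) :=
  meet2 (l := 7) (M := CoxeterMatrix.E₇) (by simp [IsType, typeList]) ok_E7 H172.SI.deg_E7 (by decide +kernel)
    (by decide) (S1093.result (⟨7, CoxeterMatrix.E₇⟩, 2903040) (by simp)) K hK

theorem meet2_E8 : H68.MeetB.MeetIn 2 ↥(chevE8.group K) :=
  meet2 (l := 8) (M := CoxeterMatrix.E₈) (by simp [IsType, typeList]) ok_E8 H172.SI.deg_E8 (by decide +kernel)
    (by decide) (S1093.result (⟨8, CoxeterMatrix.E₈⟩, 696729600) (by simp)) K hK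

end Cfsg.Agent.H790.Frm.Chev
end
end

-- part: H866/MeetZ
section
set_option linter.all false
open scoped Cfsg.Agent.FastGrp

/-!
# S5760, `p = 2`: a 2-central involution inverting an element with centralizer of odd order (helper866)
-/

set_option autoImplicit false

namespace Cfsg.Agent.H866.MeetZ

open Subgroup Cfsg.Agent.H68.MeetB

variable {S : Type*} [Group S] [Finite S]

omit [Finite S] in
theorem eq_one_of_two {y : S} (C : Subgroup S) (hC : Odd (Nat.card ↥C)) (hy : y ∈ C) {k : ℕ} (hk : y ^ 2 ^ k = 1) :
    y = 1 := by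
  have h1 : orderOf y ∣ Nat.card ↥C := by
    rw [← Subgroup.orderOf_mk y hy]
    exact orderOf_dvd_natCard _
  have h2 : orderOf y ∣ 2 ^ k := orderOf_dvd_of_pow_eq_one hk
  have h3 : Nat.Coprime (Nat.card ↥C) (2 ^ k) := Nat.Coprime.pow_right k (Nat.coprime_two_right.2 hC)
  exact orderOf_eq_one_iff.1 (Nat.eq_one_of_dvd_coprimes h3 h1 h2)

/-- **the criterion (Z)** -/
theorem meet_of_inv {z x : S} (hi : Odd (centralizer ({z} : Set S)).index) (hz : z * z = 1)
    (hzx : z * x * z⁻¹ = x⁻¹) (hC : Odd (Nat.card ↥(centralizer ({z} : Set S) ⊓ centralizer ({x} : Set S) : Subgroup S)))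
    (hx : Odd (orderOf x)) : MeetIn 2 S := by
  have : Fact (Nat.Prime 2) := ⟨Nat.prime_two⟩
  obtain ⟨P⟩ : Nonempty (Sylow 2 ↥(centralizer ({z} : Set S))) := inferInstance
  have hz' : z⁻¹ = z := inv_eq_of_mul_eq_one_left hz
  obtain ⟨m, hm⟩ := hx
  have hxm : x ^ (2 * m + 1) = 1 := by rw [← hm, pow_orderOf_eq_one]
  refine MeetIn.of_one ((P : Subgroup ↥(centralizer ({z} : Set S))).map (centralizer ({z} : Set S)).subtype)
    (P.isPGroup'.map _) ?_ ⟨x ^ m, ?_⟩
  · rw [Subgroup.index_map_subtype]
    intro h
    rcases Nat.prime_two.dvd_mul.1 h with h1 | h1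
    · exact P.not_dvd_index h1
    · exact (Nat.not_even_iff_odd.2 hi) (even_iff_two_dvd.2 h1)
  · rintro _ ⟨y, hy, rfl⟩ ⟨w, hw, hwy⟩
    have hwy' : (w : S) = x ^ m * (y : S) * (x ^ m)⁻¹ := hwy
    have h1 : (y : S) * z = z * y := mem_centralizer_singleton_iff.1 y.2
    have h2 : (w : S) * z = z * w := mem_centralizer_singleton_iff.1 w.2
    -- `y` commutes with `x⁻ᵐ z xᵐ = z x`
    have h3 : (x ^ m)⁻¹ * z * x ^ m = z * x⁻¹ := by
      have h4 : z * x ^ m * z⁻¹ = (x ^ m)⁻¹ := by rw [← conj_pow, hzx, inv_pow]
      rw [← h4, hz']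
      have h5 : x ^ m * x ^ m = x⁻¹ := by
        rw [eq_inv_iff_mul_eq_one, ← pow_add, ← pow_succ, ← two_mul]
        exact hxm
      calc z * x ^ m * z * z * x ^ m = z * x ^ m * (z * z) * x ^ m := by group
        _ = z * (x ^ m * x ^ m) := by rw [hz]; group
        _ = z * x⁻¹ := by rw [h5]
    have h6 : (y : S) * (z * x⁻¹) = z * x⁻¹ * y := by
      rw [← h3]
      have e : (y : S) = (x ^ m)⁻¹ * w * x ^ m := by rw [hwy']; group
      rw [e]
      calc (x ^ m)⁻¹ * (w : S) * x ^ m * ((x ^ m)⁻¹ * z * x ^ m) = (x ^ m)⁻¹ * ((w : S) * z) * x ^ m := by group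
        _ = (x ^ m)⁻¹ * (z * w) * x ^ m := by rw [h2]
        _ = (x ^ m)⁻¹ * z * x ^ m * ((x ^ m)⁻¹ * (w : S) * x ^ m) := by group
    have h7 : (y : S) * x⁻¹ = x⁻¹ * y := by
      have h8 : z * ((y : S) * x⁻¹) = z * (x⁻¹ * y) := by
        calc z * ((y : S) * x⁻¹) = (z * y) * x⁻¹ := by group
          _ = (y * z) * x⁻¹ := by rw [h1]
          _ = y * (z * x⁻¹) := by group
          _ = z * x⁻¹ * y := h6
          _ = z * (x⁻¹ * y) := by group
      exact mul_left_cancel h8
    have h8 : (y : S) * x = x * y := (Commute.inv_right_iff.1 (show Commute (y : S) x⁻¹ from h7)).eq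
    obtain ⟨k, hk⟩ := P.isPGroup' ⟨y, hy⟩
    have hk' : (y : S) ^ 2 ^ k = 1 := by
      have h9 : y ^ 2 ^ k = 1 := congrArg Subtype.val hk
      exact congrArg Subtype.val h9
    exact eq_one_of_two _ hC (Subgroup.mem_inf.2 ⟨y.2, mem_centralizer_singleton_iff.2 h8⟩) hk'

/-- the version with `|C(x)|` odd -/
theorem meet_of_odd {z x : S} (hi : Odd (centralizer ({z} : Set S)).index) (hz : z * z = 1)
    (hzx : z * x * z⁻¹ = x⁻¹) (hC : Odd (Nat.card ↥(centralizer ({x} : Set S)))) : MeetIn 2 S := by
  refine meet_of_inv hi hz hzx (hC.of_dvd_nat (card_dvd_of_le inf_le_right)) ?_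
  rw [← Subgroup.orderOf_mk x (mem_centralizer_singleton_iff.2 rfl)]
  exact hC.of_dvd_nat (orderOf_dvd_natCard _)

/-- an inverting element gives an inverting involution -/
theorem exists_invol {x y : S} (hy : y * x * y⁻¹ = x⁻¹) (hC : Odd (Nat.card ↥(centralizer ({x} : Set S))))
    (hx1 : x ≠ 1) : ∃ t : S, orderOf t = 2 ∧ t * x * t⁻¹ = x⁻¹ := by
  have hxi : x ≠ x⁻¹ := by
    intro h
    have h1 : x ^ 2 ^ 1 = 1 := by
      rw [pow_one, pow_two]
      nth_rewrite 2 [h]
      exact mul_inv_cancel x
    exact hx1 (eq_one_of_two _ hC (mem_centralizer_singleton_iff.2 rfl) h1)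
  obtain ⟨t, ht1, ⟨k, hk⟩, ht⟩ := Cfsg.Agent.H101.RO.exists_two_element hy hxi
  refine ⟨t, orderOf_eq_prime ?_ ht1, ht⟩
  have h1 : t ^ 2 ∈ centralizer ({x} : Set S) := by
    rw [mem_centralizer_singleton_iff]
    apply mul_inv_eq_iff_eq_mul.1
    calc t ^ 2 * x * (t ^ 2)⁻¹ = t * (t * x * t⁻¹) * t⁻¹ := by rw [pow_two]; group
      _ = t * x⁻¹ * t⁻¹ := by rw [ht]
      _ = (t * x * t⁻¹)⁻¹ := by group
      _ = x := by rw [ht, inv_inv]
  refine eq_one_of_two _ hC h1 (k := k) ?_
  rw [← pow_mul, mul_comm, pow_mul, ← hk, pow_orderOf_eq_one, one_pow]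

end Cfsg.Agent.H866.MeetZ
end

-- part: H866/MeetFiTF
section
prune_inst 0x420306c646980020000000096a10020644f00019200630801d1200f46020fff6a4002af00ce803f12102a220400000020034400d0424000000e000400411d00a090aa50023200a10ca6009f80b005180c00000000000000000000000000041004000000000
set_option linter.all false
open scoped Cfsg.Agent.FastGrp

-- part: H866/MeetReal
section
/-!
# S5760, `p = 2`: a real element generating its centralizer (helper866)

If `t` inverts an element `x` of odd order with `|C(x)| = |x|`, then `|C(t)|² ≤ |S|`: so it is enough that every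
involution `t` is 2-central or has `|C(t)|² > |S|`.
-/

set_option autoImplicit false

namespace Cfsg.Agent.H866.MeetReal

open Subgroup Cfsg.Agent.H68.MeetB

variable {S : Type*} [Group S] [Finite S]

/-- `|x^S| |x| ≤ |t^S|²` -/
theorem index_le {t x : S} (ht : t * t = 1) (htx : t * x * t⁻¹ = x⁻¹) (hodd : Odd (orderOf x)) :
    (centralizer ({x} : Set S)).index * orderOf x ≤ (centralizer ({t} : Set S)).index ^ 2 := by
  obtain ⟨r, hr⟩ := hodd
  have hn : x ^ (2 * r + 1) = 1 := by rw [← hr, pow_orderOf_eq_one]
  have ht' : t⁻¹ = t := inv_eq_of_mul_eq_one_left ht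
  have hpow : ∀ k : ℕ, t * x ^ k * t = (x ^ k)⁻¹ := by
    intro k
    rw [← inv_pow, ← htx, conj_pow, ht']
  have h2m : ∀ i : ℕ, x ^ (i * (r + 1)) * x ^ (i * (r + 1)) = x ^ i := by
    intro i
    rw [← pow_add, show i * (r + 1) + i * (r + 1) = (2 * r + 1) * i + i by ring, pow_add, pow_mul, hn, one_pow,
      one_mul]
  let F : (S ⧸ centralizer ({x} : Set S)) × Fin (orderOf x) →
      (S ⧸ centralizer ({t} : Set S)) × (S ⧸ centralizer ({t} : Set S)) := fun p =>
    (QuotientGroup.mk (p.1.out * (x ^ ((p.2 : ℕ) * (r + 1)))⁻¹),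
      QuotientGroup.mk (p.1.out * (x ^ (((p.2 : ℕ) + 1) * (r + 1)))⁻¹))
  have hmk : ∀ u v : S, (QuotientGroup.mk u : S ⧸ centralizer ({t} : Set S)) = QuotientGroup.mk v →
      u * t * u⁻¹ = v * t * v⁻¹ := by
    intro u v h
    rw [QuotientGroup.eq, mem_centralizer_singleton_iff] at h
    calc u * t * u⁻¹ = u * (t * (u⁻¹ * v)) * v⁻¹ := by group
      _ = u * (u⁻¹ * v * t) * v⁻¹ := by rw [h]
      _ = v * t * v⁻¹ := by group
  have hF : Function.Injective F := by
    rintro ⟨q, i⟩ ⟨q', i'⟩ h
    have h1 := congrArg Prod.fst h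
    have h2 := congrArg Prod.snd h
    have e1 := hmk _ _ h1
    have e2 := hmk _ _ h2
    have key : ∀ (g : S) (a : ℕ), (g * (x ^ (a * (r + 1)))⁻¹) * t * (g * (x ^ (a * (r + 1)))⁻¹)⁻¹ =
        g * (t * x ^ a) * g⁻¹ := by
      intro g a
      have h3 : (x ^ (a * (r + 1)))⁻¹ * t = t * x ^ (a * (r + 1)) := by
        have h4 := hpow (a * (r + 1))
        calc (x ^ (a * (r + 1)))⁻¹ * t = t * x ^ (a * (r + 1)) * t * t := by rw [h4]
          _ = t * x ^ (a * (r + 1)) * (t * t) := by group
          _ = t * x ^ (a * (r + 1)) := by rw [ht, mul_one]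
      calc (g * (x ^ (a * (r + 1)))⁻¹) * t * (g * (x ^ (a * (r + 1)))⁻¹)⁻¹
          = g * ((x ^ (a * (r + 1)))⁻¹ * t) * x ^ (a * (r + 1)) * g⁻¹ := by group
        _ = g * (t * x ^ (a * (r + 1))) * x ^ (a * (r + 1)) * g⁻¹ := by rw [h3]
        _ = g * (t * (x ^ (a * (r + 1)) * x ^ (a * (r + 1)))) * g⁻¹ := by group
        _ = g * (t * x ^ a) * g⁻¹ := by rw [h2m]
    rw [key, key] at e1 e2
    -- the product
    have e3 : q.out * x * (q.out)⁻¹ = q'.out * x * (q'.out)⁻¹ := by
      have h5 : ∀ (g : S) (a : ℕ), (g * (t * x ^ a) * g⁻¹)⁻¹ * (g * (t * x ^ (a + 1)) * g⁻¹) = g * x * g⁻¹ := by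
        intro g a
        calc (g * (t * x ^ a) * g⁻¹)⁻¹ * (g * (t * x ^ (a + 1)) * g⁻¹) =
            g * ((x ^ a)⁻¹ * (t⁻¹ * t) * x ^ (a + 1)) * g⁻¹ := by group
          _ = g * x * g⁻¹ := by rw [inv_mul_cancel, mul_one, pow_succ]; group
      rw [← h5 q.out i, ← h5 q'.out i', e1, e2]
    have e4 : q = q' := by
      rw [← QuotientGroup.out_eq' q, ← QuotientGroup.out_eq' q', QuotientGroup.eq, mem_centralizer_singleton_iff]
      calc (q.out)⁻¹ * q'.out * x = (q.out)⁻¹ * (q'.out * x * (q'.out)⁻¹) * q'.out := by group
        _ = (q.out)⁻¹ * (q.out * x * (q.out)⁻¹) * q'.out := by rw [e3]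
        _ = x * ((q.out)⁻¹ * q'.out) := by group
    subst e4
    have e5 : x ^ (i : ℕ) = x ^ (i' : ℕ) := mul_left_cancel (mul_left_cancel (mul_right_cancel e1))
    have e6 : (i : ℕ) = i' := pow_injOn_Iio_orderOf i.2 i'.2 e5
    rw [Fin.ext e6]
  have h := Nat.card_le_card_of_injective F hF
  rw [Nat.card_prod, Nat.card_prod, Nat.card_fin] at h
  rw [pow_two]
  exact h

theorem sq_card_le {t x : S} (ht : t * t = 1) (htx : t * x * t⁻¹ = x⁻¹) (hodd : Odd (orderOf x))
    (hC : Nat.card (centralizer ({x} : Set S)) = orderOf x) :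
    Nat.card (centralizer ({t} : Set S)) ^ 2 ≤ Nat.card S := by
  have h1 := index_le ht htx hodd
  have h2 := (centralizer ({x} : Set S)).card_mul_index
  have h3 := (centralizer ({t} : Set S)).card_mul_index
  rw [hC] at h2
  rw [mul_comm, h2] at h1
  have h4 : 0 < Nat.card S := Nat.card_pos
  have h5 : Nat.card (centralizer ({t} : Set S)) ^ 2 * Nat.card S ≤ Nat.card S * Nat.card S := by
    calc Nat.card (centralizer ({t} : Set S)) ^ 2 * Nat.card S
        ≤ Nat.card (centralizer ({t} : Set S)) ^ 2 * (centralizer ({t} : Set S)).index ^ 2 :=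
          Nat.mul_le_mul_left _ h1
      _ = Nat.card S * Nat.card S := by rw [← mul_pow, h3, pow_two]
  exact Nat.le_of_mul_le_mul_right h5 h4

/-- **criterion**: a real element generating its centralizer -/
theorem meet_of_real {x : S} (hx1 : x ≠ 1) (hodd : Odd (orderOf x)) (hr : IsConj x x⁻¹)
    (hC : Nat.card (centralizer ({x} : Set S)) = orderOf x)
    (hcl : ∀ t : S, orderOf t = 2 → Odd (centralizer ({t} : Set S)).index ∨
      Nat.card S < Nat.card (centralizer ({t} : Set S)) ^ 2) : MeetIn 2 S := by
  obtain ⟨y, hy⟩ := isConj_iff.1 hr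
  have hCo : Odd (Nat.card (centralizer ({x} : Set S))) := by rw [hC]; exact hodd
  obtain ⟨t, ht, htx⟩ := MeetZ.exists_invol hy hCo hx1
  have htt : t * t = 1 := by rw [← pow_two, ← ht, pow_orderOf_eq_one]
  rcases hcl t ht with h | h
  · exact MeetZ.meet_of_odd h htt htx hCo
  · exact absurd (sq_card_le htt htx hodd hC) (not_le.2 h)

end Cfsg.Agent.H866.MeetReal
end

-- part: H866/Fi23Odd
section
/-!
# `Fi23`: every involution is 2-central (helper866)

From the fact sheet `OddHalf.D8.Fi23.Sheet`: the Sylow 2-subgroup `S` fixes a point, a pair and a triple of the 23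
transpositions of `A`.
-/

set_option autoImplicit false

namespace Cfsg.Agent.H866.Fi23Odd

open Subgroup Cfsg.Agent.OddHalf.D8.Fi23 MulAction
open scoped Pointwise

variable {K : Type*} [Group K] [Finite K] {A : Subgroup K} {S : Sylow 2 K} {a : Fin 23 → K}

omit [Finite K] in
theorem inj (H : Sheet K A S a) : Function.Injective a := by
  intro i j hij
  by_contra hne
  -- all `a k` are equal
  have hall : ∀ k, a k = a i := by
    intro k
    by_cases hk : k = i
    · rw [hk]
    obtain ⟨l, hl⟩ : ∃ l : Fin 23, l ∉ ({i, j, k} : Finset (Fin 23)) := by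
      by_contra hcon
      push Not at hcon
      have h1 : (Finset.univ : Finset (Fin 23)) ⊆ {i, j, k} := fun l _ => hcon l
      have h2 := Finset.card_le_card h1
      have h3 : ({i, j, k} : Finset (Fin 23)).card ≤ 3 := Finset.card_le_three
      rw [Finset.card_univ, Fintype.card_fin] at h2
      omega
    simp only [Finset.mem_insert, Finset.mem_singleton, not_or] at hl
    obtain ⟨n, -, h1, h2, -⟩ := H.three i j l i k l hne (Ne.symm hl.1) (Ne.symm hl.2.1) (Ne.symm hk)
      (Ne.symm hl.1) (Ne.symm hl.2.2)
    rw [← h2, ← hij, h1]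
  have hi2 : a i * a i = 1 := H.sq _ (H.mem i)
  have hsub : (A : Set K) ⊆ {1, a i} := by
    intro x hx
    rcases H.shape x hx with h | ⟨k, h⟩ | ⟨k, l, h⟩ | ⟨k, l, m, h⟩
    · exact Or.inl h
    · exact Or.inr (by rw [h, hall k]; rfl)
    · exact Or.inl (by rw [h, hall k, hall l, hi2])
    · exact Or.inr (by rw [h, hall k, hall l, hall m, hi2, one_mul]; rfl)
  have hfin : ({1, a i} : Set K).Finite := by simp
  have h1 := Set.ncard_le_ncard hsub hfin
  have h2 : ({1, a i} : Set K).ncard ≤ 2 := by
    refine (Set.ncard_insert_le _ _).trans ?_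
    rw [Set.ncard_singleton]
  have h3 : (A : Set K).ncard = 2 ^ 11 := H.cardA
  rw [h3] at h1
  omega

omit [Finite K] in
theorem le_normalizer (H : Sheet K A S a) : (S : Subgroup K) ≤ normalizer (A : Set K) := by
  intro s hs
  have h1 : A.map (MulAut.conj s).toMonoidHom = A := by
    refine H.uniq _ ?_ ?_ ?_
    · rintro _ ⟨x, hx, rfl⟩
      exact (S : Subgroup K).mul_mem ((S : Subgroup K).mul_mem hs (H.AS hx)) ((S : Subgroup K).inv_mem hs)
    · rintro _ ⟨x, hx, rfl⟩
      rw [← map_mul, H.sq x hx, map_one]
    · rw [Subgroup.card_map_of_injective (MulAut.conj s).injective, H.cardA]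
  rw [mem_normalizer_iff]
  intro x
  constructor
  · intro hx
    have h2 : (MulAut.conj s).toMonoidHom x ∈ A.map (MulAut.conj s).toMonoidHom := mem_map_of_mem _ hx
    rw [h1] at h2
    exact h2
  · intro hx
    rw [← h1] at hx
    obtain ⟨y, hy, hxy⟩ := hx
    have h3 : s * y * s⁻¹ = s * x * s⁻¹ := hxy
    have h4 := mul_left_cancel (mul_right_cancel h3)
    rw [← h4]; exact hy

omit [Finite K] in
theorem comm (H : Sheet K A S a) (i j : Fin 23) : a i * a j = a j * a i := by
  have hi := H.sq _ (H.mem i)
  have hj := H.sq _ (H.mem j)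
  have hij := H.sq _ (A.mul_mem (H.mem i) (H.mem j))
  have h1 : (a i * a j)⁻¹ = a i * a j := inv_eq_of_mul_eq_one_left hij
  rw [mul_inv_rev, inv_eq_of_mul_eq_one_left hi, inv_eq_of_mul_eq_one_left hj] at h1
  exact h1.symm

omit [Finite K] in
/-- the action of `S` on the 23 transpositions -/
theorem exists_action (H : Sheet K A S a) : ∃ _ : MulAction (S : Subgroup K) (Fin 23),
    ∀ (s : (S : Subgroup K)) (i : Fin 23), (s : K) * a i * (s : K)⁻¹ = a (s • i) := by
  have hp : ∀ (s : (S : Subgroup K)) (i : Fin 23), ∃ j, (s : K) * a i * (s : K)⁻¹ = a j := fun s i =>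
    H.perm s (le_normalizer H s.2) i
  choose f hf using hp
  have h1 : ∀ i, f 1 i = i := fun i => by
    apply inj H
    rw [← hf, Subgroup.coe_one, one_mul, inv_one, mul_one]
  have h2 : ∀ (s t : (S : Subgroup K)) (i : Fin 23), f (s * t) i = f s (f t i) := fun s t i => by
    apply inj H
    rw [← hf, ← hf, ← hf, Subgroup.coe_mul, mul_inv_rev]
    group
  exact ⟨{ smul := f, one_smul := h1, mul_smul := h2 }, fun s i => hf s i⟩

omit [Finite K] in
/-- `S` fixes a `k`-subset, `k = 1, 2, 3` -/
theorem exists_fixed (_ : Sheet K A S a) [MulAction (S : Subgroup K) (Fin 23)] {k : ℕ} (hk : ¬ 2 ∣ Nat.choose 23 k) :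
    ∃ T : Finset (Fin 23), T.card = k ∧ ∀ s : (S : Subgroup K), s • T = T := by
  classical
  have h1 : ¬ 2 ∣ Nat.card (Set.powersetCard (Fin 23) k) := by
    rw [Set.powersetCard.card, Nat.card_eq_fintype_card, Fintype.card_fin]
    exact hk
  have : Fact (Nat.Prime 2) := ⟨Nat.prime_two⟩
  obtain ⟨T, hT⟩ := S.isPGroup'.nonempty_fixed_point_of_prime_not_dvd_card _ h1
  refine ⟨T.1, T.2, fun s => ?_⟩
  have h2 := congrArg (fun T : Set.powersetCard (Fin 23) k => (T : Finset (Fin 23))) (hT s)
  exact h2

omit [Finite K] in
/-- the products of one, two, three transpositions are 2-central -/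
theorem exists_cent (H : Sheet K A S a) : (∃ i, (S : Subgroup K) ≤ centralizer ({a i} : Set K)) ∧
    (∃ i j, i ≠ j ∧ (S : Subgroup K) ≤ centralizer ({a i * a j} : Set K)) ∧
      ∃ i j k, i ≠ j ∧ i ≠ k ∧ j ≠ k ∧ (S : Subgroup K) ≤ centralizer ({a i * a j * a k} : Set K) := by
  classical
  obtain ⟨act, hact⟩ := exists_action H
  have hc := comm H
  refine ⟨?_, ?_, ?_⟩
  · obtain ⟨T, hT, hfix⟩ := exists_fixed H (k := 1) (by decide)
    obtain ⟨i, rfl⟩ := Finset.card_eq_one.1 hT
    refine ⟨i, fun s hs => ?_⟩
    have h1 := hfix ⟨s, hs⟩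
    rw [Finset.smul_finset_singleton, Finset.singleton_inj] at h1
    have h2 := hact ⟨s, hs⟩ i
    rw [h1] at h2
    rw [mem_centralizer_singleton_iff]
    exact mul_inv_eq_iff_eq_mul.1 h2
  · obtain ⟨T, hT, hfix⟩ := exists_fixed H (k := 2) (by decide)
    obtain ⟨i, j, hij, rfl⟩ := Finset.card_eq_two.1 hT
    refine ⟨i, j, hij, fun s hs => ?_⟩
    have h1 := hfix ⟨s, hs⟩
    have hi : (⟨s, hs⟩ : (S : Subgroup K)) • i ∈ ({i, j} : Finset (Fin 23)) := by
      rw [← h1]
      exact Finset.smul_mem_smul_finset (Finset.mem_insert_self _ _)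
    have hj : (⟨s, hs⟩ : (S : Subgroup K)) • j ∈ ({i, j} : Finset (Fin 23)) := by
      rw [← h1]
      exact Finset.smul_mem_smul_finset (Finset.mem_insert_of_mem (Finset.mem_singleton_self _))
    have hne : (⟨s, hs⟩ : (S : Subgroup K)) • i ≠ (⟨s, hs⟩ : (S : Subgroup K)) • j :=
      fun h => hij (MulAction.injective _ h)
    have e : s * (a i * a j) * s⁻¹ = (s * a i * s⁻¹) * (s * a j * s⁻¹) := by group
    rw [mem_centralizer_singleton_iff]
    refine mul_inv_eq_iff_eq_mul.1 ?_
    rw [e, hact ⟨s, hs⟩ i, hact ⟨s, hs⟩ j]
    rw [Finset.mem_insert, Finset.mem_singleton] at hi hj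
    rcases hi with hi | hi <;> rcases hj with hj | hj
    · exact absurd (hi.trans hj.symm) hne
    · rw [hi, hj]
    · rw [hi, hj, hc]
    · exact absurd (hi.trans hj.symm) hne
  · obtain ⟨T, hT, hfix⟩ := exists_fixed H (k := 3) (by decide)
    obtain ⟨i, j, k, hij, hik, hjk, rfl⟩ := Finset.card_eq_three.1 hT
    refine ⟨i, j, k, hij, hik, hjk, fun s hs => ?_⟩
    have h1 := hfix ⟨s, hs⟩
    have hi : (⟨s, hs⟩ : (S : Subgroup K)) • i ∈ ({i, j, k} : Finset (Fin 23)) := by
      rw [← h1]
      exact Finset.smul_mem_smul_finset (by simp)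
    have hj : (⟨s, hs⟩ : (S : Subgroup K)) • j ∈ ({i, j, k} : Finset (Fin 23)) := by
      rw [← h1]
      exact Finset.smul_mem_smul_finset (by simp)
    have hk : (⟨s, hs⟩ : (S : Subgroup K)) • k ∈ ({i, j, k} : Finset (Fin 23)) := by
      rw [← h1]
      exact Finset.smul_mem_smul_finset (by simp)
    have hne1 : (⟨s, hs⟩ : (S : Subgroup K)) • i ≠ (⟨s, hs⟩ : (S : Subgroup K)) • j :=
      fun h => hij (MulAction.injective _ h)
    have hne2 : (⟨s, hs⟩ : (S : Subgroup K)) • i ≠ (⟨s, hs⟩ : (S : Subgroup K)) • k :=
      fun h => hik (MulAction.injective _ h)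
    have hne3 : (⟨s, hs⟩ : (S : Subgroup K)) • j ≠ (⟨s, hs⟩ : (S : Subgroup K)) • k :=
      fun h => hjk (MulAction.injective _ h)
    have e : s * (a i * a j * a k) * s⁻¹ = (s * a i * s⁻¹) * (s * a j * s⁻¹) * (s * a k * s⁻¹) := by group
    have h132 : a i * a k * a j = a i * a j * a k := by rw [mul_assoc, hc k j, ← mul_assoc]
    have h213 : a j * a i * a k = a i * a j * a k := by rw [hc j i]
    have h231 : a j * a k * a i = a i * a j * a k := by rw [mul_assoc, hc k i, ← mul_assoc, h213]
    have h312 : a k * a i * a j = a i * a j * a k := by rw [hc k i, h132]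
    have h321 : a k * a j * a i = a i * a j * a k := by rw [hc k j, h231]
    rw [mem_centralizer_singleton_iff]
    refine mul_inv_eq_iff_eq_mul.1 ?_
    rw [e, hact ⟨s, hs⟩ i, hact ⟨s, hs⟩ j, hact ⟨s, hs⟩ k]
    rw [Finset.mem_insert, Finset.mem_insert, Finset.mem_singleton] at hi hj hk
    rcases hi with hi | hi | hi <;> rcases hj with hj | hj | hj <;> rcases hk with hk | hk | hk <;>
      [exact absurd (hi.trans hj.symm) hne1; exact absurd (hi.trans hj.symm) hne1; exact absurd (hi.trans hj.symm) hne1; exact absurd (hi.trans hk.symm) hne2;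
       exact absurd (hj.trans hk.symm) hne3; (rw [hi, hj, hk]; done); exact absurd (hi.trans hk.symm) hne2; (rw [hi, hj, hk]; (exact h132));
       exact absurd (hj.trans hk.symm) hne3; exact absurd (hj.trans hk.symm) hne3; exact absurd (hi.trans hk.symm) hne2; (rw [hi, hj, hk]; (exact h213));
       exact absurd (hi.trans hj.symm) hne1; exact absurd (hi.trans hj.symm) hne1; exact absurd (hi.trans hj.symm) hne1; (rw [hi, hj, hk]; (exact h231));
       exact absurd (hi.trans hk.symm) hne2; exact absurd (hj.trans hk.symm) hne3; exact absurd (hj.trans hk.symm) hne3; (rw [hi, hj, hk]; (exact h312));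
       exact absurd (hi.trans hk.symm) hne2; (rw [hi, hj, hk]; (exact h321)); exact absurd (hj.trans hk.symm) hne3; exact absurd (hi.trans hk.symm) hne2;
       exact absurd (hi.trans hj.symm) hne1; exact absurd (hi.trans hj.symm) hne1; exact absurd (hi.trans hj.symm) hne1]

theorem odd_index_of_le {x : K} (h : (S : Subgroup K) ≤ centralizer ({x} : Set K)) :
    Odd (centralizer ({x} : Set K)).index := by
  have : Fact (Nat.Prime 2) := ⟨Nat.prime_two⟩
  rw [← Nat.not_even_iff_odd, even_iff_two_dvd]
  intro h5
  exact S.not_dvd_index (h5.trans (index_dvd_of_le h))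

theorem index_conj {x y : K} (h : IsConj x y) :
    (centralizer ({x} : Set K)).index = (centralizer ({y} : Set K)).index := by
  have h1 := (centralizer ({x} : Set K)).card_mul_index
  have h2 := (centralizer ({y} : Set K)).card_mul_index
  obtain ⟨g, rfl⟩ := isConj_iff.1 h
  have h3 : Nat.card (centralizer ({g * x * g⁻¹} : Set K)) = Nat.card (centralizer ({x} : Set K)) := by
    have e : (centralizer ({x} : Set K)).map (MulAut.conj g).toMonoidHom = centralizer ({g * x * g⁻¹} : Set K) := by
      ext y
      rw [Subgroup.mem_map, mem_centralizer_singleton_iff]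
      constructor
      · rintro ⟨y, hy, rfl⟩
        have hy' : y * x = x * y := mem_centralizer_singleton_iff.1 hy
        change g * y * g⁻¹ * (g * x * g⁻¹) = g * x * g⁻¹ * (g * y * g⁻¹)
        calc g * y * g⁻¹ * (g * x * g⁻¹) = g * (y * x) * g⁻¹ := by group
          _ = g * (x * y) * g⁻¹ := by rw [hy']
          _ = g * x * g⁻¹ * (g * y * g⁻¹) := by group
      · intro hy
        refine ⟨g⁻¹ * y * g, ?_, ?_⟩
        · rw [mem_centralizer_singleton_iff]
          calc g⁻¹ * y * g * x = g⁻¹ * (y * (g * x * g⁻¹)) * g := by group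
            _ = g⁻¹ * (g * x * g⁻¹ * y) * g := by rw [hy]
            _ = x * (g⁻¹ * y * g) := by group
        · change g * (g⁻¹ * y * g) * g⁻¹ = y
          group
    rw [← e, Subgroup.card_map_of_injective (MulAut.conj g).injective]
  rw [h3] at h2
  have h4 : 0 < Nat.card (centralizer ({x} : Set K)) := Nat.card_pos
  exact Nat.eq_of_mul_eq_mul_left h4 (h1.trans h2.symm)

/-- **every involution is 2-central** -/
theorem odd_index (H : Sheet K A S a) {x : K} (hx : x * x = 1) (hx1 : x ≠ 1) :
    Odd (centralizer ({x} : Set K)).index := by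
  obtain ⟨⟨i, h1⟩, ⟨i2, j2, h2, h3⟩, i3, j3, k3, h4, h5, h6, h7⟩ := exists_cent H
  have h01 : (0 : Fin 23) ≠ 1 := by decide
  have h02 : (0 : Fin 23) ≠ 2 := by decide
  have h12 : (1 : Fin 23) ≠ 2 := by decide
  rcases H.inv x hx hx1 with h | h | h
  · have hc : IsConj (a 0) (a i) := by
      obtain ⟨j, hj⟩ : ∃ j : Fin 23, j ∉ ({i} : Finset (Fin 23)) := by
        by_contra hcon
        push Not at hcon
        have h1 : (Finset.univ : Finset (Fin 23)) ⊆ {i} := fun l _ => hcon l
        have h2 := Finset.card_le_card h1
        rw [Finset.card_univ, Fintype.card_fin, Finset.card_singleton] at h2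
        omega
      obtain ⟨k, hk⟩ : ∃ k : Fin 23, k ∉ ({i, j} : Finset (Fin 23)) := by
        by_contra hcon
        push Not at hcon
        have h1 : (Finset.univ : Finset (Fin 23)) ⊆ {i, j} := fun l _ => hcon l
        have h2 := Finset.card_le_card h1
        have h3 : ({i, j} : Finset (Fin 23)).card ≤ 2 := Finset.card_le_two
        rw [Finset.card_univ, Fintype.card_fin] at h2
        omega
      simp only [Finset.mem_insert, Finset.mem_singleton, not_or] at hj hk
      obtain ⟨n, -, hn, -⟩ := H.three 0 1 2 i j k h01 h02 h12 (Ne.symm hj) (Ne.symm hk.1) (Ne.symm hk.2)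
      exact isConj_iff.2 ⟨n, hn⟩
    rw [index_conj (h.trans hc)]
    exact odd_index_of_le h1
  · have hc : IsConj (a 0 * a 1) (a i2 * a j2) := by
      obtain ⟨k, hk⟩ : ∃ k : Fin 23, k ∉ ({i2, j2} : Finset (Fin 23)) := by
        by_contra hcon
        push Not at hcon
        have h1 : (Finset.univ : Finset (Fin 23)) ⊆ {i2, j2} := fun l _ => hcon l
        have h2 := Finset.card_le_card h1
        have h3 : ({i2, j2} : Finset (Fin 23)).card ≤ 2 := Finset.card_le_two
        rw [Finset.card_univ, Fintype.card_fin] at h2
        omega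
      simp only [Finset.mem_insert, Finset.mem_singleton, not_or] at hk
      obtain ⟨n, -, hn1, hn2, -⟩ := H.three 0 1 2 i2 j2 k h01 h02 h12 h2 (Ne.symm hk.1) (Ne.symm hk.2)
      refine isConj_iff.2 ⟨n, ?_⟩
      rw [← hn1, ← hn2]; group
    rw [index_conj (h.trans hc)]
    exact odd_index_of_le h3
  · have hc : IsConj (a 0 * a 1 * a 2) (a i3 * a j3 * a k3) := by
      obtain ⟨n, -, hn1, hn2, hn3⟩ := H.three 0 1 2 i3 j3 k3 h01 h02 h12 h4 h5 h6
      refine isConj_iff.2 ⟨n, ?_⟩
      rw [← hn1, ← hn2, ← hn3]; group
    rw [index_conj (h.trans hc)]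
    exact odd_index_of_le h7

end Cfsg.Agent.H866.Fi23Odd
end

-- part: H866/MeetFiTh
section
/-!
# S5760, `p = 2`: `Fi23` (helper866)

An element of order 17 is inverted by an involution and all involutions are 2-central.
-/

set_option autoImplicit false

namespace Cfsg.Agent.H866.MeetTwo

open Subgroup Cfsg Cfsg.Agent.H68.MeetB

theorem meet_of_realAt {S : Type*} [Group S] [Finite S] {r : ℕ}
    (h : H972.RO.RealAt S r) (hodd : ∀ y : S, orderOf y = 2 → Odd (centralizer ({y} : Set S)).index) : MeetIn 2 S := by
  obtain ⟨x, y, hx, hy, hxy, hC⟩ := h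
  refine MeetZ.meet_of_odd (hodd y hy) (by rw [← pow_two, ← hy, pow_orderOf_eq_one]) hxy ?_
  rw [← Nat.not_even_iff_odd, even_iff_two_dvd]
  intro h2
  have : Fact (Nat.Prime 2) := ⟨Nat.prime_two⟩
  obtain ⟨⟨t, ht⟩, hto⟩ := exists_prime_orderOf_dvd_card' 2 h2
  rw [Subgroup.orderOf_mk] at hto
  exact hC t hto (mem_centralizer_singleton_iff.1 ht)

theorem meet2_fi23 {G : Type*} [Group G] [Finite G] [IsSimpleGroup G] (h : Cfsg.Spor.IsoFi23 G) : MeetIn 2 G := by
  obtain ⟨e⟩ := h
  refine MeetIn.congr e.symm ?_
  have hfin : Finite Spor.Fi23 := Finite.of_equiv G e.toEquiv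
  have hR : H972.RO.RealAt Spor.Fi23 17 := by
    refine H972.RO.of_sub (r := 17) (by norm_num) (by norm_num) ?_ ?_ ?_
    · rw [← H839.Fi23.card_y17]
      exact Subgroup.card_subgroup_dvd_card _
    · intro P hP
      rw [(H839.Fi23.seventeen_main P hP).2, hP]; norm_num
    · intro P hP
      rw [(H839.Fi23.seventeen_main P hP).1]; norm_num
  obtain ⟨S, H⟩ := KFacts.FiTTh.Has.sheet
  refine meet_of_realAt hR fun y hy => ?_
  refine Fi23Odd.odd_index H ?_ ?_
  · rw [← pow_two, ← hy, pow_orderOf_eq_one]
  · rintro rfl
    rw [orderOf_one] at hy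
    omega

end Cfsg.Agent.H866.MeetTwo
end

-- part: H866/MeetHe
section
/-!
# S5760, `p = 2`: `He` (helper866)

An element of order 17 generates its centralizer and is inverted by an involution; involutions which are not
2-central have centralizers of order at least `80640`, and `80640 ^ 2 > |He|`.
-/

set_option autoImplicit false

namespace Cfsg.Agent.H866.MeetTwo

open Subgroup Cfsg Cfsg.Agent.H68.MeetB

/-- **criterion** with `RealAt` -/
theorem meet_of_realAt_sq {S : Type*} [Group S] [Finite S] {r : ℕ} (hr2 : r ≠ 2) (hr : r.Prime)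
    (h : H972.RO.RealAt S r) (hsc : ∀ x : S, orderOf x = r → Nat.card (centralizer ({x} : Set S)) = r)
    (hodd : ∀ y : S, orderOf y = 2 → Odd (centralizer ({y} : Set S)).index ∨
      Nat.card S < Nat.card (centralizer ({y} : Set S)) ^ 2) : MeetIn 2 S := by
  obtain ⟨x, y, hx, hy, hxy, -⟩ := h
  refine MeetReal.meet_of_real (x := x) ?_ (by rw [hx]; exact hr.odd_of_ne_two hr2) (isConj_iff.2 ⟨y, hxy⟩)
    (by rw [hx]; exact hsc x hx) hodd
  rintro rfl
  rw [orderOf_one] at hx
  exact hr.one_lt.ne hx

open Cfsg.Spor Cfsg.Spor.He Cfsg.Agent.KFacts.He.TwoAPlane Cfsg.Agent.KFacts.He.TwoACent in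
theorem card_L_le : 80640 ≤ Nat.card (centralizer ({(PresentedGroup.of Gen.a : He)} : Set He)) := by
  have := H729.PairHe.finite_he
  have h1 := KFacts.He.TwoA.two_a.1
  have h2 : Nat.card L = 80640 := by
    have h3 := Th.ker.card_mul_index
    rw [Subgroup.index_ker, MonoidHom.range_eq_top.2 Th_surjective, card_top] at h3
    have h4 : Nat.card ONType.Psl.PSL3 = 20160 := ONType.PslCard.card_PSL3
    have h5 : Nat.card Th.ker = 4 := by
      rw [ker_Th, ← card_V]
      exact Nat.card_congr (Subgroup.subgroupOfEquivOfLe KFacts.He.TwoACent.V_le_L).toEquiv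
    rw [h4, h5] at h3
    exact h3.symm
  rw [← h2]
  exact Nat.le_of_dvd Nat.card_pos (card_dvd_of_le h1)

theorem meet2_he {G : Type*} [Group G] [Finite G] [IsSimpleGroup G] (h : Cfsg.Spor.IsoHe G) : MeetIn 2 G := by
  obtain ⟨e⟩ := h
  refine MeetIn.congr e.symm ?_
  have hfin := H729.PairHe.finite_he
  have hs : IsSimpleGroup Spor.He := KFacts.He.Cent.simpleHe
  have hR : H972.RO.RealAt Spor.He 17 := by
    refine H972.RO.of_card_fermat (r := 17) (k := 4) (by norm_num) (by norm_num) (by norm_num) ?_ ?_ ?_
      (H729.PairHe.noTwo (by norm_num) (by norm_num) (by norm_num) (by norm_num)) <;>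
      rw [KFacts.He.Classes.card_he] <;> norm_num
  refine meet_of_realAt_sq (by norm_num) (by norm_num) hR (fun x hx => ?_) fun y hy => ?_
  · exact H547.SelfCent.HeRow.he ⟨MulEquiv.refl _⟩ KFacts.He.Classes.card_he hx
  · have hyy : y * y = 1 := by rw [← pow_two, ← hy, pow_orderOf_eq_one]
    have hy1 : y ≠ 1 := by
      rintro rfl
      rw [orderOf_one] at hy
      omega
    rcases KFacts.He.Classes.two_classes_a hyy hy1 with ⟨g, hg⟩ | ⟨g, hg⟩
    · left
      rw [← Fi23Odd.index_conj (isConj_iff.2 ⟨g, hg⟩)]
      have h1 := (centralizer ({KFacts.He.Bound.z} : Set Spor.He)).card_mul_index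
      rw [KFacts.He.Classes.card_centralizer, KFacts.He.Classes.card_he] at h1
      have h2 : (centralizer ({KFacts.He.Bound.z} : Set Spor.He)).index = 187425 := by omega
      rw [h2]
      exact ⟨93712, by norm_num⟩
    · right
      rw [← SigZeroHN.card_centralizer_conj (isConj_iff.2 ⟨g, hg⟩), KFacts.He.Classes.card_he]
      calc 4030387200 < 80640 ^ 2 := by norm_num
        _ ≤ _ := Nat.pow_le_pow_left card_L_le 2

end Cfsg.Agent.H866.MeetTwo
end

-- part: H866/MeetFiTF
section
/-!
# S5760, `p = 2`: `Fi24'` (helper866)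

An element of order 29 generates its centralizer and is inverted by an involution; involutions which are not
2-central have centralizers of order at least `2 |Fi22|`.
-/

set_option autoImplicit false

namespace Cfsg.Agent.H866.MeetTwo

open Subgroup Cfsg Cfsg.Agent.H68.MeetB

theorem card_cent_29 {x : Spor.Fi24'} (hx : orderOf x = 29) : Nat.card (centralizer ({x} : Set Spor.Fi24')) = 29 := by
  have : Finite Spor.Fi24 := Cfsg.Agent.R08.FiTwentyFour.finite_Fi24
  have hx' : orderOf (x : Spor.Fi24) = 29 := by rw [Subgroup.orderOf_coe, hx]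
  have h1 : Nat.card (centralizer ({(x : Spor.Fi24)} : Set Spor.Fi24)) = 29 := by
    rw [H547.SelfCent.card_cent_eq (r := 29) (by norm_num)
      (by rw [H843.Fi24N.card_Fi24]; norm_num) hx' H843.D29.order, ← H729.PairBase.centralizer_zpowers_eq,
      H843.D29.main.2]
  have h2 : Nat.card (centralizer ({x} : Set Spor.Fi24')) ≤ 29 := by
    rw [← h1]
    refine Nat.card_le_card_of_injective
      (fun c : centralizer ({x} : Set Spor.Fi24') =>
        (⟨((c : Spor.Fi24') : Spor.Fi24), mem_centralizer_singleton_iff.2 (congrArg Subtype.val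
          (mem_centralizer_singleton_iff.1 c.2))⟩ : centralizer ({(x : Spor.Fi24)} : Set Spor.Fi24))) ?_
    intro c d hcd
    have h3 : ((c : Spor.Fi24') : Spor.Fi24) = (d : Spor.Fi24') := by
      have h4 := congrArg Subtype.val hcd
      exact h4
    exact Subtype.ext (Subtype.ext h3)
  refine le_antisymm h2 ?_
  rw [← hx, ← Subgroup.orderOf_mk x (mem_centralizer_singleton_iff.2 rfl : x ∈ centralizer ({x} : Set Spor.Fi24'))]
  exact Nat.le_of_dvd Nat.card_pos (orderOf_dvd_natCard _)

theorem card_Fi24p : Nat.card Spor.Fi24' = 1255205709190661721292800 := Cfsg.Agent.R08.FiTwentyFour.card_commutator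

theorem meet2_fi24 {G : Type*} [Group G] [Finite G] [IsSimpleGroup G] (h : Cfsg.Spor.IsoFi24' G) : MeetIn 2 G := by
  obtain ⟨e⟩ := h
  refine MeetIn.congr e.symm ?_
  have hfin : Finite Spor.Fi24 := Cfsg.Agent.R08.FiTwentyFour.finite_Fi24
  have hR : H972.RO.RealAt Spor.Fi24' 29 := by
    refine H972.RO.of_index_two Cfsg.Agent.R08.FiTwentyFour.index_commutator (r := 29) (by norm_num) (by norm_num)
      H843.D29.order ?_ ?_
    · rw [← H729.PairBase.centralizer_zpowers_eq, H843.D29.main.2]; norm_num
    · rw [H843.D29.main.1]; norm_num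
  refine meet_of_realAt_sq (by norm_num) (by norm_num) hR (fun x hx => card_cent_29 hx) fun y hy => ?_
  rcases CTwoTab.FiTF.classes y hy with ⟨a, b, P, hab⟩ | ⟨g, hg⟩
  · right
    have h1 : Nat.card (CTwoTab.FiTF.N a b) ∣ Nat.card (centralizer ({y} : Set Spor.Fi24')) :=
      card_dvd_of_le (CTwoTab.FiTF.N_le hab)
    rw [(Nat.card_congr (CTwoTab.FiTF.eN a b).toEquiv).trans (OddHalf.D4.Spor.FiTF.card_Cab P)] at h1
    have h2 := Nat.le_of_dvd Nat.card_pos h1
    rw [card_Fi24p]
    calc 1255205709190661721292800 < (2 * 64561751654400) ^ 2 := by norm_num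
      _ ≤ _ := Nat.pow_le_pow_left h2 2
  · left
    rw [← Fi23Odd.index_conj (isConj_iff.2 ⟨g, hg.symm⟩)]
    have h1 := (centralizer ({CTwoTab.FiTF.z0} : Set Spor.Fi24')).card_mul_index
    rw [H701.card_z0, card_Fi24p] at h1
    have h2 : (centralizer ({CTwoTab.FiTF.z0} : Set Spor.Fi24')).index = 7819305288795 := by omega
    rw [h2]
    exact ⟨3909652644397, by norm_num⟩

end Cfsg.Agent.H866.MeetTwo
end
end
end
end
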