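/-
helper903: the "regular vector" statements used for the classical groups in cross characteristic (S5762).
They are proved in H903/SylReg*.lean; here only the statements, so that the rows can be written in parallel.
`p` is a prime `≥ 5`, not the characteristic of the finite field `F`, and `R` is a `p`-group of linear maps.
-/
import Mathlib
import Cfsg.Agent.H903.SylSemi
set_option linter.all false

set_option autoImplicit false

namespace Cfsg.Agent.H903.SylReg

section

variable (p : ℕ) (F : Type*) [Field F] (E : Type*) [AddCommGroup E] [Module F E]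

/-- The commutator space `[E, z] = (z - 1) E`. -/
def com {F : Type*} [Field F] {E : Type*} [AddCommGroup E] [Module F E] (z : E ≃ₗ[F] E) :
    Submodule F E :=
  LinearMap.range ((z : E →ₗ[F] E) - LinearMap.id)

/-- `v` is not in `[E, z]` for any `1 ≠ z ∈ R` with `dim [E, z] ≤ 2`. -/
def Avoid {F : Type*} [Field F] {E : Type*} [AddCommGroup E] [Module F E]
    (R : Subgroup (E ≃ₗ[F] E)) (v : E) : Prop :=
  ∀ z ∈ R, z ≠ 1 → v ∈ com z → 3 ≤ Module.finrank F (com z)

/-- The dual version for a linear form: `φ = ψ ∘ (z - 1)` for some `ψ` forces `dim [E, z] ≥ 3`. -/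
def AvoidDual {F : Type*} [Field F] {E : Type*} [AddCommGroup E] [Module F E]
    (R : Subgroup (E ≃ₗ[F] E)) (φ : Module.Dual F E) : Prop :=
  ∀ z ∈ R, z ≠ 1 → (∃ ψ : Module.Dual F E, ∀ x, φ x = ψ (z x - x)) → 3 ≤ Module.finrank F (com z)

/-- Symplectic: every `p`-group of isometries of a non-degenerate alternating form on a space of dimension `≥ 3` has a
regular vector avoiding small commutator spaces. -/
def RegSp : Prop :=
  ∀ (B : E →ₗ[F] E →ₗ[F] F), (∀ x, B x x = 0) → (∀ x, (∀ y, B x y = 0) → x = 0) →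
  ∀ R : Subgroup (E ≃ₗ[F] E), IsPGroup p R → (∀ h ∈ R, ∀ x y, B (h x) (h y) = B x y) →
  ∃ v : E, v ≠ 0 ∧ (∀ h ∈ R, h v = v → h = 1) ∧ Avoid R v

/-- Orthogonal: the same for a quadratic form with non-degenerate polar form, with `Q v ≠ 0`; in odd
dimension and characteristic two the polar form is degenerate, this case is excluded. -/
def RegO : Prop :=
  ∀ (Q : QuadraticForm F E), (∀ x, (∀ y, QuadraticMap.polar Q x y = 0) → x = 0) →
  ∀ R : Subgroup (E ≃ₗ[F] E), IsPGroup p R → (∀ h ∈ R, ∀ x, Q (h x) = Q x) →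
  ∃ v : E, Q v ≠ 0 ∧ (∀ h ∈ R, h v = v → h = 1) ∧ Avoid R v

/-- Unitary: `σ` an automorphism of order two of `F`, `h` a non-degenerate hermitian form, linear in the first
variable; if there are scalars of order `p` of norm one they are in `R`. The vector is isotropic. -/
def RegU : Prop :=
  ∀ (σ : F ≃+* F), (∀ a, σ (σ a) = a) → (∃ a, σ a ≠ a) →
  ∀ h : E → E → F, (∀ x y z, h (x + y) z = h x z + h y z) → (∀ a x y, h (a • x) y = a * h x y) →
    (∀ x y, h y x = σ (h x y)) → (∀ x, (∀ y, h x y = 0) → x = 0) →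
  ∀ R : Subgroup (E ≃ₗ[F] E), IsPGroup p R → (∀ r ∈ R, ∀ x y, h (r x) (r y) = h x y) →
    (∀ a : Fˣ, (a : F) * σ a = 1 → (∃ k : ℕ, a ^ p ^ k = 1) → LinearEquiv.smulOfUnit a ∈ R) →
  ∃ v : E, v ≠ 0 ∧ h v v = 0 ∧ (∀ r ∈ R, r v = v → r = 1) ∧ Avoid R v

/-- Linear: a vector and a linear form with `φ v = 0`; the scalars of `p`-power order are in `R`. -/
def RegSL : Prop :=
  ∀ R : Subgroup (E ≃ₗ[F] E), IsPGroup p R →
    (∀ a : Fˣ, (∃ k : ℕ, a ^ p ^ k = 1) → LinearEquiv.smulOfUnit a ∈ R) →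
  ∃ (v : E) (φ : Module.Dual F E), v ≠ 0 ∧ φ ≠ 0 ∧ φ v = 0 ∧
    (∀ r ∈ R, r v = v → (∀ x, φ (r x) = φ x) → r = 1) ∧ Avoid R v ∧ AvoidDual R φ

end

end Cfsg.Agent.H903.SylReg
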