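/-
helper903: regular vectors, symplectic and orthogonal cases (S5762).
-/
import Mathlib
import Cfsg.Agent.S0126
import Cfsg.Agent.H351.HalfTransConf
import Cfsg.Agent.H903.SylRegStmt
set_option linter.all false

-- part: H903/SylReg
section
set_option autoImplicit false

namespace Cfsg.Agent.H903.SylReg

open Finset

variable {F : Type*} [Field F] {E : Type*} [AddCommGroup E] [Module F E]

/-! ### Averages -/

/-- `∑_{k<n} c^k`. -/
def av (c : E ≃ₗ[F] E) (n : ℕ) : E →ₗ[F] E := ∑ k ∈ range n, ((c ^ k : E ≃ₗ[F] E) : E →ₗ[F] E)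

theorem av_apply (c : E ≃ₗ[F] E) (n : ℕ) (x : E) : av c n x = ∑ k ∈ range n, (c ^ k) x := by
  simp [av, LinearMap.sum_apply]

theorem av_fix (c : E ≃ₗ[F] E) (n : ℕ) (x : E) (h : (c ^ n) x = x) : c (av c n x) = av c n x := by
  rw [av_apply, map_sum]
  have h1 : ∀ k, c ((c ^ k) x) = (c ^ (k + 1)) x := fun k => by
    rw [pow_succ', LinearEquiv.mul_apply]
  simp only [h1]
  have h2 := Finset.sum_range_succ (fun k => (c ^ k) x) n
  have h3 := Finset.sum_range_succ' (fun k => (c ^ k) x) n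
  rw [h2] at h3
  rw [h, pow_zero, LinearEquiv.coe_one, id] at h3
  exact (add_right_cancel h3).symm

theorem pow_fix (c : E ≃ₗ[F] E) (x : E) (h : c x = x) (k : ℕ) : (c ^ k) x = x := by
  induction k with
  | zero => simp
  | succ k ih => rw [pow_succ, LinearEquiv.mul_apply, h, ih]

theorem av_of_fix (c : E ≃ₗ[F] E) (n : ℕ) (x : E) (h : c x = x) : av c n x = (n : F) • x := by
  rw [av_apply, Finset.sum_congr rfl fun k _ => pow_fix c x h k]
  simp [Nat.cast_smul_eq_nsmul]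

/-! ### Decompositions -/

/-- `W` is the direct sum of the `Wi i`, with component maps `cp i`. -/
structure Dec {I : Type*} [Fintype I] (W : Submodule F E) (Wi : I → Submodule F E)
    (cp : I → E →ₗ[F] E) : Prop where
  le : ∀ i, Wi i ≤ W
  mem : ∀ i, ∀ w ∈ W, cp i w ∈ Wi i
  sum : ∀ w ∈ W, ∑ i, cp i w = w
  self : ∀ i, ∀ w ∈ Wi i, cp i w = w
  other : ∀ i j, i ≠ j → ∀ w ∈ Wi i, cp j w = 0

namespace Dec

variable {I : Type*} [Fintype I] {W : Submodule F E} {Wi : I → Submodule F E}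
  {cp : I → E →ₗ[F] E} (D : Dec W Wi cp)

include D

theorem cp_sum {x : I → E} (hx : ∀ i, x i ∈ Wi i) (j : I) : cp j (∑ i, x i) = x j := by
  classical
  rw [map_sum, Finset.sum_eq_single j]
  · exact D.self j _ (hx j)
  · intro i _ hij
    exact D.other i j hij _ (hx i)
  · intro h; exact absurd (Finset.mem_univ j) h

theorem sum_mem {x : I → E} (hx : ∀ i, x i ∈ Wi i) : ∑ i, x i ∈ W :=
  W.sum_mem fun i _ => D.le i (hx i)

theorem ext {x y : E} (hx : x ∈ W) (hy : y ∈ W) (h : ∀ i, cp i x = cp i y) : x = y := by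
  rw [← D.sum x hx, ← D.sum y hy]
  exact Finset.sum_congr rfl fun i _ => h i

/-- Equivariance: if `h` maps each `Wi i` into `Wi (σ i)` (σ a permutation), then components move accordingly. -/
theorem cp_equiv {h : E →ₗ[F] E} {σ : I → I} (hσ : Function.Injective σ)
    (hh : ∀ i, ∀ w ∈ Wi i, h w ∈ Wi (σ i)) {w : E} (hw : w ∈ W) (i : I) :
    cp (σ i) (h w) = h (cp i w) := by
  classical
  conv_lhs => rw [← D.sum w hw]
  rw [map_sum, map_sum, Finset.sum_eq_single i]
  · exact D.self _ _ (hh i _ (D.mem i w hw))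
  · intro j _ hji
    exact D.other _ _ (fun e => hji (hσ e)) _ (hh j _ (D.mem j w hw))
  · intro h; exact absurd (Finset.mem_univ i) h

end Dec

/-! ### Good vectors -/

/-- The image of `J W` under `z - 1`. -/
abbrev cm (J : E →ₗ[F] E) (W : Submodule F E) (z : E ≃ₗ[F] E) : Submodule F E :=
  (W.map J).map ((z : E →ₗ[F] E) - LinearMap.id)

theorem mem_cm {J : E →ₗ[F] E} {W : Submodule F E} {z : E ≃ₗ[F] E} {x : E} :
    x ∈ cm J W z ↔ ∃ w ∈ W, z (J w) - J w = x := by
  simp only [cm, Submodule.mem_map]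
  constructor
  · rintro ⟨_, ⟨w, hw, rfl⟩, rfl⟩
    exact ⟨w, hw, rfl⟩
  · rintro ⟨w, hw, rfl⟩
    exact ⟨_, ⟨w, hw, rfl⟩, rfl⟩

/-- `x ∈ W` is good for `H`: only the elements acting trivially on `W` fix `x`, and (for each projection `J` in `PS`)
`J x` lies in `[J W, z]` only if this is all of `J W` or has dimension at least three. -/
structure Good (PS : Set (E →ₗ[F] E)) (H : Subgroup (E ≃ₗ[F] E)) (W : Submodule F E) (x : E) : Prop where
  mem : x ∈ W
  reg : ∀ h ∈ H, h x = x → ∀ w ∈ W, h w = w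
  ss : ∀ J ∈ PS, ∀ z ∈ H, J x ∈ cm J W z →
    W.map J ≤ cm J W z ∨ 3 ≤ Module.finrank F (cm J W z)

variable [Finite E]

/-- Assembling good vectors along a decomposition permuted by `H`. -/
theorem good_sum {PS : Set (E →ₗ[F] E)} {H : Subgroup (E ≃ₗ[F] E)} {I : Type*} [Fintype I]
    {W : Submodule F E} {Wi : I → Submodule F E} {cp : I → E →ₗ[F] E} (D : Dec W Wi cp)
    (hPS : ∀ J ∈ PS, ∀ i, ∀ w ∈ Wi i, J w ∈ Wi i)
    (σ : H → I → I) (hσ : ∀ h, Function.Injective (σ h))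
    (hmv : ∀ (h : H) (i : I), ∀ w ∈ Wi i, (h : E ≃ₗ[F] E) w ∈ Wi (σ h i))
    (Hi : I → Subgroup (E ≃ₗ[F] E))
    (hHi : ∀ h : H, (∀ i, σ h i = i) → ∀ i, (h : E ≃ₗ[F] E) ∈ Hi i)
    {x : I → E} (hx : ∀ i, Good PS (Hi i) (Wi i) (x i))
    (hlab : ∀ h : H, (∀ i, (h : E ≃ₗ[F] E) (x i) = x (σ h i)) → ∀ i, σ h i = i)
    (hss : ∀ J ∈ PS, ∀ h : H, (∃ i, σ h i ≠ i) →
      W.map J ≤ cm J W h ∨ 3 ≤ Module.finrank F (cm J W (h : E ≃ₗ[F] E))) :
    Good PS H W (∑ i, x i) := by
  have hxm : ∀ i, x i ∈ Wi i := fun i => (hx i).mem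
  refine ⟨D.sum_mem hxm, ?_, ?_⟩
  · intro h hh hfix
    have h1 : ∀ i, h (x i) = x (σ ⟨h, hh⟩ i) := by
      intro i
      have h2 := D.cp_equiv (h := (h : E →ₗ[F] E)) (hσ ⟨h, hh⟩) (hmv ⟨h, hh⟩) (D.sum_mem hxm) i
      rw [LinearEquiv.coe_coe, hfix, D.cp_sum hxm, D.cp_sum hxm] at h2
      exact h2.symm
    have h2 := hlab ⟨h, hh⟩ h1
    intro w hw
    rw [← D.sum w hw, map_sum]
    refine Finset.sum_congr rfl fun i _ => ?_
    refine (hx i).reg h (hHi ⟨h, hh⟩ h2 i) ?_ _ (D.mem i w hw)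
    rw [h1, h2]
  · intro J hJ z hz hmem
    by_cases hmove : ∃ i, σ ⟨z, hz⟩ i ≠ i
    · exact hss J hJ ⟨z, hz⟩ hmove
    push Not at hmove
    obtain ⟨w, hw, hwx⟩ := mem_cm.1 hmem
    have hzi : ∀ i, ∀ u ∈ Wi i, z u ∈ Wi i := fun i u hu => by
      have := hmv ⟨z, hz⟩ i u hu
      rwa [hmove i] at this
    have hcomp : ∀ i, ∀ u ∈ W, cp i (z u) = z (cp i u) := fun i u hu => by
      have := D.cp_equiv (h := (z : E →ₗ[F] E)) (σ := id) Function.injective_id hzi hu i
      simpa using this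
    have hJc : ∀ i, ∀ u ∈ W, cp i (J u) = J (cp i u) := fun i u hu => by
      have := D.cp_equiv (h := J) (σ := id) Function.injective_id (hPS J hJ) hu i
      simpa using this
    have hJW : ∀ u ∈ W, J u ∈ W := fun u hu => by
      rw [← D.sum u hu, map_sum]
      exact W.sum_mem fun i _ => D.le i (hPS J hJ i _ (D.mem i u hu))
    have hcase : ∀ i, (Wi i).map J ≤ cm J (Wi i) z ∨ 3 ≤ Module.finrank F (cm J (Wi i) z) := by
      intro i
      refine (hx i).ss J hJ z (hHi ⟨z, hz⟩ hmove i) (mem_cm.2 ⟨cp i w, D.mem i w hw, ?_⟩)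
      have h1 := congrArg (cp i) hwx
      rw [map_sub, hcomp i _ (hJW w hw), hJc i w hw, hJc i _ (D.sum_mem hxm), D.cp_sum hxm] at h1
      exact h1
    have hle : ∀ i, cm J (Wi i) z ≤ cm J W z := fun i =>
      Submodule.map_mono (Submodule.map_mono (D.le i))
    by_cases h3 : ∃ i, 3 ≤ Module.finrank F (cm J (Wi i) z)
    · obtain ⟨i, hi⟩ := h3
      right
      exact hi.trans (Submodule.finrank_mono (hle i))
    · left
      push Not at h3
      rintro _ ⟨u, hu, rfl⟩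
      rw [← D.sum u hu, map_sum]
      refine Submodule.sum_mem _ fun i _ => hle i ?_
      rcases hcase i with h | h
      · exact h ⟨_, D.mem i u hu, rfl⟩
      · exact absurd h (by have := h3 i; omega)

/-! ### Splitting off the fixed points of an idempotent -/

/-- The two summands belonging to a linear map `A` idempotent on `W`. -/
def spl (A : E →ₗ[F] E) (W : Submodule F E) : Bool → Submodule F E
  | true => W ⊓ LinearMap.ker (A - LinearMap.id)
  | false => W ⊓ LinearMap.ker A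

def splc (A : E →ₗ[F] E) : Bool → E →ₗ[F] E
  | true => A
  | false => LinearMap.id - A

omit [Finite E] in
theorem mem_spl_true {A : E →ₗ[F] E} {W : Submodule F E} {w : E} :
    w ∈ spl A W true ↔ w ∈ W ∧ A w = w := by
  simp [spl, Submodule.mem_inf, LinearMap.mem_ker, sub_eq_zero]

omit [Finite E] in
theorem mem_spl_false {A : E →ₗ[F] E} {W : Submodule F E} {w : E} :
    w ∈ spl A W false ↔ w ∈ W ∧ A w = 0 := by
  simp [spl, Submodule.mem_inf, LinearMap.mem_ker]

omit [Finite E] in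
theorem dec_spl {A : E →ₗ[F] E} {W : Submodule F E} (hA : ∀ w ∈ W, A w ∈ W)
    (hAA : ∀ w ∈ W, A (A w) = A w) : Dec W (spl A W) (splc A) where
  le i := by cases i <;> exact inf_le_left
  mem i w hw := by
    cases i
    · exact mem_spl_false.2 ⟨W.sub_mem hw (hA w hw), by
        simp [splc, map_sub, hAA w hw]⟩
    · exact mem_spl_true.2 ⟨hA w hw, hAA w hw⟩
  sum w hw := by simp [splc]
  self i w hw := by
    cases i
    · simp [splc, (mem_spl_false.1 hw).2]
    · simp [splc, (mem_spl_true.1 hw).2]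
  other i j hij w hw := by
    cases i <;> cases j
    · exact absurd rfl hij
    · simp [splc, (mem_spl_false.1 hw).2]
    · simp [splc, (mem_spl_true.1 hw).2]
    · exact absurd rfl hij

/-! ### The decomposition belonging to a normal subgroup of type (p,p) -/

/-- `W ∩ ker (c - 1)`. -/
def fx (c : E ≃ₗ[F] E) (W : Submodule F E) : Submodule F E :=
  W ⊓ LinearMap.ker ((c : E →ₗ[F] E) - LinearMap.id)

omit [Finite E] in
theorem mem_fx {c : E ≃ₗ[F] E} {W : Submodule F E} {w : E} : w ∈ fx c W ↔ w ∈ W ∧ c w = w := by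
  simp [fx, Submodule.mem_inf, LinearMap.mem_ker, sub_eq_zero]

omit [Finite E] in
theorem pow_mem {W : Submodule F E} {c : E ≃ₗ[F] E} (h : ∀ w ∈ W, c w ∈ W) (k : ℕ) {w : E}
    (hw : w ∈ W) : (c ^ k) w ∈ W := by
  induction k with
  | zero => simpa using hw
  | succ k ih => rw [pow_succ', LinearEquiv.mul_apply]; exact h _ ih

omit [Finite E] in
theorem av_mem {W : Submodule F E} {c : E ≃ₗ[F] E} (h : ∀ w ∈ W, c w ∈ W) (n : ℕ) {w : E}
    (hw : w ∈ W) : av c n w ∈ W := by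
  rw [av_apply]
  exact W.sum_mem fun k _ => pow_mem h k hw

section ind

variable {p : ℕ} [Fact p.Prime] {W : Submodule F E} {z a : E ≃ₗ[F] E}

omit [Finite E] in
theorem comm_pow (hzW : ∀ w ∈ W, z w ∈ W) (hcomm : ∀ w ∈ W, a (z w) = z (a w)) (k : ℕ) {w : E}
    (hw : w ∈ W) : a ((z ^ k) w) = (z ^ k) (a w) := by
  induction k with
  | zero => simp
  | succ k ih =>
    rw [pow_succ', LinearEquiv.mul_apply, LinearEquiv.mul_apply, hcomm _ (pow_mem hzW k hw), ih]

omit [Finite E] in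
theorem comm_pow_pow (hzW : ∀ w ∈ W, z w ∈ W) (haW : ∀ w ∈ W, a w ∈ W)
    (hcomm : ∀ w ∈ W, a (z w) = z (a w)) (k l : ℕ) {w : E}
    (hw : w ∈ W) : (a ^ l) ((z ^ k) w) = (z ^ k) ((a ^ l) w) := by
  induction l with
  | zero => simp
  | succ l ih =>
    rw [pow_succ', LinearEquiv.mul_apply, LinearEquiv.mul_apply, ih,
      comm_pow hzW hcomm k (pow_mem haW l hw)]

omit [Finite E] in
theorem mul_pow_on (hzW : ∀ w ∈ W, z w ∈ W) (haW : ∀ w ∈ W, a w ∈ W)
    (hcomm : ∀ w ∈ W, a (z w) = z (a w)) (i k : ℕ) {w : E} (hw : w ∈ W) :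
    ((a * z ^ i) ^ k) w = (a ^ k) ((z ^ (i * k)) w) := by
  induction k with
  | zero => simp
  | succ k ih =>
    rw [pow_succ', LinearEquiv.mul_apply, ih, LinearEquiv.mul_apply, pow_succ' a k,
      LinearEquiv.mul_apply]
    congr 1
    rw [← comm_pow_pow hzW haW hcomm i k (pow_mem hzW _ hw), ← LinearEquiv.mul_apply (z ^ i),
      ← pow_add]
    congr 3
    ring

omit [Finite E] [Fact p.Prime] in
/-- periodicity -/
theorem pow_mod_on (hzp : ∀ w ∈ W, (z ^ p) w = w) (n : ℕ) {w : E}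
    (hw : w ∈ W) : (z ^ n) w = (z ^ (n % p)) w := by
  have h : ∀ m, (z ^ (p * m)) w = w := by
    intro m
    induction m with
    | zero => simp
    | succ m ih => rw [Nat.mul_succ, pow_add, LinearEquiv.mul_apply, hzp w hw, ih]
  conv_lhs => rw [← Nat.mod_add_div n p]
  rw [pow_add, LinearEquiv.mul_apply, h]

omit [Finite E] in
theorem pow_congr_on (hzp : ∀ w ∈ W, (z ^ p) w = w) {m n : ℕ}
    (hmn : (m : ZMod p) = n) {w : E} (hw : w ∈ W) : (z ^ m) w = (z ^ n) w := by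
  rw [pow_mod_on hzp m hw, pow_mod_on hzp n hw]
  rw [(ZMod.natCast_eq_natCast_iff' m n p).1 hmn]

omit [Finite E] in
theorem av_pow_zero (hzW : ∀ w ∈ W, z w ∈ W) (hzp : ∀ w ∈ W, (z ^ p) w = w)
    (hz0 : ∀ w ∈ W, z w = w → w = 0) {k : ℕ} (hk : (k : ZMod p) ≠ 0) {w : E} (hw : w ∈ W) :
    av (z ^ k) p w = 0 := by
  have hzk : ∀ w ∈ W, (z ^ k) w ∈ W := fun w hw => pow_mem hzW k hw
  have hmem := av_mem hzk p hw
  have h1 : (z ^ k) (av (z ^ k) p w) = av (z ^ k) p w := by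
    apply av_fix
    rw [← pow_mul, mul_comm, pow_congr_on hzp (m := p * k) (n := 0) (by simp) hw]
    simp
  apply hz0 _ hmem
  have h2 := pow_fix (z ^ k) _ h1 (((k : ZMod p)⁻¹).val)
  rw [← pow_mul, pow_congr_on hzp (n := 1) _ hmem] at h2
  · simpa using h2
  · rw [Nat.cast_mul, ZMod.natCast_zmod_val, Nat.cast_one]
    exact mul_inv_cancel₀ hk

omit [Finite E] in
theorem av_of_fx (hzW : ∀ w ∈ W, z w ∈ W)
    (hzp : ∀ w ∈ W, (z ^ p) w = w) (hcomm : ∀ w ∈ W, a (z w) = z (a w))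
    (hz0 : ∀ w ∈ W, z w = w → w = 0) {i j : ZMod p} (hij : i ≠ j) {w : E}
    (hw : w ∈ fx (a * z ^ i.val) W) : av (a * z ^ j.val) p w = 0 := by
  obtain ⟨hwW, hwf⟩ := mem_fx.1 hw
  have key : ∀ u ∈ W, (a * z ^ i.val) u = u → (a * z ^ j.val) u = (z ^ (j - i).val) u := by
    intro u hu hf
    have h1 : (z ^ j.val) u = (z ^ (j - i).val) ((z ^ i.val) u) := by
      rw [← LinearEquiv.mul_apply, ← pow_add]
      exact pow_congr_on hzp (by simp) hu
    rw [LinearEquiv.mul_apply, h1, comm_pow hzW hcomm _ (pow_mem hzW _ hu)]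
    rw [LinearEquiv.mul_apply] at hf
    rw [hf]
  have hpow : ∀ k : ℕ, ((a * z ^ j.val) ^ k) w = ((z ^ (j - i).val) ^ k) w ∧
      (a * z ^ i.val) (((z ^ (j - i).val) ^ k) w) = ((z ^ (j - i).val) ^ k) w ∧
      ((z ^ (j - i).val) ^ k) w ∈ W := by
    intro k
    induction k with
    | zero => simpa using ⟨hwf, hwW⟩
    | succ k ih =>
      obtain ⟨ih1, ih2, ih3⟩ := ih
      refine ⟨?_, ?_, ?_⟩
      · rw [pow_succ', LinearEquiv.mul_apply, ih1, key _ ih3 ih2, pow_succ', LinearEquiv.mul_apply]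
      · rw [pow_succ', LinearEquiv.mul_apply]
        rw [LinearEquiv.mul_apply] at ih2 ⊢
        rw [← LinearEquiv.mul_apply (z ^ i.val), ← pow_add, add_comm, pow_add,
          LinearEquiv.mul_apply, comm_pow hzW hcomm _ (pow_mem hzW _ ih3), ih2]
      · rw [pow_succ', LinearEquiv.mul_apply]
        exact pow_mem hzW _ ih3
  rw [av_apply, Finset.sum_congr rfl fun k _ => (hpow k).1, ← av_apply]
  apply av_pow_zero hzW hzp hz0 _ hwW
  rw [ZMod.natCast_zmod_val]
  exact sub_ne_zero.2 hij.symm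

omit [Finite E] in
theorem dec_ind (hpF : (p : F) ≠ 0) (hzW : ∀ w ∈ W, z w ∈ W) (haW : ∀ w ∈ W, a w ∈ W)
    (hzp : ∀ w ∈ W, (z ^ p) w = w) (hap : ∀ w ∈ W, (a ^ p) w = w)
    (hcomm : ∀ w ∈ W, a (z w) = z (a w)) (hz0 : ∀ w ∈ W, z w = w → w = 0) :
    Dec W (fun i : ZMod p => fx (a * z ^ i.val) W)
      (fun i : ZMod p => (p : F)⁻¹ • av (a * z ^ i.val) p) where
  le i := inf_le_left
  mem i w hw := by
    have h1 : ∀ w ∈ W, (a * z ^ i.val) w ∈ W := fun w hw => by
      rw [LinearEquiv.mul_apply]; exact haW _ (pow_mem hzW _ hw)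
    refine mem_fx.2 ⟨W.smul_mem _ (av_mem h1 _ hw), ?_⟩
    rw [LinearMap.smul_apply, map_smul, av_fix]
    rw [mul_pow_on hzW haW hcomm _ _ hw, hap _ (pow_mem hzW _ hw)]
    rw [pow_congr_on hzp (n := 0) (by simp) hw]; simp
  sum w hw := by
    simp only [LinearMap.smul_apply]
    rw [← Finset.smul_sum, inv_smul_eq_iff₀ hpF]
    simp only [av_apply]
    rw [Finset.sum_comm]
    have hk : ∀ k ∈ range p, k ≠ 0 → ∑ i : ZMod p, ((a * z ^ i.val) ^ k) w = 0 := by
      intro k hk hk0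
      have hkp : (k : ZMod p) ≠ 0 := by
        rw [Ne, ZMod.natCast_eq_zero_iff]
        exact Nat.not_dvd_of_pos_of_lt (Nat.pos_of_ne_zero hk0) (Finset.mem_range.1 hk)
      have h1 : ∑ i : ZMod p, ((a * z ^ i.val) ^ k) w = (a ^ k) (av (z ^ k) p w) := by
        rw [av_apply, map_sum]
        refine Finset.sum_bij (fun i _ => i.val) (fun i _ => Finset.mem_range.2 (ZMod.val_lt i))
          (fun i _ j _ h => ZMod.val_injective p h)
          (fun n hn => ⟨(n : ZMod p), Finset.mem_univ _, ZMod.val_cast_of_lt (Finset.mem_range.1 hn)⟩)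
          (fun i _ => ?_)
        rw [mul_pow_on hzW haW hcomm _ _ hw, ← pow_mul, mul_comm]
      rw [h1, av_pow_zero hzW hzp hz0 hkp hw, map_zero]
    rw [Finset.sum_eq_single 0 (fun k hk' h0 => hk k hk' h0)
      (fun h => absurd (Finset.mem_range.2 (Fact.out : p.Prime).pos) h)]
    simp [ZMod.card, Nat.cast_smul_eq_nsmul]
  self i w hw := by
    rw [LinearMap.smul_apply, av_of_fix _ _ _ (mem_fx.1 hw).2, smul_smul, inv_mul_cancel₀ hpF,
      one_smul]
  other i j hij w hw := by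
    rw [LinearMap.smul_apply, av_of_fx hzW hzp hcomm hz0 hij hw, smul_zero]

end ind

/-! ### Context -/

/-- The standing hypotheses: a `p`-group `G` (`5 ≤ p`, `p` not the characteristic) acting on `E`, a set `PS` of
commuting projections, an invariant biadditive form `β` and an invariant map `N` which is additive on orthogonal
pairs. -/
structure Ctx (p : ℕ) (G : Subgroup (E ≃ₗ[F] E)) (PS : Set (E →ₗ[F] E)) (β : E → E → F)
    (N : E → F) : Prop where
  pF : (p : F) ≠ 0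
  five : 5 ≤ p
  pg : IsPGroup p G
  comm : ∀ J ∈ PS, ∀ h ∈ G, ∀ x, J (h x) = h (J x)
  βl : ∀ x y z, β (x + y) z = β x z + β y z
  βr : ∀ x y z, β x (y + z) = β x y + β x z
  βG : ∀ h ∈ G, ∀ x y, β (h x) (h y) = β x y
  NG : ∀ h ∈ G, ∀ x, N (h x) = N x
  Nadd : ∀ x y, β x y = 0 → β y x = 0 → N (x + y) = N x + N y

namespace Ctx

variable {p : ℕ} {G : Subgroup (E ≃ₗ[F] E)} {PS : Set (E →ₗ[F] E)} {β : E → E → F}
    {N : E → F} (C : Ctx p G PS β N)

include C

omit [Finite E] in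
theorem β_zero_right (x : E) : β x 0 = 0 := by
  have := C.βr x 0 0
  rw [add_zero] at this
  exact left_eq_add.1 this

omit [Finite E] in
theorem β_zero_left (x : E) : β 0 x = 0 := by
  have := C.βl 0 0 x
  rw [add_zero] at this
  exact left_eq_add.1 this

omit [Finite E] in
theorem N_zero : N 0 = 0 := by
  have := C.Nadd 0 0 (C.β_zero_left 0) (C.β_zero_left 0)
  rw [add_zero] at this
  exact left_eq_add.1 this

omit [Finite E] in
theorem β_sum_right {ι : Type*} (s : Finset ι) (f : ι → E) (x : E) :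
    β x (∑ i ∈ s, f i) = ∑ i ∈ s, β x (f i) := by
  classical
  induction s using Finset.induction_on with
  | empty => simp [C.β_zero_right]
  | insert a s ha ih => rw [Finset.sum_insert ha, Finset.sum_insert ha, C.βr, ih]

omit [Finite E] in
theorem β_sum_left {ι : Type*} (s : Finset ι) (f : ι → E) (x : E) :
    β (∑ i ∈ s, f i) x = ∑ i ∈ s, β (f i) x := by
  classical
  induction s using Finset.induction_on with
  | empty => simp [C.β_zero_left]
  | insert a s ha ih => rw [Finset.sum_insert ha, Finset.sum_insert ha, C.βl, ih]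

omit [Finite E] in
theorem N_sum {ι : Type*} (s : Finset ι) (f : ι → E)
    (h : ∀ i ∈ s, ∀ j ∈ s, i ≠ j → β (f i) (f j) = 0) :
    N (∑ i ∈ s, f i) = ∑ i ∈ s, N (f i) := by
  classical
  induction s using Finset.induction_on with
  | empty => simp [C.N_zero]
  | insert a s ha ih =>
    rw [Finset.sum_insert ha, Finset.sum_insert ha, C.Nadd, ih]
    · exact fun i hi j hj hij => h i (Finset.mem_insert_of_mem hi) j (Finset.mem_insert_of_mem hj) hij
    · rw [C.β_sum_right]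
      exact Finset.sum_eq_zero fun i hi => h a (Finset.mem_insert_self _ _) i
        (Finset.mem_insert_of_mem hi) (fun e => ha (e ▸ hi))
    · rw [C.β_sum_left]
      exact Finset.sum_eq_zero fun i hi => h i (Finset.mem_insert_of_mem hi) a
        (Finset.mem_insert_self _ _) (fun e => ha (e ▸ hi))

omit [Finite E] in
/-- Orthogonality: a vector fixed by `c` is orthogonal to a vector with average zero. -/
theorem orth {c : E ≃ₗ[F] E} (hc : c ∈ G) {n : ℕ} (hn : (n : F) ≠ 0) {x y : E} (hx : c x = x)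
    (hy : av c n y = 0) : β x y = 0 ∧ β y x = 0 := by
  have h1 : ∀ k : ℕ, β x ((c ^ k) y) = β x y := fun k => by
    rw [← C.βG _ (G.pow_mem hc k) x y, pow_fix c x hx]
  have h2 : ∀ k : ℕ, β ((c ^ k) y) x = β y x := fun k => by
    rw [← C.βG _ (G.pow_mem hc k) y x, pow_fix c x hx]
  constructor
  · have h3 := C.β_sum_right (range n) (fun k => (c ^ k) y) x
    rw [← av_apply, hy, C.β_zero_right] at h3
    simp only [h1, Finset.sum_const, Finset.card_range, nsmul_eq_mul] at h3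
    exact (mul_eq_zero.1 h3.symm).resolve_left hn
  · have h3 := C.β_sum_left (range n) (fun k => (c ^ k) y) x
    rw [← av_apply, hy, C.β_zero_left] at h3
    simp only [h2, Finset.sum_const, Finset.card_range, nsmul_eq_mul] at h3
    exact (mul_eq_zero.1 h3.symm).resolve_left hn

end Ctx

/-- Admissible pairs. -/
structure Adm (G : Subgroup (E ≃ₗ[F] E)) (PS : Set (E →ₗ[F] E)) (β : E → E → F)
    (H : Subgroup (E ≃ₗ[F] E)) (W : Submodule F E) : Prop where
  le : H ≤ G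
  inv : ∀ h ∈ H, ∀ w ∈ W, h w ∈ W
  ps : ∀ J ∈ PS, ∀ w ∈ W, J w ∈ W
  ne : W ≠ ⊥
  fix : ∀ w ∈ W, (∀ h ∈ H, h w = w) → w = 0
  nd : ∀ x ∈ W, (∀ y ∈ W, β x y = 0) → x = 0

/-- The base case: `H` acts on `W` commutatively and semiregularly on non-zero vectors. -/
structure Base (G : Subgroup (E ≃ₗ[F] E)) (PS : Set (E →ₗ[F] E)) (β : E → E → F)
    (H : Subgroup (E ≃ₗ[F] E)) (W : Submodule F E) : Prop extends Adm G PS β H W where
  fpf : ∀ h ∈ H, ∀ w ∈ W, w ≠ 0 → h w = w → ∀ u ∈ W, h u = u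
  ab : ∀ h ∈ H, ∀ k ∈ H, ∀ w ∈ W, h (k w) = k (h w)

/-- The reducible case: `W = W' ⊥ W''` with `W' = spl A W true`, `W'' = spl A W false`. -/
structure Red (G : Subgroup (E ≃ₗ[F] E)) (PS : Set (E →ₗ[F] E)) (β : E → E → F)
    (H : Subgroup (E ≃ₗ[F] E)) (W : Submodule F E) (A : E →ₗ[F] E) : Prop
    extends Adm G PS β H W where
  dec : Dec W (spl A W) (splc A)
  adm' : ∀ b, Adm G PS β H (spl A W b)
  orth : ∀ x ∈ spl A W true, ∀ y ∈ spl A W false, β x y = 0 ∧ β y x = 0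

/-- The imprimitive case. -/
structure Imp (p : ℕ) (G : Subgroup (E ≃ₗ[F] E)) (PS : Set (E →ₗ[F] E)) (β : E → E → F)
    (H : Subgroup (E ≃ₗ[F] E)) (W : Submodule F E) (z a r : E ≃ₗ[F] E) (κ : H → ZMod p) : Prop
    extends Adm G PS β H W where
  zH : z ∈ H
  aH : a ∈ H
  rH : r ∈ H
  zp : ∀ w ∈ W, (z ^ p) w = w
  ap : ∀ w ∈ W, (a ^ p) w = w
  zc : ∀ h ∈ H, ∀ w ∈ W, h (z w) = z (h w)
  z0 : ∀ w ∈ W, z w = w → w = 0
  κh : ∀ h : H, ∀ w ∈ W, (h : E ≃ₗ[F] E) (a w) = a ((z ^ (κ h).val) ((h : E ≃ₗ[F] E) w))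
  ra : ∀ w ∈ W, r (a w) = a (z (r w))

omit [Finite E] in
/-- Transport of good vectors by a group element. -/
theorem good_conj {PS : Set (E →ₗ[F] E)} {H H' : Subgroup (E ≃ₗ[F] E)} {W W' : Submodule F E}
    {x : E} (g : E ≃ₗ[F] E) (hg : ∀ J ∈ PS, ∀ x, J (g x) = g (J x))
    (hH : ∀ h ∈ H', g⁻¹ * h * g ∈ H) (hW : ∀ w, w ∈ W' ↔ g⁻¹ w ∈ W) (hx : Good PS H W x) :
    Good PS H' W' (g x) := by
  have hgg : ∀ w, g (g⁻¹ w) = w := fun w => by
    rw [← LinearEquiv.mul_apply, mul_inv_cancel]; rfl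
  have hgg' : ∀ w, g⁻¹ (g w) = w := fun w => by
    rw [← LinearEquiv.mul_apply, inv_mul_cancel]; rfl
  have hconj : ∀ (h : E ≃ₗ[F] E) w, (g⁻¹ * h * g) w = g⁻¹ (h (g w)) := fun h w => rfl
  have hmapJ : ∀ J ∈ PS, W'.map J = (W.map J).map (g : E →ₗ[F] E) := by
    intro J hJ
    ext u
    simp only [Submodule.mem_map]
    constructor
    · rintro ⟨w, hw, rfl⟩
      exact ⟨_, ⟨_, (hW w).1 hw, rfl⟩, by rw [LinearEquiv.coe_coe, ← hg J hJ, hgg]⟩
    · rintro ⟨_, ⟨w, hw, rfl⟩, rfl⟩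
      exact ⟨g w, (hW _).2 (by rw [hgg']; exact hw), hg J hJ w⟩
  have hcm : ∀ J ∈ PS, ∀ h : E ≃ₗ[F] E, cm J W' h = (cm J W (g⁻¹ * h * g)).map (g : E →ₗ[F] E) := by
    intro J hJ h
    unfold cm
    rw [hmapJ J hJ]
    ext u
    simp only [Submodule.mem_map]
    constructor
    · rintro ⟨_, ⟨v, hv, rfl⟩, rfl⟩
      refine ⟨_, ⟨v, hv, rfl⟩, ?_⟩
      simp only [LinearMap.sub_apply, LinearEquiv.coe_coe, LinearMap.id_apply, hconj, map_sub, hgg]
    · rintro ⟨_, ⟨v, hv, rfl⟩, rfl⟩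
      refine ⟨_, ⟨v, hv, rfl⟩, ?_⟩
      simp only [LinearMap.sub_apply, LinearEquiv.coe_coe, LinearMap.id_apply, hconj, map_sub, hgg]
  refine ⟨(hW _).2 (by rw [hgg']; exact hx.mem), ?_, ?_⟩
  · intro h hh hfix w hw
    have h1 := hx.reg _ (hH h hh) (by rw [hconj, hfix, hgg']) (g⁻¹ w) ((hW w).1 hw)
    rw [hconj, hgg] at h1
    have h2 := congrArg g h1
    rwa [hgg, hgg] at h2
  · intro J hJ h hh hmem
    have h1 : J x ∈ cm J W (g⁻¹ * h * g) := by
      rw [hcm J hJ, hg J hJ] at hmem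
      obtain ⟨v, hv, hv'⟩ := hmem
      rw [LinearEquiv.coe_coe] at hv'
      rw [← g.injective hv']; exact hv
    rcases hx.ss J hJ _ (hH h hh) h1 with h2 | h2
    · left
      rw [hcm J hJ, hmapJ J hJ]
      exact Submodule.map_mono h2
    · right
      rw [hcm J hJ, LinearEquiv.finrank_map_eq]
      exact h2

namespace Imp

variable {p : ℕ} [Fact p.Prime] {G : Subgroup (E ≃ₗ[F] E)} {PS : Set (E →ₗ[F] E)}
  {β : E → E → F} {H : Subgroup (E ≃ₗ[F] E)} {W : Submodule F E} {z a r : E ≃ₗ[F] E}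
  {κ : H → ZMod p} (I : Imp p G PS β H W z a r κ)

include I

omit [Finite E] [Fact p.Prime] in
theorem hcomm (w : E) (hw : w ∈ W) : a (z w) = z (a w) := I.zc a I.aH w hw

omit [Finite E] in
theorem dec' (hpF : (p : F) ≠ 0) : Dec W (fun i : ZMod p => fx (a * z ^ i.val) W)
    (fun i : ZMod p => (p : F)⁻¹ • av (a * z ^ i.val) p) :=
  dec_ind hpF (I.inv z I.zH) (I.inv a I.aH) I.zp I.ap I.hcomm I.z0

omit [Finite E] [Fact p.Prime] in
theorem zpow_comm (h : E ≃ₗ[F] E) (hh : h ∈ H) (k : ℕ) (w : E) (hw : w ∈ W) :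
    h ((z ^ k) w) = (z ^ k) (h w) :=
  comm_pow (I.inv z I.zH) (I.zc h hh) k hw

omit [Finite E] in
theorem mv (h : H) (i : ZMod p) (w : E) (hw : w ∈ fx (a * z ^ i.val) W) :
    (h : E ≃ₗ[F] E) w ∈ fx (a * z ^ (i + κ h).val) W := by
  obtain ⟨hwW, hwf⟩ := mem_fx.1 hw
  refine mem_fx.2 ⟨I.inv _ h.2 _ hwW, ?_⟩
  have h1 := congrArg (h : E ≃ₗ[F] E) hwf
  rw [LinearEquiv.mul_apply, I.κh h _ (pow_mem (I.inv z I.zH) _ hwW),
    I.zpow_comm _ h.2 _ _ hwW, ← LinearEquiv.mul_apply (z ^ _), ← pow_add,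
    pow_congr_on I.zp (n := (i + κ h).val) (by simp [add_comm]) (I.inv _ h.2 _ hwW)] at h1
  rw [LinearEquiv.mul_apply]
  exact h1

omit [Finite E] in
theorem κ_unique (h : H) (k : ZMod p)
    (hk : ∀ w ∈ W, (h : E ≃ₗ[F] E) (a w) = a ((z ^ k.val) ((h : E ≃ₗ[F] E) w))) : k = κ h := by
  by_contra hne
  apply I.ne
  rw [Submodule.eq_bot_iff]
  intro w hw
  -- the surjectivity of h on W is not needed: use h w
  have h1 : ∀ w ∈ W, (z ^ (k - κ h).val) ((h : E ≃ₗ[F] E) w) = (h : E ≃ₗ[F] E) w := by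
    intro w hw
    have h2 := (hk w hw).symm.trans (I.κh h w hw)
    have h3 := a.injective h2
    have h4 : (z ^ k.val) ((h : E ≃ₗ[F] E) w) =
        (z ^ (κ h).val) ((z ^ (k - κ h).val) ((h : E ≃ₗ[F] E) w)) := by
      rw [← LinearEquiv.mul_apply (z ^ (κ h).val), ← pow_add]
      exact pow_congr_on I.zp (by simp) (I.inv _ h.2 _ hw)
    rw [h4] at h3
    exact (z ^ (κ h).val).injective h3
  have h5 : (h : E ≃ₗ[F] E) w = 0 := by
    have hm := I.inv _ h.2 _ hw
    apply I.z0 _ hm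
    have h6 := pow_fix _ _ (h1 w hw) (((k - κ h)⁻¹).val)
    rw [← pow_mul, pow_congr_on I.zp (n := 1) _ hm] at h6
    · simpa using h6
    · rw [Nat.cast_mul, ZMod.natCast_zmod_val, ZMod.natCast_zmod_val, Nat.cast_one]
      exact mul_inv_cancel₀ (sub_ne_zero.2 hne)
  exact (LinearEquiv.map_eq_zero_iff _).1 h5

omit [Finite E] in
theorem κr (hp : p ≠ 1) : κ ⟨r, I.rH⟩ = 1 := by
  symm
  apply I.κ_unique
  intro w hw
  have : (1 : ZMod p).val = 1 := ZMod.val_one'' hp
  rw [this, pow_one]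
  exact I.ra w hw

omit [Finite E] in
theorem κ_mul (h k : H) : κ (h * k) = κ h + κ k := by
  symm
  apply I.κ_unique
  intro w hw
  rw [Subgroup.coe_mul, LinearEquiv.mul_apply, LinearEquiv.mul_apply, I.κh k w hw,
    I.κh h _ (pow_mem (I.inv z I.zH) _ (I.inv _ k.2 _ hw)), I.zpow_comm _ h.2 _ _ (I.inv _ k.2 _ hw),
    ← LinearEquiv.mul_apply (z ^ _), ← pow_add]
  congr 1
  exact pow_congr_on I.zp (by simp) (I.inv _ h.2 _ (I.inv _ k.2 _ hw))

omit [Finite E] in
theorem κ_one : κ 1 = 0 := by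
  have := I.κ_mul 1 1
  rw [mul_one] at this
  exact left_eq_add.1 this

omit [Finite E] in
theorem κ_inv (h : H) : κ h⁻¹ = - κ h := by
  have := I.κ_mul h⁻¹ h
  rw [inv_mul_cancel, I.κ_one] at this
  exact eq_neg_of_add_eq_zero_left this.symm

omit [Finite E] in
theorem κ_pow (h : H) (n : ℕ) : κ (h ^ n) = n * κ h := by
  induction n with
  | zero => simp [I.κ_one]
  | succ n ih => rw [pow_succ, I.κ_mul, ih]; push_cast; ring

omit [Finite E] in
theorem κ_a : κ ⟨a, I.aH⟩ = 0 := by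
  symm
  apply I.κ_unique
  intro w hw
  simp

omit [Finite E] in
theorem κ_z : κ ⟨z, I.zH⟩ = 0 := by
  symm
  apply I.κ_unique
  intro w hw
  simpa using (I.hcomm w hw).symm

end Imp

/-- The kernel of `κ`. -/
def Imp.H₀ {p : ℕ} [Fact p.Prime] {G : Subgroup (E ≃ₗ[F] E)} {PS : Set (E →ₗ[F] E)}
    {β : E → E → F} {H : Subgroup (E ≃ₗ[F] E)} {W : Submodule F E} {z a r : E ≃ₗ[F] E}
    {κ : H → ZMod p} (I : Imp p G PS β H W z a r κ) : Subgroup (E ≃ₗ[F] E) where
  carrier := {h | ∃ hh : h ∈ H, κ ⟨h, hh⟩ = 0}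
  mul_mem' := by
    rintro h k ⟨hh, h1⟩ ⟨hk, h2⟩
    refine ⟨H.mul_mem hh hk, ?_⟩
    have := I.κ_mul ⟨h, hh⟩ ⟨k, hk⟩
    rw [h1, h2, add_zero] at this
    exact this
  one_mem' := ⟨H.one_mem, I.κ_one⟩
  inv_mem' := by
    rintro h ⟨hh, h1⟩
    refine ⟨H.inv_mem hh, ?_⟩
    have := I.κ_inv ⟨h, hh⟩
    rw [h1, neg_zero] at this
    exact this

namespace Imp

variable {p : ℕ} [Fact p.Prime] {G : Subgroup (E ≃ₗ[F] E)} {PS : Set (E →ₗ[F] E)}
  {β : E → E → F} {N : E → F} {H : Subgroup (E ≃ₗ[F] E)} {W : Submodule F E} {z a r : E ≃ₗ[F] E}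
  {κ : H → ZMod p} (I : Imp p G PS β H W z a r κ)

omit [Finite E] in
theorem mem_H₀ {h : E ≃ₗ[F] E} : h ∈ I.H₀ ↔ ∃ hh : h ∈ H, κ ⟨h, hh⟩ = 0 := Iff.rfl

omit [Finite E] in
theorem κ_rpow (i : ZMod p) : κ (⟨r, I.rH⟩ ^ i.val) = i := by
  rw [I.κ_pow, I.κr (Fact.out : p.Prime).one_lt.ne', mul_one, ZMod.natCast_zmod_val]

/-- The label vector. -/
noncomputable def vec {L : Type*} (_I : Imp p G PS β H W z a r κ) (X : L → E) (c : ZMod p → L) : E :=
  ∑ i : ZMod p, (r ^ i.val) (X (c i))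

include I

omit [Finite E] in
theorem rpow_mv (i : ZMod p) {w : E} (hw : w ∈ fx a W) : (r ^ i.val) w ∈ fx (a * z ^ i.val) W := by
  have h1 := I.mv (⟨r, I.rH⟩ ^ i.val) 0 w (by simpa using hw)
  rw [I.κ_rpow, zero_add] at h1
  simpa using h1

omit [Finite E] in
theorem rpow_inv_mv (i : ZMod p) {w : E} (hw : w ∈ fx (a * z ^ i.val) W) :
    (r ^ i.val)⁻¹ w ∈ fx a W := by
  have h1 := I.mv (⟨r, I.rH⟩ ^ i.val)⁻¹ i w hw
  rw [I.κ_inv, I.κ_rpow, add_neg_cancel] at h1
  simpa using h1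

omit [Finite E] in
/-- conjugation of `H₀` by powers of `r` -/
theorem conj_H₀ {h : E ≃ₗ[F] E} (hh : h ∈ H) (i j : ZMod p) (hκ : κ ⟨h, hh⟩ = j - i) :
    (r ^ j.val)⁻¹ * h * r ^ i.val ∈ I.H₀ := by
  refine ⟨H.mul_mem (H.mul_mem (H.inv_mem (H.pow_mem I.rH _)) hh) (H.pow_mem I.rH _), ?_⟩
  have h1 := I.κ_mul ((⟨r, I.rH⟩ ^ j.val)⁻¹ * ⟨h, hh⟩) (⟨r, I.rH⟩ ^ i.val)
  rw [I.κ_mul (_⁻¹), I.κ_inv, I.κ_rpow, I.κ_rpow, hκ] at h1
  have h2 : -j + (j - i) + i = 0 := by ring
  rw [h2] at h1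
  exact h1

/-- **Imprimitive step.** -/
theorem step (C : Ctx p G PS β N) {L : Type*} {X : L → E}
    (hX : ∀ l, Good PS I.H₀ (fx a W) (X l))
    (hn : ∀ l l', l ≠ l' → ∀ h ∈ I.H₀, h (X l) ≠ X l')
    (c : ZMod p → L) (hc : ∃ i j, c i ≠ c j) : Good PS H W (I.vec X c) := by
  have D := I.dec' C.pF
  have hJr : ∀ J ∈ PS, ∀ h ∈ H, ∀ x, J (h x) = h (J x) := fun J hJ h hh x =>
    C.comm J hJ h (I.le hh) x
  refine good_sum D (fun J hJ i w hw => ?_) (fun h i => i + κ h)
    (fun h => add_left_injective _) (fun h i w hw => I.mv h i w hw) (fun _ => I.H₀)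
    (fun h hh _ => ⟨h.2, ?_⟩) (fun i => ?_) (fun h hh => ?_) (fun J hJ h hh => ?_)
  · -- projections preserve the summands
    obtain ⟨h1, h2⟩ := mem_fx.1 hw
    refine mem_fx.2 ⟨I.ps J hJ _ h1, ?_⟩
    rw [← hJr J hJ _ (H.mul_mem I.aH (H.pow_mem I.zH _)), h2]
  · have := hh 0
    rw [zero_add] at this
    exact this
  · -- good vectors are transported
    refine good_conj (r ^ i.val) (fun J hJ x => hJr J hJ _ (H.pow_mem I.rH _) x)
      (fun h hh => I.conj_H₀ hh.1 i i (by rw [sub_self]; exact hh.2)) (fun w => ?_) (hX (c i))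
    constructor
    · exact fun hw => I.rpow_inv_mv i hw
    · intro hw
      have := I.rpow_mv i hw
      rwa [← LinearEquiv.mul_apply, mul_inv_cancel] at this
  · -- labels
    by_contra hne
    push Not at hne
    obtain ⟨i₀, hi₀⟩ := hne
    have hs : κ h ≠ 0 := fun e => hi₀ (by rw [e, add_zero])
    have hlab : ∀ i, c (i + κ h) = c i := by
      intro i
      by_contra hne
      refine hn (c i) (c (i + κ h)) (Ne.symm hne) _
        (I.conj_H₀ (h := h) h.2 i (i + κ h) (by rw [add_sub_cancel_left])) ?_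
      have h1 := hh i
      change (r ^ (i + κ h).val)⁻¹ ((h : E ≃ₗ[F] E) ((r ^ i.val) (X (c i)))) = _
      rw [h1, ← LinearEquiv.mul_apply, inv_mul_cancel]
      rfl
    have hall : ∀ n : ℕ, ∀ i, c (i + n * κ h) = c i := by
      intro n
      induction n with
      | zero => intro i; simp
      | succ n ih =>
        intro i
        rw [Nat.cast_succ, add_mul, one_mul, ← add_assoc, hlab, ih]
    obtain ⟨i, j, hij⟩ := hc
    apply hij
    have h1 := hall (((j - i) * (κ h)⁻¹).val) i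
    rw [ZMod.natCast_zmod_val, mul_assoc, inv_mul_cancel₀ hs, mul_one, add_sub_cancel] at h1
    exact h1.symm
  · -- large commutators
    obtain ⟨i₀, hi₀⟩ := hh
    have hs : κ h ≠ 0 := fun e => hi₀ (by rw [e, add_zero])
    by_cases hbot : W.map J = ⊥
    · left; rw [hbot]; exact bot_le
    right
    obtain ⟨_, ⟨u, hu, rfl⟩, hu0⟩ := Submodule.exists_mem_ne_zero_of_ne_bot hbot
    have hcpJ : ∀ i : ZMod p, ((p : F)⁻¹ • av (a * z ^ i.val) p) (J u)
        = J (((p : F)⁻¹ • av (a * z ^ i.val) p) u) := by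
      intro i
      refine D.cp_equiv (h := J) (σ := id) Function.injective_id (fun i w hw => ?_) hu i
      obtain ⟨h1, h2⟩ := mem_fx.1 hw
      refine mem_fx.2 ⟨I.ps J hJ _ h1, ?_⟩
      rw [← hJr J hJ _ (H.mul_mem I.aH (H.pow_mem I.zH _)), id, h2]
    have hex : ∃ i : ZMod p, ((p : F)⁻¹ • av (a * z ^ i.val) p) (J u) ≠ 0 := by
      by_contra hcon
      push Not at hcon
      apply hu0
      rw [← D.sum _ (I.ps J hJ u hu)]
      exact Finset.sum_eq_zero fun i _ => hcon i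
    obtain ⟨i, hi⟩ := hex
    rw [hcpJ] at hi
    set w := ((p : F)⁻¹ • av (a * z ^ i.val) p) u with hw
    have hwW : w ∈ W := D.le i (D.mem i u hu)
    have hv : J w ∈ fx (a * z ^ i.val) W := by
      rw [hw, ← hcpJ]; exact D.mem i _ (I.ps J hJ u hu)
    have hpow : ∀ n : ℕ, ((h : E ≃ₗ[F] E) ^ n) (J w) ∈ fx (a * z ^ (i + n * κ h).val) W := by
      intro n
      have := I.mv (h ^ n) i _ hv
      rw [I.κ_pow] at this
      exact this
    have hcomp : ∀ n m : ℕ, ((p : F)⁻¹ • av (a * z ^ (i + (m : ZMod p) * κ h).val) p)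
        (((h : E ≃ₗ[F] E) ^ n) (J w)) = if (n : ZMod p) = m then ((h : E ≃ₗ[F] E) ^ n) (J w) else 0 := by
      intro n m
      split_ifs with hnm
      · rw [← hnm]
        exact D.self _ _ (hpow n)
      · exact D.other _ _ (fun e => hnm (mul_right_cancel₀ hs (add_left_cancel e))) _ (hpow n)
    have hne : ∀ n : ℕ, ((h : E ≃ₗ[F] E) ^ n) (J w) ≠ 0 := fun n e =>
      hi ((LinearEquiv.map_eq_zero_iff _).1 e)
    have hcast : ∀ n m : ℕ, n < 4 → m < 4 → ((n : ZMod p) = m ↔ n = m) := by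
      intro n m hn hm
      constructor
      · intro e
        rw [ZMod.natCast_eq_natCast_iff'] at e
        have := C.five
        rwa [Nat.mod_eq_of_lt (by omega), Nat.mod_eq_of_lt (by omega)] at e
      · rintro rfl; rfl
    have hmem : ∀ n : ℕ, ((h : E ≃ₗ[F] E) ^ (n + 1)) (J w) - ((h : E ≃ₗ[F] E) ^ n) (J w)
        ∈ cm J W (h : E ≃ₗ[F] E) := by
      intro n
      refine mem_cm.2 ⟨((h : E ≃ₗ[F] E) ^ n) w, I.inv _ (H.pow_mem h.2 n) _ hwW, ?_⟩
      rw [hJr J hJ _ (H.pow_mem h.2 n), pow_succ', LinearEquiv.mul_apply]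
    have hli : LinearIndependent F (fun k : Fin 3 =>
        (⟨_, hmem k⟩ : cm J W (h : E ≃ₗ[F] E))) := by
      rw [Fintype.linearIndependent_iff]
      intro g hg
      have h1 : ∑ k : Fin 3, g k • (((h : E ≃ₗ[F] E) ^ ((k : ℕ) + 1)) (J w)
          - ((h : E ≃ₗ[F] E) ^ (k : ℕ)) (J w)) = 0 := by
        have := congrArg (Subtype.val) hg
        simpa using this
      set U : ℕ → E := fun n => ((h : E ≃ₗ[F] E) ^ n) (J w) with hU
      set cc : ℕ → E →ₗ[F] E := fun m =>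
        (p : F)⁻¹ • av (a * z ^ (i + (m : ZMod p) * κ h).val) p with hcc
      have hc' : ∀ n m : ℕ, n < 4 → m < 4 → cc m (U n) = if n = m then U n else 0 := by
        intro n m hn hm
        have := hcomp n m
        simp only [hcast n m hn hm] at this
        exact this
      rw [Fin.sum_univ_three] at h1
      have h1' : g 0 • (U 1 - U 0) + g 1 • (U 2 - U 1) + g 2 • (U 3 - U 2) = 0 := h1
      have c10 : cc 0 (U 1) = 0 := by simpa using hc' 1 0 (by norm_num) (by norm_num)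
      have c00 : cc 0 (U 0) = U 0 := by simpa using hc' 0 0 (by norm_num) (by norm_num)
      have c20 : cc 0 (U 2) = 0 := by simpa using hc' 2 0 (by norm_num) (by norm_num)
      have c30 : cc 0 (U 3) = 0 := by simpa using hc' 3 0 (by norm_num) (by norm_num)
      have c11 : cc 1 (U 1) = U 1 := by simpa using hc' 1 1 (by norm_num) (by norm_num)
      have c21 : cc 1 (U 2) = 0 := by simpa using hc' 2 1 (by norm_num) (by norm_num)
      have c31 : cc 1 (U 3) = 0 := by simpa using hc' 3 1 (by norm_num) (by norm_num)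
      have c22 : cc 2 (U 2) = U 2 := by simpa using hc' 2 2 (by norm_num) (by norm_num)
      have c32 : cc 2 (U 3) = 0 := by simpa using hc' 3 2 (by norm_num) (by norm_num)
      have g0 : g 0 = 0 := by
        have e0 := congrArg (cc 0) h1'
        simp only [map_add, map_smul, map_sub, c10, c00, c20, c30, sub_self, smul_zero, add_zero,
          zero_sub, smul_neg, map_zero, neg_eq_zero] at e0
        exact (smul_eq_zero.1 e0).resolve_right (hne 0)
      have g1 : g 1 = 0 := by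
        have e0 := congrArg (cc 1) h1'
        simp only [g0, zero_smul, zero_add, map_add, map_smul, map_sub, c21, c11, c31, sub_self,
          smul_zero, add_zero, zero_sub, smul_neg, map_zero, neg_eq_zero] at e0
        exact (smul_eq_zero.1 e0).resolve_right (hne 1)
      have g2 : g 2 = 0 := by
        have e0 := congrArg (cc 2) h1'
        simp only [g0, g1, zero_smul, zero_add, map_smul, map_sub, c22, c32,
          zero_sub, smul_neg, map_zero, neg_eq_zero] at e0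
        exact (smul_eq_zero.1 e0).resolve_right (hne 2)
      intro k
      fin_cases k
      · exact g0
      · exact g1
      · exact g2
    have := hli.fintype_card_le_finrank
    simpa using this

omit [Finite E] in
/-- Conjugate label vectors have the same labels up to a shift. -/
theorem shift (C : Ctx p G PS β N) {L : Type*} {X : L → E} (hX : ∀ l, X l ∈ fx a W)
    (hn : ∀ l l', l ≠ l' → ∀ h ∈ I.H₀, h (X l) ≠ X l')
    (c c' : ZMod p → L) {h : E ≃ₗ[F] E} (hh : h ∈ H) (hc : h (I.vec X c) = I.vec X c') :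
    ∃ s, ∀ i, c' (i + s) = c i := by
  have D := I.dec' C.pF
  refine ⟨κ ⟨h, hh⟩, fun i => ?_⟩
  have hxm : ∀ (c : ZMod p → L) i, (r ^ i.val) (X (c i)) ∈ fx (a * z ^ i.val) W := fun c i =>
    I.rpow_mv i (hX (c i))
  have h1 := D.cp_equiv (h := (h : E →ₗ[F] E)) (σ := fun i => i + κ ⟨h, hh⟩)
    (add_left_injective _) (fun i w hw => I.mv ⟨h, hh⟩ i w hw) (D.sum_mem (hxm c)) i
  change ((p : F)⁻¹ • av (a * z ^ (i + κ ⟨h, hh⟩).val) p) (h (I.vec X c)) = _ at h1
  rw [hc] at h1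
  have h2 := D.cp_sum (hxm c') (i + κ ⟨h, hh⟩)
  have h3 := D.cp_sum (hxm c) i
  change _ = h (((p : F)⁻¹ • av (a * z ^ i.val) p) (I.vec X c)) at h1
  change ((p : F)⁻¹ • av (a * z ^ (i + κ ⟨h, hh⟩).val) p) (I.vec X c') = _ at h2
  change ((p : F)⁻¹ • av (a * z ^ i.val) p) (I.vec X c) = _ at h3
  rw [h2, h3] at h1
  by_contra hne
  refine hn (c i) (c' (i + κ ⟨h, hh⟩)) (Ne.symm hne) _
    (I.conj_H₀ hh i (i + κ ⟨h, hh⟩) (by rw [add_sub_cancel_left])) ?_
  change (r ^ (i + κ ⟨h, hh⟩).val)⁻¹ (h ((r ^ i.val) (X (c i)))) = _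
  rw [← h1, ← LinearEquiv.mul_apply, inv_mul_cancel]
  rfl

omit [Finite E] in
theorem N_vec (C : Ctx p G PS β N) {L : Type*} {X : L → E} (hX : ∀ l, X l ∈ fx a W)
    (c : ZMod p → L) : N (I.vec X c) = ∑ i, N (X (c i)) := by
  unfold vec
  rw [C.N_sum]
  · exact Finset.sum_congr rfl fun i _ => C.NG _ (G.pow_mem (I.le I.rH) _) _
  · intro i _ j _ hij
    have hi := I.rpow_mv i (hX (c i))
    have hj := I.rpow_mv j (hX (c j))
    exact (C.orth (G.mul_mem (I.le I.aH) (G.pow_mem (I.le I.zH) _)) C.pF (mem_fx.1 hi).2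
      (av_of_fx (I.inv z I.zH) I.zp I.hcomm I.z0 (Ne.symm hij) hj)).1

omit [Finite E] in
/-- The first block is admissible for `H₀`. -/
theorem adm₀ (C : Ctx p G PS β N) : Adm G PS β I.H₀ (fx a W) where
  le h hh := I.le hh.1
  inv h hh w hw := by
    have := I.mv ⟨h, hh.1⟩ 0 w (by simpa using hw)
    have h0 : κ ⟨h, hh.1⟩ = 0 := hh.2
    rw [h0] at this
    simpa using this
  ps J hJ w hw := by
    obtain ⟨h1, h2⟩ := mem_fx.1 hw
    refine mem_fx.2 ⟨I.ps J hJ _ h1, ?_⟩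
    rw [← C.comm J hJ a (I.le I.aH), h2]
  ne := by
    intro hbot
    have D := I.dec' C.pF
    apply I.ne
    rw [Submodule.eq_bot_iff]
    intro w hw
    rw [← D.sum w hw]
    refine Finset.sum_eq_zero fun i _ => ?_
    have h1 := I.rpow_inv_mv i (D.mem i w hw)
    rw [hbot, Submodule.mem_bot] at h1
    exact (LinearEquiv.map_eq_zero_iff _).1 h1
  fix w hw h := I.z0 w (mem_fx.1 hw).1 (h z ⟨I.zH, I.κ_z⟩)
  nd x hx h := by
    have D := I.dec' C.pF
    apply I.nd x (mem_fx.1 hx).1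
    intro y hy
    rw [← D.sum y hy, C.β_sum_right]
    refine Finset.sum_eq_zero fun i _ => ?_
    have hyi := D.mem i y hy
    by_cases hi : i = 0
    · subst hi
      exact h _ (by simpa using hyi)
    · refine (C.orth (I.le I.aH) C.pF (mem_fx.1 hx).2 ?_).1
      have := av_of_fx (I.inv z I.zH) I.zp I.hcomm I.z0 hi hyi (j := 0)
      simpa using this

omit [Finite E] [Fact p.Prime] in
theorem block_ne : fx a W ≠ W := by
  intro h
  apply I.ne
  rw [Submodule.eq_bot_iff]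
  intro w hw
  -- `r w` and `w` are fixed by `a`; `r a = a z r` on `W`
  have h1 : ∀ w ∈ W, a w = w := fun w hw =>
    (mem_fx.1 (show w ∈ fx a W by rw [h]; exact hw)).2
  have h2 := I.ra w hw
  rw [h1 w hw, h1 _ (I.inv z I.zH _ (I.inv r I.rH w hw))] at h2
  have h4 := I.z0 _ (I.inv r I.rH w hw) h2.symm
  exact (LinearEquiv.map_eq_zero_iff _).1 h4

end Imp

namespace Red

variable {p : ℕ} {G : Subgroup (E ≃ₗ[F] E)} {PS : Set (E →ₗ[F] E)}
  {β : E → E → F} {N : E → F} {H : Subgroup (E ≃ₗ[F] E)} {W : Submodule F E} {A : E →ₗ[F] E}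
  (I : Red G PS β H W A)

include I

/-- **Reducible step.** -/
theorem step {x y : E} (hx : Good PS H (spl A W true) x) (hy : Good PS H (spl A W false) y) :
    Good PS H W (x + y) := by
  have h1 := good_sum (PS := PS) (H := H) I.dec
    (fun J hJ i w hw => (I.adm' i).ps J hJ w hw) (fun _ i => i) (fun _ => Function.injective_id)
    (fun h i w hw => (I.adm' i).inv h h.2 w hw) (fun _ => H) (fun h _ _ => h.2)
    (x := fun b => match b with | true => x | false => y)
    (fun b => by cases b; exacts [hy, hx]) (fun _ _ _ => rfl)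
    (fun J _ h ⟨i, hi⟩ => absurd rfl hi)
  simpa using h1

omit [Finite E] in
theorem conj_iff {x y x' y' : E} (hx : x ∈ spl A W true) (hx' : x' ∈ spl A W true)
    (hy : y ∈ spl A W false) (hy' : y' ∈ spl A W false) {h : E ≃ₗ[F] E} (hh : h ∈ H)
    (he : h (x + y) = x' + y') : h x = x' ∧ h y = y' := by
  have e1 := (mem_spl_true.1 ((I.adm' true).inv h hh x hx)).2
  have e2 := (mem_spl_false.1 ((I.adm' false).inv h hh y hy)).2
  have e3 := (mem_spl_true.1 hx').2
  have e4 := (mem_spl_false.1 hy').2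
  rw [map_add] at he
  have h1 := congrArg A he
  rw [map_add, map_add, e1, e2, e3, e4, add_zero, add_zero] at h1
  refine ⟨h1, ?_⟩
  rw [h1] at he
  exact add_left_cancel he

omit [Finite E] in
theorem N_add (C : Ctx p G PS β N) {x y : E} (hx : x ∈ spl A W true) (hy : y ∈ spl A W false) :
    N (x + y) = N x + N y :=
  C.Nadd _ _ (I.orth x hx y hy).1 (I.orth x hx y hy).2

end Red

/-! ### The trichotomy -/

section tri

variable {p : ℕ} [Fact p.Prime] {G : Subgroup (E ≃ₗ[F] E)} {PS : Set (E →ₗ[F] E)}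
  {β : E → E → F} {N : E → F} {H : Subgroup (E ≃ₗ[F] E)} {W : Submodule F E}

omit [Finite E] [Fact p.Prime] in
theorem red_of_central (C : Ctx p G PS β N) (A0 : Adm G PS β H W) {c : E ≃ₗ[F] E} (hc : c ∈ H)
    (hcc : ∀ h ∈ H, ∀ w ∈ W, h (c w) = c (h w)) (h1 : ∃ w ∈ W, w ≠ 0 ∧ c w = w)
    (h2 : ∃ u ∈ W, c u ≠ u) : ∃ A, Red G PS β H W A := by
  obtain ⟨k, hk⟩ := C.pg ⟨c, A0.le hc⟩
  have hk' : c ^ p ^ k = 1 := congrArg Subtype.val hk
  set n := p ^ k with hn
  have hnF : (n : F) ≠ 0 := by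
    rw [hn, Nat.cast_pow]; exact pow_ne_zero _ C.pF
  let A : E →ₗ[F] E := (n : F)⁻¹ • av c n
  have hAW : ∀ w ∈ W, A w ∈ W := fun w hw => W.smul_mem _ (av_mem (A0.inv c hc) _ hw)
  have hAf : ∀ w, c (A w) = A w := fun w => by
    change c ((n : F)⁻¹ • av c n w) = (n : F)⁻¹ • av c n w
    rw [map_smul, av_fix _ _ _ (by rw [hk']; rfl)]
  have hAof : ∀ w, c w = w → A w = w := fun w hw => by
    change (n : F)⁻¹ • av c n w = w
    rw [av_of_fix _ _ _ hw, smul_smul, inv_mul_cancel₀ hnF, one_smul]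
  have hAA : ∀ w ∈ W, A (A w) = A w := fun w _ => hAof _ (hAf w)
  have hAh : ∀ h ∈ H, ∀ w ∈ W, A (h w) = h (A w) := by
    intro h hh w hw
    change (n : F)⁻¹ • av c n (h w) = h ((n : F)⁻¹ • av c n w)
    rw [map_smul, av_apply, av_apply, map_sum]
    congr 1
    exact Finset.sum_congr rfl fun k _ => (comm_pow (A0.inv c hc) (hcc h hh) k hw).symm
  have hAJ : ∀ J ∈ PS, ∀ w, A (J w) = J (A w) := by
    intro J hJ w
    change (n : F)⁻¹ • av c n (J w) = J ((n : F)⁻¹ • av c n w)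
    rw [map_smul, av_apply, av_apply, map_sum]
    congr 1
    exact Finset.sum_congr rfl fun k _ => (C.comm J hJ _ (G.pow_mem (A0.le hc) k) w).symm
  have horth : ∀ x ∈ spl A W true, ∀ y ∈ spl A W false, β x y = 0 ∧ β y x = 0 := by
    intro x hx y hy
    have e1 := (mem_spl_true.1 hx).2
    have e2 := (mem_spl_false.1 hy).2
    refine C.orth (A0.le hc) hnF (by rw [← e1, hAf]) ?_
    have e3 : (n : F)⁻¹ • av c n y = 0 := e2
    exact (smul_eq_zero.1 e3).resolve_left (inv_ne_zero hnF)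
  have D := dec_spl hAW hAA
  refine ⟨A, { toAdm := A0, dec := D, adm' := fun b => ?_, orth := horth }⟩
  refine ⟨A0.le, fun h hh w hw => ?_, fun J hJ w hw => ?_, ?_, fun w hw => A0.fix w (D.le b hw),
    fun x hx hxy => A0.nd x (D.le b hx) fun y hy => ?_⟩
  · cases b
    · obtain ⟨e1, e2⟩ := mem_spl_false.1 hw
      exact mem_spl_false.2 ⟨A0.inv h hh w e1, by rw [hAh h hh w e1, e2, map_zero]⟩
    · obtain ⟨e1, e2⟩ := mem_spl_true.1 hw
      exact mem_spl_true.2 ⟨A0.inv h hh w e1, by rw [hAh h hh w e1, e2]⟩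
  · cases b
    · obtain ⟨e1, e2⟩ := mem_spl_false.1 hw
      exact mem_spl_false.2 ⟨A0.ps J hJ w e1, by rw [hAJ J hJ w, e2, map_zero]⟩
    · obtain ⟨e1, e2⟩ := mem_spl_true.1 hw
      exact mem_spl_true.2 ⟨A0.ps J hJ w e1, by rw [hAJ J hJ w, e2]⟩
  · cases b
    · obtain ⟨u, hu, hcu⟩ := h2
      intro hbot
      apply hcu
      have h3 : u - A u ∈ spl A W false :=
        mem_spl_false.2 ⟨W.sub_mem hu (hAW u hu), by rw [map_sub, hAA u hu, sub_self]⟩
      rw [hbot, Submodule.mem_bot, sub_eq_zero] at h3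
      rw [h3, hAf]
    · obtain ⟨w, hw, hw0, hcw⟩ := h1
      intro hbot
      apply hw0
      have h3 : w ∈ spl A W true := mem_spl_true.2 ⟨hw, hAof w hcw⟩
      rwa [hbot, Submodule.mem_bot] at h3
  · have hy' : y = A y + (y - A y) := by abel
    have m1 : A y ∈ spl A W true := mem_spl_true.2 ⟨hAW y hy, hAA y hy⟩
    have m2 : y - A y ∈ spl A W false :=
      mem_spl_false.2 ⟨W.sub_mem hy (hAW y hy), by rw [map_sub, hAA y hy, sub_self]⟩
    rw [hy', C.βr]
    cases b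
    · rw [hxy _ m2, (horth _ m1 x hx).2, add_zero]
    · rw [hxy _ m1, (horth x hx _ m2).1, add_zero]

/-- The action of `H` on `W`. -/
def act (A0 : Adm G PS β H W) : H →* Equiv.Perm W where
  toFun h :=
    { toFun := fun w => ⟨(h : E ≃ₗ[F] E) w, A0.inv _ h.2 _ w.2⟩
      invFun := fun w => ⟨(h⁻¹ : E ≃ₗ[F] E) w, A0.inv _ (H.inv_mem h.2) _ w.2⟩
      left_inv := fun w => by
        apply Subtype.ext
        change ((h : E ≃ₗ[F] E)⁻¹ * h) (w : E) = w
        rw [inv_mul_cancel]; rfl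
      right_inv := fun w => by
        apply Subtype.ext
        change ((h : E ≃ₗ[F] E) * (h : E ≃ₗ[F] E)⁻¹) (w : E) = w
        rw [mul_inv_cancel]; rfl }
  map_one' := by ext w; rfl
  map_mul' h k := by ext w; rfl

omit [Finite E] [Fact p.Prime] in
theorem act_apply (A0 : Adm G PS β H W) (h : H) (w : W) :
    ((act A0 h w : W) : E) = (h : E ≃ₗ[F] E) w := rfl

theorem trichotomy (C : Ctx p G PS β N) (A0 : Adm G PS β H W) :
    Base G PS β H W ∨ (∃ A, Red G PS β H W A) ∨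
      ∃ (z a r : E ≃ₗ[F] E) (κ : H → ZMod p), Imp p G PS β H W z a r κ := by
  classical
  by_cases hred : ∃ A, Red G PS β H W A
  · exact Or.inr (Or.inl hred)
  -- central elements act trivially or without fixed points
  have hcent : ∀ c ∈ H, (∀ h ∈ H, ∀ w ∈ W, h (c w) = c (h w)) → (∃ u ∈ W, c u ≠ u) →
      ∀ w ∈ W, c w = w → w = 0 := by
    intro c hc hcc h2 w hw hcw
    by_contra hw0
    exact hred (red_of_central C A0 hc hcc ⟨w, hw, hw0, hcw⟩ h2)
  set Q := (act A0).range with hQ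
  have hQp : IsPGroup p Q := by
    rintro ⟨_, h, rfl⟩
    obtain ⟨k, hk⟩ := C.pg ⟨(h : E ≃ₗ[F] E), A0.le h.2⟩
    refine ⟨k, ?_⟩
    apply Subtype.ext
    have h1 : h ^ p ^ k = 1 := Subtype.ext (by
      have := congrArg Subtype.val hk
      simpa using this)
    rw [SubmonoidClass.coe_pow, ← map_pow, h1, map_one]; rfl
  have hQf : Finite Q := inferInstance
  by_cases hcyc : IsCyclic Q
  · -- cyclic: base case
    left
    have hab : ∀ h ∈ H, ∀ k ∈ H, ∀ w ∈ W, h (k w) = k (h w) := by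
      intro h hh k hk w hw
      have hcomm : (⟨act A0 ⟨h, hh⟩, _, rfl⟩ : Q) * ⟨act A0 ⟨k, hk⟩, _, rfl⟩
          = ⟨act A0 ⟨k, hk⟩, _, rfl⟩ * ⟨act A0 ⟨h, hh⟩, _, rfl⟩ :=
        (IsCyclic.commGroup (α := Q)).mul_comm _ _
      have h1 := congrArg (fun q : Q => (((q : Equiv.Perm W) ⟨w, hw⟩ : W) : E)) hcomm
      exact h1
    refine { toAdm := A0, fpf := fun h hh w hw hw0 hhw u hu => ?_, ab := hab }
    by_contra hne
    exact hw0 (hcent h hh (fun k hk w hw => hab k hk h hh w hw) ⟨u, hu, hne⟩ w hw hhw)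
  · right; right
    have hp2 : p ≠ 2 := by have := C.five; omega
    obtain ⟨A, hAn, hAe, hAc⟩ := Cfsg.Agent.S0126.result hp2 hQp hcyc
    have hAnc : ¬ IsCyclic A := by
      intro hA
      obtain ⟨g, hg⟩ := hA.exists_generator
      have h1 : orderOf g = p ^ 2 := by rw [orderOf_eq_card_of_forall_mem_zpowers hg, hAc]
      have h2 : g ^ p = 1 := Subtype.ext (hAe.2 g g.2)
      have h3 : p ^ 2 ∣ p := by rw [← h1]; exact orderOf_dvd_of_pow_eq_one h2
      have h4 := Nat.le_of_dvd (Fact.out : p.Prime).pos h3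
      have h5 := (Fact.out : p.Prime).one_lt
      nlinarith
    obtain ⟨zq, bq, hzc, hzo, hbp, hbz, hconj⟩ :=
      Cfsg.Agent.H351.HT.exists_config hQp A hAe.1 hAnc
    obtain ⟨_, ⟨z, hz⟩, rfl⟩ := zq
    obtain ⟨_, ⟨a, ha⟩, rfl⟩ := bq
    have toE : ∀ (f g : Q), f = g → ∀ w : W, (((f : Equiv.Perm W) w : W) : E) = ((g : Equiv.Perm W) w : W) :=
      fun f g e w => by rw [e]
    have actpow : ∀ (h : H) (n : ℕ) (w : W), (((act A0 h ^ n : Equiv.Perm W) w : W) : E)
        = ((h : E ≃ₗ[F] E) ^ n) w := by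
      intro h n w
      rw [← map_pow, act_apply]; rfl
    have hzW := A0.inv z hz
    have haW := A0.inv a ha
    have hzp : ∀ w ∈ W, (z ^ p) w = w := by
      intro w hw
      have h1 := pow_orderOf_eq_one (⟨act A0 ⟨z, hz⟩, _, rfl⟩ : Q)
      rw [hzo] at h1
      have h2 := toE _ _ h1 ⟨w, hw⟩
      rw [SubmonoidClass.coe_pow, actpow] at h2
      exact h2
    have hap : ∀ w ∈ W, (a ^ p) w = w := by
      intro w hw
      have h2 := toE _ _ hbp ⟨w, hw⟩
      rw [SubmonoidClass.coe_pow, actpow] at h2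
      exact h2
    have hzcW : ∀ h ∈ H, ∀ w ∈ W, h (z w) = z (h w) := by
      intro h hh w hw
      exact toE _ _ (hzc ⟨act A0 ⟨h, hh⟩, _, rfl⟩) ⟨w, hw⟩
    have hz1 : ∃ u ∈ W, z u ≠ u := by
      by_contra hcon
      push Not at hcon
      have h1 : (⟨act A0 ⟨z, hz⟩, _, rfl⟩ : Q) = 1 := by
        apply Subtype.ext
        ext w
        exact hcon w w.2
      rw [h1, orderOf_one] at hzo
      exact (Fact.out : p.Prime).one_lt.ne hzo
    have hz0 : ∀ w ∈ W, z w = w → w = 0 := hcent z hz hzcW hz1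
    -- the homomorphism κ
    have hκex : ∀ h : H, ∃ i : ℕ, ∀ w ∈ W, (h : E ≃ₗ[F] E) (a w) = a ((z ^ i) ((h : E ≃ₗ[F] E) w)) := by
      intro h
      obtain ⟨i, hi⟩ := hconj ⟨act A0 h, _, rfl⟩
      rw [mul_inv_eq_iff_eq_mul] at hi
      refine ⟨i, fun w hw => ?_⟩
      have h2 := toE _ _ hi ⟨w, hw⟩
      simp only [Subgroup.coe_mul, SubmonoidClass.coe_pow, Equiv.Perm.mul_apply] at h2
      rw [act_apply, act_apply, act_apply] at h2
      rw [h2]
      congr 1
      exact actpow ⟨z, hz⟩ i (act A0 h ⟨w, hw⟩)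
    choose κ0 hκ0 using hκex
    let κ : H → ZMod p := fun h => (κ0 h : ZMod p)
    have hκ : ∀ h : H, ∀ w ∈ W, (h : E ≃ₗ[F] E) (a w) = a ((z ^ (κ h).val) ((h : E ≃ₗ[F] E) w)) := by
      intro h w hw
      rw [hκ0 h w hw, pow_congr_on hzp (n := (κ h).val) (by simp [κ]) (A0.inv _ h.2 _ hw)]
    have hex : ∃ h : H, κ h ≠ 0 := by
      by_contra hcon
      push Not at hcon
      have hac : ∀ h ∈ H, ∀ w ∈ W, h (a w) = a (h w) := by
        intro h hh w hw
        have := hκ ⟨h, hh⟩ w hw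
        rw [hcon ⟨h, hh⟩, ZMod.val_zero, pow_zero] at this
        exact this
      have D := dec_ind C.pF hzW haW hzp hap (hzcW a ha) hz0
      have hW : ∃ i : ZMod p, ∃ w ∈ fx (a * z ^ i.val) W, w ≠ 0 := by
        by_contra hcon'
        push Not at hcon'
        apply A0.ne
        rw [Submodule.eq_bot_iff]
        intro w hw
        rw [← D.sum w hw]
        exact Finset.sum_eq_zero fun i _ => hcon' i _ (D.mem i w hw)
      obtain ⟨i, w, hw, hw0⟩ := hW
      obtain ⟨hwW, hwf⟩ := mem_fx.1 hw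
      apply hw0
      refine hcent (a * z ^ i.val) (H.mul_mem ha (H.pow_mem hz _)) (fun h hh u hu => ?_) ?_ w hwW hwf
      · rw [LinearEquiv.mul_apply, LinearEquiv.mul_apply, hac h hh _ (pow_mem hzW _ hu),
          comm_pow hzW (hzcW h hh) _ hu]
      · by_contra hcon'
        push Not at hcon'
        apply hbz
        have h1 : (⟨act A0 ⟨a, ha⟩, _, rfl⟩ : Q) * (⟨act A0 ⟨z, hz⟩, _, rfl⟩ : Q) ^ i.val = 1 := by
          apply Subtype.ext
          ext u
          have := hcon' u u.2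
          rw [LinearEquiv.mul_apply, ← actpow ⟨z, hz⟩ i.val u] at this
          exact this
        rw [mul_eq_one_iff_eq_inv] at h1
        rw [h1]
        exact Subgroup.inv_mem _ (Subgroup.pow_mem _ (Subgroup.mem_zpowers _) _)
    obtain ⟨h, hh0⟩ := hex
    set m := ((κ h)⁻¹).val with hm
    refine ⟨z, a, (h : E ≃ₗ[F] E) ^ m, κ, { toAdm := A0, zH := hz, aH := ha, rH := H.pow_mem h.2 m, zp := hzp, ap := hap, zc := hzcW, z0 := hz0, κh := hκ, ra := ?_ }⟩
    have hind : ∀ n : ℕ, ∀ w ∈ W, ((h : E ≃ₗ[F] E) ^ n) (a w) =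
        a ((z ^ (n * (κ h).val)) (((h : E ≃ₗ[F] E) ^ n) w)) := by
      intro n
      induction n with
      | zero => intro w hw; simp
      | succ n ih =>
        intro w hw
        rw [pow_succ', LinearEquiv.mul_apply, ih w hw,
          hκ h _ (pow_mem hzW _ (pow_mem (A0.inv _ h.2) _ hw)),
          comm_pow hzW (hzcW _ h.2) _ (pow_mem (A0.inv _ h.2) _ hw), LinearEquiv.mul_apply,
          ← LinearEquiv.mul_apply (z ^ _), ← pow_add]
        congr 3
        ring
    intro w hw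
    rw [hind m w hw, pow_congr_on hzp (n := 1) _ (pow_mem (A0.inv _ h.2) _ hw), pow_one]
    rw [Nat.cast_mul, hm, ZMod.natCast_zmod_val, ZMod.natCast_zmod_val, Nat.cast_one]
    exact inv_mul_cancel₀ hh0

end tri

end Cfsg.Agent.H903.SylReg
end

-- part: H903/SylRegB
section
set_option autoImplicit false

namespace Cfsg.Agent.H903.SylReg

open Finset

variable {F : Type*} [Field F] {E : Type*} [AddCommGroup E] [Module F E] [Finite E]

section tri

variable {p : ℕ} [Fact p.Prime] {G : Subgroup (E ≃ₗ[F] E)} {PS : Set (E →ₗ[F] E)}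
  {β : E → E → F} {N : E → F} {H : Subgroup (E ≃ₗ[F] E)} {W : Submodule F E}

/-- **Recursion principle.** -/
theorem recursion (C : Ctx p G PS β N) (Qc : Subgroup (E ≃ₗ[F] E) → Submodule F E → Prop)
    (hbase : ∀ (H : Subgroup (E ≃ₗ[F] E)) (W : Submodule F E), Base G PS β H W → Qc H W)
    (hred : ∀ (H : Subgroup (E ≃ₗ[F] E)) (W : Submodule F E) (A : E →ₗ[F] E), Red G PS β H W A →
      Qc H (spl A W true) → Qc H (spl A W false) → Qc H W)
    (himp : ∀ (H : Subgroup (E ≃ₗ[F] E)) (W : Submodule F E) (z a r : E ≃ₗ[F] E) (κ : H → ZMod p)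
      (I : Imp p G PS β H W z a r κ), Qc I.H₀ (fx a W) → Qc H W) :
    ∀ (H : Subgroup (E ≃ₗ[F] E)) (W : Submodule F E), Adm G PS β H W → Qc H W := by
  have key : ∀ n : ℕ, ∀ (H : Subgroup (E ≃ₗ[F] E)) (W : Submodule F E),
      Module.finrank F W = n → Adm G PS β H W → Qc H W := by
    intro n
    induction n using Nat.strong_induction_on with
    | _ n ih =>
      intro H W hn A0
      rcases trichotomy C A0 with hB | ⟨A, hR⟩ | ⟨z, a, r, κ, hI⟩
      · exact hbase H W hB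
      · have hlt : ∀ b, spl A W b < W := by
          intro b
          refine lt_of_le_of_ne (hR.dec.le b) fun he => ?_
          apply (hR.adm' (!b)).ne
          rw [Submodule.eq_bot_iff]
          intro w hw
          have hw' : w ∈ spl A W b := by rw [he]; exact hR.dec.le _ hw
          cases b
          · rw [← (mem_spl_true.1 hw).2, (mem_spl_false.1 hw').2]
          · rw [← (mem_spl_true.1 hw').2, (mem_spl_false.1 hw).2]
        refine hred H W A hR ?_ ?_
        · exact ih _ (hn ▸ Submodule.finrank_lt_finrank_of_lt (hlt true)) H _ rfl (hR.adm' true)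
        · exact ih _ (hn ▸ Submodule.finrank_lt_finrank_of_lt (hlt false)) H _ rfl (hR.adm' false)
      · have hlt : fx a W < W := lt_of_le_of_ne inf_le_left hI.block_ne
        exact himp H W z a r κ hI
          (ih _ (hn ▸ Submodule.finrank_lt_finrank_of_lt hlt) _ _ rfl (hI.adm₀ C))
  exact fun H W hA => key _ H W rfl hA

omit [Fact p.Prime] in
/-- In the base case a vector with all projections non-zero is good. -/
theorem base_good (C : Ctx p G PS β N) (B : Base G PS β H W) {x : E} (hx : x ∈ W) (hx0 : x ≠ 0)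
    (hJ : ∀ J ∈ PS, J x ≠ 0) : Good PS H W x where
  mem := hx
  reg h hh hfix := B.fpf h hh x hx hx0 hfix
  ss J hJP z hz hmem := by
    left
    obtain ⟨w, hw, hwx⟩ := mem_cm.1 hmem
    have hzJ : ∀ u, z (J u) = J (z u) := fun u => (C.comm J hJP z (B.le hz) u).symm
    have hfix : ∀ u ∈ W, z u = u → u = 0 := by
      intro u hu hzu
      by_contra hu0
      have h1 := B.fpf z hz u hu hu0 hzu _ (B.ps J hJP w hw)
      rw [h1, sub_self] at hwx
      exact hJ J hJP hwx.symm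
    -- `z - 1` is injective on the finite space `J W`
    let M : Submodule F E := W.map J
    have hMW : ∀ u ∈ M, u ∈ W := by
      rintro _ ⟨u, hu, rfl⟩
      exact B.ps J hJP u hu
    have hMz : ∀ u ∈ M, z u - u ∈ M := by
      rintro _ ⟨u, hu, rfl⟩
      rw [hzJ]
      exact M.sub_mem ⟨z u, B.inv z hz u hu, rfl⟩ ⟨u, hu, rfl⟩
    have hinj : Function.Injective (fun u : M => (⟨z u - u, hMz u u.2⟩ : M)) := by
      intro u v huv
      have h1 := congrArg Subtype.val huv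
      simp only at h1
      apply Subtype.ext
      rw [← sub_eq_zero]
      apply hfix _ (hMW _ (M.sub_mem u.2 v.2))
      rw [map_sub]
      rw [sub_eq_sub_iff_add_eq_add] at h1 ⊢
      rw [h1, add_comm]
    intro y hy
    obtain ⟨⟨u, hu⟩, hu'⟩ := (Finite.injective_iff_surjective.1 hinj) ⟨y, hy⟩
    have h1 := congrArg Subtype.val hu'
    obtain ⟨w', hw', rfl⟩ := hu
    exact mem_cm.2 ⟨w', hw', h1⟩

/-- Two-label version: isotropic good vectors. -/
theorem two_labels (C : Ctx p G PS β N)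
    (hbase : ∀ (H : Subgroup (E ≃ₗ[F] E)) (W : Submodule F E), Base G PS β H W → ∃ x y, x ∈ W ∧ y ∈ W ∧ x ≠ 0 ∧ y ≠ 0 ∧
      (∀ J ∈ PS, J x ≠ 0 ∧ J y ≠ 0) ∧ N x = 0 ∧ N y = 0 ∧ ∀ h ∈ H, h x ≠ y) :
    ∀ (H : Subgroup (E ≃ₗ[F] E)) (W : Submodule F E), Adm G PS β H W → ∃ x y, Good PS H W x ∧ Good PS H W y ∧ N x = 0 ∧ N y = 0 ∧
      ∀ h ∈ H, h x ≠ y := by
  classical
  refine recursion C _ (fun H W B => ?_) (fun H W A R h1 h2 => ?_)
    (fun H W z a r κ I h1 => ?_)
  · obtain ⟨x, y, hx, hy, hx0, hy0, hJ, hN, hN', hc⟩ := hbase H W B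
    exact ⟨x, y, base_good C B hx hx0 fun J hJ' => (hJ J hJ').1,
      base_good C B hy hy0 fun J hJ' => (hJ J hJ').2, hN, hN', hc⟩
  · obtain ⟨x, y, hx, hy, hN, hN', hc⟩ := h1
    obtain ⟨x', -, hx', -, hN'', -, -⟩ := h2
    refine ⟨x + x', y + x', R.step hx hx', R.step hy hx', ?_, ?_, fun h hh he => ?_⟩
    · rw [R.N_add C hx.mem hx'.mem, hN, hN'', add_zero]
    · rw [R.N_add C hy.mem hx'.mem, hN', hN'', add_zero]
    · exact hc h hh (R.conj_iff hx.mem hy.mem hx'.mem hx'.mem hh he).1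
  · obtain ⟨x, y, hx, hy, hN, hN', hc⟩ := h1
    let X : Bool → E := fun b => if b then x else y
    have hX : ∀ l, Good PS I.H₀ (fx a W) (X l) := by
      intro l; cases l
      · exact hy
      · exact hx
    have hXm : ∀ l, X l ∈ fx a W := fun l => (hX l).mem
    have hn : ∀ l l', l ≠ l' → ∀ h ∈ I.H₀, h (X l) ≠ X l' := by
      intro l l' hl h hh
      cases l <;> cases l'
      · exact absurd rfl hl
      · intro he
        refine hc h⁻¹ (I.H₀.inv_mem hh) ?_
        have he' : h y = x := he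
        rw [← he']
        change (h⁻¹ * h) y = y
        rw [inv_mul_cancel]; rfl
      · exact hc h hh
      · exact absurd rfl hl
    have h10 : (1 : ZMod p) ≠ 0 := one_ne_zero
    have h20 : (2 : ZMod p) ≠ 0 := by
      have : ((2 : ℕ) : ZMod p) ≠ 0 := by
        rw [Ne, ZMod.natCast_eq_zero_iff]
        intro hd
        have := Nat.le_of_dvd (by norm_num) hd
        have := C.five
        omega
      simpa using this
    have h21 : (2 : ZMod p) ≠ 1 := by
      intro h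
      apply h10
      have : (2 : ZMod p) = 1 + 1 := by norm_num
      rw [this] at h
      exact left_eq_add.1 h.symm
    let c₁ : ZMod p → Bool := fun i => decide (i = 0)
    let c₂ : ZMod p → Bool := fun i => decide (i = 0 ∨ i = 1)
    have hc₁ : ∃ i j, c₁ i ≠ c₁ j := ⟨0, 1, by simp [c₁, h10]⟩
    have hc₂ : ∃ i j, c₂ i ≠ c₂ j := ⟨0, 2, by simp [c₂, h20, h21]⟩
    have hNX : ∀ l, N (X l) = 0 := by
      intro l; cases l
      · exact hN'
      · exact hN
    refine ⟨I.vec X c₁, I.vec X c₂, I.step C hX hn c₁ hc₁, I.step C hX hn c₂ hc₂, ?_, ?_,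
      fun h hh he => ?_⟩
    · rw [I.N_vec C hXm]; exact Finset.sum_eq_zero fun i _ => hNX _
    · rw [I.N_vec C hXm]; exact Finset.sum_eq_zero fun i _ => hNX _
    · obtain ⟨s, hs⟩ := I.shift C hXm hn c₁ c₂ hh he
      have e1 := hs (-s)
      have e2 := hs (1 - s)
      simp only [c₁, c₂, neg_add_cancel, sub_add_cancel, true_or, or_true, decide_true] at e1 e2
      have e1' : -s = 0 := by simpa using e1.symm
      have e2' : 1 - s = 0 := by simpa using e2.symm
      rw [neg_eq_zero.1 e1', sub_zero] at e2'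
      exact h10 e2'

/-- Two-label version with different norms. -/
theorem two_norms (C : Ctx p G PS β N)
    (hbase : ∀ (H : Subgroup (E ≃ₗ[F] E)) (W : Submodule F E), Base G PS β H W → ∃ x y, x ∈ W ∧ y ∈ W ∧ x ≠ 0 ∧ y ≠ 0 ∧
      (∀ J ∈ PS, J x ≠ 0 ∧ J y ≠ 0) ∧ N x ≠ N y) :
    ∀ (H : Subgroup (E ≃ₗ[F] E)) (W : Submodule F E), Adm G PS β H W → ∃ x y, Good PS H W x ∧ Good PS H W y ∧ N x ≠ N y := by
  classical
  refine recursion C _ (fun H W B => ?_) (fun H W A R h1 h2 => ?_)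
    (fun H W z a r κ I h1 => ?_)
  · obtain ⟨x, y, hx, hy, hx0, hy0, hJ, hN⟩ := hbase H W B
    exact ⟨x, y, base_good C B hx hx0 fun J hJ' => (hJ J hJ').1,
      base_good C B hy hy0 fun J hJ' => (hJ J hJ').2, hN⟩
  · obtain ⟨x, y, hx, hy, hN⟩ := h1
    obtain ⟨x', -, hx', -, -⟩ := h2
    refine ⟨x + x', y + x', R.step hx hx', R.step hy hx', ?_⟩
    rw [R.N_add C hx.mem hx'.mem, R.N_add C hy.mem hx'.mem]
    exact fun h => hN (add_right_cancel h)
  · obtain ⟨x, y, hx, hy, hN⟩ := h1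
    let X : Bool → E := fun b => if b then x else y
    have hX : ∀ l, Good PS I.H₀ (fx a W) (X l) := by
      intro l; cases l
      · exact hy
      · exact hx
    have hXm : ∀ l, X l ∈ fx a W := fun l => (hX l).mem
    have hn : ∀ l l', l ≠ l' → ∀ h ∈ I.H₀, h (X l) ≠ X l' := by
      intro l l' hl h hh he
      have h1 : N (X l) = N (X l') := by rw [← he, C.NG h ((I.adm₀ C).le hh)]
      cases l <;> cases l'
      · exact absurd rfl hl
      · exact hN h1.symm
      · exact hN h1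
      · exact absurd rfl hl
    have h10 : (1 : ZMod p) ≠ 0 := one_ne_zero
    have h20 : (2 : ZMod p) ≠ 0 := by
      have : ((2 : ℕ) : ZMod p) ≠ 0 := by
        rw [Ne, ZMod.natCast_eq_zero_iff]
        intro hd
        have := Nat.le_of_dvd (by norm_num) hd
        have := C.five
        omega
      simpa using this
    have h21 : (2 : ZMod p) ≠ 1 := by
      intro h
      apply h10
      have : (2 : ZMod p) = 1 + 1 := by norm_num
      rw [this] at h
      exact left_eq_add.1 h.symm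
    let c₁ : ZMod p → Bool := fun i => decide (i = 0)
    let c₂ : ZMod p → Bool := fun i => decide (i = 0 ∨ i = 1)
    have hc₁ : ∃ i j, c₁ i ≠ c₁ j := ⟨0, 1, by simp [c₁, h10]⟩
    have hc₂ : ∃ i j, c₂ i ≠ c₂ j := ⟨0, 2, by simp [c₂, h20, h21]⟩
    refine ⟨I.vec X c₁, I.vec X c₂, I.step C hX hn c₁ hc₁, I.step C hX hn c₂ hc₂, ?_⟩
    rw [I.N_vec C hXm, I.N_vec C hXm]
    intro he
    have h1 : ∑ i, (N (X (c₂ i)) - N (X (c₁ i))) = 0 := by
      rw [Finset.sum_sub_distrib, he, sub_self]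
    rw [Finset.sum_eq_single 1] at h1
    · simp only [c₁, c₂, h10, or_true, decide_true, decide_false, X, if_true,
        Bool.false_eq_true, if_false] at h1
      exact hN (sub_eq_zero.1 h1)
    · intro i _ hi
      by_cases hi0 : i = 0
      · simp [c₁, c₂, hi0]
      · simp [c₁, c₂, hi0, hi]
    · intro h; exact absurd (Finset.mem_univ _) h

omit [Field F] [AddCommGroup E] [Module F E] [Finite E] in
/-- Non-constant patterns with prescribed sum. -/
theorem pattern (h5 : 5 ≤ p) {K : Type*} [AddCommGroup K] [Finite K] (hK : 4 ≤ Nat.card K) (c₀ : K) :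
    ∃ f : ZMod p → {c : K // c ≠ 0}, (∃ i j, f i ≠ f j) ∧ ∑ i, (f i : K) = c₀ := by
  classical
  haveI := Fintype.ofFinite K
  rw [Nat.card_eq_fintype_card] at hK
  have hpick : ∀ S : Finset K, S.card ≤ 3 → ∃ x, x ∉ S := by
    intro S hS
    by_contra hcon
    push Not at hcon
    have : S = Finset.univ := Finset.eq_univ_of_forall hcon
    rw [this, Finset.card_univ] at hS
    omega
  obtain ⟨u, hu⟩ := hpick {0} (by simp)
  set d := c₀ - (p - 2) • u with hd
  obtain ⟨s, hs⟩ := hpick {0, d, u} Finset.card_le_three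
  simp only [Finset.mem_insert, Finset.mem_singleton, not_or] at hu hs
  have hds : d - s ≠ 0 := sub_ne_zero.2 (Ne.symm hs.2.1)
  haveI : Fact (1 < p) := ⟨by omega⟩
  have h10 : (1 : ZMod p) ≠ 0 := one_ne_zero
  have h20 : (2 : ZMod p) ≠ 0 := by
    have : ((2 : ℕ) : ZMod p) ≠ 0 := by
      rw [Ne, ZMod.natCast_eq_zero_iff]
      intro hd
      have := Nat.le_of_dvd (by norm_num) hd
      omega
    simpa using this
  have h21 : (2 : ZMod p) ≠ 1 := by
    intro h
    apply h10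
    have : (2 : ZMod p) = 1 + 1 := by norm_num
    rw [this] at h
    exact left_eq_add.1 h.symm
  let f : ZMod p → {c : K // c ≠ 0} := fun i =>
    if i = 0 then ⟨s, hs.1⟩ else if i = 1 then ⟨d - s, hds⟩ else ⟨u, hu⟩
  refine ⟨f, ⟨0, 2, fun h => ?_⟩, ?_⟩
  · simp only [f, if_true, h20, h21, if_false] at h
    exact hs.2.2 (congrArg Subtype.val h)
  · have h1 : ∀ i : ZMod p, (f i : K) = u + ((if i = 0 then s - u else 0) +
        (if i = 1 then d - s - u else 0)) := by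
      intro i
      simp only [f]
      by_cases hi : i = 0
      · subst hi
        simp [Ne.symm h10]
      · by_cases hi' : i = 1
        · subst hi'
          simp [h10]
        · simp [hi, hi']
    rw [Finset.sum_congr rfl fun i _ => h1 i, Finset.sum_add_distrib, Finset.sum_add_distrib,
      Finset.sum_ite_eq' , Finset.sum_ite_eq']
    simp only [Finset.mem_univ, if_true, Finset.sum_const, Finset.card_univ, ZMod.card]
    have h2 : p • u = (p - 2) • u + (u + u) := by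
      conv_lhs => rw [show p = (p - 2) + 2 by omega, add_smul, two_nsmul]
    rw [h2, hd]
    abel

/-- Prescribed non-zero norms. -/
theorem prescribed (C : Ctx p G PS β N) [Finite F] (K : AddSubgroup F) (hK : 4 ≤ Nat.card K)
    (hbase : ∀ (H : Subgroup (E ≃ₗ[F] E)) (W : Submodule F E), Base G PS β H W →
      ∀ c ∈ K, c ≠ 0 → ∃ x ∈ W, x ≠ 0 ∧ (∀ J ∈ PS, J x ≠ 0) ∧ N x = c) :
    ∀ (H : Subgroup (E ≃ₗ[F] E)) (W : Submodule F E), Adm G PS β H W →
      ∀ c ∈ K, c ≠ 0 → ∃ x, Good PS H W x ∧ N x = c := by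
  classical
  refine recursion C _ (fun H W B => ?_) (fun H W A R h1 h2 => ?_)
    (fun H W z a r κ I h1 => ?_)
  · intro c hc hc0
    obtain ⟨x, hx, hx0, hJ, hN⟩ := hbase H W B c hc hc0
    exact ⟨x, base_good C B hx hx0 hJ, hN⟩
  · intro c hc hc0
    haveI := Fintype.ofFinite K
    rw [Nat.card_eq_fintype_card] at hK
    obtain ⟨c', hc'⟩ : ∃ c' : K, c' ∉ ({0, ⟨c, hc⟩} : Finset K) := by
      by_contra hcon
      push Not at hcon
      have h3 : ({0, ⟨c, hc⟩} : Finset K) = Finset.univ := Finset.eq_univ_of_forall hcon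
      have h4 : ({0, ⟨c, hc⟩} : Finset K).card ≤ 2 := Finset.card_le_two
      rw [h3, Finset.card_univ] at h4
      omega
    simp only [Finset.mem_insert, Finset.mem_singleton, not_or] at hc'
    obtain ⟨x, hx, hNx⟩ := h1 c' c'.2 (fun h => hc'.1 (Subtype.ext h))
    obtain ⟨y, hy, hNy⟩ := h2 (c - c') (K.sub_mem hc c'.2)
      (fun h => hc'.2 (Subtype.ext (sub_eq_zero.1 h).symm))
    refine ⟨x + y, R.step hx hy, ?_⟩
    rw [R.N_add C hx.mem hy.mem, hNx, hNy]
    abel
  · intro c hc hc0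
    obtain ⟨f, hf, hfs⟩ := pattern C.five hK (⟨c, hc⟩ : K)
    have h2 : ∀ l : {c : K // c ≠ 0}, ∃ x, Good PS I.H₀ (fx a W) x ∧ N x = l.1 :=
      fun l => h1 l.1 l.1.2 (fun h => l.2 (Subtype.ext h))
    choose X hX hNX using h2
    have hn : ∀ l l', l ≠ l' → ∀ h ∈ I.H₀, h (X l) ≠ X l' := by
      intro l l' hl h hh he
      have h3 : N (X l) = N (X l') := by rw [← he, C.NG h ((I.adm₀ C).le hh)]
      rw [hNX, hNX] at h3
      exact hl (Subtype.ext (Subtype.ext h3))
    refine ⟨I.vec X f, I.step C hX hn f hf, ?_⟩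
    rw [I.N_vec C (fun l => (hX l).mem)]
    simp only [hNX]
    have h4 := congrArg Subtype.val hfs
    simpa using h4

/-- A good vector of norm zero. -/
theorem top_zero (C : Ctx p G PS β N) [Finite F] (K : AddSubgroup F) (hK : 4 ≤ Nat.card K)
    (hbase : ∀ (H : Subgroup (E ≃ₗ[F] E)) (W : Submodule F E), Base G PS β H W →
      ∀ c ∈ K, c ≠ 0 → ∃ x ∈ W, x ≠ 0 ∧ (∀ J ∈ PS, J x ≠ 0) ∧ N x = c)
    (A0 : Adm G PS β H W)
    (h0 : Base G PS β H W → ∃ x ∈ W, x ≠ 0 ∧ (∀ J ∈ PS, J x ≠ 0) ∧ N x = 0) :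
    ∃ x, Good PS H W x ∧ N x = 0 := by
  classical
  have hP := prescribed C K hK hbase
  rcases trichotomy C A0 with hB | ⟨A, R⟩ | ⟨z, a, r, κ, I⟩
  · obtain ⟨x, hx, hx0, hJ, hN⟩ := h0 hB
    exact ⟨x, base_good C hB hx hx0 hJ, hN⟩
  · haveI := Fintype.ofFinite K
    rw [Nat.card_eq_fintype_card] at hK
    obtain ⟨c', hc'⟩ : ∃ c' : K, c' ≠ 0 := by
      haveI : Nontrivial K := Fintype.one_lt_card_iff_nontrivial.1 (by omega)
      exact exists_ne 0
    obtain ⟨x, hx, hNx⟩ := hP H _ (R.adm' true) c' c'.2 (fun h => hc' (Subtype.ext h))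
    obtain ⟨y, hy, hNy⟩ := hP H _ (R.adm' false) (-c') (K.neg_mem c'.2)
      (fun h => hc' (Subtype.ext (neg_eq_zero.1 h)))
    refine ⟨x + y, R.step hx hy, ?_⟩
    rw [R.N_add C hx.mem hy.mem, hNx, hNy]
    abel
  · obtain ⟨f, hf, hfs⟩ := pattern C.five hK (0 : K)
    have h2 : ∀ l : {c : K // c ≠ 0}, ∃ x, Good PS I.H₀ (fx a W) x ∧ N x = l.1 :=
      fun l => hP _ _ (I.adm₀ C) l.1 l.1.2 (fun h => l.2 (Subtype.ext h))
    choose X hX hNX using h2
    have hn : ∀ l l', l ≠ l' → ∀ h ∈ I.H₀, h (X l) ≠ X l' := by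
      intro l l' hl h hh he
      have h3 : N (X l) = N (X l') := by rw [← he, C.NG h ((I.adm₀ C).le hh)]
      rw [hNX, hNX] at h3
      exact hl (Subtype.ext (Subtype.ext h3))
    refine ⟨I.vec X f, I.step C hX hn f hf, ?_⟩
    rw [I.N_vec C (fun l => (hX l).mem)]
    simp only [hNX]
    have h4 := congrArg Subtype.val hfs
    simpa using h4

/-- The orbits on `W` of a non-trivial `p`-group: a fixed point free vector has at least `p` images. -/
theorem card_ge' (C : Ctx p G PS β N) (A0 : Adm G PS β H W) {M : Submodule F E} (hMW : M ≤ W)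
    (hM : M ≠ ⊥) (hMi : ∀ h ∈ H, ∀ w ∈ M, h w ∈ M) : 6 ≤ Nat.card M := by
  classical
  obtain ⟨w, hw, hw0⟩ := (Submodule.ne_bot_iff _).1 hM
  have hex : ∃ h ∈ H, h w ≠ w := by
    by_contra hcon
    push Not at hcon
    exact hw0 (A0.fix w (hMW hw) hcon)
  obtain ⟨h, hh, hne⟩ := hex
  -- the powers of `h` give at least `p` distinct vectors
  obtain ⟨n, hn⟩ := C.pg ⟨h, A0.le hh⟩
  have hn' : h ^ p ^ n = 1 := by simpa using congrArg Subtype.val hn
  have key : ∀ k : ℕ, 0 < k → k < 5 → (h ^ k) w ≠ w := by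
    intro k hk hk5 hfix
    apply hne
    have hcop : Nat.Coprime k (p ^ n) := by
      apply Nat.Coprime.pow_right
      refine Nat.Coprime.symm ((Fact.out : p.Prime).coprime_iff_not_dvd.2 fun hd => ?_)
      have := Nat.le_of_dvd hk hd
      have := C.five
      omega
    have h1 : (h ^ (p ^ n)) w = w := by rw [hn']; rfl
    have hS : ∀ m : ℕ, (h ^ m) w = w ↔ h ^ m ∈ MulAction.stabilizer (E ≃ₗ[F] E) w := fun m => by
      rw [MulAction.mem_stabilizer_iff]; rfl
    have h2 := (hS k).1 hfix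
    have h3 := (hS (p ^ n)).1 h1
    have h4 : h ∈ MulAction.stabilizer (E ≃ₗ[F] E) w := by
      have h5 : (h : E ≃ₗ[F] E) ^ ((Nat.gcd k (p ^ n) : ℕ) : ℤ) ∈ MulAction.stabilizer (E ≃ₗ[F] E) w := by
        rw [Nat.gcd_eq_gcd_ab, zpow_add, zpow_mul, zpow_mul, zpow_natCast, zpow_natCast]
        exact Subgroup.mul_mem _ (Subgroup.zpow_mem _ h2 _) (Subgroup.zpow_mem _ h3 _)
      rw [hcop] at h5
      simpa using h5
    rw [MulAction.mem_stabilizer_iff] at h4
    exact h4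
  have hW : ∀ k : ℕ, (h ^ k) w ∈ M := fun k => pow_mem (hMi h hh) k hw
  let f : Option (Fin 5) → M := fun o => match o with
    | none => 0
    | some k => ⟨(h ^ (k : ℕ)) w, hW k⟩
  have hinj : Function.Injective f := by
    have hlt : ∀ i j : Fin 5, i < j → (h ^ (i : ℕ)) w ≠ (h ^ (j : ℕ)) w := by
      intro i j hij he
      refine key (j - i) (Nat.sub_pos_of_lt hij) (lt_of_le_of_lt (Nat.sub_le _ _) j.2) ?_
      have h1 : (h ^ (j : ℕ)) w = (h ^ (i : ℕ)) ((h ^ ((j : ℕ) - i)) w) := by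
        rw [← LinearEquiv.mul_apply, ← pow_add]
        congr 2
        have := Fin.lt_def.1 hij
        omega
      rw [h1] at he
      exact ((h ^ (i : ℕ)).injective he).symm
    rintro (_ | i) (_ | j) he
    · rfl
    · exfalso
      have h1 := congrArg Subtype.val he
      exact hw0 ((LinearEquiv.map_eq_zero_iff _).1 h1.symm)
    · exfalso
      have h1 := congrArg Subtype.val he
      exact hw0 ((LinearEquiv.map_eq_zero_iff _).1 h1)
    · have h1 := congrArg Subtype.val he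
      rcases lt_trichotomy i j with hlt' | rfl | hlt'
      · exact absurd h1 (hlt i j hlt')
      · rfl
      · exact absurd h1.symm (hlt j i hlt')
  haveI := Fintype.ofFinite M
  have := Fintype.card_le_of_injective f hinj
  simpa [Nat.card_eq_fintype_card] using this

theorem card_ge (C : Ctx p G PS β N) (A0 : Adm G PS β H W) : 6 ≤ Nat.card W :=
  card_ge' C A0 le_rfl A0.ne A0.inv

/-- The decomposition into fixed vectors and vectors with average zero. -/
structure Top (G : Subgroup (E ≃ₗ[F] E)) (PS : Set (E →ₗ[F] E)) (β : E → E → F)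
    (V₀ W : Submodule F E) : Prop where
  fixm : ∀ x, x ∈ V₀ ↔ ∀ h ∈ G, h x = x
  sum : ∀ x, ∃ v ∈ V₀, ∃ w ∈ W, v + w = x
  inv : ∀ h ∈ G, ∀ w ∈ W, h w ∈ W
  sb : ∀ h ∈ G, ∀ x, h x - x ∈ W
  dis : ∀ x ∈ V₀, x ∈ W → x = 0
  orth : ∀ x ∈ V₀, ∀ y ∈ W, β x y = 0 ∧ β y x = 0
  ps : ∀ J ∈ PS, ∀ w ∈ W, J w ∈ W
  psV : ∀ J ∈ PS, ∀ w ∈ V₀, J w ∈ V₀
  nd0 : ∀ x ∈ V₀, (∀ y ∈ V₀, β x y = 0) → x = 0
  ndW : ∀ x ∈ W, (∀ y ∈ W, β x y = 0) → x = 0

theorem Top.adm {V₀ : Submodule F E} (T : Top G PS β V₀ W) (hW : W ≠ ⊥) :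
    Adm G PS β G W where
  le := le_rfl
  inv := T.inv
  ps := T.ps
  ne := hW
  fix w hw h := T.dis w ((T.fixm w).2 h) hw
  nd := T.ndW

theorem exists_top (C : Ctx p G PS β N) (hnd : ∀ x, (∀ y, β x y = 0) → x = 0) :
    ∃ V₀ W : Submodule F E, Top G PS β V₀ W := by
  classical
  haveI : Finite (E ≃ₗ[F] E) := Finite.of_injective (fun f : E ≃ₗ[F] E => (f : E → E))
    DFunLike.coe_injective
  haveI := Fintype.ofFinite G
  let m : F := ((Fintype.card G : ℕ) : F)
  have hm : m ≠ 0 := by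
    obtain ⟨n, hn⟩ := IsPGroup.iff_card.1 C.pg
    rw [Nat.card_eq_fintype_card] at hn
    change ((Fintype.card G : ℕ) : F) ≠ 0
    rw [hn, Nat.cast_pow]
    exact pow_ne_zero _ C.pF
  let A : E →ₗ[F] E := m⁻¹ • ∑ h : G, (((h : E ≃ₗ[F] E)) : E →ₗ[F] E)
  have hA : ∀ x, A x = m⁻¹ • ∑ h : G, (h : E ≃ₗ[F] E) x := fun x => by
    simp [A, LinearMap.sum_apply]
  have hA1 : ∀ x, (∀ h ∈ G, h x = x) → A x = x := by
    intro x hx
    rw [hA, Finset.sum_congr rfl fun (h : G) _ => hx h h.2]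
    rw [Finset.sum_const, Finset.card_univ, ← Nat.cast_smul_eq_nsmul F, smul_smul,
      inv_mul_cancel₀ hm, one_smul]
  have hA2 : ∀ h ∈ G, ∀ x, h (A x) = A x := by
    intro h hh x
    rw [hA, map_smul, map_sum]
    congr 1
    exact Fintype.sum_equiv (Equiv.mulLeft (⟨h, hh⟩ : G)) _ _ (fun k => rfl)
  have hA3 : ∀ h ∈ G, ∀ x, A (h x) = A x := by
    intro h hh x
    rw [hA, hA]
    congr 1
    exact Fintype.sum_equiv (Equiv.mulRight (⟨h, hh⟩ : G)) _ _ (fun k => rfl)
  have hA4 : ∀ x, A (A x) = A x := fun x => hA1 _ fun h hh => hA2 h hh x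
  have hAJ : ∀ J ∈ PS, ∀ x, J (A x) = A (J x) := by
    intro J hJ x
    rw [hA, hA, map_smul, map_sum]
    congr 1
    exact Finset.sum_congr rfl fun h _ => C.comm J hJ h h.2 x
  have horth : ∀ x, A x = x → ∀ y, A y = 0 → β x y = 0 ∧ β y x = 0 := by
    intro x hx y hy
    have hy' : ∑ h : G, (h : E ≃ₗ[F] E) y = 0 := by
      rw [hA, smul_eq_zero] at hy
      exact hy.resolve_left (inv_ne_zero hm)
    have hfx : ∀ h : G, (h : E ≃ₗ[F] E) x = x := fun h => by
      rw [← hx]; exact hA2 h h.2 x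
    constructor
    · have h3 := C.β_sum_right Finset.univ (fun h : G => (h : E ≃ₗ[F] E) y) x
      rw [hy', C.β_zero_right] at h3
      have h4 : ∀ h : G, β x ((h : E ≃ₗ[F] E) y) = β x y := fun h => by
        conv_lhs => rw [← hfx h]
        exact C.βG h h.2 x y
      simp only [h4, Finset.sum_const, Finset.card_univ, nsmul_eq_mul] at h3
      exact (mul_eq_zero.1 h3.symm).resolve_left hm
    · have h3 := C.β_sum_left Finset.univ (fun h : G => (h : E ≃ₗ[F] E) y) x
      rw [hy', C.β_zero_left] at h3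
      have h4 : ∀ h : G, β ((h : E ≃ₗ[F] E) y) x = β y x := fun h => by
        conv_lhs => rw [← hfx h]
        exact C.βG h h.2 y x
      simp only [h4, Finset.sum_const, Finset.card_univ, nsmul_eq_mul] at h3
      exact (mul_eq_zero.1 h3.symm).resolve_left hm
  have hfixA : ∀ x, A x = x ↔ ∀ h ∈ G, h x = x := fun x =>
    ⟨fun hx h hh => by rw [← hx]; exact hA2 h hh x, hA1 x⟩
  let V₀ : Submodule F E := LinearMap.ker (A - LinearMap.id)
  have hV₀ : ∀ x, x ∈ V₀ ↔ A x = x := fun x => by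
    simp [V₀, sub_eq_zero]
  let W : Submodule F E := LinearMap.ker A
  have hWm : ∀ x, x ∈ W ↔ A x = 0 := fun x => LinearMap.mem_ker
  refine ⟨V₀, W, ?_, ?_, ?_, ?_, ?_, ?_, ?_, ?_, ?_, ?_⟩
  · intro x; rw [hV₀, hfixA]
  · intro x
    refine ⟨A x, (hV₀ _).2 (hA4 x), x - A x, (hWm _).2 ?_, by abel⟩
    rw [map_sub, hA4, sub_self]
  · intro h hh w hw
    rw [hWm] at hw ⊢
    rw [hA3 h hh, hw]
  · intro h hh x
    rw [hWm, map_sub, hA3 h hh, sub_self]
  · intro x hx hx'
    rw [hV₀] at hx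
    rw [hWm] at hx'
    rw [← hx, hx']
  · intro x hx y hy
    exact horth x ((hV₀ x).1 hx) y ((hWm y).1 hy)
  · intro J hJ w hw
    rw [hWm] at hw ⊢
    rw [← hAJ J hJ, hw, map_zero]
  · intro J hJ w hw
    rw [hV₀] at hw ⊢
    rw [← hAJ J hJ, hw]
  · intro x hx h
    apply hnd
    intro y
    have h1 : y = A y + (y - A y) := by abel
    rw [h1, C.βr, h _ ((hV₀ _).2 (hA4 y)), (horth x ((hV₀ x).1 hx) (y - A y) (by
      rw [map_sub, hA4, sub_self])).1, add_zero]
  · intro x hx h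
    apply hnd
    intro y
    have h1 : y = A y + (y - A y) := by abel
    rw [h1, C.βr, h (y - A y) ((hWm _).2 (by rw [map_sub, hA4, sub_self])),
      (horth (A y) (hA4 y) x ((hWm x).1 hx)).2, add_zero]

/-! ### Finishing lemmas -/

namespace Top

variable {V₀ : Submodule F E} (T : Top G PS β V₀ W)

include T

omit [Finite E] [Fact p.Prime] in
theorem reg_of {v₀ x : E} (hv₀ : v₀ ∈ V₀) (hreg : ∀ h ∈ G, h x = x → ∀ w ∈ W, h w = w) :
    ∀ h ∈ G, h (v₀ + x) = v₀ + x → h = 1 := by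
  intro h hh he
  rw [map_add, (T.fixm v₀).1 hv₀ h hh] at he
  have h1 := hreg h hh (add_left_cancel he)
  ext y
  obtain ⟨v, hv, w, hw, rfl⟩ := T.sum y
  rw [map_add, (T.fixm v).1 hv h hh, h1 w hw]
  rfl

omit [Finite E] [Fact p.Prime] in
theorem eq_one_of_bot (hW : W = ⊥) : ∀ h ∈ G, h = 1 := by
  intro h hh
  ext y
  have h1 := T.sb h hh y
  rw [hW, Submodule.mem_bot, sub_eq_zero] at h1
  exact h1

omit [Finite E] [Fact p.Prime] in
theorem avoid_of_ne {v₀ x : E} (hv₀ : v₀ ∈ V₀) (h0 : v₀ ≠ 0) (hx : x ∈ W) : Avoid G (v₀ + x) := by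
  intro z hz _ hmem
  exfalso
  obtain ⟨e, he⟩ := LinearMap.mem_range.1 hmem
  have he' : z e - e = v₀ + x := he
  have h1 := T.sb z hz e
  rw [he'] at h1
  exact h0 (T.dis v₀ hv₀ (by simpa using W.sub_mem h1 hx))

omit [Finite E] [Fact p.Prime] in
theorem mem_cm_of {z : E ≃ₗ[F] E} (hz : z ∈ G) {x : E} (hx : x ∈ com z) :
    ∃ w ∈ W, z w - w = x := by
  obtain ⟨e, he⟩ := LinearMap.mem_range.1 hx
  have he' : z e - e = x := he
  obtain ⟨v, hv, w, hw, rfl⟩ := T.sum e
  refine ⟨w, hw, ?_⟩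
  rw [← he', map_add, (T.fixm v).1 hv z hz]
  abel

omit [Fact p.Prime] in
theorem avoid_of_good {v₀ x : E} (hv₀ : v₀ ∈ V₀) (hx : Good PS G W x) (hJ : LinearMap.id ∈ PS)
    (h : v₀ ≠ 0 ∨ 3 ≤ Module.finrank F W) : Avoid G (v₀ + x) := by
  by_cases h0 : v₀ = 0
  · subst h0
    have h3 : 3 ≤ Module.finrank F W := h.resolve_left (fun h => h rfl)
    rw [zero_add]
    intro z hz _ hmem
    have hle : cm LinearMap.id W z ≤ com z := by
      intro y hy
      obtain ⟨w, _, hw⟩ := mem_cm.1 hy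
      exact ⟨w, hw⟩
    have h1 := Submodule.finrank_mono hle
    rcases hx.ss _ hJ z hz (mem_cm.2 (T.mem_cm_of hz hmem)) with h2 | h2
    · rw [Submodule.map_id] at h2
      have h4 := Submodule.finrank_mono h2
      omega
    · omega
  · exact T.avoid_of_ne hv₀ h0 hx.mem

end Top

end tri

end Cfsg.Agent.H903.SylReg
end

-- part: H903/SylRegSp
section
set_option autoImplicit false

namespace Cfsg.Agent.H903.SylReg

open Finset

variable {F : Type*} [Field F] {E : Type*} [AddCommGroup E] [Module F E] [Finite E]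

section sp

variable {p : ℕ} [Fact p.Prime] {G : Subgroup (E ≃ₗ[F] E)} {N : E → F}
  {H : Subgroup (E ≃ₗ[F] E)} {W : Submodule F E}

/-- Base case, symplectic: not all non-zero vectors are conjugate. -/
theorem base_sp {PS : Set (E →ₗ[F] E)} (B : E →ₗ[F] E →ₗ[F] F) (halt : ∀ x, B x x = 0)
    (C : Ctx p G PS (fun x y => B x y) N) (Bs : Base G PS (fun x y => B x y) H W) :
    ∃ x y, x ∈ W ∧ y ∈ W ∧ x ≠ 0 ∧ y ≠ 0 ∧ ∀ h ∈ H, h x ≠ y := by
  classical
  by_contra hcon
  push Not at hcon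
  have hsk : ∀ x y, B y x = - B x y := by
    intro x y
    have h1 := halt (x + y)
    simp only [map_add, LinearMap.add_apply, halt, zero_add, add_zero] at h1
    exact eq_neg_of_add_eq_zero_left h1
  obtain ⟨w, hw, hw0⟩ := (Submodule.ne_bot_iff _).1 Bs.ne
  have hBG : ∀ h ∈ H, ∀ x y, B (h x) (h y) = B x y := fun h hh => C.βG h (Bs.le hh)
  have claim : ∀ u ∈ W, u ≠ 0 → B w u = 0 → u = w := by
    intro u hu hu0 hB
    obtain ⟨k, hk, hkw⟩ := hcon w u hw hu hw0 hu0
    have h1 : ∀ v ∈ W, B v (k v) = 0 := by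
      intro v hv
      by_cases hv0 : v = 0
      · rw [hv0, map_zero]; rfl
      · obtain ⟨h, hh, rfl⟩ := hcon w v hw hv hw0 hv0
        rw [Bs.ab k hk h hh w hw, hBG h hh, hkw, hB]
    have hki : ∀ v ∈ W, k⁻¹ v ∈ W := fun v hv => Bs.inv _ (H.inv_mem hk) v hv
    have hkk : ∀ v, k (k⁻¹ v) = v := fun v => by
      rw [← LinearEquiv.mul_apply, mul_inv_cancel]; rfl
    have h2 : ∀ v ∈ W, k v = k⁻¹ v := by
      intro v hv
      rw [← sub_eq_zero]
      refine Bs.nd _ (W.sub_mem (Bs.inv k hk v hv) (hki v hv)) fun x hx => ?_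
      have h3 := h1 (x + v) (W.add_mem hx hv)
      simp only [map_add, LinearMap.add_apply, h1 x hx, h1 v hv, zero_add, add_zero] at h3
      have h4 : B (k x) v = B x (k⁻¹ v) := by
        conv_lhs => rw [← hkk v]
        exact hBG k hk _ _
      rw [hsk x, map_sub, ← h4, hsk v (k x)]
      rw [add_comm] at h3
      rw [sub_neg_eq_add, h3, neg_zero]
    have h2' : ∀ v ∈ W, (k ^ 2) v = v := by
      intro v hv
      rw [pow_two, LinearEquiv.mul_apply, h2 v hv, hkk]
    have h5 : ∀ m : ℕ, ∀ v ∈ W, (k ^ (2 * m)) v = v := by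
      intro m
      induction m with
      | zero => intro v _; rfl
      | succ m ih =>
        intro v hv
        rw [Nat.mul_succ, pow_add, LinearEquiv.mul_apply, h2' v hv, ih v hv]
    obtain ⟨n, hn⟩ := C.pg ⟨k, Bs.le hk⟩
    have hn' : k ^ p ^ n = 1 := by simpa using congrArg Subtype.val hn
    have hodd : Odd (p ^ n) := by
      apply Odd.pow
      rcases (Fact.out : p.Prime).eq_two_or_odd' with h | h
      · have := C.five; omega
      · exact h
    obtain ⟨m, hm⟩ := hodd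
    have h6 : (k ^ p ^ n) w = k w := by
      rw [hm, pow_succ', LinearEquiv.mul_apply, h5 m w hw]
    rw [hn', hkw] at h6
    exact h6.symm
  have hF : ∀ a : F, a = 0 ∨ a = 1 := by
    intro a
    by_cases ha : a = 0
    · exact Or.inl ha
    · right
      have h1 := claim (a • w) (W.smul_mem a hw) (smul_ne_zero ha hw0) (by
        rw [map_smul, halt, smul_zero])
      have h2 : (a - 1) • w = 0 := by rw [sub_smul, one_smul, h1, sub_self]
      exact sub_eq_zero.1 ((smul_eq_zero.1 h2).resolve_right hw0)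
  obtain ⟨u, hu, hwu⟩ : ∃ u ∈ W, B w u ≠ 0 := by
    by_contra hcon'
    push Not at hcon'
    exact hw0 (Bs.nd w hw hcon')
  have hwu1 := (hF (B w u)).resolve_left hwu
  have hsub : (W : Set E) ⊆ (({0, w, u, u + w} : Finset E) : Set E) := by
    intro v hv
    simp only [Finset.coe_insert, Finset.coe_singleton, Set.mem_insert_iff, Set.mem_singleton_iff]
    rcases hF (B w v) with h | h
    · by_cases hv0 : v = 0
      · exact Or.inl hv0
      · exact Or.inr (Or.inl (claim v hv hv0 h))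
    · by_cases hv0 : v - u = 0
      · exact Or.inr (Or.inr (Or.inl (sub_eq_zero.1 hv0)))
      · have h1 := claim (v - u) (W.sub_mem hv hu) hv0 (by rw [map_sub, h, hwu1, sub_self])
        right; right; right
        rw [← h1]; abel
  have h6 := card_ge C Bs.toAdm
  have h7 : Nat.card W ≤ 4 := by
    have h8 : Nat.card W = (W : Set E).ncard := rfl
    rw [h8]
    refine (Set.ncard_le_ncard hsub (Finset.finite_toSet _)).trans ?_
    rw [Set.ncard_coe_finset]
    exact Finset.card_le_four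
  omega

end sp

theorem exists_ne_zero_of_finrank (hE : 3 ≤ Module.finrank F E) : ∃ v : E, v ≠ 0 := by
  by_contra hcon
  push Not at hcon
  haveI : Subsingleton E := ⟨fun a b => by rw [hcon a, hcon b]⟩
  rw [Module.finrank_zero_of_subsingleton] at hE
  omega

/-- **RegSp.** -/
theorem regSp (p : ℕ) [Fact p.Prime] (hp : 5 ≤ p) (F : Type*) [Field F] (E : Type*) [AddCommGroup E]
    [Module F E] [Finite E] (hpF : (p : F) ≠ 0) (hE : 3 ≤ Module.finrank F E) : RegSp p F E := by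
  intro B halt hnd R hR hRB
  have C : Ctx p R {LinearMap.id} (fun x y => B x y) (fun _ => (0 : F)) :=
    { pF := hpF
      five := hp
      pg := hR
      comm := by rintro J rfl h _ x; rfl
      βl := fun x y z => by simp
      βr := fun x y z => by simp
      βG := hRB
      NG := fun _ _ _ => rfl
      Nadd := fun _ _ _ _ => by simp }
  obtain ⟨V₀, W, T⟩ := exists_top C hnd
  by_cases hW : W = ⊥
  · obtain ⟨v, hv⟩ := exists_ne_zero_of_finrank hE
    have h1 := T.eq_one_of_bot hW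
    exact ⟨v, hv, fun h hh _ => h1 h hh, fun z hz hz1 => absurd (h1 z hz) hz1⟩
  · have A0 := T.adm hW
    obtain ⟨x, -, hx, -⟩ := two_labels C (fun H W Bs => by
      obtain ⟨x, y, hx, hy, hx0, hy0, hc⟩ := base_sp B halt C Bs
      refine ⟨x, y, hx, hy, hx0, hy0, ?_, rfl, rfl, hc⟩
      rintro J rfl
      exact ⟨hx0, hy0⟩) R W A0
    have hx0 : x ≠ 0 := by
      rintro rfl
      have h1 := hx.reg
      obtain ⟨w, hw, hw0⟩ := (Submodule.ne_bot_iff _).1 A0.ne
      exact hw0 (A0.fix w hw fun h hh => h1 h hh (map_zero h) w hw)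
    by_cases hV : V₀ = ⊥
    · have hWt : W = ⊤ := by
        rw [eq_top_iff]
        intro y _
        obtain ⟨v, hv, w, hw, rfl⟩ := T.sum y
        rw [hV, Submodule.mem_bot] at hv
        rw [hv, zero_add]; exact hw
      have h3 : 3 ≤ Module.finrank F W := by rw [hWt, finrank_top]; exact hE
      refine ⟨0 + x, by rwa [zero_add], T.reg_of V₀.zero_mem hx.reg,
        T.avoid_of_good V₀.zero_mem hx rfl (Or.inr h3)⟩
    · obtain ⟨v₀, hv₀, hv0⟩ := (Submodule.ne_bot_iff _).1 hV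
      refine ⟨v₀ + x, ?_, T.reg_of hv₀ hx.reg, T.avoid_of_good hv₀ hx rfl (Or.inl hv0)⟩
      intro h
      apply hv0
      apply T.dis v₀ hv₀
      rw [eq_neg_of_add_eq_zero_left h]
      exact W.neg_mem hx.mem

end Cfsg.Agent.H903.SylReg
end
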