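import Mathlib
import Cfsg.Agent.H903.SylRegSp
import Cfsg.Agent.H743.MeetTw
import Cfsg.Agent.Walter.LastCase_mg_m3
import Cfsg.Agent.LieRecognition.FieldSemilinear
import Cfsg.Agent.H382.FieldAction
import Cfsg.Agent.S0262
import Cfsg.Agent.S0806
import Cfsg.Agent.SmallSimple.PSLTwoPart
import Cfsg.Agent.TwoFusion.SLTwoFacts
import Cfsg.Agent.ClassicalGeometry.PSL2Solvable
import Cfsg.Agent.H126.SepMain_m3
import Cfsg.Agent.ClassicalGeometry.OmegaIndex
import Cfsg.Agent.LieClassical.OmegaReindex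
import Cfsg.Agent.H903.SylMeet
import Cfsg.Agent.H546.AltSylow
import Cfsg.Agent.H244.A8.OutTop
import Cfsg.Agent.H903.SylSemi
import Cfsg.Agent.H903.SylRegStmt
import Cfsg.Agent.H206.FieldKill
import Cfsg.Agent.H458.FieldKill
import Cfsg.Agent.ClassicalGeometry.SympBasic
import Cfsg.Prelude.Def_ClassicalGeometry
import Cfsg.Agent.H70.ChevField
import Cfsg.Agent.H79.FieldAuts
import Cfsg.Agent.Lib.FieldAutCard
import Cfsg.Agent.S1036
import Cfsg.Agent.S2326
import Cfsg.Agent.S2121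
import Cfsg.Agent.S2122
import Cfsg.Agent.S2123
import Cfsg.Agent.S2124
import Cfsg.Agent.S2125
import Cfsg.Agent.S2155
import Cfsg.Agent.KFacts.RgdAutFacts
import Cfsg.Agent.KFacts.RgdDiag
import Cfsg.Agent.H69.OutTwD4
import Cfsg.Agent.H166.OutTwESix
import Cfsg.Agent.S2129
import Cfsg.Agent.S2130
import Cfsg.Agent.FixBN.TwESixSplit
import Cfsg.Agent.H934.HeisE6_m3
import Cfsg.Agent.H934.HeisTwE6
import Cfsg.Agent.H172.SITw_m3
import Cfsg.Agent.H743.LSIndex
import Cfsg.Agent.PreUniq.LowExc.TwF4Torus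
import Cfsg.Agent.H790.ExcAbTw
import Cfsg.Agent.S1068
import Cfsg.Agent.S2128
import Cfsg.Agent.H743.MeetTits
import Cfsg.Agent.ChevFast.E6
import Cfsg.Agent.ChevFast.Lin
import Cfsg.Agent.H341.ThreeList_m3
import Cfsg.Agent.CpAut.Base
import Cfsg.Agent.CpAutCoOneFive.Cls
import Cfsg.Agent.GpLn.Rank
import Cfsg.Agent.SigZeroU5.Lin
import Cfsg.Agent.S0493
import Cfsg.Agent.S0494
import Cfsg.Agent.CoOneType.FrameFix
import Cfsg.Agent.SporadicStructure.StdCross
import Cfsg.Agent.CoOneType.CoAp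
import Cfsg.Agent.FastGrp
import Cfsg.Agent.Prune
set_option linter.all false

section
prune_inst 0x7f00000000000000000000000000000000000000000000000000000000000000000000000000000000000000000000000000000000000000000000000000000000000000000000000000000000000000003fffffffffffffffffffffffffffbeffbdffffffff

section
prune_inst 0xbfe8f8f9b8ebfedfff7e7fa698cffc3b909fffe6dff94bffe061ff0b9f030009c12b8d09e010fc1ed6601410b87853fbfffeffe26bf87ffffdbff45ffbee0fe5f7bd0851968c340fbc0fff03f0778e7f000000000000000000000000000000000200000000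

-- part: H903/SylRegO
section
set_option linter.all false
open scoped Cfsg.Agent.FastGrp

set_option autoImplicit false

namespace Cfsg.Agent.H903.SylReg

open Finset

variable {F : Type*} [Field F] {E : Type*} [AddCommGroup E] [Module F E]

/-- A non-degenerate quadratic form on a space with at least five vectors takes two values on the non-zero vectors. -/
theorem two_values (Q : QuadraticForm F E) (W : Submodule F E) (hW : W ≠ ⊥)
    (hnd : ∀ x ∈ W, (∀ y ∈ W, QuadraticMap.polar Q x y = 0) → x = 0) (h5 : 5 ≤ Nat.card W) :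
    ∃ x y, x ∈ W ∧ y ∈ W ∧ x ≠ 0 ∧ y ≠ 0 ∧ Q x ≠ Q y := by
  classical
  by_contra hcon
  push Not at hcon
  haveI : Finite W := Nat.finite_of_card_ne_zero (by omega)
  haveI := Fintype.ofFinite W
  rw [Nat.card_eq_fintype_card] at h5
  have hpick : ∀ S : Finset W, S.card ≤ 4 → ∃ x : W, x ∉ S := by
    intro S hS
    by_contra hc
    push Not at hc
    have : S = Finset.univ := Finset.eq_univ_of_forall hc
    rw [this, Finset.card_univ] at hS
    omega
  obtain ⟨x, hx⟩ := hpick {0} (by simp)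
  obtain ⟨y, hy⟩ := hpick {0, -x} (by exact Finset.card_le_two.trans (by norm_num))
  obtain ⟨z, hz⟩ := hpick {0, -x, -y, -x - y} Finset.card_le_four
  simp only [Finset.mem_insert, Finset.mem_singleton, not_or] at hx hy hz
  set c := Q x with hc
  have hQ : ∀ u : W, u ≠ 0 → Q u = c := fun u hu =>
    hcon u x u.2 x.2 (fun h => hu (Subtype.ext h)) (fun h => hx (Subtype.ext h))
  have hP : ∀ u v : W, u ≠ 0 → v ≠ 0 → u + v ≠ 0 → QuadraticMap.polar Q (u : E) v = -c := by
    intro u v hu hv huv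
    have h1 := hQ _ huv
    rw [Submodule.coe_add] at h1
    rw [QuadraticMap.polar, h1, hQ u hu, hQ v hv]
    ring
  have h1 := hP x y hx hy.1 (fun h => hy.2 (eq_neg_of_add_eq_zero_right h))
  have h2 := hP x z hx hz.1 (fun h => hz.2.1 (eq_neg_of_add_eq_zero_right h))
  have h3 := hP x (y + z) hx (fun h => hz.2.2.1 (eq_neg_of_add_eq_zero_right h)) (fun h => hz.2.2.2 (by
    rw [← add_assoc] at h
    rw [eq_neg_of_add_eq_zero_right h]; abel))
  rw [Submodule.coe_add, QuadraticMap.polar_add_right, h1, h2] at h3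
  have hc0 : c = 0 := by
    have h4 : -c = 0 := by
      have := left_eq_add.1 h3.symm
      exact this
    exact neg_eq_zero.1 h4
  have hQ0 : ∀ u : W, Q u = 0 := by
    intro u
    by_cases hu : u = 0
    · rw [hu]; simp
    · rw [hQ u hu, hc0]
  apply hW
  rw [Submodule.eq_bot_iff]
  intro u hu
  refine hnd u hu fun v hv => ?_
  have e1 := hQ0 ⟨u, hu⟩
  have e2 := hQ0 ⟨v, hv⟩
  have e3 := hQ0 ⟨u + v, W.add_mem hu hv⟩
  simp only at e1 e2 e3
  rw [QuadraticMap.polar, e1, e2, e3]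
  ring

/-- **RegO.** -/
theorem regO (p : ℕ) [Fact p.Prime] (hp : 5 ≤ p) (F : Type*) [Field F] (E : Type*) [AddCommGroup E]
    [Module F E] [Finite E] (hpF : (p : F) ≠ 0) (hE : 3 ≤ Module.finrank F E) : RegO p F E := by
  intro Q hnd R hR hRQ
  have hRP : ∀ h ∈ R, ∀ x y, QuadraticMap.polar Q (h x) (h y) = QuadraticMap.polar Q x y := by
    intro h hh x y
    rw [QuadraticMap.polar, QuadraticMap.polar, ← map_add, hRQ h hh, hRQ h hh, hRQ h hh]
  have C : Ctx p R {LinearMap.id} (fun x y => QuadraticMap.polar Q x y) Q :=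
    { pF := hpF
      five := hp
      pg := hR
      comm := by rintro J rfl h _ x; rfl
      βl := fun x y z => QuadraticMap.polar_add_left Q x y z
      βr := fun x y z => QuadraticMap.polar_add_right Q x y z
      βG := hRP
      NG := hRQ
      Nadd := fun x y h _ => by
        simp only [QuadraticMap.polar] at h
        rw [sub_sub, sub_eq_zero] at h
        exact h }
  have hQne : ∃ v, Q v ≠ 0 := by
    by_contra hcon
    push Not at hcon
    obtain ⟨v, hv⟩ := exists_ne_zero_of_finrank hE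
    exact hv (hnd v fun y => by simp [QuadraticMap.polar, hcon])
  obtain ⟨V₀, W, T⟩ := exists_top C hnd
  by_cases hW : W = ⊥
  · obtain ⟨v, hv⟩ := hQne
    have h1 := T.eq_one_of_bot hW
    exact ⟨v, hv, fun h hh _ => h1 h hh, fun z hz hz1 => absurd (h1 z hz) hz1⟩
  · have A0 := T.adm hW
    obtain ⟨x, y, hx, hy, hxy⟩ := two_norms C (fun H W Bs => by
      obtain ⟨x, y, hx, hy, hx0, hy0, hc⟩ := two_values Q W Bs.ne Bs.nd
        ((by norm_num : 5 ≤ 6).trans (card_ge C Bs.toAdm))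
      refine ⟨x, y, hx, hy, hx0, hy0, ?_, hc⟩
      rintro J rfl
      exact ⟨hx0, hy0⟩) R W A0
    -- choose `v₀`
    obtain ⟨v₀, hv₀, hv⟩ : ∃ v₀ ∈ V₀, v₀ ≠ 0 ∨ 3 ≤ Module.finrank F W := by
      by_cases hV : V₀ = ⊥
      · have hWt : W = ⊤ := by
          rw [eq_top_iff]
          intro y _
          obtain ⟨v, hv, w, hw, rfl⟩ := T.sum y
          rw [hV, Submodule.mem_bot] at hv
          rw [hv, zero_add]; exact hw
        exact ⟨0, V₀.zero_mem, Or.inr (by rw [hWt, finrank_top]; exact hE)⟩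
      · obtain ⟨v₀, hv₀, hv0⟩ := (Submodule.ne_bot_iff _).1 hV
        exact ⟨v₀, hv₀, Or.inl hv0⟩
    have hN : ∀ u ∈ W, Q (v₀ + u) = Q v₀ + Q u := fun u hu =>
      C.Nadd _ _ (T.orth v₀ hv₀ u hu).1 (T.orth v₀ hv₀ u hu).2
    by_cases hQx : Q (v₀ + x) = 0
    · refine ⟨v₀ + y, fun h => hxy ?_, T.reg_of hv₀ hy.reg, T.avoid_of_good hv₀ hy rfl hv⟩
      rw [hN _ hx.mem] at hQx
      rw [hN _ hy.mem] at h
      exact add_left_cancel (hQx.trans h.symm)
    · exact ⟨v₀ + x, hQx, T.reg_of hv₀ hx.reg, T.avoid_of_good hv₀ hx rfl hv⟩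

end Cfsg.Agent.H903.SylReg
end

-- part: H743/MeetPSL2
section
set_option linter.all false
open scoped Cfsg.Agent.FastGrp

set_option autoImplicit false

namespace Cfsg.Agent.H743.MeetPSL2

open Matrix Cfsg
open Cfsg.Agent.ClassicalGeometry.AutPSL.Root
open Cfsg.Agent.ClassicalGeometry.AutPSL.Auto
open Cfsg.Agent.ClassicalGeometry.AutPSL.Main
open Cfsg.Agent.H903.SylMeet

variable {F : Type} [Field F] [Fintype F]

local notation "T" => Matrix.ProjectiveSpecialLinearGroup (Fin 2) F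

/-- the linear automorphisms -/
def D (F : Type) [Field F] : Subgroup (MulAut (Matrix.ProjectiveSpecialLinearGroup (Fin 2) F)) :=
  ((lift (ι := Fin 2) (F := F)).comp (cj (ι := Fin 2) (F := F))).range

theorem mem_D {a : MulAut T} : a ∈ D F ↔ ∃ A : GL (Fin 2) F, lift (cj A) = a := Iff.rfl

instance normal_D : (D F).Normal := ⟨by
  obtain ⟨r, hchar⟩ := CharP.exists F
  have hr : r.Prime := CharP.char_is_prime F r
  have : Fact r.Prime := ⟨hr⟩
  rintro n hn g
  obtain ⟨A, rfl⟩ := mem_D.1 hn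
  obtain ⟨B, σ, rfl⟩ := surj_two r g
  rw [mem_D]
  refine ⟨B * CpAutRee.PslThree.gm σ A * B⁻¹, ?_⟩
  rw [← map_mul, ← map_inv, ← map_mul]
  congr 1
  have h1 : cj B * fld σ * cj A = cj B * (cj (CpAutRee.PslThree.gm σ A) * fld σ) := by
    rw [mul_assoc, CpAutRee.PslThree.fld_mul_cj]
  rw [map_mul, map_mul, map_inv, h1]
  group⟩

theorem isCyclic_quot : IsCyclic (MulAut T ⧸ D F) ∧ Nat.card (MulAut T ⧸ D F) ∣ Nat.card (F ≃+* F) := by
  obtain ⟨r, hchar⟩ := CharP.exists F
  have hr : r.Prime := CharP.char_is_prime F r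
  have : Fact r.Prime := ⟨hr⟩
  let ψ : (F ≃+* F) →* MulAut T ⧸ D F :=
    (QuotientGroup.mk' (D F)).comp ((lift (ι := Fin 2) (F := F)).comp (fld (ι := Fin 2) (F := F)))
  have hψ : Function.Surjective ψ := by
    intro x
    obtain ⟨g, rfl⟩ := QuotientGroup.mk_surjective x
    obtain ⟨B, σ, rfl⟩ := surj_two r g
    refine ⟨σ, ?_⟩
    change ((lift (fld σ) : MulAut T) : MulAut T ⧸ D F) = _
    rw [map_mul, QuotientGroup.mk_mul]
    have : ((lift (cj B) : MulAut T) : MulAut T ⧸ D F) = 1 := by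
      rw [QuotientGroup.eq_one_iff]; exact mem_D.2 ⟨B, rfl⟩
    rw [this, one_mul]
  have hc : IsCyclic (F ≃+* F) := LieRecognition.FieldSemilinear.isCyclic_ringAut F
  exact ⟨isCyclic_of_surjective ψ hψ, Subgroup.card_dvd_of_surjective ψ hψ⟩

theorem inner_of_D {a : MulAut T} {n : ℕ} (hn : Odd n) (ha : a ^ n = 1) (hD : a ∈ D F) :
    ∃ t : T, MulAut.conj t = a := by
  obtain ⟨A, rfl⟩ := mem_D.1 hD
  obtain ⟨k, hk⟩ := hn
  have h1 : lift (cj A) = lift (cj (A ^ (k + 1) * A ^ (k + 1))) := by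
    rw [← pow_add, map_pow, map_pow]
    have : k + 1 + (k + 1) = n + 1 := by omega
    rw [this, pow_succ, ha, one_mul]
  obtain ⟨g, hg⟩ := CpAutRee.PslThree.lift_cj_inner (A := A ^ (k + 1) * A ^ (k + 1))
    (c := ((A ^ (k + 1) : GL (Fin 2) F) : Matrix (Fin 2) (Fin 2) F).det) (by
      rw [Units.val_mul, det_mul, sq])
  exact ⟨g, by rw [← hg, h1]⟩

theorem isCyclic_of_isPGroup {p : ℕ} [Fact p.Prime] (hp2 : p ≠ 2) (hpF : ¬ p ∣ Fintype.card F)
    (R : Subgroup T) (hR : IsPGroup p R) : IsCyclic R := by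
  obtain ⟨r, hchar⟩ := CharP.exists F
  have hr : r.Prime := CharP.char_is_prime F r
  have : Fact r.Prime := ⟨hr⟩
  have hne : p ≠ r := by
    rintro rfl
    apply hpF
    obtain ⟨n, hn⟩ := FiniteField.card F p
    rw [hn.2]
    exact dvd_pow_self p n.ne_zero
  obtain ⟨P, hP⟩ := hR.exists_le_sylow
  let f : SpecialLinearGroup (Fin 2) F →* T := QuotientGroup.mk' _
  have hf : Function.Surjective f := QuotientGroup.mk'_surjective _
  obtain ⟨Q, hQ⟩ := Sylow.mapSurjective_surjective hf p P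
  have hc := S0262.isCyclic_of_isPGroup r p hp2 hne (Q : Subgroup (SpecialLinearGroup (Fin 2) F)) Q.isPGroup'
  have h1 : ((Q.mapSurjective hf : Sylow p T) : Subgroup T) =
      (Q : Subgroup (SpecialLinearGroup (Fin 2) F)).map f := Sylow.coe_mapSurjective hf Q
  have h2 : IsCyclic ((Q : Subgroup (SpecialLinearGroup (Fin 2) F)).map f) :=
    isCyclic_of_surjective (f.subgroupMap (Q : Subgroup (SpecialLinearGroup (Fin 2) F)))
      (f.subgroupMap_surjective _)
  rw [← h1, hQ] at h2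
  exact isCyclic_of_injective (Subgroup.inclusion hP) (Subgroup.inclusion_injective hP)

theorem sq_lt_four_pow {p : ℕ} (hp : 5 ≤ p) : (p + 1) ^ 2 < 4 ^ p := by
  induction p, hp using Nat.le_induction with
  | base => norm_num
  | succ n hn ih =>
    rw [pow_succ 4]
    nlinarith

/-- **S5762, `PSL₂(q)`, cross characteristic.** -/
theorem cross_PSL2 (hF : 4 ≤ Fintype.card F) {p : ℕ} [Fact p.Prime] (hp : 5 ≤ p)
    (hpF : ¬ p ∣ Fintype.card F) : Meet p (Matrix.ProjectiveSpecialLinearGroup (Fin 2) F) := by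
  have hpp := (Fact.out : p.Prime)
  have hsimple : IsSimpleGroup T := TwoFusion.SLTwoFacts.isSimpleGroup_psl (F := F) hF
  have hT : ¬ IsMulCommutative T := by
    intro h
    apply ClassicalGeometry.PSL2Solvable.not_isSolvable_psl F hF
    exact Group.isSolvable_of_comm h.is_comm.comm
  obtain ⟨hC, hCd⟩ := isCyclic_quot (F := F)
  obtain ⟨r, hchar⟩ := CharP.exists F
  have hr : r.Prime := CharP.char_is_prime F r
  have : Fact r.Prime := ⟨hr⟩
  obtain ⟨f, -, hf⟩ := FiniteField.card F r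
  have hcard : Nat.card (F ≃+* F) = f := (H382.FieldAction.card_ringAut_dvd F (by
    rw [Nat.card_eq_fintype_card, hf])).1
  by_cases hpC : p ∣ Nat.card (MulAut T ⧸ D F) ∧ p ∣ Nat.card T
  · have hpf : p ∣ (f : ℕ) := by
      rw [← hcard]; exact hpC.1.trans hCd
    obtain ⟨f₀, hf₀⟩ := hpf
    have hq : Fintype.card F = (r ^ f₀) ^ p := by rw [hf, hf₀, mul_comm, pow_mul]
    obtain ⟨q₀, hq₀⟩ : ∃ q₀, q₀ = r ^ f₀ := ⟨_, rfl⟩
    rw [← hq₀] at hq
    have hdv : p ∣ Fintype.card F ^ 2 - 1 := by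
      have h1 : p ∣ Fintype.card F * (Fintype.card F ^ 2 - 1) := by
        rcases Nat.even_or_odd (Fintype.card F) with h | h
        · rw [← SmallSimple.PSLTwoPart.card_psl_two_even h]; exact hpC.2
        · rw [← SmallSimple.PSLTwoPart.card_psl_two_odd h]; exact hpC.2.mul_left _
      exact (hpp.dvd_mul.1 h1).resolve_left hpF
    have hq4 : 4 ≤ q₀ := by
      by_contra hlt
      have h0 : 0 < q₀ := by rw [hq₀]; exact pow_pos hr.pos _
      have h2 : ((q₀ : ZMod p)) ^ 2 = 1 := by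
        have h3 : ((Fintype.card F ^ 2 : ℕ) : ZMod p) = ((1 : ℕ) : ZMod p) := by
          rw [ZMod.natCast_eq_natCast_iff]
          exact ((Nat.modEq_iff_dvd' (Nat.one_le_pow _ _ (by omega))).2 hdv).symm
        rw [hq] at h3
        push_cast at h3
        rwa [ZMod.pow_card] at h3
      have h3 : ((q₀ ^ 2 : ℕ) : ZMod p) = ((1 : ℕ) : ZMod p) := by push_cast; exact h2
      rw [ZMod.natCast_eq_natCast_iff] at h3
      have h4 := (Nat.modEq_iff_dvd' (Nat.one_le_pow 2 _ h0)).1 h3.symm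
      have h5 : q₀ = 1 ∨ q₀ = 2 ∨ q₀ = 3 := by omega
      rcases h5 with h5 | h5 | h5
      · rw [h5, one_pow] at hq; omega
      · rw [h5] at h4
        have := Nat.le_of_dvd (by norm_num) h4
        norm_num at this
        omega
      · rw [h5] at h4
        have h6 : p ∣ 2 ^ 3 := by simpa using h4
        have := (Nat.prime_dvd_prime_iff_eq hpp Nat.prime_two).1 (hpp.dvd_of_dvd_pow h6)
        omega
    have hbig : 4 ^ p ≤ Fintype.card F := by rw [hq]; exact Nat.pow_le_pow_left hq4 p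
    have h4p : 4 ^ 5 ≤ 4 ^ p := Nat.pow_le_pow_right (by norm_num) hp
    refine MeetRank.meet_rank_one (p := p) (by omega) hT (QuotientGroup.mk' (D F)) ?_
      (fun R hR => isCyclic_of_isPGroup (by omega) hpF R hR) (m := Fintype.card F + 1)
      (S0806.result (F := F) rfl (by
        simp only [Finset.mem_insert, Finset.mem_singleton, not_or]
        norm_num at h4p
        omega)).1 ?_
    · rintro a ⟨k, hk⟩ ha
      exact inner_of_D ((hpp.odd_of_ne_two (by omega)).pow (n := k)) hk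
        ((QuotientGroup.eq_one_iff a).1 ha)
    · intro _ _
      have := sq_lt_four_pow hp
      omega
  · refine MeetRank.meet_rank_one (p := p) (by omega) hT (QuotientGroup.mk' (D F)) ?_
      (fun R hR => isCyclic_of_isPGroup (by omega) hpF R hR) (m := 0)
      (fun H _ => Nat.zero_le _) (fun h1 h2 => absurd ⟨h1, h2⟩ hpC)
    rintro a ⟨k, hk⟩ ha
    exact inner_of_D ((hpp.odd_of_ne_two (by omega)).pow (n := k)) hk
      ((QuotientGroup.eq_one_iff a).1 ha)

end Cfsg.Agent.H743.MeetPSL2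
end

-- part: H126/SepOrth
section
prune_inst 0x4001040205140100000000080630000001000000000400000080000000308004040000000000020121000800000000000001000800000000000000000000400000000020080080000000000000000000000000000000000000000000000000000000000000
set_option linter.all false
open scoped Cfsg.Agent.FastGrp

-- part: H126/SepForm
section
/-!
# Separation in defining characteristic: spaces with a form (helper126, tasks 460-462 of helper903)

`EH σ ε β` : `β : V → V → F` is a nondegenerate `ε`-hermitian form, linear in the first variable, `ε = ± 1`, `σ² = 1`.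
Symplectic: `σ = 1`, `ε = -1`; symmetric: `σ = 1`, `ε = 1`; hermitian: `σ ≠ 1`, `ε = 1`.
-/

set_option autoImplicit false
set_option linter.unusedSectionVars false
set_option linter.unusedVariables false

namespace Cfsg.Agent.H126.SepForm

open Module Cfsg.Agent.H903.SylSemi Cfsg.Agent.H126.SepStep Cfsg.Agent.H126.SepMain

universe u v w

/-- Nondegenerate `ε`-hermitian forms. -/
structure EH {F : Type u} [Field F] (σ : F ≃+* F) (ε : F) {V : Type v} [AddCommGroup V] [Module F V]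
    (β : V → V → F) : Prop where
  eps : ε = 1 ∨ ε = -1
  inv : ∀ a, σ (σ a) = a
  addl : ∀ u v w, β (u + v) w = β u w + β v w
  smull : ∀ (a : F) u v, β (a • u) v = a * β u v
  herm : ∀ u v, β v u = ε * σ (β u v)
  nondeg : ∀ v, (∀ w, β v w = 0) → v = 0

namespace EH

variable {F : Type u} [Field F] {σ : F ≃+* F} {ε : F} {V : Type v} [AddCommGroup V] [Module F V] {β : V → V → F}

theorem eps_sq (h : EH σ ε β) : ε * ε = 1 := by
  rcases h.eps with h | h <;> rw [h] <;> ring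

theorem sig_eps (h : EH σ ε β) : σ ε = ε := by
  rcases h.eps with h | h <;> rw [h]
  · rw [map_one]
  · rw [map_neg, map_one]

theorem addr (h : EH σ ε β) (u v w : V) : β u (v + w) = β u v + β u w := by
  rw [h.herm (v + w) u, h.addl, map_add, mul_add, ← h.herm, ← h.herm]

theorem smulr (h : EH σ ε β) (a : F) (u v : V) : β u (a • v) = σ a * β u v := by
  rw [h.herm (a • v) u, h.smull, map_mul, h.herm v u]
  ring

theorem symm (h : EH σ ε β) {u v : V} (huv : β u v = 0) : β v u = 0 := by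
  rw [h.herm, huv, map_zero, mul_zero]

theorem zerol (h : EH σ ε β) (v : V) : β 0 v = 0 := by
  have := h.smull 0 0 v
  rwa [zero_smul, zero_mul] at this

theorem zeror (h : EH σ ε β) (v : V) : β v 0 = 0 := h.symm (h.zerol v)

theorem subl (h : EH σ ε β) (u v w : V) : β (u - v) w = β u w - β v w := by
  rw [sub_eq_add_neg, ← neg_one_smul F v, h.addl, h.smull]
  ring

/-- The functional `β · w`. -/
def fl (h : EH σ ε β) (w : V) : V →ₗ[F] F where
  toFun v := β v w
  map_add' u v := h.addl u v w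
  map_smul' a v := h.smull a v w

/-- A hyperbolic partner of an isotropic vector (odd characteristic). -/
theorem exists_partner (h : EH σ ε β) (h2 : (2 : F) ≠ 0) {e : V} (he : e ≠ 0) (hee : β e e = 0) :
    ∃ f, β e f = 1 ∧ β f f = 0 := by
  obtain ⟨w, hw⟩ : ∃ w, β e w ≠ 0 := by
    by_contra hcon
    push Not at hcon
    exact he (h.nondeg e hcon)
  obtain ⟨f0, hf0⟩ : ∃ f0, β e f0 = 1 := by
    refine ⟨σ (β e w)⁻¹ • w, ?_⟩
    rw [h.smulr, h.inv, inv_mul_cancel₀ hw]
  have hf0' : β f0 e = ε := by rw [h.herm e f0, hf0, map_one, mul_one]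
  have hff : ε * σ (β f0 f0) = β f0 f0 := (h.herm f0 f0).symm
  refine ⟨f0 + (-(β f0 f0) / 2) • e, ?_, ?_⟩
  · rw [h.addr, h.smulr, hee, mul_zero, add_zero, hf0]
  · rw [h.addl, h.addr, h.addr, h.smull, h.smull, h.smulr, h.smulr, hee, hf0, hf0', map_div₀, map_neg]
    have hs2 : σ (2 : F) = 2 := map_ofNat σ 2
    rw [hs2]
    field_simp
    linear_combination (-2 : F) * hff

end EH

section hyp

variable {F : Type u} [Field F] {σ : F ≃+* F} {ε : F} {V : Type v} [AddCommGroup V] [Module F V] {β : V → V → F}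

/-- A hyperbolic pair. -/
structure HP (β : V → V → F) (e f : V) : Prop where
  ee : β e e = 0
  ff : β f f = 0
  ef : β e f = 1

theorem HP.fe {e f : V} (h : EH σ ε β) (k : HP β e f) : β f e = ε := by
  rw [h.herm e f, k.ef, map_one, mul_one]

/-- The functionals of the decomposition. -/
def psi (h : EH σ ε β) (e f : V) : V →ₗ[F] F := h.fl f
/-- The functionals of the decomposition. -/
def phi (h : EH σ ε β) (e f : V) : V →ₗ[F] F := ε • h.fl e

theorem psi_apply (h : EH σ ε β) (e f v : V) : psi h e f v = β v f := rfl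
theorem phi_apply (h : EH σ ε β) (e f v : V) : phi h e f v = ε * β v e := rfl

/-- The orthogonal complement of the hyperbolic plane. -/
abbrev CC (h : EH σ ε β) (e f : V) : Submodule F V := LinearMap.ker (psi h e f) ⊓ LinearMap.ker (phi h e f)

theorem mem_CC (h : EH σ ε β) {e f v : V} : v ∈ CC h e f ↔ β v f = 0 ∧ β v e = 0 := by
  constructor
  · rintro ⟨h1, h2⟩
    refine ⟨h1, ?_⟩
    have h3 : ε * β v e = 0 := h2
    rcases mul_eq_zero.1 h3 with h4 | h4
    · have := h.eps_sq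
      rw [h4, zero_mul] at this
      exact absurd this.symm one_ne_zero
    · exact h4
  · rintro ⟨h1, h2⟩
    refine ⟨h1, ?_⟩
    change ε * β v e = 0
    rw [h2, mul_zero]

/-- The decomposition. -/
def dec (h : EH σ ε β) {e f : V} (k : HP β e f) : V ≃ₗ[F] ↥(CC h e f) × (F × F) :=
  decE (psi h e f) (phi h e f) e f (by rw [psi_apply, k.ef]) (by rw [psi_apply, k.ff])
    (by rw [phi_apply, k.ee, mul_zero]) (by rw [phi_apply, k.fe h, h.eps_sq])

theorem dec_symm_apply (h : EH σ ε β) {e f : V} (k : HP β e f) (w : ↥(CC h e f) × (F × F)) :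
    (dec h k).symm w = (w.1 : V) + w.2.1 • e + w.2.2 • f := rfl

/-- The form on the complement. -/
def resF (β : V → V → F) (S : Submodule F V) (u v : S) : F := β u v

theorem EH.res (h : EH σ ε β) {e f : V} (k : HP β e f) : EH σ ε (resF β (CC h e f)) := by
  refine ⟨h.eps, h.inv, fun u v w => h.addl _ _ _, fun a u v => h.smull _ _ _, fun u v => h.herm _ _, fun v hv => ?_⟩
  apply Subtype.ext
  apply h.nondeg
  intro w
  obtain ⟨⟨c, x, z⟩, rfl⟩ := (dec h k).symm.surjective w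
  obtain ⟨v1, v2⟩ := (mem_CC h).1 v.2
  rw [dec_symm_apply, h.addr, h.addr, h.smulr, h.smulr, v1, v2, mul_zero, mul_zero, add_zero, add_zero]
  exact hv c

/-- The form in coordinates. -/
theorem form_dec (h : EH σ ε β) {e f : V} (k : HP β e f) (c c' : ↥(CC h e f)) (x z x' z' : F) :
    β ((dec h k).symm (c, (x, z))) ((dec h k).symm (c', (x', z'))) =
      resF β (CC h e f) c c' + x * σ z' + ε * (z * σ x') := by
  obtain ⟨v1, v2⟩ := (mem_CC h).1 c.2
  obtain ⟨v1', v2'⟩ := (mem_CC h).1 c'.2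
  rw [dec_symm_apply, dec_symm_apply]
  simp only [h.addl, h.addr, h.smull, h.smulr, v1, v2, h.symm v1', h.symm v2', k.ee, k.ff, k.ef, k.fe h, resF]
  ring

/-- `g` is an isometry. -/
def IsIso (F : Type u) [Field F] {V : Type v} [AddCommGroup V] [Module F V] (β : V → V → F) (g : Equiv.Perm V) : Prop :=
  Semi F g (1 : F ≃+* F) ∧ ∀ u v, β (g u) (g v) = β u v

/-- The companion of `t`. -/
def sC (σ : F ≃+* F) (ε : F) (hε : ε * ε = 1) (t : Fˣ) : Fˣ :=
  (Units.mk0 ε (left_ne_zero_of_mul (by rw [hε]; exact one_ne_zero))) * (Units.map σ.toMonoidHom t)⁻¹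

theorem sC_val (hε : ε * ε = 1) (t : Fˣ) : ((sC σ ε hε t : Fˣ) : F) = ε * (σ t)⁻¹ := by
  rw [sC, Units.val_mul, Units.val_mk0, Units.val_inv_eq_inv_val]
  rfl

/-- The isometry of `V` built from an isometry of the complement. -/
noncomputable def GG (h : EH σ ε β) {e f : V} (k : HP β e f) (g' : Equiv.Perm ↥(CC h e f)) (t : Fˣ) : Equiv.Perm V :=
  (tr (dec h k)).symm (gW t (sC σ ε h.eps_sq t) g')

theorem isIso_GG (h : EH σ ε β) {e f : V} (k : HP β e f) {g' : Equiv.Perm ↥(CC h e f)}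
    (hg' : IsIso F (resF β (CC h e f)) g') (t : Fˣ) : IsIso F β (GG h k g' t) := by
  refine ⟨tr_symm_semi _ (gW_semi hg'.1), fun u v => ?_⟩
  obtain ⟨⟨c, x, z⟩, rfl⟩ := (dec h k).symm.surjective u
  obtain ⟨⟨c', x', z'⟩, rfl⟩ := (dec h k).symm.surjective v
  have ht := t.ne_zero
  have hσt : σ (t : F) ≠ 0 := by rw [Ne, map_eq_zero_iff σ σ.injective]; exact ht
  have h1 : ∀ (c : ↥(CC h e f)) (x z : F), GG h k g' t ((dec h k).symm (c, (x, z))) =
      (dec h k).symm (g' c, ((sC σ ε h.eps_sq t : Fˣ) * z, (t : F) * x)) := by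
    intro c x z
    rw [GG, tr_symm_apply, LinearEquiv.apply_symm_apply, gW_apply]
  rw [h1, h1, form_dec h k, form_dec h k, hg'.2, sC_val]
  rw [map_mul, map_mul, map_mul, map_inv₀, h.inv, h.sig_eps]
  have e1 : ε * (σ (t : F))⁻¹ * z * (σ t * σ x') = ε * (z * σ x') := by field_simp
  have e2 : ε * ((t : F) * x * (ε * (t : F)⁻¹ * σ z')) = (ε * ε) * (x * σ z') := by field_simp
  rw [e1, e2, h.eps_sq]
  ring

theorem isDet_GG (h : EH σ ε β) {e f : V} (k : HP β e f) [Module.Finite F V] {g' : Equiv.Perm ↥(CC h e f)} {d : F}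
    (hg' : IsDet F d g') (t : Fˣ) : IsDet F (-((t : F) * (ε * (σ t)⁻¹)) * d) (GG h k g' t) := by
  have h1 := isDet_tr_symm (dec h k) (isDet_gW hg' t (sC σ ε h.eps_sq t))
  rw [sC_val] at h1
  exact h1

end hyp

section group

variable {F : Type u} [Field F] {σ : F ≃+* F} {ε : F} {V : Type v} [AddCommGroup V] [Module F V] {β : V → V → F}

/-- `Γ` is a `p`-group of semisimilarities. -/
structure PSF (p : ℕ) (F : Type u) [Field F] {V : Type v} [AddCommGroup V] [Module F V] (β : V → V → F)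
    (Γ : Subgroup (Equiv.Perm V)) : Prop where
  grp : IsPGroup p Γ
  sim : ∀ y ∈ Γ, ∃ (θ : F ≃+* F) (τ : F), τ ≠ 0 ∧ Semi F y θ ∧ ∀ u v, β (y u) (y v) = τ * θ (β u v)

theorem PSF.ps {p : ℕ} {Γ : Subgroup (Equiv.Perm V)} (h : PSF p F β Γ) : PS p F Γ :=
  ⟨h.grp, fun y hy => by
    obtain ⟨θ, τ, -, h1, -⟩ := h.sim y hy
    exact ⟨θ, h1⟩⟩

theorem dvd_card {p : ℕ} [Fact p.Prime] [Finite F] [CharP F p] : p ∣ Nat.card F := by
  have := Fintype.ofFinite F
  obtain ⟨n, -, hn⟩ := FiniteField.card F p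
  rw [Nat.card_eq_fintype_card, hn]
  exact dvd_pow_self p n.ne_zero

/-- The action on the isotropic vectors has a nonzero fixed point. -/
theorem exists_fixed {p : ℕ} [Fact p.Prime] [Finite V] (h : EH σ ε β) {Γ : Subgroup (Equiv.Perm V)}
    (hP : PSF p F β Γ) (hcard : p ∣ Nat.card {v : V // β v v = 0}) :
    ∃ e : V, e ≠ 0 ∧ β e e = 0 ∧ ∀ y ∈ Γ, y e = e := by
  let act : MulAction Γ {v : V // β v v = 0} :=
    { smul := fun y v => ⟨y.1 v.1, by
        obtain ⟨θ, τ, -, -, h2⟩ := hP.sim y y.2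
        rw [h2, v.2, map_zero, mul_zero]⟩
      one_smul := fun v => rfl
      mul_smul := fun y z v => rfl }
  obtain ⟨e, he, he0⟩ := hP.grp.exists_fixed_point_of_prime_dvd_card_of_fixed_point {v : V // β v v = 0} hcard
    (a := ⟨0, h.zerol 0⟩) (fun y => Subtype.ext (by
      obtain ⟨θ, τ, -, hθ, -⟩ := hP.sim y y.2
      exact semi_zero hθ))
  exact ⟨e, fun h => he0 (Subtype.ext h.symm), e.2, fun y hy => congrArg Subtype.val (he ⟨y, hy⟩)⟩

theorem St_dec {p : ℕ} (h : EH σ ε β) {e f : V} (k : HP β e f) {Γ : Subgroup (Equiv.Perm V)} (hP : PSF p F β Γ)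
    (hfix : ∀ y ∈ Γ, y e = e) : St (trG (dec h k) Γ) := by
  apply St_decE hfix
  intro y hy v hv
  obtain ⟨θ, τ, -, -, h2⟩ := hP.sim y hy
  rw [phi_apply] at hv ⊢
  have hε : ε ≠ 0 := left_ne_zero_of_mul (by rw [h.eps_sq]; exact one_ne_zero)
  have h3 : β v e = 0 := (mul_eq_zero.1 hv).resolve_left hε
  have h4 := h2 v e
  rw [hfix y hy, h3, map_zero, mul_zero] at h4
  rw [h4, mul_zero]

/-- The induced group on the complement consists of semisimilarities. -/
theorem bar_PSF {p : ℕ} (h : EH σ ε β) {e f : V} (k : HP β e f) {Γ : Subgroup (Equiv.Perm V)} (hP : PSF p F β Γ)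
    (hfix : ∀ y ∈ Γ, y e = e) :
    PSF p F (resF β (CC h e f)) (bar (St_dec h k hP hfix) (trG_PS hP.ps)) := by
  have hS := St_dec h k hP hfix
  refine ⟨(bar_PS hS (trG_PS hP.ps)).grp, ?_⟩
  rintro _ ⟨⟨_, y, hy, rfl⟩, rfl⟩
  obtain ⟨θ, τ, hτ, hθ, h2⟩ := hP.sim y hy
  refine ⟨θ, τ, hτ, bar_semi hS _ _ (tr_semi _ hθ), fun c c' => ?_⟩
  have h3 : ∀ c : ↥(CC h e f), ∃ x : F, y c = (dec h k).symm (barF (tr (dec h k) y) c, (x, 0)) := by
    intro c
    refine ⟨(tr (dec h k) y (c, (0, 0))).2.1, ?_⟩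
    have h4 := hS.hyp (tr (dec h k) y) (mem_trG.2 hy) c 0
    have h5 : tr (dec h k) y (c, (0, 0)) = (barF (tr (dec h k) y) c, ((tr (dec h k) y (c, (0, 0))).2.1, 0)) :=
      Prod.ext rfl (Prod.ext rfl h4)
    rw [← h5, tr_apply, LinearEquiv.symm_apply_apply, dec_symm_apply]
    simp
  obtain ⟨x, hx⟩ := h3 c
  obtain ⟨x', hx'⟩ := h3 c'
  have h6 := h2 c c'
  rw [hx, hx', form_dec h k, map_zero, mul_zero, add_zero, zero_mul, mul_zero, add_zero] at h6
  exact h6

end group

end Cfsg.Agent.H126.SepForm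
end

-- part: H126/SepInd
section
/-!
# Separation in defining characteristic: the induction and the top level (helper126, tasks 460-462 of helper903)
-/

set_option autoImplicit false
set_option linter.unusedSectionVars false
set_option linter.unusedVariables false

namespace Cfsg.Agent.H126.SepInd

open Module Cfsg.Agent.H903.SylSemi Cfsg.Agent.H126.SepStep Cfsg.Agent.H126.SepMain Cfsg.Agent.H126.SepForm

universe u v w

section gen

variable {F : Type u} [Field F] {σ : F ≃+* F} {ε : F} {V : Type v} [AddCommGroup V] [Module F V] {β : V → V → F}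

theorem finrank_CC (h : EH σ ε β) {e f : V} (k : HP β e f) [Module.Finite F V] :
    finrank F V = finrank F ↥(CC h e f) + 2 := by
  rw [(dec h k).finrank_eq, finrank_prod, finrank_prod, finrank_self]

theorem isIso_one : IsIso F β (1 : Equiv.Perm V) := ⟨⟨fun _ _ => rfl, fun _ _ => rfl⟩, fun _ _ => rfl⟩

/-- The induction. -/
theorem exists_PG {p : ℕ} [Fact p.Prime] [Finite F] [CharP F p] (h2 : (2 : F) ≠ 0) {d : ℕ} {D : ℕ → Set F}
    (hcount : ∀ {V : Type v} [AddCommGroup V] [Module F V] [Finite V] {β : V → V → F}, EH σ ε β → d < finrank F V →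
      p ∣ Nat.card {v : V // β v v = 0})
    (hbase : ∀ {V : Type v} [AddCommGroup V] [Module F V] [Finite V] {β : V → V → F}, EH σ ε β → finrank F V ≤ d →
      ∀ {Γ : Subgroup (Equiv.Perm V)}, PSF p F β Γ → (∀ y ∈ Γ, Semi F y (1 : F ≃+* F) → y = 1) ∧
        ∀ δ ∈ D (finrank F V), ∃ g, IsIso F β g ∧ IsDet F δ g)
    (hstep : ∀ n, d < n → 2 ≤ n → ∀ δ ∈ D n, ∃ t : Fˣ, ∃ δ' ∈ D (n - 2), -((t : F) * (ε * (σ t)⁻¹)) * δ' = δ) (n : ℕ) :
    ∀ {V : Type v} [AddCommGroup V] [Module F V] [Finite V] {β : V → V → F}, EH σ ε β → finrank F V = n →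
      ∀ {Γ : Subgroup (Equiv.Perm V)}, PSF p F β Γ → ∀ δ ∈ D n, ∃ g, IsIso F β g ∧ IsDet F δ g ∧ PG F Γ g := by
  induction n using Nat.strong_induction_on with
  | _ n ih =>
    intro V _ _ _ β h hn Γ hP δ hδ
    rcases Nat.lt_or_ge d n with hd | hd
    · obtain ⟨e, he, hee, hfix⟩ := exists_fixed h hP (hcount h (by omega))
      obtain ⟨f, hef, hff⟩ := h.exists_partner h2 he hee
      have k : HP β e f := ⟨hee, hff, hef⟩
      have hfin := finrank_CC h k
      obtain ⟨t, δ', hδ', hδe⟩ := hstep n hd (by omega) δ hδ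
      obtain ⟨g', hg1, hg2, hg3⟩ := ih (finrank F ↥(CC h e f)) (by omega) (h.res k) rfl (bar_PSF h k hP hfix) δ'
        (by rwa [show finrank F ↥(CC h e f) = n - 2 by omega])
      refine ⟨GG h k g' t, isIso_GG h k hg1 t, ?_, ?_⟩
      · rw [← hδe]
        exact isDet_GG h k hg2 t
      · exact PG_of_trG (step (St_dec h k hP hfix) (trG_PS hP.ps) hg1.1 hg3)
    · obtain ⟨k1, k2⟩ := hbase h (by omega) hP
      obtain ⟨g, hg1, hg2⟩ := k2 δ (by rwa [hn])
      exact ⟨g, hg1, hg2, PG_base hP.ps k1 hg1.1⟩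

/-- The top level. -/
theorem top {p : ℕ} [Fact p.Prime] [Finite F] [CharP F p] [Finite V] (h2 : (2 : F) ≠ 0) (h : EH σ ε β)
    (hn : 3 ≤ finrank F V) {Γ : Subgroup (Equiv.Perm V)} (hP : PSF p F β Γ)
    (hcount : p ∣ Nat.card {v : V // β v v = 0}) (u : Fˣ) (hσ : σ u = u)
    (hu : ∀ θ : F ≃+* F, (∃ k : ℕ, θ ^ p ^ k = 1) → θ u = u → θ = 1) (X : Equiv.Perm V → Prop)
    (hX : ∀ (e f : V) (k : HP β e f) (Γ' : Subgroup (Equiv.Perm ↥(CC h e f))), PSF p F (resF β (CC h e f)) Γ' →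
      ∃ g', Semi F g' (1 : F ≃+* F) ∧ PG F Γ' g' ∧ ∃ t : Fˣ, X (GG h k g' t) ∧ X (GG h k g' (t * u))) :
    ∃ g, X g ∧ SepBy F Γ g := by
  obtain ⟨e, he, hee, hfix⟩ := exists_fixed h hP hcount
  obtain ⟨f, hef, hff⟩ := h.exists_partner h2 he hee
  have k : HP β e f := ⟨hee, hff, hef⟩
  have hfin := finrank_CC h k
  have hS := St_dec h k hP hfix
  obtain ⟨g', hg1, hg2, t, hX1, hX2⟩ := hX e f k _ (bar_PSF h k hP hfix)
  have hC : ∃ c0 : ↥(CC h e f), c0 ≠ 0 := by
    have : Nontrivial ↥(CC h e f) := Module.nontrivial_of_finrank_pos (R := F) (by omega)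
    exact exists_ne 0
  have key := sep hS (trG_PS hP.ps) hg1 hg2 t (sC σ ε h.eps_sq t) u (Units.map σ.toMonoidHom u)⁻¹ (by
    intro θ hθ c h1 _ h3
    apply hu θ hθ
    rw [h3 hC, one_mul] at h1
    exact h1.symm)
  rcases key with key | key
  · exact ⟨_, hX1, SepBy_of_trG key⟩
  · have e1 : sC σ ε h.eps_sq t * (Units.map σ.toMonoidHom u)⁻¹ = sC σ ε h.eps_sq (t * u) := by
      rw [sC, sC, map_mul, mul_inv, mul_assoc]
    rw [e1] at key
    exact ⟨_, hX2, SepBy_of_trG key⟩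

end gen

section counting

variable {F : Type u} [Field F] {σ : F ≃+* F} {ε : F} {V : Type v} [AddCommGroup V] [Module F V] {β : V → V → F}

theorem EH_suml (h : EH σ ε β) {ι : Type w} (s : Finset ι) (x : ι → F) (b : ι → V) (w : V) :
    β (∑ i ∈ s, x i • b i) w = ∑ i ∈ s, x i * β (b i) w := by
  have := map_sum (h.fl w) (fun i => x i • b i) s
  simp only [map_smul, smul_eq_mul] at this
  exact this

theorem EH_sumr (h : EH σ ε β) {ι : Type w} (s : Finset ι) (x : ι → F) (b : ι → V) (w : V) :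
    β w (∑ i ∈ s, x i • b i) = ∑ i ∈ s, σ (x i) * β w (b i) := by
  rw [h.herm, EH_suml h, map_sum, Finset.mul_sum]
  apply Finset.sum_congr rfl
  intro i _
  rw [map_mul, h.herm (b i) w]
  ring

open MvPolynomial in
/-- The form as a polynomial (`σ x = x ^ q`). -/
theorem exists_poly [Module.Finite F V] (h : EH σ ε β) {q : ℕ} (hq : ∀ x : F, σ x = x ^ q) :
    ∃ f : MvPolynomial (Fin (finrank F V)) F, f.totalDegree ≤ q + 1 ∧
      ∀ v, eval ((Module.finBasis F V).equivFun v) f = β v v := by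
  let b := Module.finBasis F V
  refine ⟨∑ i, ∑ j, C (β (b i) (b j)) * (X i * X j ^ q), ?_, fun v => ?_⟩
  · refine (totalDegree_finsetSum _ _).trans ?_
    refine Finset.sup_le fun i _ => ?_
    refine (totalDegree_finsetSum _ _).trans ?_
    refine Finset.sup_le fun j _ => ?_
    refine (totalDegree_mul _ _).trans ?_
    rw [totalDegree_C, zero_add]
    refine (totalDegree_mul _ _).trans ?_
    have h1 := totalDegree_pow (X j : MvPolynomial (Fin (finrank F V)) F) q
    rw [totalDegree_X, mul_one] at h1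
    rw [totalDegree_X]
    omega
  · set x := b.equivFun v with hx
    have hv : v = ∑ i, x i • b i := by rw [hx, b.sum_equivFun]
    rw [hv, EH_suml h]
    simp only [map_sum, map_mul, map_pow, eval_C, eval_X]
    apply Finset.sum_congr rfl
    intro i _
    rw [EH_sumr h, Finset.mul_sum]
    apply Finset.sum_congr rfl
    intro j _
    rw [hq]
    ring

theorem card_equiv [Module.Finite F V] (h : EH σ ε β) (f : MvPolynomial (Fin (finrank F V)) F)
    (hf : ∀ v, MvPolynomial.eval ((Module.finBasis F V).equivFun v) f = β v v) :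
    Nat.card {v : V // β v v = 0} = Nat.card {x : Fin (finrank F V) → F // MvPolynomial.eval x f = 0} := by
  refine Nat.card_congr ((Module.finBasis F V).equivFun.toEquiv.subtypeEquiv fun v => ?_)
  rw [← hf]
  rfl

/-- Symmetric forms: Chevalley-Warning. -/
theorem dvd_sym {p : ℕ} [Fact p.Prime] [Finite F] [CharP F p] [Finite V] {β : V → V → F} (h : EH (1 : F ≃+* F) ε β)
    (hn : 3 ≤ finrank F V) : p ∣ Nat.card {v : V // β v v = 0} := by
  classical
  have := Fintype.ofFinite F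
  obtain ⟨f, hf1, hf2⟩ := exists_poly h (q := 1) (fun x => by rw [pow_one]; rfl)
  rw [card_equiv h f hf2, Nat.card_eq_fintype_card]
  apply char_dvd_card_solutions p
  rw [Fintype.card_fin]
  omega

/-- Hermitian forms: the same for `1 - f ^ (q - 1)`. -/
theorem dvd_herm {p q : ℕ} [Fact p.Prime] [Finite F] [CharP F p] [Finite V] {β : V → V → F} (h : EH σ 1 β)
    (hq : ∀ x : F, σ x = x ^ q) (hF : Nat.card F = q ^ 2) (hn : 2 ≤ finrank F V) :
    p ∣ Nat.card {v : V // β v v = 0} := by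
  classical
  have := Fintype.ofFinite F
  have hF' : Fintype.card F = q ^ 2 := by rw [← Nat.card_eq_fintype_card, hF]
  have hq1 : 1 < q := by
    have := Fintype.one_lt_card (α := F)
    rw [hF'] at this
    by_contra hcon
    have : q = 0 ∨ q = 1 := by omega
    rcases this with rfl | rfl <;> simp at this
  obtain ⟨f, hf1, hf2⟩ := exists_poly h hq
  rw [card_equiv h f hf2]
  have hfix : ∀ x : Fin (finrank F V) → F, (MvPolynomial.eval x f) ^ q = MvPolynomial.eval x f := by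
    intro x
    have h1 := hf2 ((Module.finBasis F V).equivFun.symm x)
    rw [LinearEquiv.apply_symm_apply] at h1
    rw [h1, ← hq]
    have h3 := h.herm ((Module.finBasis F V).equivFun.symm x) ((Module.finBasis F V).equivFun.symm x)
    rw [one_mul] at h3
    exact h3.symm
  have hval : ∀ x : Fin (finrank F V) → F, MvPolynomial.eval x (1 - f ^ (q - 1)) =
      if MvPolynomial.eval x f = 0 then 1 else 0 := by
    intro x
    rw [map_sub, map_one, map_pow]
    split_ifs with h0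
    · rw [h0, zero_pow (by omega), sub_zero]
    · have h1 := hfix x
      have h3 : (MvPolynomial.eval x f) ^ (q - 1) * MvPolynomial.eval x f = 1 * MvPolynomial.eval x f := by
        rw [← pow_succ, show q - 1 + 1 = q by omega, h1, one_mul]
      rw [mul_right_cancel₀ h0 h3, sub_self]
  have hdeg : (1 - f ^ (q - 1)).totalDegree < (Fintype.card F - 1) * Fintype.card (Fin (finrank F V)) := by
    have h1 : (1 - f ^ (q - 1)).totalDegree ≤ (q - 1) * (q + 1) := by
      refine (MvPolynomial.totalDegree_sub _ _).trans ?_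
      rw [MvPolynomial.totalDegree_one, max_eq_right (Nat.zero_le _)]
      exact (MvPolynomial.totalDegree_pow _ _).trans (Nat.mul_le_mul_left _ hf1)
    have h3 : (q - 1) * (q + 1) = q ^ 2 - 1 := by
      obtain ⟨r, rfl⟩ : ∃ r, q = r + 1 := ⟨q - 1, by omega⟩
      have : (r + 1) ^ 2 = r * (r + 1 + 1) + 1 := by ring
      rw [this]
      simp only [_root_.add_tsub_cancel_right]
    have h4 : 1 < q ^ 2 := by nlinarith only [hq1]
    rw [Fintype.card_fin, hF', ← h3]
    have h5 : 0 < (q - 1) * (q + 1) := Nat.mul_pos (by omega) (by omega)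
    nlinarith only [hn, h1, h5]
  have hsum := MvPolynomial.sum_eval_eq_zero _ hdeg
  simp only [hval] at hsum
  rw [Finset.sum_ite, Finset.sum_const_zero, add_zero, Finset.sum_const, nsmul_eq_mul, mul_one] at hsum
  rw [Nat.card_eq_fintype_card, Fintype.card_subtype]
  exact (CharP.cast_eq_zero_iff F p _).1 hsum

/-- Symplectic forms. -/
theorem dvd_alt {p : ℕ} [Fact p.Prime] [Finite F] [CharP F p] [Finite V] {β : V → V → F} (h2 : (2 : F) ≠ 0)
    (h : EH (1 : F ≃+* F) (-1) β) (hn : 0 < finrank F V) : p ∣ Nat.card {v : V // β v v = 0} := by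
  have h1 : ∀ v, β v v = 0 := by
    intro v
    have h3 := h.herm v v
    have h4 : β v v = -1 * β v v := h3
    have h5 : 2 * β v v = 0 := by linear_combination h4
    exact (mul_eq_zero.1 h5).resolve_left h2
  have h3 : Nat.card {v : V // β v v = 0} = Nat.card V := Nat.card_congr (Equiv.subtypeUnivEquiv h1)
  rw [h3, Module.natCard_eq_pow_finrank (K := F)]
  exact dvd_pow dvd_card hn.ne'

end counting

section bases

variable {F : Type u} [Field F] {σ : F ≃+* F} {ε : F}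

/-- Dimension at most one: linear elements of a `p`-group are trivial. -/
theorem lin_one {p : ℕ} [Fact p.Prime] [Finite F] [CharP F p] {V : Type v} [AddCommGroup V] [Module F V] [Finite V]
    (hn : finrank F V ≤ 1) {Γ : Subgroup (Equiv.Perm V)} (hP : PS p F Γ) :
    ∀ y ∈ Γ, Semi F y (1 : F ≃+* F) → y = 1 := by
  intro y hy hl
  obtain ⟨k, hk⟩ := hP.pow hy
  ext v
  rw [Equiv.Perm.one_apply]
  by_cases hv : v = 0
  · rw [hv, semi_zero hl]
  have : Module.Finite F V := Module.Finite.of_finite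
  have h1 : finrank F V = 1 := by
    have : Nontrivial V := ⟨v, 0, hv⟩
    have := Module.finrank_pos (R := F) (M := V)
    omega
  obtain ⟨c, hc⟩ := exists_smul_eq_of_finrank_eq_one h1 hv (y v)
  exact fix_of_eigen hl hk hc.symm

/-- A `p`-group of semisimilarities of a symmetric form in dimension two has no nontrivial linear elements. -/
theorem lin_two {p : ℕ} [Fact p.Prime] [Finite F] [CharP F p] {V : Type v} [AddCommGroup V] [Module F V] [Finite V]
    {β : V → V → F} (h2 : (2 : F) ≠ 0) (h : EH (1 : F ≃+* F) 1 β) (hn : finrank F V = 2)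
    {Γ : Subgroup (Equiv.Perm V)} (hP : PSF p F β Γ) : ∀ y ∈ Γ, Semi F y (1 : F ≃+* F) → y = 1 := by
  intro y hy hl
  have hfV : Module.Finite F V := Module.Finite.of_finite
  obtain ⟨k, hk⟩ := hP.ps.pow hy
  -- a fixed vector
  obtain ⟨v1, hv1, hv10⟩ := hP.grp.exists_fixed_point_of_prime_dvd_card_of_fixed_point V (by
    rw [Module.natCard_eq_pow_finrank (K := F), hn]
    exact dvd_pow dvd_card two_ne_zero) (a := (0 : V)) (fun z => by
      obtain ⟨θ, τ, -, hθ, -⟩ := hP.sim z z.2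
      exact semi_zero hθ)
  have hfix : y v1 = v1 := hv1 ⟨y, hy⟩
  have hv1' : v1 ≠ 0 := fun h => hv10 h.symm
  obtain ⟨θ, τ, hτ, hθ, hform⟩ := hP.sim y hy
  have hθ1 : θ = 1 := semi_unique hθ hl hv1'
  subst hθ1
  have hform' : ∀ u v, β (y u) (y v) = τ * β u v := hform
  -- the functional `β · v1`
  have hφ : ∀ v, β (y v) v1 = τ * β v v1 := by
    intro v
    have := hform' v v1
    rwa [hfix] at this
  obtain ⟨w0, hw0⟩ : ∃ w0, β w0 v1 ≠ 0 := by
    by_contra hcon
    push Not at hcon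
    exact hv1' (h.nondeg v1 fun w => h.symm (hcon w))
  have hτ1 : τ = 1 := by
    have h3 : ∀ n : ℕ, ∀ v, β ((y ^ n) v) v1 = τ ^ n * β v v1 := by
      intro n
      induction n with
      | zero => intro v; rw [pow_zero, pow_zero, one_mul]; rfl
      | succ n ih =>
        intro v
        rw [pow_succ, Equiv.Perm.mul_apply, ih, hφ, pow_succ]
        ring
    have h4 := h3 (p ^ k) w0
    rw [hk, Equiv.Perm.one_apply] at h4
    have h5 : τ ^ p ^ k = 1 := by
      have : τ ^ p ^ k * β w0 v1 = 1 * β w0 v1 := by rw [← h4, one_mul]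
      exact mul_right_cancel₀ hw0 this
    exact eq_one_of_pow h5
  subst hτ1
  -- the kernel of a nonzero functional is a line
  have hline : ∀ {x w z : V}, x ≠ 0 → w ≠ 0 → β w x = 0 → β z x = 0 → ∃ c : F, z = c • w := by
    intro x w z hx hw hwx hzx
    have hfx : h.fl x ≠ 0 := by
      intro h0
      apply hx
      apply h.nondeg
      intro v
      exact h.symm (LinearMap.congr_fun h0 v)
    have hfin : finrank F (LinearMap.ker (h.fl x)) = 1 := by
      have h3 := LinearMap.finrank_range_add_finrank_ker (h.fl x)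
      rw [LinearMap.range_eq_top.2 (LinearMap.surjective hfx), finrank_top, finrank_self] at h3
      omega
    obtain ⟨c, hc⟩ := exists_smul_eq_of_finrank_eq_one hfin (x := (⟨w, hwx⟩ : LinearMap.ker (h.fl x)))
      (fun h0 => hw (congrArg Subtype.val h0)) ⟨z, hzx⟩
    exact ⟨c, (congrArg Subtype.val hc).symm⟩
  -- a generator of the kernel of `β · v1`
  obtain ⟨w, hw, hwv⟩ : ∃ w : V, w ≠ 0 ∧ β w v1 = 0 := by
    have h3 := LinearMap.finrank_range_add_finrank_ker (h.fl v1)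
    have h4 : finrank F (LinearMap.range (h.fl v1)) ≤ 1 := by
      have := Submodule.finrank_le (LinearMap.range (h.fl v1))
      rwa [finrank_self] at this
    have : Nontrivial (LinearMap.ker (h.fl v1)) := Module.nontrivial_of_finrank_pos (R := F) (by omega)
    obtain ⟨⟨w, hw⟩, hw0⟩ := exists_ne (0 : LinearMap.ker (h.fl v1))
    exact ⟨w, fun h0 => hw0 (Subtype.ext h0), hw⟩
  have hyw : y w = w := by
    obtain ⟨c, hc⟩ := hline hv1' hw hwv (z := y w) (by rw [hφ, hwv, mul_zero])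
    exact fix_of_eigen hl hk hc
  ext v
  rw [Equiv.Perm.one_apply]
  obtain ⟨a, ha⟩ := hline hv1' hw hwv (z := y v - v) (by rw [h.subl, hφ, one_mul, sub_self])
  have ha' : y v = v + a • w := by rw [← ha]; abel
  by_cases ha0 : a = 0
  · rw [ha', ha0, zero_smul, add_zero]
  have h3 := hform' v w
  rw [hyw, ha', h.addl, h.smull, one_mul] at h3
  have h4 : β w w = 0 := by
    have : a * β w w = 0 := by linear_combination h3
    exact (mul_eq_zero.1 this).resolve_left ha0
  have h5 := hform' v v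
  have h6 : ∀ u v, β u v = β v u := by
    intro u v
    rw [h.herm v u, one_mul]
    rfl
  rw [ha', h.addl, h.addr, h.addr, h.smull, h.smull, h.smulr, h.smulr, h4, h6 w v, one_mul] at h5
  have h7 : β v w = 0 := by
    have h8 : β v v + a * β v w + (a * β v w + a * (a * 0)) = β v v := h5
    have h9 : (2 * a) * β v w = 0 := by linear_combination h8
    exact (mul_eq_zero.1 h9).resolve_left (mul_ne_zero h2 ha0)
  obtain ⟨c, hc⟩ := hline hw hw h4 h7
  rw [hc, hl.2, hyw]
  rfl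

/-- Reflections. -/
theorem exists_refl {V : Type v} [AddCommGroup V] [Module F V] [Module.Finite F V] {β : V → V → F} (h2 : (2 : F) ≠ 0)
    (h : EH (1 : F ≃+* F) 1 β) (hn : 0 < finrank F V) : ∃ g, IsIso F β g ∧ IsDet F (-1) g := by
  have h6 : ∀ u v, β u v = β v u := by
    intro u v
    rw [h.herm v u, one_mul]
    rfl
  obtain ⟨v, hv⟩ : ∃ v, β v v ≠ 0 := by
    by_contra hcon
    push Not at hcon
    have : Nontrivial V := Module.nontrivial_of_finrank_pos (R := F) hn
    obtain ⟨u, hu⟩ := exists_ne (0 : V)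
    apply hu
    apply h.nondeg
    intro w
    have h3 := hcon (u + w)
    rw [h.addl, h.addr, h.addr, hcon, hcon, h6 w u] at h3
    have h4 : 2 * β u w = 0 := by linear_combination h3
    exact (mul_eq_zero.1 h4).resolve_left h2
  let f : V →ₗ[F] F := (-2 / β v v) • h.fl v
  have hf : ∀ x, f x = -2 / β v v * β x v := fun x => rfl
  have hL : ∀ x, LinearMap.transvection f v x = x + (-2 / β v v * β x v) • v := fun x => by
    rw [LinearMap.transvection.apply, hf]
  have hfv : f v = -2 := by rw [hf]; field_simp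
  have hinv : ∀ x, LinearMap.transvection f v (LinearMap.transvection f v x) = x := by
    intro x
    rw [LinearMap.transvection.apply, LinearMap.transvection.apply, map_add, map_smul, smul_eq_mul, hfv]
    module
  refine ⟨⟨fun x => LinearMap.transvection f v x, fun x => LinearMap.transvection f v x, hinv, hinv⟩, ⟨⟨?_, ?_⟩, ?_⟩,
    LinearMap.transvection f v, fun _ => rfl, ?_⟩
  · intro x y
    exact (LinearMap.transvection f v).map_add x y
  · intro a x
    exact (LinearMap.transvection f v).map_smul a x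
  · intro x y
    change β (LinearMap.transvection f v x) (LinearMap.transvection f v y) = _
    rw [hL, hL, h.addl, h.addr, h.addr, h.smull, h.smull, h.smulr, h.smulr]
    change β x y + (-2 / β v v * β y v) * β x v + (-2 / β v v * β x v * β v y +
      -2 / β v v * β x v * ((-2 / β v v * β y v) * β v v)) = β x y
    rw [h6 v y]
    field_simp
    ring
  · rw [LinearMap.transvection.det, hfv]
    norm_num

end bases

end Cfsg.Agent.H126.SepInd
end

-- part: H126/SepSpSU
section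
/-!
# Separation in defining characteristic: symplectic and unitary groups (helper126, tasks 460, 461 of helper903)
-/

set_option autoImplicit false
set_option linter.unusedSectionVars false
set_option linter.unusedVariables false

namespace Cfsg.Agent.H126.SepSpSU

open Module Cfsg.Agent.H903.SylSemi Cfsg.Agent.H126.SepStep Cfsg.Agent.H126.SepMain Cfsg.Agent.H126.SepForm
  Cfsg.Agent.H126.SepInd

universe u v w

/-- Two is not zero. -/
theorem two_ne {p : ℕ} [Fact p.Prime] (hp : 3 ≤ p) {F : Type u} [Field F] [CharP F p] : (2 : F) ≠ 0 := by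
  intro h
  have h1 : ((2 : ℕ) : F) = 0 := by exact_mod_cast h
  have h2 := (CharP.cast_eq_zero_iff F p 2).1 h1
  have := Nat.le_of_dvd (by norm_num) h2
  omega

/-! ### Symplectic groups -/

/-- Symplectic master statement. -/
theorem exists_PG_Sp {p : ℕ} [Fact p.Prime] {F : Type u} [Field F] [Finite F] [CharP F p] (h2 : (2 : F) ≠ 0)
    {V : Type v} [AddCommGroup V] [Module F V] [Finite V] {β : V → V → F} (h : EH (1 : F ≃+* F) (-1) β)
    {Γ : Subgroup (Equiv.Perm V)} (hP : PSF p F β Γ) : ∃ g, IsIso F β g ∧ IsDet F 1 g ∧ PG F Γ g := by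
  refine exists_PG h2 (d := 0) (D := fun _ => {1}) (fun h hn => dvd_alt h2 h hn) (fun {V} _ _ _ β h hn Γ hP => ?_)
    (fun n _ _ δ hδ => ?_) (finrank F V) h rfl hP 1 rfl
  · refine ⟨lin_one (by omega) hP.ps, ?_⟩
    rintro δ rfl
    exact ⟨1, isIso_one, isDet_one⟩
  · refine ⟨1, 1, rfl, ?_⟩
    rw [Set.mem_singleton_iff.1 hδ]
    simp

/-- The symplectic separation. -/
theorem sep_Sp {p : ℕ} [Fact p.Prime] {F : Type u} [Field F] [Finite F] [CharP F p] (h2 : (2 : F) ≠ 0)
    {V : Type v} [AddCommGroup V] [Module F V] [Finite V] {β : V → V → F} (h : EH (1 : F ≃+* F) (-1) β)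
    (hn : 3 ≤ finrank F V) {Γ : Subgroup (Equiv.Perm V)} (hP : PSF p F β Γ) : ∃ g, IsIso F β g ∧ SepBy F Γ g := by
  obtain ⟨u, hu⟩ := exists_gen (F := F)
  refine top h2 h hn hP (dvd_alt h2 h (by omega)) u rfl (fun θ _ => hu θ) (fun g => IsIso F β g) ?_
  intro e f k Γ' hP'
  obtain ⟨g', h1, -, h3⟩ := exists_PG_Sp h2 (h.res k) hP'
  exact ⟨g', h1.1, h3, 1, isIso_GG h k h1 _, isIso_GG h k h1 _⟩

theorem sympForm_EH (m : ℕ) (F : Type u) [Field F] : EH (1 : F ≃+* F) (-1) (Cfsg.sympForm m F) := by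
  have hval : ∀ u v, Cfsg.sympForm m F u v = ∑ i, (u (Sum.inr i) * v (Sum.inl i) - u (Sum.inl i) * v (Sum.inr i)) := by
    intro u v
    rw [Cfsg.sympForm, Matrix.J, Matrix.fromBlocks_mulVec, dotProduct, Fintype.sum_sum_type, Finset.sum_sub_distrib]
    simp only [Matrix.neg_mulVec, _root_.Matrix.zero_mulVec, _root_.Matrix.one_mulVec, _root_.zero_add, _root_.add_zero, _root_.Sum.elim_inl, _root_.Pi.neg_apply, _root_.Function.comp_apply, _root_.mul_neg, _root_.Finset.sum_neg_distrib, _root_.Sum.elim_inr]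
    ring
  refine ⟨Or.inr rfl, fun a => rfl, fun u v w => ?_, fun a u v => ?_, fun u v => ?_, fun v hv => ?_⟩
  · rw [hval, hval, hval, ← Finset.sum_add_distrib]
    apply Finset.sum_congr rfl
    intro i _
    simp only [Pi.add_apply]
    ring
  · rw [hval, hval, Finset.mul_sum]
    apply Finset.sum_congr rfl
    intro i _
    simp only [Pi.smul_apply, smul_eq_mul]
    ring
  · change _ = -1 * Cfsg.sympForm m F u v
    rw [hval, hval, neg_one_mul, ← Finset.sum_neg_distrib]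
    apply Finset.sum_congr rfl
    intro i _
    ring
  · ext i
    rcases i with i | i
    · have := hv (Pi.single (Sum.inr i) 1)
      rw [hval] at this
      simpa only [Pi.single_apply, _root_.Pi.zero_apply, _root_.ne_eq, _root_.reduceCtorEq, _root_.not_false_eq_true, _root_.Pi.single_eq_of_ne, _root_.MulZeroClass.mul_zero, _root_.Sum.inr.injEq, _root_.mul_ite, _root_.mul_one, _root_.zero_sub, _root_.Finset.sum_neg_distrib, _root_.Finset.sum_ite_eq', _root_.Finset.mem_univ, ↓ _root_.reduceIte, _root_.neg_eq_zero] using this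
    · have := hv (Pi.single (Sum.inl i) 1)
      rw [hval] at this
      simpa only [Pi.single_apply, _root_.Pi.zero_apply, _root_.Sum.inl.injEq, _root_.mul_ite, _root_.mul_one, _root_.MulZeroClass.mul_zero, _root_.ne_eq, _root_.reduceCtorEq, _root_.not_false_eq_true, _root_.Pi.single_eq_of_ne, _root_.sub_zero, _root_.Finset.sum_ite_eq', _root_.Finset.mem_univ, ↓ _root_.reduceIte] using this

/-- **Task 460.** -/
theorem sepSp_char {p m : ℕ} [Fact p.Prime] (hp : 5 ≤ p) {F : Type} [Field F] [Fintype F] [CharP F p] (hm : 2 ≤ m) :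
    Cfsg.Agent.H903.SylSemi.SepSp p F m := by
  intro Γ hΓ hsim _
  have hP : PSF p F (Cfsg.sympForm m F) Γ := ⟨hΓ, hsim⟩
  obtain ⟨g, h1, h3⟩ := sep_Sp (two_ne (by omega)) (sympForm_EH m F) (by
    rw [finrank_fintype_fun_eq_card, Fintype.card_sum, Fintype.card_fin]
    omega) hP
  exact ⟨g, h1, h3⟩

/-! ### Unitary groups -/

section unitary

variable {p q : ℕ} [Fact p.Prime] {F : Type u} [Field F] [Finite F] [CharP F p] {σ : F ≃+* F}

theorem exists_skew (h2 : (2 : F) ≠ 0) (hσ2 : ∀ a, σ (σ a) = a) (hσ : σ ≠ 1) : ∃ t : Fˣ, σ (t : F) = -t := by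
  obtain ⟨x, hx⟩ : ∃ x, σ x ≠ x := by
    by_contra hcon
    push Not at hcon
    exact hσ (RingEquiv.ext hcon)
  refine ⟨Units.mk0 (x - σ x) (fun h => hx (sub_eq_zero.1 h).symm), ?_⟩
  rw [Units.val_mk0, map_sub, hσ2]
  ring

/-- Unitary master statement. -/
theorem exists_PG_SU (h2 : (2 : F) ≠ 0) (hσ2 : ∀ a, σ (σ a) = a) (hσ : σ ≠ 1) (hq : ∀ x : F, σ x = x ^ q)
    (hF : Nat.card F = q ^ 2) {V : Type v} [AddCommGroup V] [Module F V] [Finite V] {β : V → V → F} (h : EH σ 1 β)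
    {Γ : Subgroup (Equiv.Perm V)} (hP : PSF p F β Γ) : ∃ g, IsIso F β g ∧ IsDet F 1 g ∧ PG F Γ g := by
  refine exists_PG h2 (d := 1) (D := fun _ => {1}) (fun h hn => dvd_herm h hq hF hn) (fun {V} _ _ _ β h hn Γ hP => ?_)
    (fun n _ _ δ hδ => ?_) (finrank F V) h rfl hP 1 rfl
  · refine ⟨lin_one (by omega) hP.ps, ?_⟩
    rintro δ rfl
    exact ⟨1, isIso_one, isDet_one⟩
  · obtain ⟨t, ht⟩ := exists_skew h2 hσ2 hσ
    refine ⟨t, 1, rfl, ?_⟩
    have ht0 := t.ne_zero
    rw [Set.mem_singleton_iff.1 hδ, ht, one_mul, inv_neg, mul_neg, neg_neg, mul_inv_cancel₀ ht0, one_mul]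

/-- A generator of the fixed field of the involution. -/
theorem exists_gen_fix (hpo : Odd p) (hσ2 : ∀ a, σ (σ a) = a) :
    ∃ u : Fˣ, σ (u : F) = u ∧ ∀ θ : F ≃+* F, (∃ k : ℕ, θ ^ p ^ k = 1) → θ u = u → θ = 1 := by
  let H : Subgroup Fˣ :=
    { carrier := {x | σ (x : F) = x}
      mul_mem' := fun {a b} ha hb => by
        have ha' : σ (a : F) = a := ha
        have hb' : σ (b : F) = b := hb
        change σ ((a * b : Fˣ) : F) = _
        rw [Units.val_mul, map_mul, ha', hb']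
      one_mem' := by
        change σ ((1 : Fˣ) : F) = _
        rw [Units.val_one, map_one]
      inv_mem' := fun {a} ha => by
        have ha' : σ (a : F) = a := ha
        change σ ((a⁻¹ : Fˣ) : F) = _
        rw [Units.val_inv_eq_inv_val, map_inv₀, ha'] }
  have : IsCyclic H := inferInstance
  obtain ⟨u, hu⟩ := IsCyclic.exists_generator (α := H)
  have hu1 : σ ((u : Fˣ) : F) = (u : Fˣ) := u.2
  refine ⟨u, hu1, fun θ ⟨k, hk⟩ hθ => ?_⟩
  -- `θ` fixes the fixed field of `σ`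
  have hfix : ∀ x : F, σ x = x → θ x = x := by
    intro x hx
    by_cases hx0 : x = 0
    · rw [hx0, map_zero]
    obtain ⟨n, hn⟩ := Subgroup.mem_zpowers_iff.1 (hu ⟨Units.mk0 x hx0, hx⟩)
    have h1 : x = ((u : Fˣ) : F) ^ n := by
      have h3 := congrArg (fun z : H => ((z : Fˣ) : F)) hn
      simp only [Subgroup.coe_zpow, Units.val_zpow_eq_zpow_val, Units.val_mk0] at h3
      exact h3.symm
    rw [h1, map_zpow₀, hθ]
  have := isCyclic_ringEquiv F
  have hcomm : θ * σ = σ * θ := by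
    have : IsMulCommutative (F ≃+* F) := inferInstance
    exact mul_comm' θ σ
  have hcomm' : ∀ x, θ (σ x) = σ (θ x) := fun x => congrArg (fun z : F ≃+* F => z x) hcomm
  have hroot : ∀ x, θ x = x ∨ θ x = σ x := by
    intro x
    have h1 := hfix (x + σ x) (by rw [map_add, hσ2, add_comm])
    have h3 := hfix (x * σ x) (by rw [map_mul, hσ2, mul_comm])
    rw [map_add] at h1
    rw [map_mul] at h3
    have h4 : (θ x - x) * (θ x - σ x) = 0 := by linear_combination θ x * h1 - h3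
    rcases mul_eq_zero.1 h4 with h | h
    · exact Or.inl (sub_eq_zero.1 h)
    · exact Or.inr (sub_eq_zero.1 h)
  apply eq_one_of_sq (hpo.pow (n := k)) hk
  ext x
  rw [pow_two]
  change θ (θ x) = x
  rcases hroot x with h | h
  · rw [h, h]
  · rw [h, hcomm', h, hσ2]

/-- The unitary separation. -/
theorem sep_SU (hpo : Odd p) (h2 : (2 : F) ≠ 0) (hσ2 : ∀ a, σ (σ a) = a) (hσ : σ ≠ 1) (hq : ∀ x : F, σ x = x ^ q)
    (hF : Nat.card F = q ^ 2) {V : Type v} [AddCommGroup V] [Module F V] [Finite V] {β : V → V → F} (h : EH σ 1 β)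
    (hn : 3 ≤ finrank F V) {Γ : Subgroup (Equiv.Perm V)} (hP : PSF p F β Γ) :
    ∃ g, (IsIso F β g ∧ IsDet F 1 g) ∧ SepBy F Γ g := by
  obtain ⟨u, hu1, hu2⟩ := exists_gen_fix hpo hσ2
  refine top h2 h hn hP (dvd_herm h hq hF (by omega)) u hu1 hu2 (fun g => IsIso F β g ∧ IsDet F 1 g) ?_
  intro e f k Γ' hP'
  obtain ⟨g', h1, h3, h4⟩ := exists_PG_SU h2 hσ2 hσ hq hF (h.res k) hP'
  obtain ⟨t, ht⟩ := exists_skew h2 hσ2 hσ
  have ht0 := t.ne_zero
  have hu0 := u.ne_zero
  refine ⟨g', h1.1, h4, t, ⟨isIso_GG h k h1 _, ?_⟩, ⟨isIso_GG h k h1 _, ?_⟩⟩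
  · have := isDet_GG h k h3 t
    rwa [ht, one_mul, inv_neg, mul_neg, neg_neg, mul_inv_cancel₀ ht0, one_mul] at this
  · have := isDet_GG h k h3 (t * u)
    rw [Units.val_mul, map_mul, ht, hu1] at this
    have e1 : -((t : F) * u * (1 * (-(t : F) * u)⁻¹)) * 1 = 1 := by
      field_simp
    rwa [e1] at this

end unitary

section unitaryForm

variable {n q : ℕ} {F : Type u} [Field F] {σ : F ≃+* F}

theorem hermForm_EH (hσ2 : ∀ a, σ (σ a) = a) (hq : ∀ x : F, σ x = x ^ q) : EH σ 1 (Cfsg.hermForm n F q) := by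
  have hval : ∀ u v, Cfsg.hermForm n F q u v = ∑ i, u i * σ (v i) := by
    intro u v
    rw [Cfsg.hermForm]
    apply Finset.sum_congr rfl
    intro i _
    rw [hq]
  refine ⟨Or.inl rfl, hσ2, fun u v w => ?_, fun a u v => ?_, fun u v => ?_, fun v hv => ?_⟩
  · rw [hval, hval, hval, ← Finset.sum_add_distrib]
    apply Finset.sum_congr rfl
    intro i _
    simp only [Pi.add_apply]
    ring
  · rw [hval, hval, Finset.mul_sum]
    apply Finset.sum_congr rfl
    intro i _
    simp only [Pi.smul_apply, smul_eq_mul]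
    ring
  · rw [hval, hval, one_mul, map_sum]
    apply Finset.sum_congr rfl
    intro i _
    rw [map_mul, hσ2]
    ring
  · ext i
    have := hv (Pi.single i 1)
    rw [hval] at this
    simpa only [Pi.single_apply, apply_ite σ, _root_.Pi.zero_apply, _root_.map_one, _root_.map_zero, _root_.mul_ite, _root_.mul_one, _root_.MulZeroClass.mul_zero, _root_.Finset.sum_ite_eq', _root_.Finset.mem_univ, ↓ _root_.reduceIte] using this

end unitaryForm

/-- **Task 461.** -/
theorem sepSU_char {p n q : ℕ} [Fact p.Prime] (hp : 5 ≤ p) {F : Type} [Field F] [Fintype F] [CharP F p]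
    (hF : Fintype.card F = q ^ 2) (hn : 3 ≤ n) : Cfsg.Agent.H903.SylSemi.SepSU p F n q := by
  have hF' : Nat.card F = q ^ 2 := by rw [Nat.card_eq_fintype_card, hF]
  have hpo : Odd p := (Fact.out (p := p.Prime)).odd_of_ne_two (by omega)
  -- `q` is a power of `p`
  obtain ⟨k, hk⟩ : ∃ k, q = p ^ k := by
    obtain ⟨r, hr, hr2⟩ := FiniteField.card F p
    rw [hF] at hr2
    have hdvd : q ∣ p ^ (r : ℕ) := by
      rw [← hr2]
      exact dvd_pow_self q two_ne_zero
    obtain ⟨k, -, hk⟩ := (Nat.dvd_prime_pow hr).1 hdvd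
    exact ⟨k, hk⟩
  have hinj : Function.Injective (iterateFrobenius F p k) := (iterateFrobenius F p k).injective
  let σ : F ≃+* F := RingEquiv.ofBijective (iterateFrobenius F p k) (Finite.injective_iff_bijective.1 hinj)
  have hq : ∀ x : F, σ x = x ^ q := by
    intro x
    change iterateFrobenius F p k x = _
    rw [iterateFrobenius_def, hk]
  have hσ2 : ∀ a, σ (σ a) = a := by
    intro a
    rw [hq, hq, ← pow_mul, ← pow_two, ← hF, FiniteField.pow_card]
  have hq1 : 1 < q := by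
    have := Fintype.one_lt_card (α := F)
    rw [hF] at this
    by_contra hcon
    have : q = 0 ∨ q = 1 := by omega
    rcases this with rfl | rfl <;> simp at this
  have hσ1 : σ ≠ 1 := by
    intro h
    obtain ⟨w, hw⟩ := IsCyclic.exists_generator (α := Fˣ)
    have h1 : w ^ (q - 1) = 1 := by
      have h3 : σ (w : F) = w := by rw [h]; rfl
      rw [hq] at h3
      have h4 : w ^ q = w := Units.ext (by rw [Units.val_pow_eq_pow_val, h3])
      have h5 : w ^ (q - 1) * w = 1 * w := by rw [← pow_succ, show q - 1 + 1 = q by omega, h4, one_mul]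
      exact mul_right_cancel h5
    have h3 : orderOf w = q ^ 2 - 1 := by
      rw [orderOf_eq_card_of_forall_mem_zpowers hw, Nat.card_units, hF']
    have h4 := Nat.le_of_dvd (by omega) (orderOf_dvd_of_pow_eq_one h1)
    rw [h3] at h4
    have h5 : q < q ^ 2 := by nlinarith only [hq1]
    omega
  intro Γ hΓ hsim _
  have hP : PSF p F (Cfsg.hermForm n F q) Γ := ⟨hΓ, hsim⟩
  obtain ⟨g, ⟨h1, h3⟩, h4⟩ := sep_SU hpo (two_ne (by omega)) hσ2 hσ1 hq hF' (hermForm_EH hσ2 hq) (by
    rw [finrank_fintype_fun_eq_card, Fintype.card_fin]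
    omega) hP
  exact ⟨g, ⟨h3, h1.2⟩, h4⟩

end Cfsg.Agent.H126.SepSpSU
end

-- part: H126/SepOrth
section
/-!
# Separation in defining characteristic: orthogonal groups (helper126, task 462 of helper903)
-/

set_option autoImplicit false
set_option linter.unusedSectionVars false
set_option linter.unusedVariables false

namespace Cfsg.Agent.H126.SepOrth

open Module Cfsg.Agent.H903.SylSemi Cfsg.Agent.H126.SepStep Cfsg.Agent.H126.SepMain Cfsg.Agent.H126.SepForm
  Cfsg.Agent.H126.SepInd Cfsg.Agent.H126.SepSpSU QuadraticMap Matrix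
  Cfsg.Agent.ClassicalGeometry.Reflection Cfsg.Agent.ClassicalGeometry.SpinorSign
  Cfsg.Agent.ClassicalGeometry.OmegaIndex

universe u v w

/-- The determinants which occur. -/
def DO (F : Type u) [Field F] (n : ℕ) : Set F := if n = 0 then {1} else {1, -1}

/-- Orthogonal master statement. -/
theorem exists_PG_O {p : ℕ} [Fact p.Prime] {F : Type u} [Field F] [Finite F] [CharP F p] (h2 : (2 : F) ≠ 0)
    {V : Type v} [AddCommGroup V] [Module F V] [Finite V] {β : V → V → F} (h : EH (1 : F ≃+* F) 1 β)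
    {Γ : Subgroup (Equiv.Perm V)} (hP : PSF p F β Γ) {δ : F} (hδ : δ ∈ DO F (finrank F V)) :
    ∃ g, IsIso F β g ∧ IsDet F δ g ∧ PG F Γ g := by
  refine exists_PG h2 (d := 2) (D := DO F) (fun h hn => dvd_sym h hn) (fun {V} _ _ _ β h hn Γ hP => ?_)
    (fun n hn _ δ hδ => ?_) (finrank F V) h rfl hP δ hδ
  · refine ⟨?_, fun δ hδ => ?_⟩
    · rcases Nat.lt_or_ge (finrank F V) 2 with h3 | h3
      · exact lin_one (by omega) hP.ps
      · exact lin_two h2 h (by omega) hP
    · have hfV : Module.Finite F V := Module.Finite.of_finite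
      rw [DO] at hδ
      split_ifs at hδ with h3
      · rw [Set.mem_singleton_iff.1 hδ]
        exact ⟨1, isIso_one, isDet_one⟩
      · rcases hδ with hδ | hδ
        · rw [hδ]
          exact ⟨1, isIso_one, isDet_one⟩
        · rw [Set.mem_singleton_iff.1 hδ]
          exact exists_refl h2 h (by omega)
  · refine ⟨1, -δ, ?_, ?_⟩
    · rw [DO, if_neg (by omega)] at hδ ⊢
      rcases hδ with hδ | hδ
      · right
        rw [hδ]
        rfl
      · left
        rw [Set.mem_singleton_iff.1 hδ, neg_neg]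
    · simp

section omega

variable {ι : Type} [Fintype ι] [DecidableEq ι] {F : Type u} [Field F]

/-- The polar form. -/
theorem polar_EH (Q : QuadraticForm F (ι → F)) (hQ : (polarBilin Q).Nondegenerate) :
    EH (1 : F ≃+* F) 1 (polar (⇑Q)) := by
  refine ⟨Or.inl rfl, fun a => rfl, fun u v w => QuadraticMap.polar_add_left Q u v w,
    fun a u v => QuadraticMap.polar_smul_left Q a u v, fun u v => ?_, fun v hv => ?_⟩
  · rw [one_mul]
    exact polar_comm (⇑Q) v u
  · exact hQ.1 v fun w => hv w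

/-- An isometry given as a permutation is an element of the isometry group. -/
theorem exists_iso (Q : QuadraticForm F (ι → F)) {g : Equiv.Perm (ι → F)} (hg : Semi F g (1 : F ≃+* F))
    (hQ : ∀ v, Q (g v) = Q v) :
    ∃ s : Cfsg.isometryGroup F (⇑Q), ∀ v, g v = Matrix.mulVec ((s : Matrix.GeneralLinearGroup ι F) : Matrix ι ι F) v := by
  let L : (ι → F) →ₗ[F] (ι → F) :=
    { toFun := g
      map_add' := hg.1
      map_smul' := hg.2 }
  have hgi : Semi F g⁻¹ (1 : F ≃+* F) := by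
    have := semi_inv hg
    rwa [inv_one] at this
  let L' : (ι → F) →ₗ[F] (ι → F) :=
    { toFun := fun v => (g⁻¹ : Equiv.Perm (ι → F)) v
      map_add' := hgi.1
      map_smul' := hgi.2 }
  have h1 : ∀ v, LinearMap.toMatrix' L *ᵥ v = g v := fun v => by
    rw [LinearMap.toMatrix'_mulVec]; rfl
  have h2 : ∀ v, LinearMap.toMatrix' L' *ᵥ v = g⁻¹ v := fun v => by
    rw [LinearMap.toMatrix'_mulVec]; rfl
  let G : Matrix.GeneralLinearGroup ι F :=
    ⟨LinearMap.toMatrix' L, LinearMap.toMatrix' L', by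
      apply Matrix.mulVec_injective
      funext v
      rw [← Matrix.mulVec_mulVec, h1, h2, Matrix.one_mulVec, perm_apply_inv], by
      apply Matrix.mulVec_injective
      funext v
      rw [← Matrix.mulVec_mulVec, h1, h2, Matrix.one_mulVec, perm_inv_apply]⟩
  refine ⟨⟨G, (mem_isometryGroup_iff _ _).2 fun x => ?_⟩, fun v => (h1 v).symm⟩
  change Q (LinearMap.toMatrix' L *ᵥ x) = Q x
  rw [h1, hQ]

/-- Determinants. -/
theorem det_iso {g : Equiv.Perm (ι → F)} {d : F} (hg : IsDet F d g) (s : Matrix ι ι F)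
    (hs : ∀ v, g v = s *ᵥ v) : s.det = d := by
  obtain ⟨L, hL, hd⟩ := hg
  have h1 : L = Matrix.toLin' s := by
    apply LinearMap.ext
    intro v
    rw [hL, hs, Matrix.toLin'_apply]
  rw [← hd, h1, LinearMap.det_toLin']

end omega

section main

variable {ι : Type} [Fintype ι] [DecidableEq ι] {F : Type u} [Field F] [Fintype F]

theorem Q_of_iso (h2 : (2 : F) ≠ 0) (Q : QuadraticForm F (ι → F)) {g : Equiv.Perm (ι → F)}
    (hg : IsIso F (polar (⇑Q)) g) (v : ι → F) : Q (g v) = Q v := by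
  have h1 := hg.2 v v
  rw [polar_self', polar_self'] at h1
  exact mul_left_cancel₀ h2 h1

theorem Q_sub (Q : QuadraticForm F (ι → F)) (h2 : (2 : F) ≠ 0) {e f : ι → F} (k : HP (polar (⇑Q)) e f) (t : F) :
    Q (e - t • f) = -t := by
  have he : Q e = 0 := by
    have := k.ee
    rw [polar_self'] at this
    exact (mul_eq_zero.1 this).resolve_left h2
  have hf : Q f = 0 := by
    have := k.ff
    rw [polar_self'] at this
    exact (mul_eq_zero.1 this).resolve_left h2
  rw [sub_eq_add_neg, ← neg_smul, map_add', QuadraticMap.map_smul, QuadraticMap.polar_smul_right, he, hf, k.ef]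
  simp

/-- The reflection in `e - t f`. -/
theorem refl_dec (Q : QuadraticForm F (ι → F)) (h2 : (2 : F) ≠ 0) (h : EH (1 : F ≃+* F) 1 (polar (⇑Q))) {e f : ι → F}
    (k : HP (polar (⇑Q)) e f) (t : Fˣ) (c : ↥(CC h e f)) (x z : F) :
    Cfsg.reflectionMatrix (⇑Q) (e - (t : F) • f) *ᵥ ((dec h k).symm (c, (x, z))) =
      (dec h k).symm (c, ((t : F)⁻¹ * z, (t : F) * x)) := by
  have ht := t.ne_zero
  obtain ⟨v1, v2⟩ := (mem_CC h).1 c.2
  rw [reflectionMatrix_mulVec, Q_sub Q h2 k, dec_symm_apply, dec_symm_apply]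
  have e1 : polar (⇑Q) (e - (t : F) • f) ((c : ι → F) + x • e + z • f) = z - t * x := by
    rw [h.subl, h.smull, h.addr, h.addr, h.addr, h.addr, h.smulr, h.smulr, h.smulr, h.smulr, h.symm v1, h.symm v2, k.ee,
      k.ff, k.ef, k.fe h]
    change 0 + x * 0 + z * 1 - t * (0 + x * 1 + z * 0) = z - t * x
    ring
  change (c : ι → F) + x • e + z • f - ((-(t : F))⁻¹ * polar (⇑Q) (e - (t : F) • f) ((c : ι → F) + x • e + z • f)) •
    (e - (t : F) • f) = (c : ι → F) + ((t : F)⁻¹ * z) • e + ((t : F) * x) • f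
  rw [e1]
  have e2 : ((-(t : F))⁻¹ * (z - t * x)) = x - (t : F)⁻¹ * z := by
    field_simp
    ring
  rw [e2]
  have e3 : (x - (t : F)⁻¹ * z) • (e - (t : F) • f) = x • e - ((t : F)⁻¹ * z) • e - ((t : F) * x) • f + z • f := by
    rw [sub_smul, smul_sub, smul_sub, smul_smul, smul_smul]
    have e4 : (t : F)⁻¹ * z * t = z := by field_simp
    rw [e4, mul_comm x]
    abel
  rw [e3]
  abel

theorem GG_apply (Q : QuadraticForm F (ι → F)) (h : EH (1 : F ≃+* F) 1 (polar (⇑Q))) {e f : ι → F}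
    (k : HP (polar (⇑Q)) e f) (g' : Equiv.Perm ↥(CC h e f)) (t : Fˣ) (c : ↥(CC h e f)) (x z : F) :
    GG h k g' t ((dec h k).symm (c, (x, z))) = (dec h k).symm (g' c, ((t : F)⁻¹ * z, (t : F) * x)) := by
  rw [GG, tr_symm_apply, LinearEquiv.apply_symm_apply, gW_apply, sC_val, one_mul]
  rfl

/-- `GG g' t = GG g' 1 r_{e - f} r_{e - t f}`. -/
theorem GG_mul (Q : QuadraticForm F (ι → F)) (h2 : (2 : F) ≠ 0) (h : EH (1 : F ≃+* F) 1 (polar (⇑Q))) {e f : ι → F}
    (k : HP (polar (⇑Q)) e f) (g' : Equiv.Perm ↥(CC h e f)) (t : Fˣ) (v : ι → F) :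
    GG h k g' t v = GG h k g' 1 (Cfsg.reflectionMatrix (⇑Q) (e - ((1 : Fˣ) : F) • f) *ᵥ
        (Cfsg.reflectionMatrix (⇑Q) (e - (t : F) • f) *ᵥ v)) := by
  obtain ⟨⟨c, x, z⟩, rfl⟩ := (dec h k).symm.surjective v
  rw [refl_dec Q h2 h k, refl_dec Q h2 h k, GG_apply, GG_apply]
  simp

/-- The spinor condition. -/
theorem exists_omega (Q : QuadraticForm F (ι → F)) (hQ : (polarBilin Q).Nondegenerate) (h2 : (2 : F) ≠ 0)
    (hn : 2 ≤ Fintype.card ι) (h : EH (1 : F ≃+* F) 1 (polar (⇑Q))) {e f : ι → F}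
    (k : HP (polar (⇑Q)) e f) {g' : Equiv.Perm ↥(CC h e f)} (hg' : IsIso F (resF (polar (⇑Q)) (CC h e f)) g')
    (hd : IsDet F (-1) g') (w : Fˣ) :
    ∃ t : Fˣ, IsOmegaMap F (⇑Q) (GG h k g' t) ∧ IsOmegaMap F (⇑Q) (GG h k g' (t * w ^ 2)) := by
  classical
  -- the elements of the isometry group
  obtain ⟨s, hs⟩ := exists_iso Q (isIso_GG h k hg' 1).1 (Q_of_iso h2 Q (isIso_GG h k hg' 1))
  have hr : ∀ t : Fˣ, Q (e - (t : F) • f) ≠ 0 := fun t => by
    rw [Q_sub Q h2 k]
    exact neg_ne_zero.2 t.ne_zero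
  let S : Fˣ → Cfsg.isometryGroup F (⇑Q) := fun t =>
    s * (reflIso Q (e - ((1 : Fˣ) : F) • f) (hr 1) * reflIso Q (e - (t : F) • f) (hr t))
  have hS : ∀ t v, GG h k g' t v = Matrix.mulVec ((S t : Matrix.GeneralLinearGroup ι F) : Matrix ι ι F) v := by
    intro t v
    rw [GG_mul Q h2 h k g' t v, hs, ← coe_reflIso Q _ (hr 1), ← coe_reflIso Q _ (hr t), ← coe_mul_mulVec,
      ← coe_mul_mulVec, mul_assoc]
  have hdet : ∀ t, ((S t : Matrix.GeneralLinearGroup ι F) : Matrix ι ι F).det = 1 := by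
    intro t
    have h3 := isDet_GG h k hd t
    have ht := t.ne_zero
    have e1 : -((t : F) * (1 * ((1 : F ≃+* F) (t : F))⁻¹)) * -1 = 1 := by
      change -((t : F) * (1 * ((t : F))⁻¹)) * -1 = 1
      field_simp
    rw [e1] at h3
    exact det_iso h3 _ (hS t)
  have hmem : ∀ t, spinorSign (⇑Q) 1 (S t) = 1 → IsOmegaMap F (⇑Q) (GG h k g' t) := by
    intro t ht
    exact ⟨⟨S t, (mem_Omega_iff h2 Q hQ hn one_ne_zero _).2 ⟨hdet t, ht⟩⟩, hS t⟩
  have hsp : ∀ t : Fˣ, spinorSign (⇑Q) 1 (S t) = spinorSign (⇑Q) 1 s *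
      ((if IsSquare (-((1 : Fˣ) : F)) then -1 else 1) * (if IsSquare (-(t : F)) then -1 else 1)) := by
    intro t
    rw [map_mul, map_mul, spinorSign_reflIso h2 Q one_ne_zero, spinorSign_reflIso h2 Q one_ne_zero, Q_sub Q h2 k,
      Q_sub Q h2 k, one_mul, one_mul]
  have hsq : ∀ t : Fˣ, IsSquare (-((t * w ^ 2 : Fˣ) : F)) ↔ IsSquare (-(t : F)) := by
    intro t
    have hw := w.ne_zero
    constructor
    · rintro ⟨r, hr⟩
      refine ⟨r * (w : F)⁻¹, ?_⟩
      have : -(t : F) = (r * r) * ((w : F)⁻¹ * (w : F)⁻¹) := by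
        rw [← hr, Units.val_mul, Units.val_pow_eq_pow_val]
        field_simp
      rw [this]
      ring
    · rintro ⟨r, hr⟩
      refine ⟨r * (w : F), ?_⟩
      have : -((t * w ^ 2 : Fˣ) : F) = (-(t : F)) * (w * w) := by
        rw [Units.val_mul, Units.val_pow_eq_pow_val]
        ring
      rw [this, hr]
      ring
  have hsp2 : ∀ t : Fˣ, spinorSign (⇑Q) 1 (S (t * w ^ 2)) = spinorSign (⇑Q) 1 (S t) := by
    intro t
    rw [hsp, hsp]
    simp only [hsq]
  suffices hex : ∃ t : Fˣ, spinorSign (⇑Q) 1 (S t) = 1 by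
    obtain ⟨t, ht⟩ := hex
    exact ⟨t, hmem t ht, hmem _ (by rw [hsp2, ht])⟩
  obtain ⟨a, ha⟩ : ∃ a : F, ¬ IsSquare a := FiniteField.exists_nonsquare (fun h0 => by
    have := ringChar.spec F 2
    apply h2
    have h3 := (this).2 (by rw [h0])
    exact_mod_cast h3)
  have ha0 : a ≠ 0 := by
    rintro rfl
    exact ha ⟨0, by simp⟩
  have hs1 : IsSquare (-((-1 : Fˣ) : F)) := ⟨1, by simp⟩
  have hs2 : ¬ IsSquare (-((-(Units.mk0 a ha0) : Fˣ) : F)) := by
    simpa only [_root_.Units.val_neg, _root_.Units.val_mk0, _root_.neg_neg] using ha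
  have h1 := hsp (-1)
  have h3 := hsp (-(Units.mk0 a ha0))
  rw [if_pos hs1] at h1
  rw [if_neg hs2] at h3
  rcases Int.units_eq_one_or (spinorSign (⇑Q) 1 s * (if IsSquare (-((1 : Fˣ) : F)) then -1 else 1)) with h4 | h4
  · refine ⟨-(Units.mk0 a ha0), ?_⟩
    rw [h3, ← mul_assoc, h4]
    rfl
  · refine ⟨-1, ?_⟩
    rw [h1, ← mul_assoc, h4]
    rfl

/-- The orthogonal separation. -/
theorem sep_O {p : ℕ} [Fact p.Prime] [CharP F p] (hpo : Odd p) (h2 : (2 : F) ≠ 0) (Q : QuadraticForm F (ι → F))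
    (hQ : (polarBilin Q).Nondegenerate) (hn : 3 ≤ Fintype.card ι) : SepO p F (⇑Q) := by
  intro Γ hΓ hsim _
  have hP : PSF p F (polar (⇑Q)) Γ := by
    refine ⟨hΓ, fun y hy => ?_⟩
    obtain ⟨θ, c, hc, hθ, hQy⟩ := hsim y hy
    refine ⟨θ, c, hc, hθ, fun u v => ?_⟩
    rw [polar, ← hθ.1, hQy, hQy, hQy, polar, map_sub, map_sub]
    ring
  have h := polar_EH Q hQ
  have hfin : finrank F (ι → F) = Fintype.card ι := finrank_fintype_fun_eq_card F
  obtain ⟨w, hw⟩ := exists_gen_sq (F := F) hpo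
  obtain ⟨g, h1, h3⟩ := top h2 h (by rw [hfin]; exact hn) hP (dvd_sym h (by rw [hfin]; exact hn)) (w ^ 2) rfl
    (fun θ hθ hθw => hw θ hθ (by rw [← Units.val_pow_eq_pow_val]; exact hθw)) (IsOmegaMap F (⇑Q)) (by
      intro e f k Γ' hP'
      have hfC := finrank_CC h k
      obtain ⟨g', h1, h3, h4⟩ := exists_PG_O h2 (h.res k) hP' (δ := -1) (by
        rw [DO, if_neg (by omega)]
        right
        rfl)
      obtain ⟨t, ht1, ht2⟩ := exists_omega Q hQ h2 (by omega) h k h1 h3 w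
      exact ⟨g', h1.1, h4, t, ht1, ht2⟩)
  exact ⟨g, h1, h3⟩

end main

section final

variable {p m : ℕ} [Fact p.Prime] {F : Type} [Field F] [Fintype F] [CharP F p]

/-- **Task 462**, odd dimension. -/
theorem sepO_char_odd (hp : 5 ≤ p) (hm : 3 ≤ m) : SepO p F (Cfsg.quadFormOdd m F) := by
  have hpo : Odd p := (Fact.out (p := p.Prime)).odd_of_ne_two (by omega)
  have h2 : (2 : F) ≠ 0 := two_ne (p := p) (by omega)
  have := sep_O hpo h2 (LieClassical.OmegaReindex.quadOdd m F) (LieClassical.OmegaReindex.quadOdd_nondegenerate h2) (by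
    rw [Fintype.card_sum, Fintype.card_sum, Fintype.card_fin, Fintype.card_unit]
    omega)
  rwa [LieClassical.OmegaReindex.coe_quadOdd] at this

/-- **Task 462**, plus type. -/
theorem sepO_char_plus (hp : 5 ≤ p) (hm : 2 ≤ m) : SepO p F (Cfsg.quadFormPlus m F) := by
  have hpo : Odd p := (Fact.out (p := p.Prime)).odd_of_ne_two (by omega)
  have h2 : (2 : F) ≠ 0 := two_ne (p := p) (by omega)
  have := sep_O hpo h2 (LieClassical.OmegaReindex.quadPlus m F) LieClassical.OmegaReindex.quadPlus_nondegenerate (by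
    rw [Fintype.card_sum, Fintype.card_fin]
    omega)
  rwa [LieClassical.OmegaReindex.coe_quadPlus] at this

/-- **Task 462**, minus type. -/
theorem sepO_char_minus (hp : 5 ≤ p) (hm : 1 ≤ m) {a b : F}
    (hab : ∀ z₁ z₂ : F, z₁ ^ 2 + a * z₁ * z₂ + b * z₂ ^ 2 = 0 → z₁ = 0 ∧ z₂ = 0) :
    SepO p F (Cfsg.quadFormMinus m F a b) := by
  have hpo : Odd p := (Fact.out (p := p.Prime)).odd_of_ne_two (by omega)
  have h2 : (2 : F) ≠ 0 := two_ne (p := p) (by omega)
  have := sep_O hpo h2 (LieClassical.OmegaReindex.quadMinus m F a b)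
    (LieClassical.OmegaReindex.quadMinus_nondegenerate hab) (by
    rw [Fintype.card_sum, Fintype.card_sum, Fintype.card_fin, Fintype.card_fin]
    omega)
  rwa [LieClassical.OmegaReindex.coe_quadMinus] at this

end final

end Cfsg.Agent.H126.SepOrth
end

private theorem dce_271a03b9840f : _root_.True := by
  try have : _root_.True := by simp only [_root_.Cfsg.Agent.ClassicalGeometry.SpinorSign.spinorSign.congr_simp]
  try have : _root_.True := by simp only [_root_.Cfsg.sympForm.eq_1]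
  try have : _root_.True := by simp only [_root_.Cfsg.hermForm.eq_1]
  try have : _root_.True := by simp only [_root_.Cfsg.Agent.H126.SepForm.EH.fl.congr_simp]
  try have : _root_.True := by simp only [_root_.Cfsg.Agent.H126.SepOrth.DO.eq_1]
  try have : _root_.True := by simp only [_root_.Cfsg.Agent.H126.SepForm.sC.eq_1]
  try have : _root_.True := by simp only [_root_.Cfsg.Agent.H126.SepForm.GG.eq_1]
  try have : _root_.True := by simp only [_root_.Cfsg.Agent.H126.SepForm.resF.eq_1]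
  try have : _root_.True := by simp only [_root_.Cfsg.Agent.H126.SepForm.dec.congr_simp]
  exact _root_.True.intro
end

-- part: H903/SylRegL_mg
section
prune_inst 0x201000000000000000000240000000200000000000000000800c040001200208000000008000000000000000000000001000104000000000000000000001000000100600000000000006000000000000000000000000000000000000000000000000000
set_option linter.all false
open scoped Cfsg.Agent.FastGrp

-- part: H903/SylRegL
section
set_option autoImplicit false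

namespace Cfsg.Agent.H903.SylReg

open Finset

section gen

variable {F : Type*} [Field F] {E : Type*} [AddCommGroup E] [Module F E]

theorem gen_one (M : Submodule F E) [FiniteDimensional F E] (h : Module.finrank F M ≤ 1) :
    ∃ v, ∀ u ∈ M, ∃ c : F, c • v = u := by
  obtain ⟨v, hv⟩ := (finrank_le_one_iff (K := F) (V := M)).1 h
  exact ⟨v, fun u hu => (hv ⟨u, hu⟩).imp fun c hc => congrArg Subtype.val hc⟩

theorem gen_two [Finite F] [Finite E] (M : Submodule F E) (f : E →ₗ[F] F)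
    (h : 3 * Nat.card F ≤ Nat.card M) :
    ∃ x y, x ∈ M ∧ y ∈ M ∧ x ≠ 0 ∧ y ≠ 0 ∧ x ≠ y ∧ f x = 0 ∧ f y = 0 := by
  classical
  let g : M →ₗ[F] F := f ∘ₗ M.subtype
  have h10 := Submodule.card_eq_card_quotient_mul_card (LinearMap.ker g)
  have h11 : Nat.card (M ⧸ LinearMap.ker g) ≤ Nat.card F := by
    rw [Nat.card_congr g.quotKerEquivRange.toEquiv]
    exact Nat.card_le_card_of_injective _ Subtype.val_injective
  have h12 : 3 ≤ Nat.card (LinearMap.ker g) := by
    by_contra hlt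
    have h7 : 1 < Nat.card F := Finite.one_lt_card
    have h13 : Nat.card (LinearMap.ker g) ≤ 2 := by omega
    have h14 := Nat.mul_le_mul h13 h11
    rw [← h10] at h14
    omega
  haveI := Fintype.ofFinite (LinearMap.ker g)
  rw [Nat.card_eq_fintype_card] at h12
  have hpick : ∀ S : Finset (LinearMap.ker g), S.card ≤ 2 → ∃ x, x ∉ S := by
    intro S hS
    by_contra hc
    push Not at hc
    have : S = Finset.univ := Finset.eq_univ_of_forall hc
    rw [this, Finset.card_univ] at hS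
    omega
  obtain ⟨x, hx⟩ := hpick {0} (by simp)
  obtain ⟨y, hy⟩ := hpick {0, x} Finset.card_le_two
  simp only [Finset.mem_insert, Finset.mem_singleton, not_or] at hx hy
  exact ⟨x.1, y.1, x.1.2, y.1.2, fun h => hx (Subtype.ext (Subtype.ext h)),
    fun h => hy.1 (Subtype.ext (Subtype.ext h)), fun h => hy.2 (Subtype.ext (Subtype.ext h.symm)),
    x.2, y.2⟩

end gen

section lin

variable {F : Type*} [Field F] {V : Type*} [AddCommGroup V] [Module F V]

/-- The action on `V × V*`. -/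
noncomputable def dbl : (V ≃ₗ[F] V) →* ((V × Module.Dual F V) ≃ₗ[F] (V × Module.Dual F V)) where
  toFun g := LinearEquiv.prodCongr g (g.dualMap).symm
  map_one' := by
    ext x <;> rfl
  map_mul' g h := by
    ext x <;> rfl

theorem dbl_apply (g : V ≃ₗ[F] V) (x : V × Module.Dual F V) :
    dbl g x = (g x.1, x.2 ∘ₗ ((g⁻¹ : V ≃ₗ[F] V) : V →ₗ[F] V)) := rfl

/-- first projection -/
def J₁ (F V : Type*) [Field F] [AddCommGroup V] [Module F V] :
    (V × Module.Dual F V) →ₗ[F] (V × Module.Dual F V) :=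
  LinearMap.inl F V (Module.Dual F V) ∘ₗ LinearMap.fst F V (Module.Dual F V)

/-- second projection -/
def J₂ (F V : Type*) [Field F] [AddCommGroup V] [Module F V] :
    (V × Module.Dual F V) →ₗ[F] (V × Module.Dual F V) :=
  LinearMap.inr F V (Module.Dual F V) ∘ₗ LinearMap.snd F V (Module.Dual F V)

theorem J₁_apply (x : V × Module.Dual F V) : J₁ F V x = (x.1, 0) := rfl

theorem J₂_apply (x : V × Module.Dual F V) : J₂ F V x = (0, x.2) := rfl

/-- the pairing -/
def bet (x y : V × Module.Dual F V) : F := x.2 y.1 + y.2 x.1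

/-- the hyperbolic form -/
def nm (x : V × Module.Dual F V) : F := x.2 x.1

/-- the two projections -/
def PSL (F V : Type*) [Field F] [AddCommGroup V] [Module F V] :
    Set ((V × Module.Dual F V) →ₗ[F] (V × Module.Dual F V)) := {J₁ F V, J₂ F V}

theorem mem_PSL₁ : J₁ F V ∈ PSL F V := Or.inl rfl
theorem mem_PSL₂ : J₂ F V ∈ PSL F V := Or.inr rfl

/-- a `PSL`-invariant non-degenerate subspace -/
structure Nd (W : Submodule F (V × Module.Dual F V)) : Prop where
  ps : ∀ J ∈ PSL F V, ∀ w ∈ W, J w ∈ W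
  nd : ∀ x ∈ W, (∀ y ∈ W, bet x y = 0) → x = 0

namespace Nd

variable {W : Submodule F (V × Module.Dual F V)} (D : Nd W)

include D

theorem pair (hW : W ≠ ⊥) : ∃ (v : V) (φ : Module.Dual F V), (v, 0) ∈ W ∧ (0, φ) ∈ W ∧ φ v ≠ 0 := by
  obtain ⟨⟨v, φ⟩, hx, hx0⟩ := (Submodule.ne_bot_iff _).1 hW
  have h1 : (v, (0 : Module.Dual F V)) ∈ W := D.ps _ mem_PSL₁ _ hx
  have h2 : ((0 : V), φ) ∈ W := D.ps _ mem_PSL₂ _ hx
  by_cases hv : v = 0
  · have hφ : φ ≠ 0 := by
      rintro rfl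
      exact hx0 (by rw [hv]; rfl)
    obtain ⟨⟨w, ψ⟩, hy, hy0⟩ : ∃ y ∈ W, bet ((0 : V), φ) y ≠ 0 := by
      by_contra hcon
      push Not at hcon
      exact hφ (congrArg Prod.snd (D.nd _ h2 hcon))
    refine ⟨w, φ, D.ps _ mem_PSL₁ _ hy, h2, ?_⟩
    simpa only [bet, _root_.ne_eq, _root_.map_zero, _root_.add_zero] using hy0
  · obtain ⟨⟨w, ψ⟩, hy, hy0⟩ : ∃ y ∈ W, bet (v, (0 : Module.Dual F V)) y ≠ 0 := by
      by_contra hcon
      push Not at hcon
      exact hv (congrArg Prod.fst (D.nd _ h1 hcon))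
    refine ⟨v, ψ, h1, D.ps _ mem_PSL₂ _ hy, ?_⟩
    simpa only [bet, _root_.ne_eq, _root_.LinearMap.zero_apply, _root_.zero_add] using hy0

theorem pair_val (hW : W ≠ ⊥) {c : F} (hc : c ≠ 0) :
    ∃ (v : V) (φ : Module.Dual F V), (v, 0) ∈ W ∧ (0, φ) ∈ W ∧ φ v = c ∧ v ≠ 0 ∧ φ ≠ 0 := by
  obtain ⟨v, φ, hv, hφ, h0⟩ := D.pair hW
  have hv0 : v ≠ 0 := by rintro rfl; exact h0 (map_zero φ)
  have hφ0 : φ ≠ 0 := by rintro rfl; exact h0 rfl
  refine ⟨v, (c / φ v) • φ, hv, ?_, ?_, hv0, smul_ne_zero (div_ne_zero hc h0) hφ0⟩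
  · have := W.smul_mem (c / φ v) hφ
    simpa using this
  · simp [div_mul_cancel₀ _ h0]

/-- the vectors in the first part -/
theorem mem_M (v : V) : (v, (0 : Module.Dual F V)) ∈ W.map (J₁ F V) ↔ (v, (0 : Module.Dual F V)) ∈ W := by
  constructor
  · rintro ⟨x, hx, he⟩
    rw [← he]
    exact D.ps _ mem_PSL₁ _ hx
  · intro h
    exact ⟨_, h, rfl⟩

theorem M_le : W.map (J₁ F V) ≤ W := by
  rintro _ ⟨x, hx, rfl⟩
  exact D.ps _ mem_PSL₁ _ hx

/-- orthogonal pairs in dimension at least two -/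
theorem pair_zero (h2 : 2 ≤ Module.finrank F (W.map (J₁ F V))) :
    ∃ (v : V) (φ : Module.Dual F V), (v, 0) ∈ W ∧ (0, φ) ∈ W ∧ φ v = 0 ∧ v ≠ 0 ∧ φ ≠ 0 := by
  have hW : W ≠ ⊥ := by
    rintro rfl
    rw [Submodule.map_bot, finrank_bot] at h2
    omega
  obtain ⟨v, φ, hv, hφ, h0, hv0, hφ0⟩ := D.pair_val hW (one_ne_zero (α := F))
  obtain ⟨⟨u, u'⟩, hu, hun⟩ : ∃ y ∈ W.map (J₁ F V), y ∉ Submodule.span F {(v, (0 : Module.Dual F V))} := by
    by_contra hcon
    push Not at hcon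
    have h1 : W.map (J₁ F V) ≤ Submodule.span F {(v, (0 : Module.Dual F V))} := hcon
    have h2' := Submodule.finrank_mono h1
    have h3 := finrank_span_le_card (R := F) ({(v, (0 : Module.Dual F V))} : Set _)
    simp at h3
    omega
  have hu' : u' = 0 := by
    obtain ⟨x, hx, he⟩ := hu
    exact (congrArg Prod.snd he).symm
  subst hu'
  have huW := (D.mem_M u).1 hu
  refine ⟨u - φ u • v, φ, ?_, hφ, ?_, fun h => hun ?_, hφ0⟩
  · have := W.sub_mem huW (W.smul_mem (φ u) hv)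
    simpa using this
  · rw [map_sub, map_smul, h0, smul_eq_mul, mul_one, sub_self]
  · rw [Submodule.mem_span_singleton]
    refine ⟨φ u, ?_⟩
    rw [Prod.smul_mk, smul_zero, ← sub_eq_zero.1 h]

theorem finrank_le [FiniteDimensional F V] :
    Module.finrank F (W.map (J₁ F V)) ≤ Module.finrank F (W.map (J₂ F V)) := by
  let f : W.map (J₁ F V) →ₗ[F] Module.Dual F (W.map (J₂ F V)) :=
    LinearMap.mk₂ F (fun x y => (y : V × Module.Dual F V).2 (x : V × Module.Dual F V).1)
      (fun _ _ _ => by simp) (fun _ _ _ => by simp) (fun _ _ _ => by simp) (fun _ _ _ => by simp)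
  have hf : ∀ x y, f x y = (y : V × Module.Dual F V).2 (x : V × Module.Dual F V).1 := fun _ _ => rfl
  have hinj : Function.Injective f := by
    rw [injective_iff_map_eq_zero]
    intro x hx
    apply Subtype.ext
    refine D.nd x (D.M_le x.2) fun y hy => ?_
    have h1 := hf x ⟨_, y, hy, rfl⟩
    rw [hx] at h1
    obtain ⟨x', hx', he⟩ := x.2
    have h2 : (x : V × Module.Dual F V).2 = 0 := (congrArg Prod.snd he).symm
    rw [bet, h2]
    simpa only [J₂_apply, _root_.LinearMap.zero_apply, _root_.zero_add] using h1.symm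
  have h1 := LinearMap.finrank_le_finrank_of_injective hinj
  exact h1.trans (Subspace.dual_finrank_eq (K := F) (V := W.map (J₂ F V))).le

end Nd

variable [Finite F] [Finite V]

instance finDual : Finite (Module.Dual F V) :=
  Finite.of_injective (fun f : Module.Dual F V => (f : V → F)) DFunLike.coe_injective

instance finE : Finite (V × Module.Dual F V) := inferInstance

variable {p : ℕ} [Fact p.Prime]

omit [Finite F] [Finite V] [Fact p.Prime] in
theorem ctxL (hp : 5 ≤ p) (hpF : (p : F) ≠ 0) {R : Subgroup (V ≃ₗ[F] V)} (hR : IsPGroup p R) :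
    Ctx p (R.map dbl) (PSL F V) bet nm where
  pF := hpF
  five := hp
  pg := hR.map _
  comm := by
    rintro J (rfl | rfl) _ ⟨g, hg, rfl⟩ x
    · rw [J₁_apply, J₁_apply, dbl_apply, dbl_apply]; simp
    · rw [J₂_apply, J₂_apply, dbl_apply, dbl_apply]; simp only [_root_.map_zero]
  βl x y z := by simp only [bet, _root_.Prod.snd_add, _root_.LinearMap.add_apply, _root_.Prod.fst_add, _root_.map_add]; ring
  βr x y z := by simp only [bet, _root_.Prod.fst_add, _root_.map_add, _root_.Prod.snd_add, _root_.LinearMap.add_apply]; ring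
  βG := by
    rintro _ ⟨g, hg, rfl⟩ x y
    have hk : ∀ v, g⁻¹ (g v) = v := fun v => by
      rw [← LinearEquiv.mul_apply, inv_mul_cancel]; rfl
    simp [bet, dbl_apply]
  NG := by
    rintro _ ⟨g, hg, rfl⟩ x
    simp [nm, dbl_apply]
  Nadd x y h _ := by
    simp only [bet] at h
    simp only [nm, Prod.fst_add, Prod.snd_add, LinearMap.add_apply, map_add]
    linear_combination h

omit [Finite F] [Finite V] in
theorem ndL (x : V × Module.Dual F V) (h : ∀ y, bet x y = 0) : x = 0 := by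
  obtain ⟨v, φ⟩ := x
  have h1 : φ = 0 := by
    ext w
    have := h (w, 0)
    simpa only [bet, _root_.LinearMap.zero_apply, _root_.add_zero] using this
  have h2 : v = 0 := by
    rw [← Module.forall_dual_apply_eq_zero_iff F v]
    intro ψ
    have := h (0, ψ)
    simpa only [bet, _root_.map_zero, _root_.zero_add] using this
  rw [h1, h2]; rfl

omit [Finite F] [Finite V] [Fact p.Prime] in
theorem Top.nd₀ {β : _} {G : Subgroup ((V × Module.Dual F V) ≃ₗ[F] (V × Module.Dual F V))}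
    {V₀ W : Submodule F (V × Module.Dual F V)} (hβ : β = bet) (T : Top G (PSL F V) β V₀ W) : Nd V₀ := by
  subst hβ
  exact ⟨T.psV, T.nd0⟩

omit [Finite F] [Finite V] [Fact p.Prime] in
theorem Top.nd₁ {β : _} {G : Subgroup ((V × Module.Dual F V) ≃ₗ[F] (V × Module.Dual F V))}
    {V₀ W : Submodule F (V × Module.Dual F V)} (hβ : β = bet) (T : Top G (PSL F V) β V₀ W) : Nd W := by
  subst hβ
  exact ⟨T.ps, T.ndW⟩

omit [Finite F] [Finite V] [Fact p.Prime] in
theorem dbl_fix {r : V ≃ₗ[F] V} {v : V} {φ : Module.Dual F V} (h1 : r v = v)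
    (h2 : ∀ x, φ (r x) = φ x) : dbl r (v, φ) = (v, φ) := by
  rw [dbl_apply]
  refine Prod.ext h1 ?_
  ext y
  change φ (r⁻¹ y) = φ y
  rw [← h2 (r⁻¹ y), ← LinearEquiv.mul_apply, mul_inv_cancel]
  rfl

omit [Finite F] [Finite V] [Fact p.Prime] in
theorem dbl_inj {r : V ≃ₗ[F] V} (h : dbl r = 1) : r = 1 := by
  ext v
  have h1 : dbl r (v, 0) = (v, 0) := by rw [h]; rfl
  exact congrArg Prod.fst h1

omit [Finite F] [Finite V] [Fact p.Prime] in
/-- the map `ψ ↦ ψ ∘ z - ψ` -/
theorem dbl_inv_snd (z : V ≃ₗ[F] V) (ψ : Module.Dual F V) :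
    dbl z⁻¹ (0, ψ) - (0, ψ) = (0, ψ ∘ₗ ((z : V →ₗ[F] V) - LinearMap.id)) := by
  rw [dbl_apply]
  refine Prod.ext (by simp) ?_
  ext y
  simp

/-- What we want. -/
def OutL (R : Subgroup (V ≃ₗ[F] V)) : Prop :=
  ∃ (v : V) (φ : Module.Dual F V), v ≠ 0 ∧ φ ≠ 0 ∧ φ v = 0 ∧
    (∀ r ∈ R, r v = v → (∀ x, φ (r x) = φ x) → r = 1) ∧ Avoid R v ∧ AvoidDual R φ

omit [Finite F] [Fact p.Prime] in
/-- finishing in large dimension -/
theorem finL {R : Subgroup (V ≃ₗ[F] V)} {V₀ W : Submodule F (V × Module.Dual F V)} [Finite F]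
    (T : Top (R.map dbl) (PSL F V) bet V₀ W) {x : V × Module.Dual F V}
    (hx : Good (PSL F V) (R.map dbl) W x) (hN : nm x = 0)
    (h3 : 3 ≤ Module.finrank F (W.map (J₁ F V))) : OutL R := by
  obtain ⟨v, φ⟩ := x
  have D := T.nd₁ rfl
  have h3' : 3 ≤ Module.finrank F (W.map (J₂ F V)) := h3.trans D.finrank_le
  have hcm1 : ∀ J, cm J W (1 : (V × Module.Dual F V) ≃ₗ[F] (V × Module.Dual F V)) = ⊥ := by
    intro J
    rw [Submodule.eq_bot_iff]
    intro y hy
    obtain ⟨w, _, rfl⟩ := mem_cm.1 hy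
    exact sub_self _
  have hJx : ∀ J ∈ PSL F V, 3 ≤ Module.finrank F (W.map J) → J (v, φ) ≠ 0 := by
    intro J hJ hd h0
    have h1 := hx.ss J hJ 1 (Subgroup.one_mem _) (by rw [h0]; exact Submodule.zero_mem _)
    rw [hcm1 J, finrank_bot] at h1
    have h2 := h1.resolve_right (by norm_num)
    rw [le_bot_iff] at h2
    rw [h2, finrank_bot] at hd
    omega
  have hv0 : v ≠ 0 := by
    rintro rfl
    exact hJx _ mem_PSL₁ h3 rfl
  have hφ0 : φ ≠ 0 := by
    rintro rfl
    exact hJx _ mem_PSL₂ h3' rfl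
  have hZ : ∀ {e : V × Module.Dual F V} {J} {z}, J ∈ PSL F V → z ∈ R.map dbl → J e = e →
      z e - e ∈ cm J W z := by
    intro e J z hJ hz he
    obtain ⟨e₀, he₀, w, hw, rfl⟩ := T.sum e
    have h1 : z (J e₀) = J e₀ := (T.fixm _).1 (T.psV J hJ _ he₀) z hz
    refine mem_cm.2 ⟨w, hw, ?_⟩
    conv_rhs => rw [← he]
    rw [map_add, map_add, h1]
    abel
  refine ⟨v, φ, hv0, hφ0, hN, fun r hr h1 h2 => ?_, fun z hz hz1 hmem => ?_, fun z hz hz1 hmem => ?_⟩
  · have h4 := hx.reg (dbl r) ⟨r, hr, rfl⟩ (dbl_fix h1 h2)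
    apply dbl_inj
    ext1 y
    obtain ⟨e₀, he₀, w, hw, rfl⟩ := T.sum y
    rw [map_add, (T.fixm _).1 he₀ _ ⟨r, hr, rfl⟩, h4 w hw]
    rfl
  · obtain ⟨u, hu⟩ := LinearMap.mem_range.1 hmem
    have hu' : z u - u = v := hu
    have h4 := hZ (e := (u, 0)) (J := J₁ F V) (z := dbl z) mem_PSL₁ ⟨z, hz, rfl⟩ rfl
    have h5 : dbl z (u, 0) - (u, 0) = J₁ F V (v, φ) := by
      rw [dbl_apply, J₁_apply, ← hu']
      refine Prod.ext rfl ?_
      simp
    rw [h5] at h4
    have hle : cm (J₁ F V) W (dbl z) ≤ (com z).map (LinearMap.inl F V (Module.Dual F V)) := by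
      intro y hy
      obtain ⟨w, _, rfl⟩ := mem_cm.1 hy
      refine ⟨z w.1 - w.1, ⟨w.1, rfl⟩, ?_⟩
      rw [J₁_apply, dbl_apply]
      refine Prod.ext rfl ?_
      simp
    have h6 := (Submodule.finrank_mono hle).trans (Submodule.finrank_map_le _ _)
    rcases hx.ss _ mem_PSL₁ _ ⟨z, hz, rfl⟩ h4 with h7 | h7
    · exact (h3.trans (Submodule.finrank_mono h7)).trans h6
    · exact h7.trans h6
  · obtain ⟨ψ, hψ⟩ := hmem
    have hzi : dbl z⁻¹ ∈ R.map dbl := ⟨z⁻¹, R.inv_mem hz, rfl⟩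
    have h4 := hZ (e := (0, ψ)) (J := J₂ F V) (z := dbl z⁻¹) mem_PSL₂ hzi rfl
    have h5 : dbl z⁻¹ (0, ψ) - (0, ψ) = J₂ F V (v, φ) := by
      rw [dbl_inv_snd, J₂_apply]
      congr 1
      ext y
      exact (hψ y).symm
    rw [h5] at h4
    let g : V →ₗ[F] V := (z : V →ₗ[F] V) - LinearMap.id
    have hle : cm (J₂ F V) W (dbl z⁻¹) ≤
        (LinearMap.range g.dualMap).map (LinearMap.inr F V (Module.Dual F V)) := by
      intro y hy
      obtain ⟨w, _, rfl⟩ := mem_cm.1 hy
      rw [J₂_apply, dbl_inv_snd]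
      exact ⟨_, ⟨w.2, rfl⟩, rfl⟩
    have h6 := (Submodule.finrank_mono hle).trans (Submodule.finrank_map_le _ _)
    rw [LinearMap.finrank_range_dualMap_eq_finrank_range] at h6
    rcases hx.ss _ mem_PSL₂ _ hzi h4 with h7 | h7
    · exact (h3'.trans (Submodule.finrank_mono h7)).trans h6
    · exact h7.trans h6

omit [Finite F] [Finite V] [Fact p.Prime] in
/-- finishing with non-zero fixed parts -/
theorem finL' {R : Subgroup (V ≃ₗ[F] V)} {V₀ W : Submodule F (V × Module.Dual F V)}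
    (T : Top (R.map dbl) (PSL F V) bet V₀ W) {v₀ w : V} {φ₀ φ : Module.Dual F V}
    (h1 : (v₀, 0) ∈ V₀) (h2 : (0, φ₀) ∈ V₀) (h3 : (w, 0) ∈ W) (h4 : (0, φ) ∈ W)
    (hv : v₀ ≠ 0) (hφ : φ₀ ≠ 0) (hN : φ₀ v₀ + φ w = 0)
    (hreg : ∀ r ∈ R, dbl r (w, φ) = (w, φ) → ∀ y ∈ W, dbl r y = y) : OutL R := by
  have hxV : (v₀, φ₀) ∈ V₀ := by
    have := V₀.add_mem h1 h2
    simpa using this
  have hxW : (w, φ) ∈ W := by
    have := W.add_mem h3 h4
    simpa using this
  have o1 : φ₀ w = 0 := by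
    have := (T.orth _ h2 _ h3).1
    simpa only [bet, _root_.LinearMap.zero_apply, _root_.add_zero] using this
  have o2 : φ v₀ = 0 := by
    have := (T.orth _ h1 _ h4).1
    simpa only [bet, _root_.LinearMap.zero_apply, _root_.zero_add] using this
  refine ⟨v₀ + w, φ₀ + φ, fun h0 => ?_, fun h0 => ?_, ?_, fun r hr h5 h6 => ?_,
    fun z hz hz1 hmem => ?_, fun z hz hz1 hmem => ?_⟩
  · have h5 : (v₀, (0 : Module.Dual F V)) = -(w, 0) := by
      refine Prod.ext (eq_neg_of_add_eq_zero_left h0) (by simp)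
    exact hv (congrArg Prod.fst (T.dis _ h1 (h5 ▸ W.neg_mem h3)))
  · have h5 : ((0 : V), φ₀) = -(0, φ) := by
      refine Prod.ext (by simp) (eq_neg_of_add_eq_zero_left h0)
    exact hφ (congrArg Prod.snd (T.dis _ h2 (h5 ▸ W.neg_mem h4)))
  · rw [LinearMap.add_apply, map_add, map_add, o1, o2]
    linear_combination hN
  · have h7 := dbl_fix h5 h6
    have h8 : ((v₀ + w, φ₀ + φ) : V × Module.Dual F V) = (v₀, φ₀) + (w, φ) := rfl
    rw [h8, map_add, (T.fixm _).1 hxV _ ⟨r, hr, rfl⟩] at h7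
    have h9 := hreg r hr (add_left_cancel h7)
    apply dbl_inj
    ext1 y
    obtain ⟨e₀, he₀, w, hw, rfl⟩ := T.sum y
    rw [map_add, (T.fixm _).1 he₀ _ ⟨r, hr, rfl⟩, h9 w hw]
    rfl
  · exfalso
    obtain ⟨u, hu⟩ := LinearMap.mem_range.1 hmem
    have hu' : z u - u = v₀ + w := hu
    have h5 := T.sb (dbl z) ⟨z, hz, rfl⟩ (u, 0)
    have h6 : dbl z (u, 0) - (u, 0) = (v₀, 0) + (w, 0) := by
      rw [dbl_apply]
      refine Prod.ext hu' ?_
      simp
    rw [h6] at h5
    exact hv (congrArg Prod.fst (T.dis _ h1 (by simpa using W.sub_mem h5 h3)))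
  · exfalso
    obtain ⟨ψ, hψ⟩ := hmem
    have h5 := T.sb (dbl z⁻¹) ⟨z⁻¹, R.inv_mem hz, rfl⟩ (0, ψ)
    have h6 : dbl z⁻¹ (0, ψ) - (0, ψ) = (0, φ₀) + (0, φ) := by
      rw [dbl_inv_snd]
      refine Prod.ext (by simp) ?_
      ext y
      exact (hψ y).symm
    rw [h6] at h5
    exact hφ (congrArg Prod.snd (T.dis _ h2 (by simpa using W.sub_mem h5 h4)))

omit [Finite F] [Finite V] [Fact p.Prime] in
theorem scalar_one {R : Subgroup (V ≃ₗ[F] V)} (hR : IsPGroup p R)
    (hA : ∀ a : F, (∃ k : ℕ, a ^ p ^ k = 1) → a = 1) {r : V ≃ₗ[F] V} (hr : r ∈ R) {v : V} (hv : v ≠ 0)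
    {a : F} (ha : r v = a • v) : r v = v := by
  obtain ⟨n, hn⟩ := hR ⟨r, hr⟩
  have hn' : r ^ p ^ n = 1 := by simpa only [_root_.SubmonoidClass.mk_pow, _root_.OneMemClass.coe_one] using congrArg Subtype.val hn
  have hpow : ∀ m : ℕ, (r ^ m) v = a ^ m • v := by
    intro m
    induction m with
    | zero => simp
    | succ m ih => rw [pow_succ, LinearEquiv.mul_apply, ha, map_smul, ih, smul_smul, pow_succ']
  have h4 : a ^ p ^ n = 1 := by
    have h5 := hpow (p ^ n)
    rw [hn'] at h5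
    have h6 : (a ^ p ^ n - 1) • v = 0 := by
      rw [sub_smul, one_smul, ← h5]; simp
    exact sub_eq_zero.1 ((smul_eq_zero.1 h6).resolve_right hv)
  rw [ha, hA a ⟨n, h4⟩, one_smul]

omit [Finite F] [Finite V] [Fact p.Prime] in
theorem reg_twoL [FiniteDimensional F V] {R : Subgroup (V ≃ₗ[F] V)} (hR : IsPGroup p R)
    (hA : ∀ a : F, (∃ k : ℕ, a ^ p ^ k = 1) → a = 1)
    {W : Submodule F (V × Module.Dual F V)} (D : Nd W) (hinv : ∀ h ∈ R.map dbl, ∀ w ∈ W, h w ∈ W)
    (h2 : Module.finrank F (W.map (J₁ F V)) ≤ 2) {w : V} {φ : Module.Dual F V}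
    (hw : (w, 0) ∈ W) (hwφ : φ w ≠ 0) {r : V ≃ₗ[F] V} (hr : r ∈ R)
    (hfix : dbl r (w, φ) = (w, φ)) : ∀ y ∈ W, dbl r y = y := by
  have hrw : r w = w := congrArg Prod.fst hfix
  have hrφ : φ ∘ₗ ((r⁻¹ : V ≃ₗ[F] V) : V →ₗ[F] V) = φ := congrArg Prod.snd hfix
  have hrr : ∀ v, r⁻¹ (r v) = v := fun v => by
    rw [← LinearEquiv.mul_apply, inv_mul_cancel]; rfl
  have hφr : ∀ v, φ (r v) = φ v := fun v => by
    conv_lhs => rw [← hrφ]
    change φ (r⁻¹ (r v)) = φ v
    rw [hrr]
  have hrm : dbl r ∈ R.map dbl := ⟨r, hr, rfl⟩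
  have hw0 : w ≠ 0 := by rintro rfl; exact hwφ (map_zero φ)
  have hd0 : ∀ u : V, dbl r (u, 0) = (r u, 0) := fun u => by
    rw [dbl_apply]; exact Prod.ext rfl (by simp)
  have key : ∀ u : V, (u, (0 : Module.Dual F V)) ∈ W → r u = u := by
    intro u hu
    set u' := u - (φ u / φ w) • w with hu'
    have hu'W : (u', (0 : Module.Dual F V)) ∈ W := by
      have := W.sub_mem hu (W.smul_mem (φ u / φ w) hw)
      simpa [hu'] using this
    have hφu' : φ u' = 0 := by
      rw [hu', map_sub, map_smul, smul_eq_mul, div_mul_cancel₀ _ hwφ, sub_self]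
    have huu : u = u' + (φ u / φ w) • w := by rw [hu']; abel
    suffices hs : r u' = u' by
      rw [huu, map_add, map_smul, hrw, hs]
    by_cases hu'0 : u' = 0
    · rw [hu'0, map_zero]
    have hli : LinearIndependent F ![((w, 0) : V × Module.Dual F V), (u', 0)] := by
      rw [LinearIndependent.pair_iff]
      intro s t hst
      have h1 : s • w + t • u' = 0 := congrArg Prod.fst hst
      have h3 : φ (s • w + t • u') = 0 := by rw [h1, map_zero]
      rw [map_add, map_smul, map_smul, hφu', smul_zero, add_zero, smul_eq_mul] at h3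
      have hs : s = 0 := (mul_eq_zero.1 h3).resolve_right hwφ
      rw [hs, zero_smul, zero_add] at h1
      exact ⟨hs, (smul_eq_zero.1 h1).resolve_right hu'0⟩
    have hsp : Submodule.span F {((w, 0) : V × Module.Dual F V), (u', 0)} = W.map (J₁ F V) := by
      have hle : Submodule.span F {((w, 0) : V × Module.Dual F V), (u', 0)} ≤ W.map (J₁ F V) := by
        rw [Submodule.span_le]
        rintro x (rfl | rfl)
        · exact (D.mem_M w).2 hw
        · exact (D.mem_M u').2 hu'W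
      apply Submodule.eq_of_le_of_finrank_le hle
      have h3 := finrank_span_eq_card hli
      have hrg : Set.range ![((w, 0) : V × Module.Dual F V), (u', 0)] = {(w, 0), (u', 0)} :=
        Matrix.range_cons_cons_empty _ _ _
      rw [hrg, Fintype.card_fin] at h3
      rw [h3]; exact h2
    have h4 : (r u', (0 : Module.Dual F V)) ∈ Submodule.span F {((w, 0) : V × Module.Dual F V), (u', 0)} := by
      rw [hsp, D.mem_M, ← hd0]
      exact hinv _ hrm _ hu'W
    rw [Submodule.mem_span_pair] at h4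
    obtain ⟨s, t, hst⟩ := h4
    have h5 : s • w + t • u' = r u' := congrArg Prod.fst hst
    have h6 : φ (r u') = 0 := by rw [hφr, hφu']
    rw [← h5, map_add, map_smul, map_smul, hφu', smul_zero, add_zero, smul_eq_mul] at h6
    have hs : s = 0 := (mul_eq_zero.1 h6).resolve_right hwφ
    rw [hs, zero_smul, zero_add] at h5
    exact scalar_one hR hA hr hu'0 h5.symm
  rintro ⟨u, ψ⟩ hy
  have hu := D.ps _ mem_PSL₁ _ hy
  have hψ := D.ps _ mem_PSL₂ _ hy
  rw [J₁_apply] at hu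
  rw [J₂_apply] at hψ
  have h7 : dbl r ((0 : V), ψ) - (0, ψ) = 0 := by
    refine D.nd _ (W.sub_mem (hinv _ hrm _ hψ) hψ) ?_
    rintro ⟨x, χ⟩ hx
    have hx1 := D.ps _ mem_PSL₁ _ hx
    have hrx : r x = x := key x hx1
    have hrx' : r⁻¹ x = x := by
      conv_lhs => rw [← hrx]
      exact hrr x
    rw [dbl_apply]
    simp only [bet, Prod.fst_sub, Prod.snd_sub, map_zero, sub_self, add_zero, LinearMap.sub_apply,
      LinearMap.comp_apply, LinearEquiv.coe_coe, hrx']
  have h8 : ((u, ψ) : V × Module.Dual F V) = (u, 0) + (0, ψ) := by simp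
  rw [h8, map_add, hd0, key u hu, sub_eq_zero.1 h7]

omit [Fact p.Prime] [Finite F] [Finite V] in
theorem hdimL [FiniteDimensional F V] {R : Subgroup (V ≃ₗ[F] V)} (hR : IsPGroup p R)
    (hA : ∀ a : F, (∃ k : ℕ, a ^ p ^ k = 1) → a = 1)
    {H : Subgroup ((V × Module.Dual F V) ≃ₗ[F] (V × Module.Dual F V))}
    {W : Submodule F (V × Module.Dual F V)} (A0 : Adm (R.map dbl) (PSL F V) bet H W) :
    2 ≤ Module.finrank F (W.map (J₁ F V)) := by
  by_contra hlt
  have h1 : Module.finrank F (W.map (J₁ F V)) ≤ 1 := by omega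
  have D : Nd W := ⟨A0.ps, A0.nd⟩
  obtain ⟨w, φ, hw, hφ, hwφ⟩ := D.pair A0.ne
  have hw0 : w ≠ 0 := by rintro rfl; exact hwφ (map_zero φ)
  have hsp : ∀ u, (u, (0 : Module.Dual F V)) ∈ W → ∃ a : F, a • w = u := by
    intro u hu
    obtain ⟨v, hv⟩ := gen_one (W.map (J₁ F V)) h1
    obtain ⟨c, hc⟩ := hv _ ((D.mem_M w).2 hw)
    obtain ⟨d, hd⟩ := hv _ ((D.mem_M u).2 hu)
    have hc' : c • v.1 = w := congrArg Prod.fst hc
    have hd' : d • v.1 = u := congrArg Prod.fst hd
    have hc0 : c ≠ 0 := by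
      rintro rfl
      rw [zero_smul] at hc'
      exact hw0 hc'.symm
    exact ⟨d * c⁻¹, by rw [← hc', smul_smul, mul_assoc, inv_mul_cancel₀ hc0, mul_one, hd']⟩
  have h2 := A0.fix _ hw fun h hh => ?_
  · exact hw0 (congrArg Prod.fst h2)
  · obtain ⟨r, hr, rfl⟩ := A0.le hh
    have hd0 : dbl r (w, 0) = (r w, 0) := by
      rw [dbl_apply]; exact Prod.ext rfl (by simp)
    have h3 := A0.inv _ hh _ hw
    rw [hd0] at h3
    obtain ⟨a, ha⟩ := hsp _ h3
    rw [hd0, scalar_one hR hA hr hw0 ha.symm]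

/-- **RegSL.** -/
theorem regSL (p : ℕ) [Fact p.Prime] (hp : 5 ≤ p) (F : Type*) [Field F] [Finite F] (V : Type*)
    [AddCommGroup V] [Module F V] [Finite V] (hpF : (p : F) ≠ 0) (hV : 3 ≤ Module.finrank F V) :
    RegSL p F V := by
  classical
  intro R hR hsc
  change OutL R
  have C := ctxL hp hpF hR
  obtain ⟨V₀, W, T⟩ := exists_top C ndL
  have D := T.nd₁ rfl
  have Dt : Nd (⊤ : Submodule F (V × Module.Dual F V)) :=
    ⟨fun _ _ _ _ => trivial, fun x _ h => ndL x fun y => h y trivial⟩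
  have htop : 3 ≤ Module.finrank F ((⊤ : Submodule F (V × Module.Dual F V)).map (J₁ F V)) := by
    let g : V →ₗ[F] (⊤ : Submodule F (V × Module.Dual F V)).map (J₁ F V) :=
      LinearMap.codRestrict _ (LinearMap.inl F V (Module.Dual F V)) (fun v => ⟨(v, 0), trivial, rfl⟩)
    have hg : Function.Injective g := fun v w h => congrArg Prod.fst (congrArg Subtype.val h)
    exact hV.trans (LinearMap.finrank_le_finrank_of_injective (R := F) (M := V)
      (M' := (⊤ : Submodule F (V × Module.Dual F V)).map (J₁ F V)) hg)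
  by_cases hA : ∀ a : F, (∃ k : ℕ, a ^ p ^ k = 1) → a = 1
  · by_cases hW : W = ⊥
    · obtain ⟨v, φ, -, -, h0, hv, hφ⟩ := Dt.pair_zero (by omega)
      have h1 : ∀ r ∈ R, r = 1 := fun r hr => dbl_inj (T.eq_one_of_bot hW _ ⟨r, hr, rfl⟩)
      exact ⟨v, φ, hv, hφ, h0, fun r hr _ _ => h1 r hr, fun z hz hz1 => absurd (h1 z hz) hz1,
        fun z hz hz1 => absurd (h1 z hz) hz1⟩
    · have A0 := T.adm hW
      by_cases h3 : 3 ≤ Module.finrank F (W.map (J₁ F V))
      · obtain ⟨x, -, hx, -, hN, -, -⟩ := two_labels C (fun H W Bs => by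
          have D : Nd W := ⟨Bs.ps, Bs.nd⟩
          have h2 := hdimL hR hA Bs.toAdm
          obtain ⟨v₁, φ, hv₁, hφ, hφv, hv₁0, hφ0⟩ := D.pair_val Bs.ne (one_ne_zero (α := F))
          have h6 : 6 ≤ Nat.card (W.map (J₁ F V)) := by
            refine card_ge' C Bs.toAdm D.M_le ?_ ?_
            · intro hb
              rw [hb, finrank_bot] at h2
              omega
            · rintro h hh _ ⟨x, hx, rfl⟩
              refine ⟨h x, Bs.inv h hh x hx, ?_⟩
              exact C.comm _ mem_PSL₁ h (Bs.le hh) x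
          have h9 : 3 * Nat.card F ≤ Nat.card (W.map (J₁ F V)) := by
            have h7 : 1 < Nat.card F := Finite.one_lt_card
            by_cases h8 : Nat.card F = 2
            · omega
            · rw [Module.natCard_eq_pow_finrank (K := F) (V := W.map (J₁ F V))]
              calc 3 * Nat.card F ≤ Nat.card F * Nat.card F := Nat.mul_le_mul_right _ (by omega)
                _ = Nat.card F ^ 2 := (pow_two _).symm
                _ ≤ _ := Nat.pow_le_pow_right (by omega) h2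
          obtain ⟨x, y, hx, hy, hx0, hy0, hxy, hfx, hfy⟩ := gen_two (W.map (J₁ F V))
            (φ ∘ₗ LinearMap.fst F V (Module.Dual F V)) h9
          have hform : ∀ x ∈ W.map (J₁ F V), x = (x.1, 0) ∧ (x.1, (0 : Module.Dual F V)) ∈ W := by
            rintro _ ⟨x', hx', rfl⟩
            exact ⟨rfl, D.ps _ mem_PSL₁ _ hx'⟩
          obtain ⟨hxe, huW⟩ := hform x hx
          obtain ⟨hye, hu'W⟩ := hform y hy
          set u := x.1 with hu
          set u' := y.1 with hu'
          have hφu : φ u = 0 := hfx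
          have hφu' : φ u' = 0 := hfy
          have hu0 : u ≠ 0 := fun h => hx0 (by rw [hxe, h]; rfl)
          have hu'0 : u' ≠ 0 := fun h => hy0 (by rw [hye, h]; rfl)
          have huu' : u ≠ u' := fun h => hxy (by rw [hxe, hye, h])
          refine ⟨(u, φ), (u', φ), ?_, ?_, ?_, ?_, ?_, hφu, hφu', ?_⟩
          · simpa using W.add_mem huW hφ
          · simpa using W.add_mem hu'W hφ
          · exact fun h => hu0 (congrArg Prod.fst h)
          · exact fun h => hu'0 (congrArg Prod.fst h)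
          · rintro J (rfl | rfl)
            · exact ⟨fun h => hu0 (congrArg Prod.fst h), fun h => hu'0 (congrArg Prod.fst h)⟩
            · exact ⟨fun h => hφ0 (congrArg Prod.snd h), fun h => hφ0 (congrArg Prod.snd h)⟩
          · intro h hh he
            obtain ⟨r, hr, rfl⟩ := Bs.le hh
            have h18 : dbl r ((0 : V), φ) = (0, φ) := by
              have h19 := congrArg Prod.snd he
              rw [dbl_apply] at h19 ⊢
              exact Prod.ext (map_zero r) h19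
            have h20 := Bs.fpf _ hh _ hφ (fun h => hφ0 (congrArg Prod.snd h)) h18 _ huW
            have h21 : r u = u := congrArg Prod.fst h20
            have h22 : r u = u' := congrArg Prod.fst he
            exact huu' (h21.symm.trans h22)) _ W A0
        exact finL T hx hN h3
      · have hV0 : V₀ ≠ ⊥ := by
          intro hV0
          apply h3
          have hWt : W = ⊤ := by
            rw [eq_top_iff]
            intro y _
            obtain ⟨v, hv, w, hw, rfl⟩ := T.sum y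
            rw [hV0, Submodule.mem_bot] at hv
            rw [hv, zero_add]; exact hw
          rw [hWt]; exact htop
        obtain ⟨v₀, φ₀, h1, h2, hN0, hv0, hφ0⟩ := (T.nd₀ rfl).pair_val hV0 (neg_ne_zero.2 (one_ne_zero (α := F)))
        obtain ⟨w, φ, h4, h5, hN, hw0, hφ⟩ := D.pair_val hW (one_ne_zero (α := F))
        exact finL' T h1 h2 h4 h5 hv0 hφ0 (by rw [hN0, hN]; ring) fun r hr hfix =>
          reg_twoL hR hA D T.inv (by omega) h4 (by rw [hN]; exact one_ne_zero) hr hfix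
  · push Not at hA
    obtain ⟨a, ⟨k, hk⟩, ha1⟩ := hA
    have ha0 : a ≠ 0 := by
      rintro rfl
      rw [zero_pow (pow_ne_zero _ (Fact.out : p.Prime).pos.ne')] at hk
      exact zero_ne_one hk
    have hmem := hsc (Units.mk0 a ha0) ⟨k, Units.ext (by simpa only [_root_.Units.val_pow_eq_pow_val, _root_.Units.val_mk0, _root_.Units.val_one] using hk)⟩
    have hVb : V₀ = ⊥ := by
      rw [Submodule.eq_bot_iff]
      rintro ⟨v, φ⟩ hv
      have h1 := (T.fixm _).1 hv _ ⟨_, hmem, rfl⟩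
      have h2 : a • v = v := congrArg Prod.fst h1
      have h3 : (a - 1) • v = 0 := by rw [sub_smul, one_smul, h2, sub_self]
      have hv0 := (smul_eq_zero.1 h3).resolve_left (sub_ne_zero.2 ha1)
      refine Prod.ext hv0 ?_
      ext y
      have h4 : φ ∘ₗ (((LinearEquiv.smulOfUnit (Units.mk0 a ha0))⁻¹ : V ≃ₗ[F] V) : V →ₗ[F] V) = φ :=
        congrArg Prod.snd h1
      have h5 := LinearMap.congr_fun h4 (a • y)
      have h6 : ((LinearEquiv.smulOfUnit (Units.mk0 a ha0))⁻¹ : V ≃ₗ[F] V) (a • y) = y := by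
        have h7 : a • y = (LinearEquiv.smulOfUnit (Units.mk0 a ha0) : V ≃ₗ[F] V) y := rfl
        rw [h7, ← LinearEquiv.mul_apply, inv_mul_cancel]; rfl
      rw [LinearMap.comp_apply, LinearEquiv.coe_coe, h6, map_smul, smul_eq_mul] at h5
      have h8 : (a - 1) * φ y = 0 := by linear_combination -h5
      exact (mul_eq_zero.1 h8).resolve_left (sub_ne_zero.2 ha1)
    have hWt : W = ⊤ := by
      rw [eq_top_iff]
      intro y _
      obtain ⟨v, hv, w, hw, rfl⟩ := T.sum y
      rw [hVb, Submodule.mem_bot] at hv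
      rw [hv, zero_add]; exact hw
    have h3 : 3 ≤ Module.finrank F (W.map (J₁ F V)) := by rw [hWt]; exact htop
    have hWb : W ≠ ⊥ := by
      rintro rfl
      rw [Submodule.map_bot, finrank_bot] at h3
      omega
    have A0 := T.adm hWb
    have hKc : 4 ≤ Nat.card (⊤ : AddSubgroup F) := by
      have h4 : orderOf (Units.mk0 a ha0) ∣ p ^ k :=
        orderOf_dvd_of_pow_eq_one (Units.ext (by simpa only [_root_.Units.val_pow_eq_pow_val, _root_.Units.val_mk0, _root_.Units.val_one] using hk))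
      have h5 : 5 ≤ orderOf (Units.mk0 a ha0) := by
        obtain ⟨j, -, hj⟩ := (Nat.dvd_prime_pow (Fact.out : p.Prime)).1 h4
        rcases Nat.eq_zero_or_pos j with rfl | hj0
        · exfalso
          rw [pow_zero, orderOf_eq_one_iff] at hj
          exact ha1 (congrArg Units.val hj)
        · rw [hj]
          exact hp.trans (Nat.le_self_pow hj0.ne' p)
      have h6 : orderOf (Units.mk0 a ha0) ≤ Nat.card Fˣ := orderOf_le_card
      have h7 : Nat.card Fˣ ≤ Nat.card F := Nat.card_le_card_of_injective _ Units.val_injective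
      have h8 : Nat.card (⊤ : AddSubgroup F) = Nat.card F := Nat.card_congr AddSubgroup.topEquiv.toEquiv
      omega
    obtain ⟨x, hx, hN⟩ := top_zero C ⊤ hKc (fun H W Bs c _ hc0 => by
      have D : Nd W := ⟨Bs.ps, Bs.nd⟩
      obtain ⟨w, φ, h4, h5, hN, hw0, hφ⟩ := D.pair_val Bs.ne hc0
      refine ⟨(w, φ), ?_, fun h => hw0 (congrArg Prod.fst h), ?_, hN⟩
      · simpa using W.add_mem h4 h5
      · rintro J (rfl | rfl)
        · exact fun h => hw0 (congrArg Prod.fst h)
        · exact fun h => hφ (congrArg Prod.snd h)) A0 (fun _ => by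
      obtain ⟨w, φ, h4, h5, hN, hw0, hφ⟩ := D.pair_zero (by omega)
      refine ⟨(w, φ), ?_, fun h => hw0 (congrArg Prod.fst h), ?_, hN⟩
      · simpa using W.add_mem h4 h5
      · rintro J (rfl | rfl)
        · exact fun h => hw0 (congrArg Prod.fst h)
        · exact fun h => hφ (congrArg Prod.snd h))
    exact finL T hx hN h3

end lin

end Cfsg.Agent.H903.SylReg
end

-- part: H178/MeetAlt/Rigid
section
/-!
# Two conjugate permutations of type `p^m` whose common centralizer is a `p'`-group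
-/

set_option autoImplicit false

namespace Cfsg.Agent.H178.MeetAlt

open Equiv

variable {p m : ℕ}

/-- `m` cycles of length `p` -/
def sg (p m : ℕ) : Perm (ZMod p × ZMod m) := Equiv.prodCongr (Equiv.addRight 1) (Equiv.refl _)

/-- the permutation of the labels -/
def pi (p m : ℕ) (s : ZMod p) : Perm (ZMod m) :=
  if s = 0 then Equiv.subRight 1 else if s = 1 then Equiv.swap 0 1 else Equiv.refl _

/-- the conjugating permutation -/
def vv (p m : ℕ) : Perm (ZMod p × ZMod m) := Equiv.prodShear (Equiv.refl _) (pi p m)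

theorem sg_apply (a : ZMod p × ZMod m) : sg p m a = (a.1 + 1, a.2) := rfl

theorem sg_pow (n : ℕ) (a : ZMod p × ZMod m) : (sg p m ^ n) a = (a.1 + n, a.2) := by
  induction n with
  | zero => simp
  | succ n ih =>
    rw [pow_succ', Perm.mul_apply, ih, sg_apply]
    simp [add_assoc]

theorem vv_apply (a : ZMod p × ZMod m) : vv p m a = (a.1, pi p m a.1 a.2) := rfl

/-- points in the same cycle -/
theorem exists_pow [NeZero p] {a b : ZMod p × ZMod m} (h : a.2 = b.2) : ∃ n : ℕ, (sg p m ^ n) a = b := by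
  refine ⟨(b.1 - a.1).val, ?_⟩
  rw [sg_pow]
  ext
  · simp
  · exact h

theorem snd_of_comm [NeZero p] {y : Perm (ZMod p × ZMod m)} (hy : y * sg p m = sg p m * y)
    {a b : ZMod p × ZMod m} (h : a.2 = b.2) : (y a).2 = (y b).2 := by
  obtain ⟨n, rfl⟩ := exists_pow h
  have h1 : y * sg p m ^ n = sg p m ^ n * y := (show Commute y (sg p m) from hy).pow_right n
  have h2 : y ((sg p m ^ n) a) = (sg p m ^ n) (y a) := by
    rw [← Perm.mul_apply, h1, Perm.mul_apply]
  rw [h2, sg_pow]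

theorem eq_of_fix [NeZero p] {y : Perm (ZMod p × ZMod m)} (hy : y * sg p m = sg p m * y)
    {a b : ZMod p × ZMod m} (h : a.2 = b.2) (ha : y a = a) : y b = b := by
  obtain ⟨n, rfl⟩ := exists_pow h
  have h1 : y * sg p m ^ n = sg p m ^ n * y := (show Commute y (sg p m) from hy).pow_right n
  have h2 : y ((sg p m ^ n) a) = (sg p m ^ n) (y a) := by
    rw [← Perm.mul_apply, h1, Perm.mul_apply]
  rw [h2, ha]

/-- the second commutation relation, conjugated -/
theorem comm_conj {y : Perm (ZMod p × ZMod m)} (hy : y * ((vv p m)⁻¹ * sg p m * vv p m) =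
    ((vv p m)⁻¹ * sg p m * vv p m) * y) :
    (vv p m * y * (vv p m)⁻¹) * sg p m = sg p m * (vv p m * y * (vv p m)⁻¹) := by
  calc (vv p m * y * (vv p m)⁻¹) * sg p m = vv p m * (y * ((vv p m)⁻¹ * sg p m * vv p m)) * (vv p m)⁻¹ := by group
    _ = vv p m * (((vv p m)⁻¹ * sg p m * vv p m) * y) * (vv p m)⁻¹ := by rw [hy]
    _ = _ := by group

theorem lab_of_comm [NeZero p] {y : Perm (ZMod p × ZMod m)} (hy : y * ((vv p m)⁻¹ * sg p m * vv p m) =
    ((vv p m)⁻¹ * sg p m * vv p m) * y) {a b : ZMod p × ZMod m} (h : (vv p m a).2 = (vv p m b).2) :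
    (vv p m (y a)).2 = (vv p m (y b)).2 := by
  have := snd_of_comm (comm_conj hy) h
  simpa only [Perm.mul_apply, _root_.Equiv.Perm.coe_inv, _root_.Equiv.symm_apply_apply] using this

theorem eq_of_fix' [NeZero p] {y : Perm (ZMod p × ZMod m)} (hy : y * ((vv p m)⁻¹ * sg p m * vv p m) =
    ((vv p m)⁻¹ * sg p m * vv p m) * y) {a b : ZMod p × ZMod m} (h : (vv p m a).2 = (vv p m b).2)
    (ha : y a = a) : y b = b := by
  have h1 : (vv p m * y * (vv p m)⁻¹) (vv p m a) = vv p m a := by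
    simp [Perm.mul_apply, ha]
  have := eq_of_fix (comm_conj hy) h h1
  simpa [Perm.mul_apply] using this

/-- the class of `a` -/
def Cl (p m : ℕ) [NeZero p] [NeZero m] (a : ZMod p × ZMod m) : Finset (ZMod p × ZMod m) :=
  Finset.univ.filter (fun b => b.2 = a.2 ∧ (vv p m b).2 = (vv p m a).2)

theorem mem_Cl [NeZero p] [NeZero m] {a b : ZMod p × ZMod m} :
    b ∈ Cl p m a ↔ b.2 = a.2 ∧ (vv p m b).2 = (vv p m a).2 := by
  simp [Cl]

theorem card_Cl_le [NeZero p] [NeZero m] {y : Perm (ZMod p × ZMod m)} (hy : y * sg p m = sg p m * y)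
    (hy' : y * ((vv p m)⁻¹ * sg p m * vv p m) = ((vv p m)⁻¹ * sg p m * vv p m) * y) (a : ZMod p × ZMod m) :
    (Cl p m a).card ≤ (Cl p m (y a)).card := by
  apply Finset.card_le_card_of_injOn y
  · intro b hb
    rw [Finset.mem_coe, mem_Cl] at hb ⊢
    exact ⟨snd_of_comm hy hb.1, lab_of_comm hy' hb.2⟩
  · exact y.injective.injOn

theorem inv_comm {G : Type*} [Group G] {y s : G} (h : y * s = s * y) : y⁻¹ * s = s * y⁻¹ :=
  (show Commute y s from h).inv_left

theorem card_Cl [NeZero p] [NeZero m] {y : Perm (ZMod p × ZMod m)} (hy : y * sg p m = sg p m * y)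
    (hy' : y * ((vv p m)⁻¹ * sg p m * vv p m) = ((vv p m)⁻¹ * sg p m * vv p m) * y) (a : ZMod p × ZMod m) :
    (Cl p m (y a)).card = (Cl p m a).card := by
  apply le_antisymm _ (card_Cl_le hy hy' a)
  have := card_Cl_le (inv_comm hy) (inv_comm hy') (y a)
  simpa using this

theorem zmod_nat_ne {k : ℕ} (hk : 5 ≤ k) {a b : ℕ} (ha : a < 5) (hb : b < 5) (h : a ≠ b) :
    (a : ZMod k) ≠ (b : ZMod k) := by
  intro h1
  rw [ZMod.natCast_eq_natCast_iff'] at h1
  rw [Nat.mod_eq_of_lt (by omega), Nat.mod_eq_of_lt (by omega)] at h1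
  exact h h1

section

variable (hp : 5 ≤ p) (hm : 5 ≤ m)
include hp hm

theorem p01 : (0 : ZMod p) ≠ 1 := by exact_mod_cast zmod_nat_ne (k := p) hp (a := 0) (b := 1) (by omega) (by omega) (by omega)

theorem pi_zero (i : ZMod m) : pi p m 0 i = i - 1 := by simp [pi]

theorem pi_one (i : ZMod m) : pi p m 1 i = Equiv.swap 0 1 i := by
  simp [pi, (p01 hp hm).symm]

theorem pi_other {s : ZMod p} (h0 : s ≠ 0) (h1 : s ≠ 1) (i : ZMod m) : pi p m s i = i := by
  simp [pi, h0, h1]

theorem Cl_base [NeZero p] [NeZero m] : Cl p m (0, 1) = {(0, 1), (1, 1)} := by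
  have h01 : (0 : ZMod m) ≠ 1 := p01 hm hp
  ext ⟨s, i⟩
  rw [mem_Cl]
  simp only [vv_apply, Finset.mem_insert, Finset.mem_singleton, Prod.mk.injEq]
  rw [pi_zero hp hm]
  constructor
  · rintro ⟨rfl, h⟩
    by_cases h0 : s = 0
    · exact Or.inl ⟨h0, rfl⟩
    by_cases h1 : s = 1
    · exact Or.inr ⟨h1, rfl⟩
    rw [pi_other hp hm h0 h1, sub_self] at h
    exact absurd h.symm h01
  · rintro (⟨rfl, rfl⟩ | ⟨rfl, rfl⟩)
    · exact ⟨rfl, by rw [pi_zero hp hm]⟩
    · refine ⟨rfl, ?_⟩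
      rw [pi_one hp hm, Equiv.swap_apply_right, sub_self]

/-- the only class with two elements -/
theorem of_card_two [NeZero p] [NeZero m] {a : ZMod p × ZMod m} (h : (Cl p m a).card = 2) :
    a = (0, 1) ∨ a = (1, 1) := by
  have h01 : (0 : ZMod m) ≠ 1 := p01 hm hp
  have h01p : (0 : ZMod p) ≠ 1 := p01 hp hm
  have h12 : (1 : ZMod m) ≠ 2 := by
    exact_mod_cast zmod_nat_ne (k := m) hm (a := 1) (b := 2) (by omega) (by omega) (by omega)
  have h02 : (0 : ZMod m) ≠ 2 := by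
    exact_mod_cast zmod_nat_ne (k := m) hm (a := 0) (b := 2) (by omega) (by omega) (by omega)
  have hq : ∀ a b : ℕ, a < 5 → b < 5 → a ≠ b → (a : ZMod p) ≠ (b : ZMod p) := fun a b => zmod_nat_ne hp
  have q2 : (2 : ZMod p) ≠ 0 ∧ (2 : ZMod p) ≠ 1 := by
    constructor
    · exact_mod_cast hq 2 0 (by omega) (by omega) (by omega)
    · exact_mod_cast hq 2 1 (by omega) (by omega) (by omega)
  have q3 : (3 : ZMod p) ≠ 0 ∧ (3 : ZMod p) ≠ 1 ∧ (3 : ZMod p) ≠ 2 := by
    refine ⟨?_, ?_, ?_⟩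
    · exact_mod_cast hq 3 0 (by omega) (by omega) (by omega)
    · exact_mod_cast hq 3 1 (by omega) (by omega) (by omega)
    · exact_mod_cast hq 3 2 (by omega) (by omega) (by omega)
  have q4 : (4 : ZMod p) ≠ 0 ∧ (4 : ZMod p) ≠ 1 ∧ (4 : ZMod p) ≠ 2 ∧ (4 : ZMod p) ≠ 3 := by
    refine ⟨?_, ?_, ?_, ?_⟩
    · exact_mod_cast hq 4 0 (by omega) (by omega) (by omega)
    · exact_mod_cast hq 4 1 (by omega) (by omega) (by omega)
    · exact_mod_cast hq 4 2 (by omega) (by omega) (by omega)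
    · exact_mod_cast hq 4 3 (by omega) (by omega) (by omega)
  obtain ⟨s, i⟩ := a
  -- the classes with label `i`
  have big : pi p m s i = i → False := by
    intro hi
    have hsub : ({(2, i), (3, i), (4, i)} : Finset (ZMod p × ZMod m)) ⊆ Cl p m (s, i) := by
      intro b hb
      simp only [Finset.mem_insert, Finset.mem_singleton] at hb
      rw [mem_Cl]
      rcases hb with rfl | rfl | rfl
      · exact ⟨rfl, by simp only [vv_apply]; rw [hi, pi_other hp hm q2.1 q2.2]⟩
      · exact ⟨rfl, by simp only [vv_apply]; rw [hi, pi_other hp hm q3.1 q3.2.1]⟩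
      · exact ⟨rfl, by simp only [vv_apply]; rw [hi, pi_other hp hm q4.1 q4.2.1]⟩
    have hc := Finset.card_le_card hsub
    rw [h, Finset.card_insert_of_notMem, Finset.card_insert_of_notMem, Finset.card_singleton] at hc
    · omega
    · simp only [Finset.mem_singleton, Prod.mk.injEq, and_true]
      exact q4.2.2.2.symm
    · simp only [Finset.mem_insert, Finset.mem_singleton, Prod.mk.injEq, and_true, not_or]
      exact ⟨q3.2.2.symm, q4.2.2.1.symm⟩
  have small : (∀ t : ZMod p, pi p m t i = pi p m s i → t = s) → False := by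
    intro hi
    have hsub : Cl p m (s, i) ⊆ {(s, i)} := by
      rintro ⟨t, j⟩ hb
      rw [mem_Cl] at hb
      obtain ⟨rfl, hb⟩ := hb
      simp only [vv_apply] at hb
      rw [Finset.mem_singleton, Prod.mk.injEq]
      exact ⟨hi t hb, rfl⟩
    have hc := Finset.card_le_card hsub
    rw [h, Finset.card_singleton] at hc
    omega
  by_cases h0 : s = 0
  · subst h0
    by_cases h1 : i = 1
    · subst h1
      exact Or.inl rfl
    · exfalso
      apply small
      intro t ht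
      by_contra ht0
      rw [pi_zero hp hm] at ht
      by_cases ht1 : t = 1
      · subst ht1
        rw [pi_one hp hm] at ht
        by_cases hi0 : i = 0
        · subst hi0
          rw [Equiv.swap_apply_left, zero_sub] at ht
          have : (2 : ZMod m) = 0 := by
            have h5 : (1 : ZMod m) + 1 = 0 := by
              nth_rewrite 1 [ht]
              ring
            rw [← h5]; norm_num
          exact h02 this.symm
        · rw [Equiv.swap_apply_of_ne_of_ne hi0 h1] at ht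
          exact h01 (by linear_combination -ht)
      · rw [pi_other hp hm ht0 ht1] at ht
        exact h01 (by linear_combination -ht)
  · by_cases h1 : s = 1
    · subst h1
      by_cases hi1 : i = 1
      · subst hi1
        exact Or.inr rfl
      · exfalso
        by_cases hi0 : i = 0
        · subst hi0
          apply small
          intro t ht
          by_contra ht1
          rw [pi_one hp hm, Equiv.swap_apply_left] at ht
          by_cases ht0 : t = 0
          · subst ht0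
            rw [pi_zero hp hm, zero_sub] at ht
            have : (2 : ZMod m) = 0 := by
              have h5 : (1 : ZMod m) + 1 = 0 := by
                nth_rewrite 1 [← ht]
                ring
              rw [← h5]; norm_num
            exact h02 this.symm
          · rw [pi_other hp hm ht0 ht1] at ht
            exact h01 ht
        · apply big
          rw [pi_one hp hm, Equiv.swap_apply_of_ne_of_ne hi0 hi1]
    · exfalso
      exact big (pi_other hp hm h0 h1 i)

/-- **Rigidity.** -/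
theorem rigid [NeZero p] [NeZero m] (hodd : Odd p) {y : Perm (ZMod p × ZMod m)} (hy : y * sg p m = sg p m * y)
    (hy' : y * ((vv p m)⁻¹ * sg p m * vv p m) = ((vv p m)⁻¹ * sg p m * vv p m) * y) {k : ℕ} (hk : y ^ p ^ k = 1) :
    y = 1 := by
  have h01 : (0 : ZMod m) ≠ 1 := p01 hm hp
  have h01p : (0 : ZMod p) ≠ 1 := p01 hp hm
  have hcard : (Cl p m (0, 1)).card = 2 := by
    rw [Cl_base hp hm, Finset.card_pair]
    intro h
    exact h01p (congrArg Prod.fst h)
  have e0 : y (0, 1) = (0, 1) ∨ y (0, 1) = (1, 1) := of_card_two hp hm (by rw [card_Cl hy hy', hcard])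
  have hcard1 : (Cl p m (1, 1)).card = 2 := by
    have : Cl p m (1, 1) = Cl p m (0, 1) := by
      have h5 : ((1, 1) : ZMod p × ZMod m) ∈ Cl p m (0, 1) := by
        rw [Cl_base hp hm]; simp only [_root_.Finset.mem_insert, _root_.Prod.mk.injEq, _root_.and_true, _root_.Finset.mem_singleton, _root_.or_true]
      rw [mem_Cl] at h5
      ext b
      rw [mem_Cl, mem_Cl, h5.1, h5.2]
    rw [this, hcard]
  have e1 : y (1, 1) = (0, 1) ∨ y (1, 1) = (1, 1) := of_card_two hp hm (by rw [card_Cl hy hy', hcard1])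
  -- `y` fixes `(0,1)`
  have hfix : y (0, 1) = (0, 1) := by
    rcases e0 with h | h
    · exact h
    exfalso
    have h2 : y (1, 1) = (0, 1) := by
      rcases e1 with h3 | h3
      · exact h3
      · exfalso
        have := y.injective (h.trans h3.symm)
        exact h01p (congrArg Prod.fst this)
    have h3 : (y ^ 2) (0, 1) = (0, 1) := by
      rw [pow_two, Perm.mul_apply, h, h2]
    have h4 : ∀ n : ℕ, ((y ^ 2) ^ n) (0, 1) = (0, 1) := by
      intro n
      induction n with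
      | zero => rfl
      | succ n ih => rw [pow_succ, Perm.mul_apply, h3, ih]
    obtain ⟨r, hr⟩ : Odd (p ^ k) := hodd.pow
    have h5 : (y ^ p ^ k) (0, 1) = (1, 1) := by
      rw [hr, pow_add, pow_mul, pow_one, Perm.mul_apply, h]
      have h6 : ∀ n : ℕ, ((y ^ 2) ^ n) (1, 1) = (1, 1) := by
        intro n
        induction n with
        | zero => rfl
        | succ n ih =>
          rw [pow_succ, Perm.mul_apply, pow_two, Perm.mul_apply, h2, h, ← pow_two, ih]
      exact h6 r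
    rw [hk, Perm.one_apply] at h5
    exact h01p (congrArg Prod.fst h5)
  have q2 : (2 : ZMod p) ≠ 0 ∧ (2 : ZMod p) ≠ 1 := by
    constructor
    · exact_mod_cast zmod_nat_ne (k := p) hp (a := 2) (b := 0) (by omega) (by omega) (by omega)
    · exact_mod_cast zmod_nat_ne (k := p) hp (a := 2) (b := 1) (by omega) (by omega) (by omega)
  -- all blocks
  have hall : ∀ n : ℕ, ∀ s : ZMod p, y (s, 1 + (n : ZMod m)) = (s, 1 + (n : ZMod m)) := by
    intro n
    induction n with
    | zero =>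
      intro s
      rw [Nat.cast_zero, add_zero]
      exact eq_of_fix hy (a := (0, 1)) rfl hfix
    | succ n ih =>
      intro s
      have h1 : y (0, 1 + (n : ZMod m) + 1) = (0, 1 + (n : ZMod m) + 1) := by
        refine eq_of_fix' hy' (a := (2, 1 + (n : ZMod m))) ?_ (ih 2)
        simp only [vv_apply]
        rw [pi_zero hp hm, pi_other hp hm q2.1 q2.2]
        ring
      have h2 : y (s, 1 + (n : ZMod m) + 1) = (s, 1 + (n : ZMod m) + 1) :=
        eq_of_fix hy (a := (0, 1 + (n : ZMod m) + 1)) rfl h1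
      rw [Nat.cast_succ, ← add_assoc]
      exact h2
  ext1 ⟨s, i⟩
  have h7 := hall (i - 1).val s
  rw [ZMod.natCast_zmod_val, add_sub_cancel] at h7
  exact h7

end

end Cfsg.Agent.H178.MeetAlt
end

-- part: H178/MeetAlt/Cent
section
/-!
# The centralizer of `m` cycles of length `p` has index prime to `p` in the symmetric group of degree `p m + r`
-/

set_option autoImplicit false

namespace Cfsg.Agent.H178.MeetAlt

open Equiv

/-- the set of points -/
abbrev Al (p m r : ℕ) := (ZMod p × ZMod m) ⊕ Fin r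

/-- `m` cycles of length `p` and `r` fixed points -/
def sa (p m r : ℕ) : Perm (Al p m r) := Perm.sumCongr (sg p m) 1

/-- the conjugating permutation -/
def va (p m r : ℕ) : Perm (Al p m r) := Perm.sumCongr (vv p m) 1

/-- a transposition of two cycles -/
def zz (p m : ℕ) : Perm (ZMod p × ZMod m) := Equiv.prodCongrRight (fun _ : ZMod p => Equiv.swap 0 1)

/-- a transposition of two cycles -/
def za (p m r : ℕ) : Perm (Al p m r) := Perm.sumCongr (zz p m) 1

section

variable {p m r : ℕ} [hpf : Fact p.Prime] [NeZero m]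

theorem card_Al : Fintype.card (Al p m r) = p * m + r := by
  simp only [Al, ZMod.card, _root_.Fintype.card_sum, _root_.Fintype.card_prod, _root_.Fintype.card_fin, _root_.Nat.add_left_cancel_iff]

theorem sg_pow_p : sg p m ^ p = 1 := by
  ext1 a
  rw [sg_pow]
  simp

theorem sa_pow_p : sa p m r ^ p = 1 := by
  have : sa p m r ^ p = Perm.sumCongrHom _ _ ((sg p m, 1) ^ p) := by
    rw [map_pow]; rfl
  rw [this, Prod.pow_mk, sg_pow_p, one_pow]
  exact map_one _

theorem sa_inl (a : ZMod p × ZMod m) : sa p m r (Sum.inl a) = Sum.inl (sg p m a) := rfl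

theorem sa_inr (a : Fin r) : sa p m r (Sum.inr a) = Sum.inr a := rfl

theorem sa_ne (a : ZMod p × ZMod m) : sa p m r (Sum.inl a) ≠ Sum.inl a := by
  rw [sa_inl]
  intro h
  have h1 := congrArg Prod.fst (Sum.inl_injective h)
  rw [sg_apply] at h1
  have h2 : (1 : ZMod p) = 0 := by
    have h3 : a.1 + 1 = a.1 + 0 := by simpa using h1
    exact add_left_cancel h3
  exact one_ne_zero h2

theorem orderOf_sa : orderOf (sa p m r) = p := by
  apply orderOf_eq_prime sa_pow_p
  intro h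
  have := sa_ne (p := p) (m := m) (r := r) (0, 0)
  rw [h] at this
  exact this rfl

theorem support_sa : (sa p m r).support.card = p * m := by
  have : (sa p m r).support = Finset.univ.map Function.Embedding.inl := by
    ext x
    rw [Perm.mem_support]
    rcases x with a | a
    · simpa using sa_ne a
    · simp [sa_inr]
  rw [this, Finset.card_map, Finset.card_univ, Fintype.card_prod, ZMod.card, ZMod.card]

theorem cycleType_sa : (sa p m r).cycleType = Multiset.replicate m p := by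
  obtain ⟨n, hn⟩ := Perm.cycleType_prime_order (σ := sa p m r) (by rw [orderOf_sa]; exact hpf.out)
  rw [orderOf_sa] at hn
  have h1 := Perm.sum_cycleType (sa p m r)
  rw [hn, support_sa, Multiset.sum_replicate, smul_eq_mul, mul_comm] at h1
  rw [hn, Nat.eq_of_mul_eq_mul_left hpf.out.pos h1]

theorem card_cent : Nat.card (Subgroup.centralizer {sa p m r}) = r.factorial * p ^ m * m.factorial := by
  have hm : m ≠ 0 := NeZero.ne m
  rw [Perm.nat_card_centralizer, cycleType_sa, card_Al, Multiset.sum_replicate, Multiset.prod_replicate,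
    smul_eq_mul, mul_comm m p, Nat.add_sub_cancel_left, Multiset.toFinset_replicate, if_neg hm,
    Finset.prod_singleton, Multiset.count_replicate_self]

theorem index_cent (hr : r < p) : ¬ p ∣ (Subgroup.centralizer {sa p m r}).index := by
  have h1 := (Subgroup.centralizer {sa p m r}).card_mul_index
  rw [card_cent, Nat.card_perm, Nat.card_eq_fintype_card, card_Al] at h1
  have hi : (Subgroup.centralizer {sa p m r}).index ≠ 0 := Subgroup.index_ne_zero_of_finite
  have h2 := congrArg (padicValNat p) h1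
  have hpm : p ^ m ≠ 0 := pow_ne_zero _ hpf.out.ne_zero
  have hrf : r.factorial ≠ 0 := Nat.factorial_ne_zero r
  have hmf : m.factorial ≠ 0 := Nat.factorial_ne_zero m
  rw [padicValNat.mul (mul_ne_zero (mul_ne_zero hrf hpm) hmf) hi, padicValNat.mul (mul_ne_zero hrf hpm) hmf,
    padicValNat.mul hrf hpm, padicValNat.prime_pow, padicValNat_factorial_mul_add _ hr,
    padicValNat_factorial_mul] at h2
  intro h
  have h3 := (dvd_iff_padicValNat_ne_zero hi).1 h
  omega

theorem fix_iff (x : Al p m r) : sa p m r x = x ↔ x ∈ Set.range (Sum.inr : Fin r → Al p m r) := by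
  rcases x with a | a
  · simpa only [_root_.Set.mem_range, _root_.reduceCtorEq, _root_.exists_false, _root_.iff_false, _root_.ne_eq] using sa_ne a
  · simp only [sa_inr, _root_.Set.mem_range, _root_.Sum.inr.injEq, _root_.exists_eq]

/-- an element commuting with `sa` preserves the two parts -/
theorem exists_sum {y : Perm (Al p m r)} (hy : y * sa p m r = sa p m r * y) :
    ∃ (a : Perm (ZMod p × ZMod m)) (b : Perm (Fin r)), y = Perm.sumCongr a b := by
  have h1 : Set.MapsTo y (Set.range Sum.inr) (Set.range Sum.inr) := by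
    intro x hx
    rw [← fix_iff] at hx ⊢
    rw [← Perm.mul_apply, ← hy, Perm.mul_apply, hx]
  have h2 := Perm.mem_sumCongrHom_range_of_perm_mapsTo_inl ((Perm.perm_mapsTo_inl_iff_mapsTo_inr y).2 h1)
  obtain ⟨⟨a, b⟩, h3⟩ := h2
  exact ⟨a, b, h3.symm⟩

theorem sumCongr_inj {α β : Type*} {a a' : Perm α} {b b' : Perm β}
    (h : Perm.sumCongr a b = Perm.sumCongr a' b') : a = a' ∧ b = b' := by
  have := Perm.sumCongrHom_injective (α := α) (β := β) (a₁ := (a, b)) (a₂ := (a', b')) h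
  exact ⟨congrArg Prod.fst this, congrArg Prod.snd this⟩

theorem sumCongr_pow {α β : Type*} (a : Perm α) (b : Perm β) (n : ℕ) :
    Perm.sumCongr a b ^ n = Perm.sumCongr (a ^ n) (b ^ n) := by
  have : Perm.sumCongr a b ^ n = Perm.sumCongrHom _ _ ((a, b) ^ n) := by
    rw [map_pow]; rfl
  rw [this]; rfl

theorem rigid_sum (hp : 5 ≤ p) (hm : 5 ≤ m) (hr : r < p) {y : Perm (Al p m r)}
    (hy : y * sa p m r = sa p m r * y)
    (hy' : y * ((va p m r)⁻¹ * sa p m r * va p m r) = ((va p m r)⁻¹ * sa p m r * va p m r) * y)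
    {k : ℕ} (hk : y ^ p ^ k = 1) : y = 1 := by
  obtain ⟨a, b, rfl⟩ := exists_sum hy
  have hodd : Odd p := hpf.out.odd_of_ne_two (by omega)
  have e1 : (1 : Perm (Al p m r)) = Perm.sumCongr 1 1 := (Perm.sumCongr_one).symm
  rw [sumCongr_pow, e1] at hk
  obtain ⟨hka, hkb⟩ := sumCongr_inj hk
  have h1 : a * sg p m = sg p m * a := by
    have : Perm.sumCongr (a * sg p m) (b * 1) = Perm.sumCongr (sg p m * a) (1 * b) := by
      rw [← Perm.sumCongr_mul, ← Perm.sumCongr_mul]; exact hy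
    exact (sumCongr_inj this).1
  have h2 : a * ((vv p m)⁻¹ * sg p m * vv p m) = ((vv p m)⁻¹ * sg p m * vv p m) * a := by
    have : Perm.sumCongr (a * ((vv p m)⁻¹ * sg p m * vv p m)) (b * ((1⁻¹) * 1 * 1)) =
        Perm.sumCongr (((vv p m)⁻¹ * sg p m * vv p m) * a) (((1⁻¹) * 1 * 1) * b) := by
      have e2 : (va p m r)⁻¹ * sa p m r * va p m r =
          Perm.sumCongr ((vv p m)⁻¹ * sg p m * vv p m) ((1⁻¹) * 1 * 1) := by
        rw [← Perm.sumCongr_mul, ← Perm.sumCongr_mul, ← Perm.sumCongr_inv]; rfl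
      rw [e2] at hy'
      exact (Perm.sumCongr_mul _ _ _ _).symm.trans (hy'.trans (Perm.sumCongr_mul _ _ _ _))
    exact (sumCongr_inj this).1
  have ha : a = 1 := rigid hp hm hodd h1 h2 hka
  have hb : b = 1 := by
    have h3 : orderOf b ∣ p ^ k := orderOf_dvd_of_pow_eq_one hkb
    have h4 : orderOf b ∣ r.factorial := by
      have := orderOf_dvd_natCard b
      rwa [Nat.card_perm, Nat.card_eq_fintype_card, Fintype.card_fin] at this
    have h5 : (p ^ k).Coprime r.factorial :=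
      (hpf.out.coprime_factorial_of_lt hr).pow_left k
    have h6 := Nat.eq_one_of_dvd_coprimes h5 h3 h4
    exact orderOf_eq_one_iff.1 h6
  rw [ha, hb]
  exact Perm.sumCongr_one

theorem sign_za (hp : 5 ≤ p) (hm : 5 ≤ m) : Perm.sign (za p m r) = -1 := by
  have hodd : Odd p := hpf.out.odd_of_ne_two (by omega)
  rw [za, Perm.sign_sumCongr, Perm.sign_one, mul_one, zz, Perm.sign_prodCongrRight, Finset.prod_const,
    Finset.card_univ, ZMod.card, Perm.sign_swap]
  · exact hodd.neg_one_pow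
  · exact_mod_cast zmod_nat_ne (k := m) hm (a := 0) (b := 1) (by omega) (by omega) (by omega)

theorem za_comm : za p m r * sa p m r = sa p m r * za p m r := by
  rw [za, sa, Perm.sumCongr_mul, Perm.sumCongr_mul]
  congr 1

end

end Cfsg.Agent.H178.MeetAlt
end

-- part: H178/MeetAlt/Main
section
/-!
# `Meet p (A_n)` for `p ≥ 5`, `n ≥ 5`
-/

set_option autoImplicit false

namespace Cfsg.Agent.H178.MeetAlt

open Equiv Cfsg.Agent.H903.SylMeet

theorem exists_v {p m r : ℕ} [hpf : Fact p.Prime] [NeZero m] (hp : 5 ≤ p) (hm : 5 ≤ m) :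
    ∃ x : alternatingGroup (Al p m r), (x : Perm (Al p m r))⁻¹ * sa p m r * (x : Perm (Al p m r)) =
      (va p m r)⁻¹ * sa p m r * va p m r := by
  rcases Int.units_eq_one_or (Perm.sign (va p m r)) with h | h
  · exact ⟨⟨va p m r, Perm.mem_alternatingGroup.2 h⟩, rfl⟩
  · refine ⟨⟨za p m r * va p m r, Perm.mem_alternatingGroup.2 ?_⟩, ?_⟩
    · rw [Perm.sign_mul, sign_za hp hm, h]; rfl
    · simp only
      have h1 : (za p m r)⁻¹ * sa p m r * za p m r = sa p m r := by
        rw [mul_assoc, ← za_comm, inv_mul_cancel_left]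
      calc (za p m r * va p m r)⁻¹ * sa p m r * (za p m r * va p m r)
          = (va p m r)⁻¹ * ((za p m r)⁻¹ * sa p m r * za p m r) * va p m r := by group
        _ = _ := by rw [h1]

theorem meet_al {p m r : ℕ} [hpf : Fact p.Prime] [NeZero m] (hp : 5 ≤ p) (hm : 5 ≤ m) (hr : r < p)
    (hcard : Nat.card (MulAut (alternatingGroup (Al p m r))) ∣ 2 * Nat.card (alternatingGroup (Al p m r)))
    (hinj : Function.Injective (MulAut.conj : alternatingGroup (Al p m r) →* MulAut (alternatingGroup (Al p m r)))) :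
    Meet p (alternatingGroup (Al p m r)) := by
  classical
  have hodd : Odd p := hpf.out.odd_of_ne_two (by omega)
  obtain ⟨Q⟩ : Nonempty (Sylow p (Subgroup.centralizer {sa p m r})) := inferInstance
  set Q' : Subgroup (Perm (Al p m r)) := (Q : Subgroup (Subgroup.centralizer {sa p m r})).map
    (Subgroup.centralizer {sa p m r}).subtype with hQ'
  have hQp : IsPGroup p Q' := Q.isPGroup'.map _
  have hQc : ∀ q ∈ Q', q * sa p m r = sa p m r * q := by
    rintro q ⟨c, _, rfl⟩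
    exact (Subgroup.mem_centralizer_iff.1 c.2 (sa p m r) rfl).symm
  have hQpow : ∀ q ∈ Q', ∃ k : ℕ, q ^ p ^ k = 1 := by
    intro q hq
    obtain ⟨k, hk⟩ := hQp ⟨q, hq⟩
    exact ⟨k, congrArg Subtype.val hk⟩
  have hQA : Q' ≤ alternatingGroup (Al p m r) := by
    intro q hq
    obtain ⟨k, hk⟩ := hQpow q hq
    rw [Perm.mem_alternatingGroup]
    have h1 : Perm.sign q ^ p ^ k = 1 := by rw [← map_pow, hk, map_one]
    rcases Int.units_eq_one_or (Perm.sign q) with h | h
    · exact h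
    · rw [h, (hodd.pow).neg_one_pow] at h1
      exact absurd h1 (by decide)
  have hQi : ¬ p ∣ Q'.index := by
    rw [hQ', Subgroup.index_map_subtype]
    intro h
    rcases hpf.out.dvd_mul.1 h with h | h
    · exact Q.not_dvd_index h
    · exact index_cent hr h
  set P0 : Subgroup (alternatingGroup (Al p m r)) := Q'.subgroupOf (alternatingGroup (Al p m r)) with hP0
  have hP0p : IsPGroup p P0 := hQp.comap_of_injective _ (Subgroup.subtype_injective _)
  have hP0c : Nat.card P0 = Nat.card Q' := Nat.card_congr (Subgroup.subgroupOfEquivOfLe hQA).toEquiv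
  refine meet_of_index (P0.map MulAut.conj) (hP0p.map _) ?_ ?_
  · have h1 : Nat.card (P0.map MulAut.conj) = Nat.card P0 :=
      (Nat.card_congr (P0.equivMapOfInjective _ hinj).toEquiv).symm
    have h2 := (P0.map (MulAut.conj (G := alternatingGroup (Al p m r)))).card_mul_index
    have h3 : 2 * Nat.card (alternatingGroup (Al p m r)) = Nat.card (Perm (Al p m r)) := by
      have : Nontrivial (Al p m r) := by
        refine ⟨⟨Sum.inl (0, 0), Sum.inl (1, 0), ?_⟩⟩
        intro h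
        exact p01 hp hm (congrArg Prod.fst (Sum.inl_injective h))
      exact two_mul_nat_card_alternatingGroup
    rw [h3, ← Q'.card_mul_index, ← h2, h1, hP0c] at hcard
    have h4 : (P0.map (MulAut.conj (G := alternatingGroup (Al p m r)))).index ∣ Q'.index :=
      Nat.dvd_of_mul_dvd_mul_left Nat.card_pos hcard
    exact fun h => hQi (h.trans h4)
  · obtain ⟨x, hx⟩ := exists_v (p := p) (m := m) (r := r) hp hm
    refine ⟨x, ?_⟩
    rintro y ⟨q, hq, rfl⟩ hy
    rw [← map_mul, ← map_inv, ← map_mul] at hy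
    obtain ⟨q', hq', hqq⟩ := hy
    have h1 : q' = x * q * x⁻¹ := hinj hqq
    have h2 : (q : Perm (Al p m r)) ∈ Q' := hq
    have h3 : (q' : Perm (Al p m r)) ∈ Q' := hq'
    obtain ⟨k, hk⟩ := hQpow _ h2
    have h4 := hQc _ h2
    have h5 := hQc _ h3
    have h6 : (q : Perm (Al p m r)) = 1 := by
      apply rigid_sum hp hm hr h4 ?_ hk
      rw [← hx]
      rw [h1] at h5
      simp only [Subgroup.coe_mul, Subgroup.coe_inv] at h5
      generalize (x : Perm (Al p m r)) = X at h5 ⊢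
      generalize (q : Perm (Al p m r)) = q₀ at h5 ⊢
      calc q₀ * (X⁻¹ * sa p m r * X) = X⁻¹ * ((X * q₀ * X⁻¹) * sa p m r) * X := by group
        _ = X⁻¹ * (sa p m r * (X * q₀ * X⁻¹)) * X := by rw [h5]
        _ = _ := by group
    have h7 : q = 1 := Subtype.ext h6
    rw [h7, map_one]

theorem center_alt {n : ℕ} (hn : 5 ≤ n) : Subgroup.center (alternatingGroup (Fin n)) = ⊥ :=
  alternatingGroup.center_eq_bot (by rw [Nat.card_eq_fintype_card, Fintype.card_fin]; omega)

theorem conj_inj {G : Type*} [Group G] (h : Subgroup.center G = ⊥) :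
    Function.Injective (MulAut.conj : G →* MulAut G) := by
  rw [injective_iff_map_eq_one]
  intro g hg
  have h1 : g ∈ Subgroup.center G := by
    rw [Subgroup.mem_center_iff]
    intro a
    have h2 := congrArg (fun f : MulAut G => f a) hg
    simp only [MulAut.conj_apply, MulAut.one_apply] at h2
    exact (mul_inv_eq_iff_eq_mul.1 h2).symm
  rw [h] at h1
  simpa using h1

theorem meet_alt {p n : ℕ} [Fact p.Prime] (hp : 5 ≤ p) (hn : 5 ≤ n) :
    Cfsg.Agent.H903.SylMeet.Meet p (alternatingGroup (Fin n)) := by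
  have hs : IsSimpleGroup (alternatingGroup (Fin n)) :=
    alternatingGroup.isSimpleGroup (by rw [Nat.card_eq_fintype_card, Fintype.card_fin]; exact hn)
  have hc := center_alt hn
  have hnc : ¬ IsMulCommutative (alternatingGroup (Fin n)) := by
    intro h
    have h4 : ∀ a b : alternatingGroup (Fin n), a * b = b * a := fun a b => h.is_comm.comm a b
    obtain ⟨a, ha⟩ := exists_ne (1 : alternatingGroup (Fin n))
    have h5 : a ∈ Subgroup.center (alternatingGroup (Fin n)) :=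
      Subgroup.mem_center_iff.2 fun b => h4 b a
    rw [hc] at h5
    exact ha (by simpa using h5)
  rcases lt_or_ge n (p ^ 2) with hlt | hge
  · obtain ⟨P⟩ : Nonempty (Sylow p (MulAut (alternatingGroup (Fin n)))) := inferInstance
    exact meet_of_comm hnc P (Cfsg.Agent.H546.AltSylow.comm_aut hn (by omega) hlt _ P.isPGroup')
  · have hm : p ≤ n / p := by
      rw [Nat.le_div_iff_mul_le (by omega), ← pow_two]; exact hge
    have hr : n % p < p := Nat.mod_lt _ (by omega)
    have : NeZero (n / p) := ⟨by omega⟩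
    have e : Al p (n / p) (n % p) ≃ Fin n := by
      apply Fintype.equivOfCardEq
      rw [card_Al, Fintype.card_fin, Nat.div_add_mod]
    have f : alternatingGroup (Al p (n / p) (n % p)) ≃* alternatingGroup (Fin n) := e.altCongrHom
    refine Meet.congr f (meet_al hp (by omega) hr ?_ ?_)
    · exact Cfsg.Agent.H244.A8.OutTop.card_aut_congr f (Cfsg.Agent.H244.A8.OutTop.card_aut_alt n (by nlinarith only [hp, hge]))
    · apply conj_inj
      rw [eq_bot_iff]
      intro a ha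
      have h1 : f a ∈ Subgroup.center (alternatingGroup (Fin n)) := by
        rw [Subgroup.mem_center_iff] at ha ⊢
        intro b
        obtain ⟨c, rfl⟩ := f.surjective b
        rw [← map_mul, ← map_mul, ha c]
      rw [hc, Subgroup.mem_bot] at h1
      rw [Subgroup.mem_bot]
      exact f.injective (h1.trans (map_one f).symm)

end Cfsg.Agent.H178.MeetAlt
end

-- part: H206/SepSL
section
/-!
# The linear row in cross characteristic (helper206, task 609 for S5762)

Tools shared with the other rows: `Semi.mul`, `Semi.inv`, `Semi.pow`, `Semi.unique`, `lp`, `exists_lp`, `exists_pow_comp`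
(powers with prescribed companion automorphism).
-/

set_option autoImplicit false

namespace Cfsg.Agent.H206.SepCross

open Cfsg.Agent.H903.SylSemi Cfsg.Agent.H903.SylReg Cfsg.Agent.H206.FieldKill

section tools

variable {F : Type*} [Field F] {V : Type*} [AddCommGroup V] [Module F V]

theorem semi_mul {y y' : Equiv.Perm V} {θ θ' : F ≃+* F} (h : Semi F y θ) (h' : Semi F y' θ') :
    Semi F (y * y') (θ * θ') := by
  refine ⟨fun u v => ?_, fun a v => ?_⟩
  · rw [Equiv.Perm.mul_apply, Equiv.Perm.mul_apply, Equiv.Perm.mul_apply, h'.1, h.1]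
  · rw [Equiv.Perm.mul_apply, Equiv.Perm.mul_apply, h'.2, h.2]
    rfl

theorem semi_one : Semi F (1 : Equiv.Perm V) (1 : F ≃+* F) := ⟨fun _ _ => rfl, fun _ _ => rfl⟩

theorem semi_pow {y : Equiv.Perm V} {θ : F ≃+* F} (h : Semi F y θ) (n : ℕ) : Semi F (y ^ n) (θ ^ n) := by
  induction n with
  | zero => exact semi_one
  | succ n ih =>
    rw [pow_succ, pow_succ]
    exact semi_mul ih h

theorem semi_inv {y : Equiv.Perm V} {θ : F ≃+* F} (h : Semi F y θ) : Semi F y⁻¹ θ⁻¹ := by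
  have e : ∀ v, y (y⁻¹ v) = v := fun v => y.apply_symm_apply v
  refine ⟨fun u v => ?_, fun a v => ?_⟩
  · apply y.injective
    rw [h.1, e, e, e]
  · apply y.injective
    rw [h.2, e, e]
    congr 1
    exact (θ.apply_symm_apply a).symm

theorem semi_unique [Nontrivial V] {y : Equiv.Perm V} {θ θ' : F ≃+* F} (h : Semi F y θ) (h' : Semi F y θ') :
    θ = θ' := by
  obtain ⟨v, hv⟩ := exists_ne (0 : V)
  have h0 : y 0 = 0 := by
    have := h.1 0 0
    rw [add_zero] at this
    exact left_eq_add.1 this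
  have hyv : y v ≠ 0 := by
    intro h1
    rw [← h0] at h1
    exact hv (y.injective h1)
  ext a
  have h1 := (h.2 a v).symm.trans (h'.2 a v)
  exact smul_left_injective F hyv h1

theorem semi_zero {y : Equiv.Perm V} {θ : F ≃+* F} (h : Semi F y θ) : y 0 = 0 := by
  have := h.1 0 0
  rw [add_zero] at this
  exact left_eq_add.1 this

/-- Linear automorphisms as permutations. -/
def lp (F : Type*) [Field F] (V : Type*) [AddCommGroup V] [Module F V] : (V ≃ₗ[F] V) →* Equiv.Perm V where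
  toFun r := r.toEquiv
  map_one' := rfl
  map_mul' _ _ := rfl

theorem lp_injective : Function.Injective (lp F V) := fun _ _ h => LinearEquiv.toEquiv_injective h

theorem exists_lp {y : Equiv.Perm V} (h : Semi F y 1) : ∃ r : V ≃ₗ[F] V, lp F V r = y :=
  ⟨{ y with
      map_add' := h.1
      map_smul' := h.2 }, rfl⟩

theorem lp_smulOfUnit (a : Fˣ) : lp F V (LinearEquiv.smulOfUnit a) = scal F V a := rfl

/-- Powers with a prescribed companion automorphism of order `p`. -/
theorem exists_pow_comp [Finite F] [Nontrivial V] {p : ℕ} [Fact p.Prime] {Γ : Subgroup (Equiv.Perm V)}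
    (hΓ : IsPGroup p Γ) {y : Equiv.Perm V} (hy : y ∈ Γ) {θ : F ≃+* F} (hθ : Semi F y θ) (h1 : θ ≠ 1)
    {τ : F ≃+* F} (hτ : orderOf τ = p) : ∃ m : ℕ, Semi F (y ^ m) τ := by
  have hcyc : IsCyclic (F ≃+* F) := isCyclic_aut F
  have hfin : Finite (F ≃+* F) := DFunLike.finite _
  obtain ⟨k, hk⟩ := hΓ ⟨y, hy⟩
  have hk' : y ^ p ^ k = 1 := congrArg Subtype.val hk
  have h2 : θ ^ p ^ k = 1 := by
    have h3 := semi_pow hθ (p ^ k)
    rw [hk'] at h3
    exact semi_unique h3 semi_one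
  obtain ⟨j, -, hj⟩ := (Nat.dvd_prime_pow Fact.out).1 (orderOf_dvd_of_pow_eq_one h2)
  have h3 : p ∣ orderOf θ := by
    rw [hj]
    apply dvd_pow_self
    rintro rfl
    rw [pow_zero, orderOf_eq_one_iff] at hj
    exact h1 hj
  obtain ⟨m, hm⟩ := exists_pow_eq hτ h3
  exact ⟨m, hm ▸ semi_pow hθ m⟩

/-- The companion automorphism of an element of a `p`-group is trivial if there is no automorphism of order `p`. -/
theorem comp_eq_one [Nontrivial V] [Finite F] {p : ℕ} [Fact p.Prime] {Γ : Subgroup (Equiv.Perm V)}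
    (hΓ : IsPGroup p Γ) {y : Equiv.Perm V} (hy : y ∈ Γ) {θ : F ≃+* F} (hθ : Semi F y θ)
    (hno : ∀ τ : F ≃+* F, orderOf τ ≠ p) : θ = 1 := by
  have hfin : Finite (F ≃+* F) := DFunLike.finite _
  obtain ⟨k, hk⟩ := hΓ ⟨y, hy⟩
  have hk' : y ^ p ^ k = 1 := congrArg Subtype.val hk
  have h2 : θ ^ p ^ k = 1 := by
    have h3 := semi_pow hθ (p ^ k)
    rw [hk'] at h3
    exact semi_unique h3 semi_one
  by_contra h1
  obtain ⟨j, -, hj⟩ := (Nat.dvd_prime_pow Fact.out).1 (orderOf_dvd_of_pow_eq_one h2)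
  obtain ⟨j, rfl⟩ : ∃ i, j = i + 1 := by
    rcases j with _ | j
    · rw [pow_zero, orderOf_eq_one_iff] at hj
      exact absurd hj h1
    · exact ⟨j, rfl⟩
  apply hno (θ ^ p ^ j)
  have hp : 0 < p := (Fact.out : p.Prime).pos
  rw [orderOf_pow_of_dvd (pow_ne_zero _ hp.ne') (by rw [hj]; exact pow_dvd_pow _ (by omega)), hj, pow_succ,
    Nat.mul_div_cancel_left _ (pow_pos hp _)]

end tools

section linear

variable {F : Type*} [Field F] {V : Type*} [AddCommGroup V] [Module F V]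

/-- The transvection `x ↦ x + c φ(x) v`. -/
def tv {φ : Module.Dual F V} {v : V} (h : φ v = 0) (c : F) : V ≃ₗ[F] V :=
  LinearEquiv.transvection (f := c • φ) (v := v) (by rw [LinearMap.smul_apply, h, smul_zero])

theorem tv_apply {φ : Module.Dual F V} {v : V} (h : φ v = 0) (c : F) (x : V) :
    tv h c x = x + (c * φ x) • v := rfl

theorem comm_conseq {φ : Module.Dual F V} {v : V} (h : φ v = 0) (hφ : φ ≠ 0) (hv : v ≠ 0) {c : F} (hc : c ≠ 0)
    {y : Equiv.Perm V} {θ : F ≃+* F} (hy : Semi F y θ) (hg : lp F V (tv h c) * y = y * lp F V (tv h c)) :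
    ∃ t : F, t ≠ 0 ∧ y v = t • v ∧ ∀ x, c * φ (y x) = θ c * t * θ (φ x) := by
  have h1 : ∀ x, (c * φ (y x)) • v = θ (c * φ x) • y v := by
    intro x
    have h2 := congrArg (fun z : Equiv.Perm V => z x) hg
    change tv h c (y x) = y (tv h c x) at h2
    rw [tv_apply, tv_apply, hy.1, hy.2] at h2
    exact add_left_cancel h2
  obtain ⟨x₀, hx₀⟩ : ∃ x, φ x = 1 := by
    obtain ⟨x, hx⟩ : ∃ x, φ x ≠ 0 := by
      by_contra hcon
      push Not at hcon
      exact hφ (LinearMap.ext hcon)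
    exact ⟨(φ x)⁻¹ • x, by rw [map_smul, smul_eq_mul, inv_mul_cancel₀ hx]⟩
  have hθc : θ c ≠ 0 := by simpa using hc
  have h3 := h1 x₀
  rw [hx₀, mul_one] at h3
  have hyv : y v = ((θ c)⁻¹ * (c * φ (y x₀))) • v := by
    rw [mul_smul, h3, smul_smul, inv_mul_cancel₀ hθc, one_smul]
  have hyv0 : y v ≠ 0 := by
    intro h4
    rw [← semi_zero hy] at h4
    exact hv (y.injective h4)
  refine ⟨(θ c)⁻¹ * (c * φ (y x₀)), ?_, hyv, fun x => ?_⟩
  · intro h4
    rw [h4, zero_smul] at hyv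
    exact hyv0 hyv
  · have h4 := h1 x
    rw [hyv, smul_smul] at h4
    have h5 := smul_left_injective F hv h4
    beta_reduce at h5
    rw [h5, map_mul]
    ring

theorem key [Finite V] {p : ℕ} [Fact p.Prime] (h3 : 3 ≤ Module.finrank F V) {Γ : Subgroup (Equiv.Perm V)}
    (hΓ : IsPGroup p Γ) (hsc : ∀ a : Fˣ, (∃ k : ℕ, a ^ p ^ k = 1) → scal F V a ∈ Γ)
    {R : Subgroup (V ≃ₗ[F] V)} (hR : ∀ r, r ∈ R ↔ lp F V r ∈ Γ) {v : V} {φ : Module.Dual F V} (hv : v ≠ 0)
    (hφ : φ ≠ 0) (h : φ v = 0) (hA : Avoid R v) (hD : AvoidDual R φ) {c : F} (hc : c ≠ 0) {y : Equiv.Perm V}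
    {θ : F ≃+* F} (hy : y ∈ Γ) (hθ : Semi F y θ) {a : Fˣ}
    (ha : scal F V a * (lp F V (tv h c) * y * (lp F V (tv h c))⁻¹) ∈ Γ) :
    lp F V (tv h c) * y = y * lp F V (tv h c) := by
  have hfin : Module.Finite F V := Module.finite_of_finrank_pos (by omega)
  have eyy : ∀ x, y (y⁻¹ x) = x := fun x => y.apply_symm_apply x
  have eyy' : ∀ x, y⁻¹ (y x) = x := fun x => y.symm_apply_apply x
  set G : V ≃ₗ[F] V := tv h c with hG
  -- the conjugate functional
  have hinv := semi_inv hθ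
  have eθ : ∀ a, θ (θ⁻¹ a) = a := fun a => θ.apply_symm_apply a
  let φ' : Module.Dual F V :=
    { toFun := fun x => θ (φ (y⁻¹ x))
      map_add' := fun x z => by rw [hinv.1, map_add, map_add]
      map_smul' := fun t x => by
        rw [hinv.2, map_smul, smul_eq_mul, map_mul, eθ]
        rfl }
  have hφ' : ∀ x, φ' x = θ (φ (y⁻¹ x)) := fun _ => rfl
  set v' := y v with hv'
  have h' : φ' v' = 0 := by rw [hφ', hv', eyy', h, map_zero]
  set G' : V ≃ₗ[F] V := tv h' (θ c) with hG'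
  have hGG : lp F V G' = y * lp F V G * y⁻¹ := by
    ext x
    change G' x = y (G (y⁻¹ x))
    rw [hG', hG, tv_apply, tv_apply, hθ.1, hθ.2, eyy, hφ', map_mul]
  set Z : V ≃ₗ[F] V := G * G'⁻¹ with hZ
  have hlZ : lp F V Z = lp F V G * y * (lp F V G)⁻¹ * y⁻¹ := by
    rw [hZ, map_mul, map_inv, hGG]
    group
  set w : V ≃ₗ[F] V := LinearEquiv.smulOfUnit a * Z with hw
  have hwΓ : lp F V w ∈ Γ := by
    rw [hw, map_mul, lp_smulOfUnit, hlZ]
    have := Γ.mul_mem ha (Γ.inv_mem hy)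
    rwa [mul_assoc] at this
  -- a fixed vector of `Z`
  obtain ⟨x₀, hx0, hx1, hx2⟩ : ∃ x, x ≠ 0 ∧ φ x = 0 ∧ φ' x = 0 := by
    have h4 : LinearMap.ker (LinearMap.prod φ φ') ≠ ⊥ := by
      apply LinearMap.ker_ne_bot_of_finrank_lt
      rw [Module.finrank_prod, Module.finrank_self]
      omega
    obtain ⟨x, hx, hx0⟩ := Submodule.exists_mem_ne_zero_of_ne_bot h4
    rw [LinearMap.ker_prod, Submodule.mem_inf] at hx
    exact ⟨x, hx0, hx.1, hx.2⟩
  have hG'x : G' x₀ = x₀ := by rw [hG', tv_apply, hx2, mul_zero, zero_smul, add_zero]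
  have hGx : G x₀ = x₀ := by rw [hG, tv_apply, hx1, mul_zero, zero_smul, add_zero]
  have hZx : Z x₀ = x₀ := by
    have h4 : G'⁻¹ x₀ = x₀ := by
      nth_rw 1 [← hG'x]
      exact G'.symm_apply_apply x₀
    change G (G'⁻¹ x₀) = x₀
    rw [h4, hGx]
  have hwx : w x₀ = (a : F) • x₀ := by
    change (LinearEquiv.smulOfUnit a : V ≃ₗ[F] V) (Z x₀) = _
    rw [hZx]
    rfl
  have hwpow : ∀ n : ℕ, (w ^ n) x₀ = ((a : F) ^ n) • x₀ := by
    intro n
    induction n with
    | zero => rw [pow_zero, pow_zero, one_smul]; rfl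
    | succ n ih =>
      rw [pow_succ]
      change (w ^ n) (w x₀) = _
      rw [hwx, map_smul, ih, smul_smul, pow_succ, mul_comm]
  have haΓ : scal F V a ∈ Γ := by
    apply hsc
    obtain ⟨k, hk⟩ := hΓ ⟨_, hwΓ⟩
    refine ⟨k, Units.ext ?_⟩
    have h4 : lp F V (w ^ p ^ k) = 1 := by
      rw [map_pow]
      exact congrArg Subtype.val hk
    have h5 : w ^ p ^ k = 1 := lp_injective (h4.trans (map_one _).symm)
    have h6 := hwpow (p ^ k)
    rw [h5] at h6
    have h7 : (1 : F) • x₀ = ((a : F) ^ p ^ k) • x₀ := by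
      rw [one_smul]
      exact h6
    have h8 := smul_left_injective F hx0 h7
    rw [Units.val_pow_eq_pow_val, Units.val_one]
    exact h8.symm
  have hZR : Z ∈ R := by
    rw [hR]
    have h4 : lp F V Z = (scal F V a)⁻¹ * lp F V w := by
      rw [hw, map_mul (lp F V) (LinearEquiv.smulOfUnit a) Z, lp_smulOfUnit, inv_mul_cancel_left]
    rw [h4]
    exact Γ.mul_mem (Γ.inv_mem haΓ) hwΓ
  have hdiff : ∀ x, Z (G' x) - G' x = (c * φ x) • v - (θ c * φ' x) • v' := by
    intro x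
    have h4 : Z (G' x) = G x := by
      change G (G'⁻¹ (G' x)) = G x
      congr 1
      exact G'.symm_apply_apply x
    rw [h4, hG, hG', tv_apply, tv_apply]
    abel
  have hmem : ∀ x, (c * φ x) • v - (θ c * φ' x) • v' ∈ com Z := by
    intro x
    rw [← hdiff]
    exact ⟨G' x, rfl⟩
  have hle : Module.finrank F (com Z) ≤ 2 := by
    have h4 : com Z ≤ Submodule.span F (Set.range ![v, v']) := by
      rintro _ ⟨x, rfl⟩
      obtain ⟨x, rfl⟩ := G'.surjective x
      change Z (G' x) - G' x ∈ _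
      rw [hdiff]
      exact sub_mem (Submodule.smul_mem _ _ (Submodule.subset_span ⟨0, rfl⟩))
        (Submodule.smul_mem _ _ (Submodule.subset_span ⟨1, rfl⟩))
    calc Module.finrank F (com Z) ≤ Module.finrank F (Submodule.span F (Set.range ![v, v'])) :=
          Submodule.finrank_mono h4
      _ ≤ Fintype.card (Fin 2) := finrank_range_le_card _
      _ = 2 := Fintype.card_fin 2
  have hfinal : Z = 1 := by
    by_contra hZ1
    have hvn : v ∉ com Z := fun h4 => by
      have := hA Z hZR hZ1 h4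
      omega
    have hψn : ¬ ∃ ψ : Module.Dual F V, ∀ x, φ x = ψ (Z x - x) := fun h4 => by
      have := hD Z hZR hZ1 h4
      omega
    by_cases hcase : ∃ u, φ' u = 0 ∧ φ u ≠ 0
    · obtain ⟨u, hu1, hu2⟩ := hcase
      apply hvn
      have h4 := hmem u
      rw [hu1, mul_zero, zero_smul, sub_zero] at h4
      exact (Submodule.smul_mem_iff _ (mul_ne_zero hc hu2)).1 h4
    · push Not at hcase
      obtain ⟨u₀, hu₀⟩ : ∃ u, φ u ≠ 0 := by
        by_contra hcon
        push Not at hcon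
        exact hφ (LinearMap.ext hcon)
      have hu₀' : φ' u₀ ≠ 0 := fun h4 => hu₀ (hcase u₀ h4)
      have hprop : ∀ x, φ x = (φ u₀ / φ' u₀) * φ' x := by
        intro x
        have h4 := hcase (x - (φ' x / φ' u₀) • u₀) (by
          rw [map_sub, map_smul, smul_eq_mul, div_mul_cancel₀ _ hu₀', sub_self])
        rw [map_sub, map_smul, smul_eq_mul, sub_eq_zero] at h4
        rw [h4]
        ring
      by_cases hsp : v' ∈ Submodule.span F {v}
      · obtain ⟨t, ht⟩ := Submodule.mem_span_singleton.1 hsp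
        apply hZ1
        apply LinearEquiv.ext
        intro x
        obtain ⟨x, rfl⟩ := G'.surjective x
        have h4 := hdiff x
        have h5 := hmem x
        rw [← ht, smul_smul, ← sub_smul] at h4 h5
        by_cases h6 : c * φ x - θ c * φ' x * t = 0
        · rw [h6, zero_smul] at h4
          exact sub_eq_zero.1 h4
        · exact absurd ((Submodule.smul_mem_iff _ h6).1 h5) hvn
      · apply hψn
        have hvs : v ∉ Submodule.span F {v'} := by
          intro h4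
          obtain ⟨t, ht⟩ := Submodule.mem_span_singleton.1 h4
          apply hsp
          have ht0 : t ≠ 0 := by
            rintro rfl
            rw [zero_smul] at ht
            exact hv ht.symm
          exact Submodule.mem_span_singleton.2 ⟨t⁻¹, by rw [← ht, smul_smul, inv_mul_cancel₀ ht0, one_smul]⟩
        obtain ⟨f, hf1, hf2⟩ := Submodule.exists_le_ker_of_notMem hvs
        have hf3 : f v' = 0 := hf2 (Submodule.mem_span_singleton_self v')
        refine ⟨(c⁻¹ * (f v)⁻¹) • f, fun x => ?_⟩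
        obtain ⟨x, rfl⟩ := G'.surjective x
        rw [hdiff, LinearMap.smul_apply, map_sub, map_smul, map_smul, hf3, smul_zero, sub_zero, smul_eq_mul,
          smul_eq_mul]
        have h4 : φ (G' x) = φ x := by
          rw [hprop, hprop x, hG', tv_apply, map_add, map_smul, h', smul_zero, add_zero]
        rw [h4]
        field_simp
  rw [hfinal, map_one] at hlZ
  have h4 : lp F V G * y = y * lp F V G := by
    have h5 : lp F V G * y * (lp F V G)⁻¹ * y⁻¹ * y * lp F V G = y * lp F V G := by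
      rw [← hlZ, one_mul]
    rw [inv_mul_cancel_right, inv_mul_cancel_right] at h5
    exact h5
  exact h4

theorem lin_scalar {p : ℕ} [Fact p.Prime] {Γ : Subgroup (Equiv.Perm V)}
    (hΓ : IsPGroup p Γ) (hsc : ∀ a : Fˣ, (∃ k : ℕ, a ^ p ^ k = 1) → scal F V a ∈ Γ)
    {R : Subgroup (V ≃ₗ[F] V)} (hR : ∀ r, r ∈ R ↔ lp F V r ∈ Γ) {v : V} {φ : Module.Dual F V} (hv : v ≠ 0)
    (hφ : φ ≠ 0) (h : φ v = 0) (hreg : ∀ r ∈ R, r v = v → (∀ x, φ (r x) = φ x) → r = 1) {c : F} (hc : c ≠ 0)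
    {y : Equiv.Perm V} (hy : y ∈ Γ) (hθ : Semi F y (1 : F ≃+* F))
    (hg : lp F V (tv h c) * y = y * lp F V (tv h c)) : ∃ b : Fˣ, y = scal F V b := by
  obtain ⟨t, ht0, hyv, hφy⟩ := comm_conseq h hφ hv hc hθ hg
  have hφy' : ∀ x, φ (y x) = t * φ x := by
    intro x
    have h1 := hφy x
    have e : ∀ a : F, (1 : F ≃+* F) a = a := fun _ => rfl
    rw [e, e, mul_assoc] at h1
    exact mul_left_cancel₀ hc h1
  obtain ⟨r, rfl⟩ := exists_lp hθ
  have hpow : ∀ n : ℕ, (r ^ n) v = t ^ n • v := by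
    intro n
    induction n with
    | zero => rw [pow_zero, pow_zero, one_smul]; rfl
    | succ n ih =>
      rw [pow_succ]
      change (r ^ n) (r v) = _
      have h1 : r v = t • v := hyv
      rw [h1, map_smul, ih, smul_smul, pow_succ, mul_comm]
  obtain ⟨k, hk⟩ := hΓ ⟨_, hy⟩
  have h4 : lp F V (r ^ p ^ k) = 1 := by
    rw [map_pow]
    exact congrArg Subtype.val hk
  have h5 : r ^ p ^ k = 1 := lp_injective (h4.trans (map_one _).symm)
  have h6 := hpow (p ^ k)
  rw [h5] at h6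
  have h7 : (1 : F) • v = (t ^ p ^ k) • v := by
    rw [one_smul]
    exact h6
  have h8 : t ^ p ^ k = 1 := (smul_left_injective F hv h7).symm
  set b : Fˣ := Units.mk0 t ht0 with hb
  have hbΓ : scal F V b ∈ Γ := hsc b ⟨k, Units.ext (by rw [Units.val_pow_eq_pow_val, hb, Units.val_mk0, h8]; rfl)⟩
  have hr : LinearEquiv.smulOfUnit b⁻¹ * r ∈ R := by
    rw [hR, map_mul, lp_smulOfUnit, map_inv]
    exact Γ.mul_mem (Γ.inv_mem hbΓ) hy
  have h9 := hreg _ hr (by
    change ((b⁻¹ : Fˣ) : F) • r v = v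
    have h1 : r v = t • v := hyv
    rw [h1, smul_smul, Units.val_inv_eq_inv_val, hb, Units.val_mk0, inv_mul_cancel₀ ht0, one_smul]) (by
    intro x
    change φ (((b⁻¹ : Fˣ) : F) • r x) = φ x
    have h1 : φ (r x) = t * φ x := hφy' x
    rw [map_smul, h1, smul_eq_mul, ← mul_assoc, Units.val_inv_eq_inv_val, hb, Units.val_mk0,
      inv_mul_cancel₀ ht0, one_mul])
  refine ⟨b, ?_⟩
  have h10 : r = LinearEquiv.smulOfUnit b := by
    apply LinearEquiv.ext
    intro x
    have h11 := congrArg (fun z : V ≃ₗ[F] V => z x) h9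
    change ((b⁻¹ : Fˣ) : F) • r x = x at h11
    change r x = (b : F) • x
    have h12 := congrArg (fun z : V => (b : F) • z) h11
    beta_reduce at h12
    rw [smul_smul, Units.val_inv_eq_inv_val, mul_inv_cancel₀ b.ne_zero, one_smul] at h12
    exact h12
  rw [h10, lp_smulOfUnit]

theorem isSL_tv [Finite V] {φ : Module.Dual F V} {v : V} (h : φ v = 0) (c : F) :
    IsSLMap F V (lp F V (tv h c)) := by
  have _ : Module.Finite F V := Module.Finite.of_finite
  refine ⟨LinearMap.transvection (c • φ) v, fun _ => rfl, ?_⟩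
  rw [LinearMap.transvection.det, LinearMap.smul_apply, h, smul_zero, add_zero]

/-- **Task 609.** -/
theorem sepSL_cross {p : ℕ} [Fact p.Prime] (hp : 5 ≤ p) {F : Type*} [Field F] [Finite F] (hpF : (p : F) ≠ 0)
    {V : Type*} [AddCommGroup V] [Module F V] [Finite V] (h3 : 3 ≤ Module.finrank F V)
    (hreg : Cfsg.Agent.H903.SylReg.RegSL p F V) : Cfsg.Agent.H903.SylSemi.SepSL p F V := by
  intro Γ hΓ hY hsc
  have hnt : Nontrivial V := Module.nontrivial_of_finrank_pos (R := F) (by omega)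
  let R : Subgroup (V ≃ₗ[F] V) := Γ.comap (lp F V)
  have hR : ∀ r, r ∈ R ↔ lp F V r ∈ Γ := fun _ => Iff.rfl
  obtain ⟨v, φ, hv, hφ, h, hr, hA, hD⟩ := hreg R (by
    rintro ⟨r, hr⟩
    obtain ⟨k, hk⟩ := hΓ ⟨_, hr⟩
    refine ⟨k, Subtype.ext ?_⟩
    have h4 : lp F V (r ^ p ^ k) = 1 := by
      rw [map_pow]
      exact congrArg Subtype.val hk
    exact lp_injective (h4.trans (map_one _).symm)) (fun a ha => by
    rw [hR, lp_smulOfUnit]
    exact hsc a ha)
  by_contra hcon
  have main : ∀ c : F, c ≠ 0 → ∃ y ∈ Γ, ∃ θ : F ≃+* F, Semi F y θ ∧ θ ≠ 1 ∧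
      lp F V (tv h c) * y = y * lp F V (tv h c) := by
    intro c hc
    by_contra hc2
    apply hcon
    refine ⟨lp F V (tv h c), isSL_tv h c, fun y hy ha => ?_⟩
    obtain ⟨a, ha⟩ := ha
    obtain ⟨θ, hθ⟩ := hY y hy
    have hk := key h3 hΓ hsc hR hv hφ h hA hD hc hy hθ ha
    by_cases h1 : θ = 1
    · subst h1
      exact lin_scalar hΓ hsc hR hv hφ h hr hc hy hθ hk
    · exact absurd ⟨y, hy, θ, hθ, h1, hk⟩ hc2
  by_cases hno : ∃ τ : F ≃+* F, orderOf τ = p
  · obtain ⟨τ, hτ⟩ := hno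
    obtain ⟨u, hu⟩ := field_kill (by omega) hpF τ hτ
    obtain ⟨y₁, hy₁, θ₁, hθ₁, hn₁, hg₁⟩ := main 1 one_ne_zero
    obtain ⟨y₂, hy₂, θ₂, hθ₂, hn₂, hg₂⟩ := main u u.ne_zero
    obtain ⟨m₁, hm₁⟩ := exists_pow_comp hΓ hy₁ hθ₁ hn₁ hτ
    obtain ⟨m₂, hm₂⟩ := exists_pow_comp hΓ hy₂ hθ₂ hn₂ hτ
    have hc₁ : lp F V (tv h 1) * y₁ ^ m₁ = y₁ ^ m₁ * lp F V (tv h 1) := (Commute.pow_right hg₁ m₁)
    have hc₂ : lp F V (tv h (u : F)) * y₂ ^ m₂ = y₂ ^ m₂ * lp F V (tv h (u : F)) := (Commute.pow_right hg₂ m₂)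
    obtain ⟨t₁, ht₁, hv₁, hφ₁⟩ := comm_conseq h hφ hv one_ne_zero hm₁ hc₁
    obtain ⟨t₂, ht₂, hv₂, hφ₂⟩ := comm_conseq h hφ hv u.ne_zero hm₂ hc₂
    set z₁ := y₁ ^ m₁ with hz₁
    set z₂ := y₂ ^ m₂ with hz₂
    have hwΓ : z₂ * z₁⁻¹ ∈ Γ := Γ.mul_mem (Γ.pow_mem hy₂ _) (Γ.inv_mem (Γ.pow_mem hy₁ _))
    have hwS : Semi F (z₂ * z₁⁻¹) (1 : F ≃+* F) := by
      have := semi_mul hm₂ (semi_inv hm₁)
      rwa [mul_inv_cancel] at this
    obtain ⟨w, hw⟩ := exists_lp hwS
    obtain ⟨k, hk⟩ := hΓ ⟨_, hwΓ⟩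
    have h4 : lp F V (w ^ p ^ k) = 1 := by
      rw [map_pow, hw]
      exact congrArg Subtype.val hk
    have h5 : w ^ p ^ k = 1 := lp_injective (h4.trans (map_one _).symm)
    have hw1 : ∀ x, w (z₁ x) = z₂ x := by
      intro x
      have h6 : lp F V w (z₁ x) = (z₂ * z₁⁻¹) (z₁ x) := by rw [hw]
      rw [Equiv.Perm.mul_apply] at h6
      have h7 : z₁⁻¹ (z₁ x) = x := z₁.symm_apply_apply x
      rw [h7] at h6
      exact h6
    have hwv : w v = (t₂ * t₁⁻¹) • v := by
      have h6 := hw1 v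
      rw [hv₁, hv₂, map_smul] at h6
      rw [mul_comm, mul_smul, ← h6, smul_smul, inv_mul_cancel₀ ht₁, one_smul]
    have hu0 := u.ne_zero
    have hwφ : ∀ x, φ (w x) = (τ u / u * (t₂ * t₁⁻¹)) * φ x := by
      intro x
      obtain ⟨x, rfl⟩ := z₁.surjective x
      have h6 := hφ₁ x
      have h7 := hφ₂ x
      rw [hw1]
      rw [one_mul, map_one, one_mul] at h6
      rw [h6]
      have h8 : φ (z₂ x) = (u : F)⁻¹ * (τ u * t₂ * τ (φ x)) := by
        rw [← h7, ← mul_assoc, inv_mul_cancel₀ hu0, one_mul]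
      rw [h8]
      field_simp
    have hpow : ∀ n : ℕ, (w ^ n) v = (t₂ * t₁⁻¹) ^ n • v := by
      intro n
      induction n with
      | zero => rw [pow_zero, pow_zero, one_smul]; rfl
      | succ n ih =>
        rw [pow_succ]
        change (w ^ n) (w v) = _
        rw [hwv, map_smul, ih, smul_smul, pow_succ, mul_comm]
    have hpow2 : ∀ n : ℕ, ∀ x, φ ((w ^ n) x) = (τ u / u * (t₂ * t₁⁻¹)) ^ n * φ x := by
      intro n
      induction n with
      | zero =>
        intro x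
        rw [pow_zero, pow_zero, one_mul]
        rfl
      | succ n ih =>
        intro x
        rw [pow_succ]
        change φ ((w ^ n) (w x)) = _
        rw [ih, hwφ, pow_succ]
        ring
    have e1 : (t₂ * t₁⁻¹) ^ p ^ k = 1 := by
      have h6 := hpow (p ^ k)
      rw [h5] at h6
      have h7 : (1 : F) • v = ((t₂ * t₁⁻¹) ^ p ^ k) • v := by
        rw [one_smul]
        exact h6
      exact (smul_left_injective F hv h7).symm
    have e2 : (τ u / u * (t₂ * t₁⁻¹)) ^ p ^ k = 1 := by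
      obtain ⟨x, hx⟩ : ∃ x, φ x ≠ 0 := by
        by_contra hcon
        push Not at hcon
        exact hφ (LinearMap.ext hcon)
      have h6 := hpow2 (p ^ k) x
      rw [h5] at h6
      have h7 : (1 : F) * φ x = (τ u / u * (t₂ * t₁⁻¹)) ^ p ^ k * φ x := by
        rw [one_mul]
        exact h6
      exact (mul_right_cancel₀ hx h7).symm
    rw [mul_pow, e1, mul_one] at e2
    apply hu k
    rw [← inv_div, inv_pow, e2, inv_one]
  · push Not at hno
    obtain ⟨y, hy, θ, hθ, hn, -⟩ := main 1 one_ne_zero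
    exact hn (comp_eq_one hΓ hy hθ hno)

end linear

end Cfsg.Agent.H206.SepCross
end

-- part: H458/SepCore
section
/-!
# Separation of `p`-groups of semisimilarities by transvections (helper458, for S5762)

`h` is a non-degenerate `σ`-sesquilinear form on `E` with `h y x = ε σ (h x y)`, `v` an isotropic vector,
`T c : x ↦ x + c h(x,v) v`. `core`: if `v` is regular for the linear isometries in the `p`-group `Γ` of semisimilarities and
avoids the small commutator spaces, then some `T c`, `σ c + ε c = 0`, separates `Γ` (given the field kill).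
-/

set_option autoImplicit false
set_option linter.unusedSectionVars false

namespace Cfsg.Agent.H458.SepCore

open Cfsg.Agent.H903.SylSemi Cfsg.Agent.H903.SylReg

variable {F E : Type*} [Field F] [AddCommGroup E] [Module F E]

/-- non-degenerate `σ`-sesquilinear `ε`-hermitian form -/
structure Herm (σ : F ≃+* F) (ε : F) (h : E → E → F) : Prop where
  sig : ∀ a, σ (σ a) = a
  add : ∀ x y z, h (x + y) z = h x z + h y z
  smul : ∀ a x y, h (a • x) y = a * h x y
  herm : ∀ x y, h y x = ε * σ (h x y)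
  nd : ∀ x, (∀ y, h x y = 0) → x = 0

namespace Herm

variable {σ : F ≃+* F} {ε : F} {h : E → E → F} (H : Herm σ ε h)

include H

theorem add' (x y z : E) : h x (y + z) = h x y + h x z := by
  rw [H.herm (y + z) x, H.herm y x, H.herm z x, H.add, map_add, mul_add]

theorem smul' (a : F) (x y : E) : h x (a • y) = σ a * h x y := by
  rw [H.herm (a • y) x, H.herm y x, H.smul, map_mul]
  ring

theorem exists_ne {v : E} (hv : v ≠ 0) : ∃ x, h x v ≠ 0 := by
  by_contra hc
  push Not at hc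
  apply hv
  apply H.nd
  intro y
  rw [H.herm y v, hc, map_zero, mul_zero]

/-- the functional `h(·, v)` -/
def fn (v : E) : E →ₗ[F] F where
  toFun x := h x v
  map_add' x y := H.add x y v
  map_smul' a x := H.smul a x v

/-- the transvection -/
def T {v : E} (hv : h v v = 0) (c : F) : E ≃ₗ[F] E where
  toFun x := x + (c * h x v) • v
  invFun x := x + (-c * h x v) • v
  map_add' x y := by
    rw [H.add, mul_add, add_smul]
    abel
  map_smul' a x := by
    rw [H.smul, smul_add, smul_smul, RingHom.id_apply]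
    congr 2
    ring
  left_inv x := by
    show x + (c * h x v) • v + (-c * h (x + (c * h x v) • v) v) • v = x
    rw [H.add, H.smul, hv, mul_zero, add_zero, add_assoc, ← add_smul]
    rw [show c * h x v + -c * h x v = 0 by ring, zero_smul, add_zero]
  right_inv x := by
    show x + (-c * h x v) • v + (c * h (x + (-c * h x v) • v) v) • v = x
    rw [H.add, H.smul, hv, mul_zero, add_zero, add_assoc, ← add_smul]
    rw [show -c * h x v + c * h x v = 0 by ring, zero_smul, add_zero]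

theorem T_apply {v : E} (hv : h v v = 0) (c : F) (x : E) : H.T hv c x = x + (c * h x v) • v := rfl

theorem T_iso {v : E} (hv : h v v = 0) {c : F} (hc : σ c + ε * c = 0) (x y : E) :
    h (H.T hv c x) (H.T hv c y) = h x y := by
  rw [T_apply, T_apply, H.add, H.smul, H.add', H.add', H.smul', H.smul', hv, mul_zero, add_zero, H.herm y v, map_mul]
  have h1 : h v y = ε * σ (h y v) := H.herm y v
  have h2 : h x v * σ (h y v) * (σ c + ε * c) = 0 := by rw [hc, mul_zero]
  rw [← H.herm y v, h1]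
  linear_combination h2

end Herm

/-- semisimilarity -/
def SS (h : E → E → F) (y : Equiv.Perm E) (θ : F ≃+* F) (τ : F) : Prop :=
  τ ≠ 0 ∧ Semi F y θ ∧ ∀ u w, h (y u) (y w) = τ * θ (h u w)

section ss

variable {h : E → E → F}

theorem SS.mul {y y' : Equiv.Perm E} {θ θ' : F ≃+* F} {τ τ' : F} (H : SS h y θ τ) (H' : SS h y' θ' τ') :
    SS h (y * y') (θ * θ') (τ * θ τ') := by
  obtain ⟨h1, ⟨h2, h3⟩, h4⟩ := H
  obtain ⟨h1', ⟨h2', h3'⟩, h4'⟩ := H'
  refine ⟨mul_ne_zero h1 ((map_ne_zero θ).2 h1'), ⟨fun u w => ?_, fun a w => ?_⟩, fun u w => ?_⟩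
  · rw [Equiv.Perm.mul_apply, h2', h2]; rfl
  · rw [Equiv.Perm.mul_apply, h3', h3]; rfl
  · rw [Equiv.Perm.mul_apply, Equiv.Perm.mul_apply, h4, h4', map_mul, mul_assoc]; rfl

theorem SS.one : SS h (1 : Equiv.Perm E) (1 : F ≃+* F) 1 :=
  ⟨one_ne_zero, ⟨fun _ _ => rfl, fun _ _ => rfl⟩, fun _ _ => (one_mul _).symm⟩

theorem SS.pow {y : Equiv.Perm E} {θ : F ≃+* F} {τ : F} (H : SS h y θ τ) (n : ℕ) : ∃ τ', SS h (y ^ n) (θ ^ n) τ' := by
  induction n with
  | zero => exact ⟨1, SS.one⟩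
  | succ n ih =>
    obtain ⟨τ', h'⟩ := ih
    rw [pow_succ, pow_succ]
    exact ⟨_, h'.mul H⟩

/-- the companion is determined -/
theorem Semi.unique {y : Equiv.Perm E} {θ θ' : F ≃+* F} {v : E} (hv : v ≠ 0) (H : Semi F y θ) (H' : Semi F y θ') : θ = θ' := by
  have h0 : y 0 = 0 := by
    have := H.1 0 0
    rwa [add_zero, left_eq_add] at this
  have hyv : y v ≠ 0 := fun h1 => hv (y.injective (h1.trans h0.symm))
  refine RingEquiv.ext fun a => ?_
  have h1 := H.2 a v
  rw [H'.2 a v] at h1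
  exact (smul_left_injective F hyv h1).symm

end ss

section main

variable {σ : F ≃+* F} {ε : F} {h : E → E → F} (H : Herm σ ε h) {v : E} (hv0 : v ≠ 0) (hvv : h v v = 0)

include H

/-- conjugation of the transvections by a semisimilarity -/
theorem conj_T {y : Equiv.Perm E} {θ : F ≃+* F} {τ : F} (hy : SS h y θ τ) (hvv' : h (y v) (y v) = 0) (c : F) (x : E) :
    y (H.T hvv c x) = H.T hvv' (θ c / τ) (y x) := by
  obtain ⟨h1, ⟨h2, h3⟩, h4⟩ := hy
  rw [H.T_apply, H.T_apply, h2, h3, h4, map_mul]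
  congr 2
  field_simp

include hvv in
theorem iso_conj {y : Equiv.Perm E} {θ : F ≃+* F} {τ : F} (hy : SS h y θ τ) (hvv' : h (y v) (y v) = 0) {c : F}
    (hc : σ c + ε * c = 0) (x x' : E) : h (H.T hvv' (θ c / τ) x) (H.T hvv' (θ c / τ) x') = h x x' := by
  obtain ⟨u, rfl⟩ := y.surjective x
  obtain ⟨u', rfl⟩ := y.surjective x'
  rw [← conj_T H hvv hy, ← conj_T H hvv hy, hy.2.2, H.T_iso hvv hc, hy.2.2]

include hv0 in
/-- commuting with a transvection -/
theorem of_comm {y : Equiv.Perm E} {θ : F ≃+* F} {τ : F} (hy : SS h y θ τ) {c : F} (hc : c ≠ 0)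
    (hcom : ∀ x, y (H.T hvv c x) = H.T hvv c (y x)) : ∃ l : F, l ≠ 0 ∧ y v = l • v ∧ θ c * (l * σ l) = c * τ := by
  obtain ⟨h1, ⟨h2, h3⟩, h4⟩ := hy
  have h0 : y 0 = 0 := by
    have := h2 0 0
    rwa [add_zero, left_eq_add] at this
  have hyv : y v ≠ 0 := fun h1 => hv0 (y.injective (h1.trans h0.symm))
  have hcom' : ∀ x, (θ c * θ (h x v)) • y v = (c * h (y x) v) • v := by
    intro x
    have h5 := hcom x
    rw [H.T_apply, H.T_apply, h2, h3, map_mul] at h5
    exact add_left_cancel h5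
  obtain ⟨x, hx⟩ := H.exists_ne hv0
  have hθc : θ c ≠ 0 := (map_ne_zero θ).2 hc
  have hθx : θ (h x v) ≠ 0 := (map_ne_zero θ).2 hx
  obtain ⟨l, hl⟩ : ∃ l, l = (θ c * θ (h x v))⁻¹ * (c * h (y x) v) := ⟨_, rfl⟩
  have hlv : y v = l • v := by
    rw [hl, mul_smul, ← hcom' x, smul_smul, inv_mul_cancel₀ (mul_ne_zero hθc hθx), one_smul]
  have hl0 : l ≠ 0 := by
    rintro rfl
    rw [zero_smul] at hlv
    exact hyv hlv
  refine ⟨l, hl0, hlv, ?_⟩
  have hσl : σ l ≠ 0 := (map_ne_zero σ).2 hl0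
  have h5 : σ l * h (y x) v = τ * θ (h x v) := by
    rw [← H.smul', ← hlv, h4]
  have h6 := hcom' x
  rw [hlv, smul_smul] at h6
  have h7 : θ c * θ (h x v) * l = c * h (y x) v := smul_left_injective F hv0 h6
  have h8 : θ (h x v) * (θ c * (l * σ l)) = θ (h x v) * (c * τ) := by
    calc θ (h x v) * (θ c * (l * σ l)) = (θ c * θ (h x v) * l) * σ l := by ring
      _ = c * (σ l * h (y x) v) := by rw [h7]; ring
      _ = θ (h x v) * (c * τ) := by rw [h5]; ring
  exact mul_left_cancel₀ hθx h8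

include hv0 in
theorem mem_span_of {w : E} (hw : w ≠ 0) (hvw : ∀ x, h x w = 0 → h x v = 0) : ∃ l : F, w = l • v := by
  obtain ⟨x0, hx0⟩ := H.exists_ne hw
  obtain ⟨μ, hμ⟩ : ∃ μ, μ = h x0 v / h x0 w := ⟨_, rfl⟩
  have h1 : ∀ x, h x v = μ * h x w := by
    intro x
    have h2 : h (x + (-(h x w / h x0 w)) • x0) w = 0 := by
      rw [H.add, H.smul]
      field_simp
      ring
    have h3 := hvw _ h2
    rw [H.add, H.smul] at h3
    rw [hμ]
    have h4 : h x v = h x w / h x0 w * h x0 v := by linear_combination h3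
    rw [h4]
    ring
  have h2 : v + (-σ μ) • w = 0 := by
    apply H.nd
    intro y
    rw [H.herm y, H.add', H.smul', map_neg, H.sig, h1 y]
    rw [show μ * h y w + -μ * h y w = 0 by ring, map_zero, mul_zero]
  have h3 : v = σ μ • w := by
    rw [neg_smul, ← sub_eq_add_neg, sub_eq_zero] at h2
    exact h2
  have hσ : σ μ ≠ 0 := by
    intro h4
    rw [h4, zero_smul] at h3
    exact hv0 h3
  refine ⟨(σ μ)⁻¹, ?_⟩
  rw [h3, smul_smul, inv_mul_cancel₀ hσ, one_smul]

/-- the perm of a linear equivalence -/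
def pr : (E ≃ₗ[F] E) →* Equiv.Perm E where
  toFun r := r.toEquiv
  map_one' := rfl
  map_mul' _ _ := rfl

omit H in
theorem pr_apply (r : E ≃ₗ[F] E) (x : E) : pr r x = r x := rfl

omit H in
theorem pr_injective : Function.Injective (pr (F := F) (E := E)) := fun _ _ hr =>
  LinearEquiv.ext fun x => congrArg (fun g : Equiv.Perm E => g x) hr

variable (Γ : Subgroup (Equiv.Perm E))

/-- the linear isometries in `Γ` -/
def R (h : E → E → F) (Γ : Subgroup (Equiv.Perm E)) : Subgroup (E ≃ₗ[F] E) where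
  carrier := {r | pr r ∈ Γ ∧ ∀ x y, h (r x) (r y) = h x y}
  one_mem' := ⟨by rw [map_one]; exact Γ.one_mem, fun _ _ => rfl⟩
  mul_mem' := by
    rintro a b ⟨h1, h2⟩ ⟨h3, h4⟩
    refine ⟨by rw [map_mul]; exact Γ.mul_mem h1 h3, fun x y => ?_⟩
    rw [LinearEquiv.mul_apply, LinearEquiv.mul_apply, h2, h4]
  inv_mem' := by
    rintro a ⟨h1, h2⟩
    refine ⟨by rw [map_inv]; exact Γ.inv_mem h1, fun x y => ?_⟩
    have e : ∀ w, a (a⁻¹ w) = w := fun w => a.apply_symm_apply w
    rw [← h2, e, e]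

omit H in
theorem mem_R {r : E ≃ₗ[F] E} : r ∈ R h Γ ↔ pr r ∈ Γ ∧ ∀ x y, h (r x) (r y) = h x y := Iff.rfl

omit H in
theorem R_isPGroup {p : ℕ} (hΓ : IsPGroup p Γ) : IsPGroup p (R h Γ) := by
  rintro ⟨r, h1, h2⟩
  obtain ⟨k, hk⟩ := hΓ ⟨pr r, h1⟩
  refine ⟨k, Subtype.ext (pr_injective ?_)⟩
  have := congrArg Subtype.val hk
  rw [SubmonoidClass.coe_pow] at this ⊢
  rw [map_pow]
  exact this

variable {p : ℕ} [Fact p.Prime] (hΓ : IsPGroup p Γ)
  (hscal : ∀ a : Fˣ, (∃ k : ℕ, a ^ p ^ k = 1) → scal F E a ∈ Γ)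
  (hreg : ∀ r ∈ R h Γ, r v = v → r = 1)

include hΓ hscal hreg hv0

/-- a linear element of `Γ` commuting with a transvection is a scalar -/
theorem lin_scal {y : Equiv.Perm E} (hyΓ : y ∈ Γ) {τ : F} (hy : SS h y 1 τ) {c : F} (hc : c ≠ 0)
    (hcom : ∀ x, y (H.T hvv c x) = H.T hvv c (y x)) : ∃ b : Fˣ, y = scal F E b := by
  obtain ⟨l, hl0, hlv, hl⟩ := of_comm H hv0 hvv hy hc hcom
  obtain ⟨k, hk⟩ := hΓ ⟨y, hyΓ⟩
  have hk' : y ^ p ^ k = 1 := by
    have := congrArg Subtype.val hk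
    rwa [SubmonoidClass.coe_pow] at this
  have hpow : ∀ n : ℕ, (y ^ n) v = l ^ n • v := by
    intro n
    induction n with
    | zero => rw [pow_zero, pow_zero, one_smul]; rfl
    | succ n ih =>
      rw [pow_succ', Equiv.Perm.mul_apply, ih, hy.2.1.2, hlv, smul_smul, pow_succ]
      rfl
  have hlk : l ^ p ^ k = 1 := by
    have h1 := hpow (p ^ k)
    rw [hk', Equiv.Perm.one_apply] at h1
    have h2 : (1 : F) • v = l ^ p ^ k • v := by rwa [one_smul]
    exact (smul_left_injective F hv0 h2).symm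
  obtain ⟨lu, hlu⟩ : ∃ lu : Fˣ, (lu : F) = l := ⟨Units.mk0 l hl0, rfl⟩
  have hluk : lu ^ p ^ k = 1 := Units.ext (by rw [Units.val_pow_eq_pow_val, hlu, hlk, Units.val_one])
  refine ⟨lu, ?_⟩
  have hs : scal F E lu ∈ Γ := hscal lu ⟨k, hluk⟩
  -- the linear map of `y`
  obtain ⟨Y, hY⟩ : ∃ Y : E ≃ₗ[F] E, pr Y = y :=
    ⟨{ toEquiv := y, map_add' := hy.2.1.1, map_smul' := fun a x => hy.2.1.2 a x }, rfl⟩
  have hYx : ∀ x, Y x = y x := fun x => by rw [← hY]; rfl
  obtain ⟨r, hr⟩ : ∃ r : E ≃ₗ[F] E, r = (LinearEquiv.smulOfUnit lu)⁻¹ * Y := ⟨_, rfl⟩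
  have hprs : pr (LinearEquiv.smulOfUnit lu : E ≃ₗ[F] E) = scal F E lu := rfl
  have hrx : ∀ x, l • r x = y x := by
    intro x
    have h1 : LinearEquiv.smulOfUnit lu * r = Y := by rw [hr, mul_inv_cancel_left]
    rw [← hYx, ← h1, ← hlu]
    rfl
  have hrR : r ∈ R h Γ := by
    refine (mem_R Γ).2 ⟨?_, ?_⟩
    · rw [hr, map_mul, map_inv, hprs, hY]
      exact Γ.mul_mem (Γ.inv_mem hs) hyΓ
    · intro x x'
      have h1 := hy.2.2 x x'
      rw [← hrx, ← hrx, H.smul, H.smul'] at h1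
      have h2 : (1 : F ≃+* F) (h x x') = h x x' := rfl
      have h3 : (1 : F ≃+* F) c = c := rfl
      rw [h2] at h1
      rw [h3] at hl
      have h4 : l * σ l = τ := mul_left_cancel₀ hc hl
      have h5 : τ * h (r x) (r x') = τ * h x x' := by rw [← h1, ← h4]; ring
      exact mul_left_cancel₀ hy.1 h5
  have hrv : r v = v := by
    have h1 := hrx v
    rw [hlv] at h1
    exact smul_right_injective E hl0 h1
  have hr1 := hreg r hrR hrv
  have h2 : Y = LinearEquiv.smulOfUnit lu := by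
    rw [hr1] at hr
    exact (inv_mul_eq_one.1 hr.symm).symm
  rw [← hY, h2, hprs]

omit hreg in
/-- the transvection trick -/
theorem trick [FiniteDimensional F E] (hdim : 3 ≤ Module.finrank F E) (hav : Avoid (R h Γ) v) {y : Equiv.Perm E} (hyΓ : y ∈ Γ)
    {θ : F ≃+* F} {τ : F} (hy : SS h y θ τ) {c : F} (hc : c ≠ 0) (hc' : σ c + ε * c = 0)
    {a : Fˣ} (ha : scal F E a * (pr (H.T hvv c) * y * (pr (H.T hvv c))⁻¹) ∈ Γ) :
    ∀ x, y (H.T hvv c x) = H.T hvv c (y x) := by
  have hy0 : y 0 = 0 := by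
    have := hy.2.1.1 0 0
    rwa [add_zero, left_eq_add] at this
  have hw0 : y v ≠ 0 := fun h1 => hv0 (y.injective (h1.trans hy0.symm))
  have hww : h (y v) (y v) = 0 := by rw [hy.2.2, hvv, map_zero, mul_zero]
  obtain ⟨z, hz⟩ : ∃ z : E ≃ₗ[F] E, z = H.T hvv c * (H.T hww (θ c / τ))⁻¹ := ⟨_, rfl⟩
  have hconj : y * pr (H.T hvv c) = pr (H.T hww (θ c / τ)) * y :=
    Equiv.ext fun x => conj_T H hvv hy hww c x
  have hzy : pr (H.T hvv c) * y * (pr (H.T hvv c))⁻¹ = pr z * y := by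
    rw [hz, map_mul, map_inv, mul_assoc, mul_assoc]
    congr 1
    rw [mul_inv_eq_iff_eq_mul, mul_assoc, hconj, inv_mul_cancel_left]
  have haz : scal F E a * pr z ∈ Γ := by
    rw [hzy, ← mul_assoc] at ha
    exact (Subgroup.mul_mem_cancel_right Γ hyΓ).1 ha
  have hzx : ∀ x, z x = x + (-(θ c / τ) * h x (y v)) • y v + (c * h (x + (-(θ c / τ) * h x (y v)) • y v) v) • v := by
    intro x
    rw [hz]
    rfl
  -- `a` has `p`-power order
  have hker : ∃ x : E, x ≠ 0 ∧ h x v = 0 ∧ h x (y v) = 0 := by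
    have h1 : LinearMap.ker ((H.fn v).prod (H.fn (y v))) ≠ ⊥ := by
      apply LinearMap.ker_ne_bot_of_finrank_lt
      rw [Module.finrank_prod, Module.finrank_self]
      omega
    obtain ⟨x, hx, hx0⟩ := Submodule.exists_mem_ne_zero_of_ne_bot h1
    have h2 := LinearMap.mem_ker.1 hx
    exact ⟨x, hx0, congrArg Prod.fst h2, congrArg Prod.snd h2⟩
  obtain ⟨x, hx0, hx1, hx2⟩ := hker
  have hzfix : z x = x := by
    rw [hzx, hx2, mul_zero, zero_smul, add_zero, hx1, mul_zero, zero_smul, add_zero]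
  obtain ⟨k, hk⟩ := hΓ ⟨_, haz⟩
  have hk' : (scal F E a * pr z) ^ p ^ k = 1 := by
    have := congrArg Subtype.val hk
    rwa [SubmonoidClass.coe_pow] at this
  have hpow : ∀ n : ℕ, ((scal F E a * pr z) ^ n) x = (a : F) ^ n • x := by
    intro n
    induction n with
    | zero => rw [pow_zero, pow_zero, one_smul]; rfl
    | succ n ih =>
      rw [pow_succ', Equiv.Perm.mul_apply, ih, Equiv.Perm.mul_apply, pr_apply, map_smul, hzfix, scal_apply, smul_smul,
        pow_succ']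
  have hak : a ^ p ^ k = 1 := by
    have h1 := hpow (p ^ k)
    rw [hk', Equiv.Perm.one_apply] at h1
    have h2 : (1 : F) • x = (a : F) ^ p ^ k • x := by rwa [one_smul]
    exact Units.ext (by
      rw [Units.val_pow_eq_pow_val, Units.val_one]
      exact (smul_left_injective F hx0 h2).symm)
  have hzR : z ∈ R h Γ := by
    refine (mem_R Γ).2 ⟨(Subgroup.mul_mem_cancel_left Γ (hscal a ⟨k, hak⟩)).1 haz, fun u u' => ?_⟩
    have e : ∀ w, H.T hww (θ c / τ) ((H.T hww (θ c / τ))⁻¹ w) = w := fun w => LinearEquiv.apply_symm_apply _ w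
    rw [hz, LinearEquiv.mul_apply, LinearEquiv.mul_apply, H.T_iso hvv hc', ← iso_conj H hvv hy hww hc', e, e]
  -- the commutator space
  have hcomm : ∀ x, z x - x ∈ com z := fun x => ⟨x, rfl⟩
  have hle : com z ≤ Submodule.span F {v, y v} := by
    rintro _ ⟨x, rfl⟩
    show z x - x ∈ _
    rw [hzx, add_assoc, add_sub_cancel_left]
    exact Submodule.add_mem _ (Submodule.smul_mem _ _ (Submodule.subset_span (by simp)))
      (Submodule.smul_mem _ _ (Submodule.subset_span (by simp)))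
  have hfin : Module.finrank F (com z) ≤ 2 := by
    classical
    refine (Submodule.finrank_mono hle).trans ?_
    have h1 := finrank_span_finset_le_card (R := F) ({v, y v} : Finset E)
    rw [Finset.coe_insert, Finset.coe_singleton] at h1
    exact h1.trans Finset.card_le_two
  -- `z = 1`
  have hz1 : z = 1 := by
    by_contra hne
    have hvcom : v ∈ com z := by
      by_cases hA : ∃ x, h x (y v) = 0 ∧ h x v ≠ 0
      · obtain ⟨x, hx1, hx2⟩ := hA
        have h1 := hcomm x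
        rw [hzx, hx1, mul_zero, zero_smul, add_zero, add_sub_cancel_left] at h1
        exact (Submodule.smul_mem_iff _ (mul_ne_zero hc hx2)).1 h1
      · push Not at hA
        obtain ⟨l, hl⟩ := mem_span_of H hv0 hw0 hA
        obtain ⟨x, hx⟩ : ∃ x, z x ≠ x := by
          by_contra hc
          push Not at hc
          exact hne (LinearEquiv.ext hc)
        have h1 := hcomm x
        obtain ⟨e, he⟩ : ∃ e : F, z x - x = e • v := by
          rw [hzx, add_assoc, add_sub_cancel_left]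
          nth_rewrite 2 [hl]
          rw [smul_smul, ← add_smul]
          exact ⟨_, rfl⟩
        rw [he] at h1
        refine (Submodule.smul_mem_iff _ ?_).1 h1
        rintro rfl
        rw [zero_smul, sub_eq_zero] at he
        exact hx he
    have := hav z hzR hne hvcom
    omega
  have h1 : H.T hvv c = H.T hww (θ c / τ) := by
    rw [hz1] at hz
    exact (mul_inv_eq_one.1 hz.symm)
  intro x
  rw [conj_T H hvv hy hww, h1]

end main

end Cfsg.Agent.H458.SepCore
end

-- part: H458/SepMain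
section
/-!
# The separation theorem (helper458, for S5762): `core`
-/

set_option autoImplicit false
set_option linter.unusedSectionVars false

namespace Cfsg.Agent.H458.SepCore

open Cfsg.Agent.H903.SylSemi Cfsg.Agent.H903.SylReg Cfsg.Agent.H458.FieldKill

variable {F E : Type*} [Field F] [AddCommGroup E] [Module F E]
variable {σ : F ≃+* F} {ε : F} {h : E → E → F} (H : Herm σ ε h) {v : E} (hv0 : v ≠ 0) (hvv : h v v = 0)
variable (Γ : Subgroup (Equiv.Perm E)) {p : ℕ} [hp : Fact p.Prime] (hΓ : IsPGroup p Γ)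

include hΓ in
theorem pow_eq_one {y : Equiv.Perm E} (hy : y ∈ Γ) : ∃ k : ℕ, y ^ p ^ k = 1 := by
  obtain ⟨k, hk⟩ := hΓ ⟨y, hy⟩
  refine ⟨k, ?_⟩
  have := congrArg Subtype.val hk
  rwa [SubmonoidClass.coe_pow] at this

include hv0 hΓ in
/-- the companion of an element of `Γ` has `p`-power order -/
theorem orderOf_comp {y : Equiv.Perm E} (hy : y ∈ Γ) {θ : F ≃+* F} {τ : F} (hs : SS h y θ τ) : ∃ i, orderOf θ = p ^ i := by
  obtain ⟨k, hk⟩ := pow_eq_one Γ hΓ hy
  obtain ⟨τ', h1⟩ := hs.pow (p ^ k)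
  rw [hk] at h1
  have h2 : θ ^ p ^ k = 1 := Semi.unique hv0 h1.2.1 (SS.one (h := h)).2.1
  obtain ⟨i, -, hi⟩ := (Nat.dvd_prime_pow hp.out).1 (orderOf_dvd_of_pow_eq_one h2)
  exact ⟨i, hi⟩

variable (hscal : ∀ a : Fˣ, (∃ k : ℕ, a ^ p ^ k = 1) → scal F E a ∈ Γ)
  (hreg : ∀ r ∈ R (F := F) h Γ, r v = v → r = 1)

include H hv0 hΓ hscal hreg in
theorem core [Finite F] [FiniteDimensional F E] (hp3 : 3 ≤ p) (hdim : 3 ≤ Module.finrank F E)
    (hav : Avoid (R (F := F) h Γ) v) (hsemi : ∀ y ∈ Γ, ∃ θ τ, SS h y θ τ) (hc0 : ∃ c, c ≠ 0 ∧ σ c + ε * c = 0) :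
    ∃ c, c ≠ 0 ∧ σ c + ε * c = 0 ∧ ∀ y ∈ Γ,
      (∃ a : Fˣ, scal F E a * (pr (H.T hvv c) * y * (pr (H.T hvv c))⁻¹) ∈ Γ) → ∃ b : Fˣ, y = scal F E b := by
  classical
  by_contra hcon
  push Not at hcon
  have hfin : Finite (F ≃+* F) := Finite.of_injective (fun e : F ≃+* F => (e : F → F)) DFunLike.coe_injective
  have hcyc := isCyclic_ringAut F
  -- step 1
  have step1 : ∀ c, c ≠ 0 → σ c + ε * c = 0 → ∃ y ∈ Γ, ∃ θ τ, SS h y θ τ ∧ orderOf θ = p ∧ Commute y (pr (H.T hvv c)) := by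
    intro c hc hc'
    obtain ⟨y, hyΓ, ⟨a, ha⟩, hns⟩ := hcon c hc hc'
    obtain ⟨θ, τ, hs⟩ := hsemi y hyΓ
    have hcom := trick H hv0 hvv Γ hΓ hscal hdim hav hyΓ hs hc hc' ha
    obtain ⟨i, hi⟩ := orderOf_comp hv0 Γ hΓ hyΓ hs
    have hθ : θ ≠ 1 := by
      rintro rfl
      obtain ⟨b, hb⟩ := lin_scal H hv0 hvv Γ hΓ hscal hreg hyΓ hs hc hcom
      exact hns b hb
    have hi0 : i ≠ 0 := by
      rintro rfl
      rw [pow_zero, orderOf_eq_one_iff] at hi
      exact hθ hi
    obtain ⟨j, rfl⟩ := Nat.exists_eq_succ_of_ne_zero hi0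
    obtain ⟨τ', hs'⟩ := hs.pow (p ^ j)
    refine ⟨y ^ p ^ j, Γ.pow_mem hyΓ _, θ ^ p ^ j, τ', hs', ?_, ?_⟩
    · rw [orderOf_pow_of_dvd (pow_ne_zero _ hp.out.ne_zero) (by rw [hi]; exact pow_dvd_pow _ (Nat.le_succ j)), hi,
        Nat.pow_div (Nat.le_succ j) hp.out.pos, Nat.succ_sub (le_refl j), Nat.sub_self, pow_one]
    · exact Commute.pow_left (Equiv.ext hcom) _
  obtain ⟨c0, hc00, hc0'⟩ := hc0
  obtain ⟨y0, hy0Γ, θ, τ0, hs0, hθ, hcom0⟩ := step1 c0 hc00 hc0'
  have step2 : ∀ c, c ≠ 0 → σ c + ε * c = 0 → ∃ y ∈ Γ, ∃ τ, SS h y θ τ ∧ Commute y (pr (H.T hvv c)) := by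
    intro c hc hc'
    obtain ⟨y, hyΓ, θ', τ, hs, hθ', hcom⟩ := step1 c hc hc'
    have h1 := mem_zpowers_of_prime hp.out hθ' hθ
    rw [← mem_powers_iff_mem_zpowers] at h1
    obtain ⟨n, hn⟩ := h1
    simp only at hn
    obtain ⟨τ', hs'⟩ := hs.pow n
    rw [hn] at hs'
    exact ⟨y ^ n, Γ.pow_mem hyΓ _, τ', hs', hcom.pow_left n⟩
  obtain ⟨u, hu0, hσu, hu⟩ := exists_kill hp3 σ H.sig θ hθ
  obtain ⟨y, hyΓ, τ, hs, hcom⟩ := step2 (u * c0) (mul_ne_zero hu0 hc00) (by
    rw [map_mul, hσu]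
    linear_combination u * hc0')
  obtain ⟨l0, hl00, hlv0, hl0⟩ := of_comm H hv0 hvv hs0 hc00 (fun x => congrArg (fun g : Equiv.Perm E => g x) hcom0)
  obtain ⟨l, hl', hlv, hl⟩ := of_comm H hv0 hvv hs (mul_ne_zero hu0 hc00) (fun x => congrArg (fun g : Equiv.Perm E => g x) hcom)
  -- `x = y y0⁻¹`
  obtain ⟨x, hx⟩ : ∃ x, x = y * y0⁻¹ := ⟨_, rfl⟩
  have hxΓ : x ∈ Γ := by rw [hx]; exact Γ.mul_mem hyΓ (Γ.inv_mem hy0Γ)
  have hxy : ∀ e, x (y0 e) = y e := fun e => by
    rw [hx, Equiv.Perm.mul_apply]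
    exact congrArg y (y0.symm_apply_apply e)
  have hxlin : ∀ (a : F) (e : E), x (a • e) = a • x e := by
    intro a e
    obtain ⟨e', rfl⟩ := y0.surjective e
    obtain ⟨a', rfl⟩ := θ.surjective a
    rw [← hs0.2.1.2, hxy, hxy, hs.2.1.2]
  have hxform : ∀ e e', h (x e) (x e') = (τ / τ0) * h e e' := by
    intro e e'
    obtain ⟨d, rfl⟩ := y0.surjective e
    obtain ⟨d', rfl⟩ := y0.surjective e'
    rw [hxy, hxy, hs.2.2, hs0.2.2]
    have := hs0.1
    field_simp
  have hxv : x v = (l / l0) • v := by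
    have h1 := hxy v
    rw [hlv0, hlv, hxlin] at h1
    rw [div_eq_inv_mul, mul_smul, ← h1, smul_smul, inv_mul_cancel₀ hl00, one_smul]
  obtain ⟨k, hk⟩ := pow_eq_one Γ hΓ hxΓ
  have hxn : ∀ n : ℕ, (x ^ n) v = (l / l0) ^ n • v := by
    intro n
    induction n with
    | zero => rw [pow_zero, pow_zero, one_smul]; rfl
    | succ n ih => rw [pow_succ', Equiv.Perm.mul_apply, ih, hxlin, hxv, smul_smul, pow_succ]
  have hxfn : ∀ (n : ℕ) (e e' : E), h ((x ^ n) e) ((x ^ n) e') = (τ / τ0) ^ n * h e e' := by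
    intro n
    induction n with
    | zero => intro e e'; rw [pow_zero, pow_zero, one_mul]; rfl
    | succ n ih =>
      intro e e'
      rw [pow_succ', Equiv.Perm.mul_apply, Equiv.Perm.mul_apply, hxform, ih, pow_succ']
      ring
  have hν : (l / l0) ^ p ^ k = 1 := by
    have h1 := hxn (p ^ k)
    rw [hk, Equiv.Perm.one_apply] at h1
    have h2 : (1 : F) • v = (l / l0) ^ p ^ k • v := by rwa [one_smul]
    exact (smul_left_injective F hv0 h2).symm
  have hτ : (τ / τ0) ^ p ^ k = 1 := by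
    obtain ⟨e, he⟩ := H.exists_ne hv0
    have h1 := hxfn (p ^ k) e v
    rw [hk, Equiv.Perm.one_apply, Equiv.Perm.one_apply] at h1
    exact (mul_right_cancel₀ he (by rw [one_mul]; exact h1)).symm
  refine hu k ?_
  have hθc0 : θ c0 ≠ 0 := (map_ne_zero θ).2 hc00
  have hθu : θ u ≠ 0 := (map_ne_zero θ).2 hu0
  have hτ00 := hs0.1
  have hτ0' := hs.1
  have hσl : σ l ≠ 0 := (map_ne_zero σ).2 hl'
  have hσl0 : σ l0 ≠ 0 := (map_ne_zero σ).2 hl00
  have hkey : u / θ u = (l / l0) * σ (l / l0) / (τ / τ0) := by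
    rw [map_mul] at hl
    rw [map_div₀]
    have h1 : u * τ * (l0 * σ l0) * (θ c0 * c0) = θ u * (l * σ l) * τ0 * (θ c0 * c0) := by
      calc u * τ * (l0 * σ l0) * (θ c0 * c0) = (u * c0 * τ) * (θ c0 * (l0 * σ l0)) := by ring
        _ = (θ u * θ c0 * (l * σ l)) * (c0 * τ0) := by rw [hl, hl0]
        _ = _ := by ring
    have h2 := mul_right_cancel₀ (mul_ne_zero hθc0 hc00) h1
    field_simp
    linear_combination h2
  rw [hkey, div_pow, mul_pow, ← map_pow, hν, map_one, hτ, one_mul, div_one]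

end Cfsg.Agent.H458.SepCore
end

-- part: H458/SepSp
section
/-!
# The symplectic row of S5762 in cross characteristic (helper458): `sepSp_cross`
-/

set_option autoImplicit false
set_option linter.unusedSectionVars false

namespace Cfsg.Agent.H458.SepSp

open Cfsg.Agent.H903.SylSemi Cfsg.Agent.H903.SylReg Cfsg.Agent.H458.SepCore Cfsg.Agent.ClassicalGeometry.SympBasic Cfsg

theorem herm {F : Type*} [Field F] (m : ℕ) : Herm (RingEquiv.refl F) (-1) (sympForm m F) where
  sig _ := rfl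
  add := sympForm_add_left
  smul := sympForm_smul_left
  herm x y := by
    rw [sympForm_swap]
    simp
  nd x hx := eq_zero_of_forall_sympForm_right hx

theorem sepSp_cross {p m : ℕ} [Fact p.Prime] (hp : 5 ≤ p) {F : Type} [Field F] [Fintype F] (_hpF : (p : F) ≠ 0)
    (hm : 2 ≤ m) (hreg : Cfsg.Agent.H903.SylReg.RegSp p F (Fin m ⊕ Fin m → F)) :
    Cfsg.Agent.H903.SylSemi.SepSp p F m := by
  intro Γ hΓ hsemi hscal
  obtain ⟨v, hv0, hv1, hv2⟩ := hreg (sympBilin m F) (fun x => sympForm_self x)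
    (fun x hx => eq_zero_of_forall_sympForm_right hx) (R (F := F) (sympForm m F) Γ) (R_isPGroup Γ hΓ) (fun r hr x y => hr.2 x y)
  obtain ⟨c, hc, hc', hg⟩ := core (herm m) hv0 (sympForm_self v) Γ hΓ hscal hv1 (by omega)
    (by
      rw [Module.finrank_fintype_fun_eq_card, Fintype.card_sum, Fintype.card_fin]
      omega) hv2 (fun y hy => by
      obtain ⟨θ, τ, h1, h2, h3⟩ := hsemi y hy
      exact ⟨θ, τ, h1, h2, h3⟩) ⟨1, one_ne_zero, by simp⟩
  refine ⟨pr ((herm m).T (sympForm_self v) c), ⟨⟨fun x y => map_add ((herm m).T (sympForm_self v) c) x y,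
    fun a x => map_smul ((herm m).T (sympForm_self v) c) a x⟩, fun x y => ?_⟩, hg⟩
  exact (herm m).T_iso (sympForm_self v) hc' x y

end Cfsg.Agent.H458.SepSp
end

private theorem dce_50c92414ae80 : _root_.True := by
  try have : _root_.True := by simp only [_root_.Cfsg.Agent.H178.MeetAlt.zz.eq_1]
  try have : _root_.True := by simp only [_root_.Cfsg.Agent.H178.MeetAlt.za.eq_1]
  try have : _root_.True := by simp only [_root_.Cfsg.Agent.H178.MeetAlt.Cl.eq_1]
  try have : _root_.True := by simp only [_root_.Cfsg.Agent.H178.MeetAlt.sa.eq_1]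
  try have : _root_.True := by simp only [_root_.Cfsg.Agent.H178.MeetAlt.pi.eq_1]
  try have : _root_.True := by simp only [_root_.Cfsg.Agent.H903.SylReg.nm.eq_1]
  try have : _root_.True := by simp only [_root_.Cfsg.Agent.H903.SylReg.bet.eq_1]
  try have : _root_.True := by simp only [_root_.Cfsg.Agent.H178.MeetAlt.Cl.congr_simp]
  try have : _root_.True := by simp only [_root_.Cfsg.Agent.H458.SepCore.Herm.T.congr_simp]
  exact _root_.True.intro
end
end

-- part: H479/SepSU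
section
set_option linter.all false
open scoped Cfsg.Agent.FastGrp

set_option autoImplicit false

namespace Cfsg.Agent.H479.SepSU

open Cfsg.Agent.H903.SylSemi Cfsg.Agent.H903.SylReg

/-! ### field automorphisms -/

theorem isCyclic_ringAut (F : Type*) [Field F] [Finite F] : IsCyclic (F ≃+* F) := by
  obtain ⟨p, hp⟩ := CharP.exists F
  have hpp : Fact p.Prime := ⟨CharP.char_is_prime F p⟩
  let _ : Algebra (ZMod p) F := ZMod.algebra F p
  let φ : (F ≃ₐ[ZMod p] F) →* (F ≃+* F) :=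
    { toFun := fun σ => σ.toRingEquiv
      map_one' := rfl
      map_mul' := fun _ _ => rfl }
  have hφ : Function.Surjective φ := by
    intro σ
    refine ⟨AlgEquiv.ofRingEquiv (f := σ) ?_, ?_⟩
    · intro x
      have : (σ : F →+* F).comp (algebraMap (ZMod p) F) = algebraMap (ZMod p) F :=
        Subsingleton.elim _ _
      exact RingHom.congr_fun this x
    · ext x; rfl
  exact isCyclic_of_surjective φ hφ

theorem ringAut_comm {F : Type*} [Field F] [Finite F] (σ τ : F ≃+* F) (x : F) :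
    σ (τ x) = τ (σ x) := by
  have hc := isCyclic_ringAut F
  obtain ⟨g, hg⟩ := hc.exists_generator
  obtain ⟨i, hi⟩ := Subgroup.mem_zpowers_iff.1 (hg σ)
  obtain ⟨j, hj⟩ := Subgroup.mem_zpowers_iff.1 (hg τ)
  have h1 : σ * τ = τ * σ := by
    rw [← hi, ← hj, ← zpow_add, ← zpow_add, add_comm]
  exact DFunLike.congr_fun h1 x

/-- `(b^p - 1)/(b - 1)` is not a power of `p` (`p` odd). -/
theorem no_prime_pow {p b N k : ℕ} (hp : p.Prime) (hp3 : 3 ≤ p) (hb : 2 ≤ b)
    (hN : N * (b - 1) = b ^ p - 1) (hk : N = p ^ k) : False := by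
  have hpo : Odd p := hp.odd_of_ne_two (by omega)
  have hN1 : p < N := by
    by_contra hcon
    push Not at hcon
    have h1 : (b - 1) * b ^ (p - 1) < b ^ p - 1 ∨ b ^ p ≤ 1 := by
      left
      have e : b ^ p = b * b ^ (p - 1) := by
        rw [← pow_succ', Nat.sub_add_cancel hp.one_le]
      have h2 : b ^ 1 < b ^ (p - 1) := Nat.pow_lt_pow_right (by omega) (by omega)
      rw [pow_one] at h2
      rw [e, Nat.sub_mul, one_mul]
      have h3 : b ^ (p - 1) ≤ b * b ^ (p - 1) := Nat.le_mul_of_pos_left _ (by omega)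
      omega
    have h4 : 2 ^ (p - 1) ≤ b ^ (p - 1) := Nat.pow_le_pow_left hb _
    have h5 : p ≤ 2 ^ (p - 1) := by
      have := Nat.lt_two_pow_self (n := p - 1)
      omega
    rcases h1 with h1 | h1
    · have h6 : N * (b - 1) ≤ b ^ (p - 1) * (b - 1) :=
        Nat.mul_le_mul_right _ (by omega)
      rw [hN] at h6
      rw [mul_comm] at h1
      omega
    · have := Nat.pow_le_pow_left hb p
      have h7 : 2 ^ 1 ≤ 2 ^ p := Nat.pow_le_pow_right (by omega) hp.one_le
      omega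
  have hk2 : 2 ≤ k := by
    by_contra hcon
    have : k = 0 ∨ k = 1 := by omega
    rcases this with rfl | rfl
    · rw [hk, pow_zero] at hN1
      have := hp.one_lt
      omega
    · rw [hk, pow_one] at hN1
      omega
  have hpN : p ^ 2 ∣ N := hk ▸ pow_dvd_pow p hk2
  have hb1 : 0 < b - 1 := by omega
  -- `p ∣ b - 1`
  have hpb : p ∣ b - 1 := by
    have h1 : p ∣ b ^ p - 1 := by
      rw [← hN]; exact Dvd.dvd.mul_right ((dvd_pow_self p two_ne_zero).trans hpN) _
    have : Fact p.Prime := ⟨hp⟩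
    have h2 : ((b ^ p - 1 : ℕ) : ZMod p) = 0 := (ZMod.natCast_eq_zero_iff _ _).2 h1
    rw [Nat.cast_sub (Nat.one_le_pow _ _ (by omega)), Nat.cast_pow, ZMod.pow_card] at h2
    rw [← ZMod.natCast_eq_zero_iff, Nat.cast_sub (by omega)]
    simpa using h2
  have : Fact p.Prime := ⟨hp⟩
  have hpb' : ¬ p ∣ b := fun h => by
    have h1 : p ∣ b - (b - 1) := Nat.dvd_sub h hpb
    have h2 : b - (b - 1) = 1 := by omega
    rw [h2] at h1
    exact hp.one_lt.ne' (Nat.dvd_one.1 h1)
  have h3 := padicValNat.pow_sub_pow (p := p) (x := b) (y := 1) hpo (by omega) (by simpa using hpb)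
    hpb' (n := p) hp.ne_zero
  rw [one_pow, ← hN, padicValNat.mul (by rintro rfl; simp at hN1) (by omega),
    padicValNat.self hp.one_lt] at h3
  have h4 : padicValNat p N = 1 := by omega
  rw [hk, padicValNat.prime_pow] at h4
  omega

/-- The field-kill lemma. -/
theorem field_kill {p : ℕ} [Fact p.Prime] (hp : 3 ≤ p) {K : Type*} [Field K] [Finite K]
    (θ : K ≃+* K) (hθ : orderOf θ = p) : ∃ u : Kˣ, ∀ k : ℕ, ((u : K) / θ u) ^ p ^ k ≠ 1 := by
  classical
  have hpp : p.Prime := Fact.out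
  by_contra hcon
  push Not at hcon
  -- fixed field
  let G := Subgroup.zpowers θ
  have hGc : Nat.card G = p := by rw [Nat.card_zpowers, hθ]
  have hGf : Finite G := Nat.finite_of_card_ne_zero (by rw [hGc]; exact hpp.ne_zero)
  have : Fintype G := Fintype.ofFinite G
  have h1 : Module.finrank (FixedPoints.subfield G K) K = Fintype.card G :=
    FixedPoints.finrank_eq_card G K
  rw [← Nat.card_eq_fintype_card, hGc] at h1
  let K₀ := FixedPoints.subfield G K
  have h2 : Nat.card K = Nat.card K₀ ^ p := by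
    rw [← h1]; exact Module.natCard_eq_pow_finrank (K := K₀) (V := K)
  have hfix : ∀ x : K, x ∈ K₀ ↔ θ x = x := by
    intro x
    constructor
    · intro h
      exact h ⟨θ, Subgroup.mem_zpowers θ⟩
    · intro h g
      obtain ⟨g, i, rfl⟩ := g
      have h3 : ∀ n : ℕ, (θ ^ n) x = x := by
        intro n
        induction n with
        | zero => rfl
        | succ n ih => rw [pow_succ]; change (θ ^ n) (θ x) = x; rw [h, ih]
      have h4 : θ ^ i = θ ^ (i % (orderOf θ : ℤ)).toNat := by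
        rw [← zpow_natCast, Int.toNat_of_nonneg (Int.emod_nonneg _ (by rw [hθ]; exact_mod_cast hpp.ne_zero)),
          zpow_mod_orderOf]
      change (θ ^ i) x = x
      rw [h4]; exact h3 _
  -- the homomorphism `u ↦ u / θ u`
  let f : Kˣ →* Kˣ :=
    { toFun := fun u => u / Units.map θ.toMonoidHom u
      map_one' := by simp
      map_mul' := fun a b => by rw [map_mul, mul_div_mul_comm] }
  have hf : ∀ u : Kˣ, ((f u : Kˣ) : K) = (u : K) / θ u := fun u => by
    change ((u / Units.map θ.toMonoidHom u : Kˣ) : K) = _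
    rw [Units.val_div_eq_div_val]; rfl
  have hker : Nat.card f.ker = Nat.card K₀ - 1 := by
    have e : f.ker ≃ K₀ˣ :=
      { toFun := fun u => Units.mk0 ⟨(u : Kˣ), by
            have h3 := MonoidHom.mem_ker.1 u.2
            rw [hfix]
            have h4 := hf u
            rw [h3, Units.val_one] at h4
            have h5 : θ ((u : Kˣ) : K) ≠ 0 := by
              rw [Ne, map_eq_zero_iff θ θ.injective]; exact (u : Kˣ).ne_zero
            rw [eq_comm, div_eq_one_iff_eq h5] at h4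
            exact h4.symm⟩ (by
              intro h
              exact (u : Kˣ).ne_zero (congrArg Subtype.val h))
        invFun := fun w => ⟨Units.mk0 ((w : K₀) : K) (by
              intro h
              exact w.ne_zero (Subtype.ext h)), by
            rw [MonoidHom.mem_ker]
            apply Units.ext
            rw [hf, Units.val_one, Units.val_mk0, (hfix _).1 (w : K₀).2, div_self]
            intro h
            exact w.ne_zero (Subtype.ext h)⟩
        left_inv := fun u => by ext; rfl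
        right_inv := fun w => by ext; rfl }
    rw [Nat.card_congr e, Nat.card_units]
  have hrange : Nat.card f.range * (Nat.card K₀ - 1) = Nat.card K₀ ^ p - 1 := by
    rw [← hker, ← h2, ← Nat.card_units]
    have h3 := Subgroup.card_mul_index f.ker
    rw [Subgroup.index_ker] at h3
    rw [mul_comm]; exact h3
  have hpg : IsPGroup p f.range := by
    rintro ⟨x, u, rfl⟩
    obtain ⟨k, hk⟩ := hcon u
    refine ⟨k, ?_⟩
    apply Subtype.ext
    apply Units.ext
    simp only [SubmonoidClass.coe_pow, OneMemClass.coe_one, Units.val_pow_eq_pow_val, Units.val_one]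
    rw [hf]; exact hk
  obtain ⟨k, hk⟩ := hpg.exists_card_eq
  exact no_prime_pow hpp hp (Finite.one_lt_card : 1 < Nat.card K₀) hrange hk

/-- The field-kill lemma inside the fixed field of an involution. -/
theorem field_kill_fix {p : ℕ} [Fact p.Prime] (hp : 3 ≤ p) {F : Type*} [Field F] [Finite F]
    (σ : F ≃+* F) (hσ : ∀ a, σ (σ a) = a) (θ : F ≃+* F) (hθ : orderOf θ = p) :
    ∃ u : F, u ≠ 0 ∧ σ u = u ∧ ∀ k : ℕ, (u / θ u) ^ p ^ k ≠ 1 := by
  have hpp : p.Prime := Fact.out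
  let K : Subfield F := RingHom.eqLocusField (σ : F →+* F) (RingHom.id F)
  have hK : ∀ x, x ∈ K ↔ σ x = x := fun x => Iff.rfl
  have hθK : ∀ x ∈ K, θ x ∈ K := fun x hx => by
    rw [hK, ringAut_comm, (hK x).1 hx]
  have hθK' : ∀ x ∈ K, θ.symm x ∈ K := fun x hx => by
    rw [hK, ringAut_comm, (hK x).1 hx]
  let θK : K ≃+* K :=
    { toFun := fun x => ⟨θ x, hθK x x.2⟩
      invFun := fun x => ⟨θ.symm x, hθK' x x.2⟩
      left_inv := fun x => Subtype.ext (θ.symm_apply_apply _)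
      right_inv := fun x => Subtype.ext (θ.apply_symm_apply _)
      map_mul' := fun x y => Subtype.ext (map_mul θ _ _)
      map_add' := fun x y => Subtype.ext (map_add θ _ _) }
  have hpow : ∀ (n : ℕ) (x : K), (((θK ^ n) x : K) : F) = (θ ^ n) x := by
    intro n
    induction n with
    | zero => intro x; rfl
    | succ n ih => intro x; rw [pow_succ, pow_succ]; exact ih (θK x)
  have hord : orderOf θK = p := by
    refine orderOf_eq_prime ?_ ?_
    · ext x
      rw [hpow, ← hθ, pow_orderOf_eq_one]; rfl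
    · intro hcon
      have h1 : ∀ x ∈ K, θ x = x := fun x hx => by
        have := DFunLike.congr_fun hcon (⟨x, hx⟩ : K)
        exact congrArg Subtype.val this
      have h2 : θ ^ 2 = 1 := by
        ext x
        change θ (θ x) = x
        have h3 : θ (x + σ x) = x + σ x := h1 _ (by rw [hK, map_add, hσ, add_comm])
        have h4 : θ (x * σ x) = x * σ x := h1 _ (by rw [hK, map_mul, hσ, mul_comm])
        rw [map_add] at h3
        rw [map_mul] at h4
        have h5 : (θ x - x) * (θ x - σ x) = 0 := by linear_combination (θ x) * h3 - h4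
        rcases mul_eq_zero.1 h5 with h6 | h6
        · rw [sub_eq_zero] at h6; rw [h6, h6]
        · rw [sub_eq_zero] at h6
          rw [h6, ringAut_comm, h6, hσ]
      have h3 : p ∣ 2 := hθ ▸ orderOf_dvd_of_pow_eq_one h2
      have := Nat.le_of_dvd (by norm_num) h3
      omega
  obtain ⟨u, hu⟩ := field_kill hp θK hord
  refine ⟨((u : K) : F), ?_, (hK _).1 (u : K).2, fun k hk => hu k ?_⟩
  · intro h
    exact u.ne_zero (Subtype.ext h)
  · apply Subtype.ext
    have e : (((((u : K) / θK u) ^ p ^ k : K)) : F) = (((u : K) : F) / θ ((u : K) : F)) ^ p ^ k := by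
      rw [SubmonoidClass.coe_pow]; rfl
    rw [e]; exact hk

/-! ### hermitian forms and transvections -/

section herm

variable {F : Type*} [Field F] {E : Type*} [AddCommGroup E] [Module F E]

/-- A non-degenerate hermitian form, linear in the first variable. -/
structure Herm (σ : F ≃+* F) (h : E → E → F) : Prop where
  inv : ∀ a, σ (σ a) = a
  add : ∀ x y z, h (x + y) z = h x z + h y z
  smul : ∀ (a : F) x y, h (a • x) y = a * h x y
  sym : ∀ x y, h y x = σ (h x y)
  nd : ∀ x, (∀ y, h x y = 0) → x = 0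

variable {σ : F ≃+* F} {h : E → E → F} (H : Herm σ h)
include H

theorem Herm.zero_left (y : E) : h 0 y = 0 := by
  have := H.smul 0 0 y
  rwa [zero_smul, zero_mul] at this

theorem Herm.add_right (x y z : E) : h x (y + z) = h x y + h x z := by
  rw [H.sym (y + z) x, H.add, map_add, ← H.sym, ← H.sym]

theorem Herm.smul_right (a : F) (x y : E) : h x (a • y) = σ a * h x y := by
  rw [H.sym (a • y) x, H.smul, map_mul, ← H.sym]

theorem Herm.nd' {x : E} (hx : x ≠ 0) : ∃ y, h y x ≠ 0 := by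
  by_contra hcon
  push Not at hcon
  refine hx (H.nd x fun y => ?_)
  rw [H.sym y x, hcon, map_zero]

/-- The functional `h(·, v)`. -/
def Herm.fn (v : E) : E →ₗ[F] F where
  toFun x := h x v
  map_add' x y := H.add x y v
  map_smul' a x := H.smul a x v

@[simp] theorem Herm.fn_apply (v x : E) : H.fn v x = h x v := rfl

/-- The transvection `x ↦ x + c h(x,v) v`. -/
def Herm.tv (v : E) (hv : h v v = 0) (c : F) : E ≃ₗ[F] E where
  toFun x := x + (c * h x v) • v
  invFun x := x + (-c * h x v) • v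
  map_add' x y := by rw [H.add]; module
  map_smul' a x := by rw [H.smul]; simp only [RingHom.id_apply]; module
  left_inv x := by
    simp only [H.add, H.smul, hv, mul_zero, add_zero]; module
  right_inv x := by
    simp only [H.add, H.smul, hv, mul_zero, add_zero]; module

@[simp] theorem Herm.tv_apply (v : E) (hv : h v v = 0) (c : F) (x : E) :
    H.tv v hv c x = x + (c * h x v) • v := rfl

theorem Herm.tv_isom (v : E) (hv : h v v = 0) {c : F} (hc : c + σ c = 0) (x y : E) :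
    h (H.tv v hv c x) (H.tv v hv c y) = h x y := by
  simp only [Herm.tv_apply, H.add, H.add_right, H.smul, H.smul_right, hv, mul_zero, add_zero,
    map_mul]
  rw [← H.sym y v]
  linear_combination (h x v * h v y) * hc

theorem Herm.tv_det (v : E) (hv : h v v = 0) (c : F) [Module.Finite F E] :
    LinearMap.det (H.tv v hv c : E →ₗ[F] E) = 1 := by
  have e : (H.tv v hv c : E →ₗ[F] E) = LinearMap.transvection (c • H.fn v) v := by
    ext x
    simp [LinearMap.transvection.apply]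
  rw [e, LinearMap.transvection.det]
  simp [hv]

end herm

/-! ### the transvection trick -/

section main

/-- Linear maps as permutations. -/
def io (F : Type*) [Field F] (E : Type*) [AddCommGroup E] [Module F E] :
    (E ≃ₗ[F] E) →* Equiv.Perm E := MulAction.toPermHom _ _

variable {F : Type*} [Field F] {E : Type*} [AddCommGroup E] [Module F E]

@[simp] theorem io_apply (r : E ≃ₗ[F] E) (x : E) : io F E r x = r x := rfl

theorem io_injective : Function.Injective (io F E) := by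
  intro a b hab
  ext x
  exact DFunLike.congr_fun hab x

/-- Semisimilarities. -/
def SemiH (h : E → E → F) (y : Equiv.Perm E) (θ : F ≃+* F) (τ : F) : Prop :=
  τ ≠ 0 ∧ Semi F y θ ∧ ∀ u v, h (y u) (y v) = τ * θ (h u v)

theorem semi_one : Semi F (1 : Equiv.Perm E) (1 : F ≃+* F) :=
  ⟨fun _ _ => rfl, fun _ _ => rfl⟩

theorem semi_mul {y y' : Equiv.Perm E} {θ θ' : F ≃+* F} (h : Semi F y θ) (h' : Semi F y' θ') :
    Semi F (y * y') (θ * θ') := by
  refine ⟨fun u v => ?_, fun a v => ?_⟩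
  · simp only [Equiv.Perm.mul_apply, h'.1, h.1]
  · simp only [Equiv.Perm.mul_apply, h'.2, h.2]; rfl

theorem semi_unique {y : Equiv.Perm E} {θ θ' : F ≃+* F} (h : Semi F y θ) (h' : Semi F y θ')
    {v : E} (hv : v ≠ 0) : θ = θ' := by
  ext a
  have h1 := h.2 a v
  rw [h'.2 a v] at h1
  have h2 : y v ≠ 0 := by
    intro h3
    have h4 : y 0 = 0 := by
      have := h.1 0 0
      rw [add_zero] at this
      exact left_eq_add.1 this
    exact hv (y.injective (h3.trans h4.symm))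
  exact (smul_left_injective F h2 h1).symm

theorem semiH_mul {h : E → E → F} {y y' : Equiv.Perm E} {θ θ' : F ≃+* F} {τ τ' : F}
    (hy : SemiH h y θ τ) (hy' : SemiH h y' θ' τ') :
    SemiH h (y * y') (θ * θ') (τ * θ τ') := by
  refine ⟨mul_ne_zero hy.1 (by rw [Ne, map_eq_zero_iff θ θ.injective]; exact hy'.1),
    semi_mul hy.2.1 hy'.2.1, fun u v => ?_⟩
  rw [Equiv.Perm.mul_apply, Equiv.Perm.mul_apply, hy.2.2, hy'.2.2, map_mul]
  change _ = τ * θ τ' * θ (θ' _)
  ring

theorem semiH_inv {h : E → E → F} {y : Equiv.Perm E} {θ : F ≃+* F} {τ : F}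
    (hy : SemiH h y θ τ) : SemiH h y⁻¹ θ⁻¹ (θ.symm τ)⁻¹ := by
  have hyi : ∀ x, y (y⁻¹ x) = x := fun x => by simp
  refine ⟨inv_ne_zero (by rw [Ne, map_eq_zero_iff _ θ.symm.injective]; exact hy.1),
    ⟨fun u v => ?_, fun a v => ?_⟩, fun u v => ?_⟩
  · apply y.injective
    rw [hy.2.1.1, hyi, hyi, hyi]
  · apply y.injective
    rw [hy.2.1.2, hyi, hyi]
    change _ = θ (θ.symm a) • v
    rw [θ.apply_symm_apply]
  · have h1 := hy.2.2 (y⁻¹ u) (y⁻¹ v)
    rw [hyi, hyi] at h1
    rw [h1]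
    change _ = _ * θ.symm _
    rw [map_mul, θ.symm_apply_apply, ← mul_assoc, inv_mul_cancel₀, one_mul]
    rw [Ne, map_eq_zero_iff _ θ.symm.injective]; exact hy.1

/-- The linear isometries in `Γ`. -/
def RR (Γ : Subgroup (Equiv.Perm E)) (h : E → E → F) : Subgroup (E ≃ₗ[F] E) where
  carrier := {r | io F E r ∈ Γ ∧ ∀ x y, h (r x) (r y) = h x y}
  mul_mem' := by
    rintro a b ⟨h1, h2⟩ ⟨h3, h4⟩
    refine ⟨by rw [map_mul]; exact Γ.mul_mem h1 h3, fun x y => ?_⟩
    rw [LinearEquiv.mul_apply, LinearEquiv.mul_apply, h2, h4]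
  one_mem' := ⟨by rw [map_one]; exact Γ.one_mem, fun x y => rfl⟩
  inv_mem' := by
    rintro a ⟨h1, h2⟩
    refine ⟨by rw [map_inv]; exact Γ.inv_mem h1, fun x y => ?_⟩
    rw [← h2 (a⁻¹ x) (a⁻¹ y)]
    have h3 : ∀ z, a (a⁻¹ z) = z := fun z => a.apply_symm_apply z
    rw [h3, h3]

theorem RR_pgroup {p : ℕ} {Γ : Subgroup (Equiv.Perm E)} (hΓ : IsPGroup p Γ) (h : E → E → F) :
    IsPGroup p (RR Γ h) := by
  rintro ⟨r, hr1, hr2⟩
  obtain ⟨k, hk⟩ := hΓ ⟨_, hr1⟩
  refine ⟨k, ?_⟩
  apply Subtype.ext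
  apply io_injective
  have h1 := congrArg Subtype.val hk
  simp only [SubmonoidClass.coe_pow, OneMemClass.coe_one] at h1 ⊢
  rw [map_pow, h1, map_one]

variable [FiniteDimensional F E] {σ : F ≃+* F} {h : E → E → F}

theorem step (H : Herm σ h) (h3 : 3 ≤ Module.finrank F E) {p : ℕ}
    {Γ : Subgroup (Equiv.Perm E)} (hΓ : IsPGroup p Γ)
    (hscal : ∀ a : Fˣ, (∃ k : ℕ, a ^ p ^ k = 1) → scal F E a ∈ Γ)
    {v : E} (hv0 : v ≠ 0) (hv : h v v = 0) (hav : Avoid (RR Γ h) v)
    {c : F} (hc0 : c ≠ 0) (hc : c + σ c = 0) {y : Equiv.Perm E} (hyΓ : y ∈ Γ) {θ : F ≃+* F} {τ : F}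
    (hθσ : ∀ x, σ (θ x) = θ (σ x))
    (hy : SemiH h y θ τ) {a : Fˣ}
    (ha : scal F E a * (io F E (H.tv v hv c) * y * (io F E (H.tv v hv c))⁻¹) ∈ Γ) :
    ∃ l : F, l ≠ 0 ∧ y v = l • v ∧ c = θ c * τ⁻¹ * l * σ l := by
  obtain ⟨hτ, hys, hyh⟩ := hy
  have hw0 : y v ≠ 0 := by
    intro h3
    have h4 : y 0 = 0 := by
      have := hys.1 0 0
      rw [add_zero] at this
      exact left_eq_add.1 this
    exact hv0 (y.injective (h3.trans h4.symm))
  have hw : h (y v) (y v) = 0 := by rw [hyh, hv, map_zero, mul_zero]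
  obtain ⟨c', hc'⟩ : ∃ c', c' = θ c * τ⁻¹ := ⟨_, rfl⟩
  -- `σ τ = τ`
  have hτσ : σ τ = τ := by
    obtain ⟨u, hu⟩ := H.nd' hv0
    have h1 := hyh u v
    have h2 := hyh v u
    rw [H.sym (y u) (y v), h1, map_mul, hθσ, ← H.sym u v] at h2
    have h5 : θ (h v u) ≠ 0 := by
      rw [Ne, map_eq_zero_iff θ θ.injective, H.sym u v, map_eq_zero_iff σ σ.injective]
      exact hu
    exact mul_right_cancel₀ h5 h2
  have hcc' : c' + σ c' = 0 := by
    rw [hc', map_mul, map_inv₀, hτσ, hθσ, ← add_mul, ← map_add, hc, map_zero, zero_mul]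
  -- conjugation of the transvection
  have hconj : y * io F E (H.tv v hv c) * y⁻¹ = io F E (H.tv (y v) hw c') := by
    ext x
    have hyi : y (y⁻¹ x) = x := by simp
    rw [Equiv.Perm.mul_apply, Equiv.Perm.mul_apply, io_apply, io_apply, H.tv_apply, H.tv_apply,
      hys.1, hys.2, hyi, map_mul]
    have h1 := hyh (y⁻¹ x) v
    rw [hyi] at h1
    rw [hc', h1]
    congr 2
    field_simp
  obtain ⟨z, hz⟩ : ∃ z : E ≃ₗ[F] E, z = H.tv v hv c * (H.tv (y v) hw c')⁻¹ := ⟨_, rfl⟩
  have hzΓ' : scal F E a * io F E z ∈ Γ := by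
    have h1 := Γ.mul_mem ha (Γ.inv_mem hyΓ)
    have h2 : scal F E a * io F E z =
        scal F E a * (io F E (H.tv v hv c) * y * (io F E (H.tv v hv c))⁻¹) * y⁻¹ := by
      rw [hz, map_mul, map_inv, ← hconj]
      group
    rw [h2]; exact h1
  have hgi : ∀ x, h x (y v) = 0 → (H.tv (y v) hw c')⁻¹ x = x := by
    intro x hx
    have h1 : H.tv (y v) hw c' x = x := by simp [hx]
    have h2 : (H.tv (y v) hw c')⁻¹ (H.tv (y v) hw c' x) = x :=
      (H.tv (y v) hw c').symm_apply_apply x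
    rwa [h1] at h2
  -- `a` has `p`-power order
  have hap : ∃ k : ℕ, a ^ p ^ k = 1 := by
    obtain ⟨k, hk⟩ := hΓ ⟨_, hzΓ'⟩
    have hk' : (scal F E a * io F E z) ^ p ^ k = 1 := congrArg Subtype.val hk
    refine ⟨k, ?_⟩
    let f : E →ₗ[F] F × F := (H.fn v).prod (H.fn (y v))
    have hf : LinearMap.ker f ≠ ⊥ := by
      apply LinearMap.ker_ne_bot_of_finrank_lt
      rw [Module.finrank_prod, Module.finrank_self]
      omega
    obtain ⟨u, hu, hu0⟩ := (Submodule.ne_bot_iff _).1 hf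
    rw [LinearMap.mem_ker] at hu
    have hu1 : h u v = 0 := congrArg Prod.fst hu
    have hu2 : h u (y v) = 0 := congrArg Prod.snd hu
    have hfix : ∀ b : F, io F E z (b • u) = b • u := by
      intro b
      rw [io_apply, map_smul, hz]
      rw [LinearEquiv.mul_apply, hgi u hu2, H.tv_apply, hu1]
      simp
    have hpw : ∀ m : ℕ, ((scal F E a * io F E z) ^ m) u = ((a : F) ^ m) • u := by
      intro m
      induction m with
      | zero => simp
      | succ m ih =>
        rw [pow_succ', Equiv.Perm.mul_apply, ih, Equiv.Perm.mul_apply, hfix, scal_apply,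
          smul_smul, pow_succ']
    have h1 := hpw (p ^ k)
    rw [hk', Equiv.Perm.one_apply] at h1
    have h2 : ((a : F) ^ p ^ k) = 1 := by
      have : ((a : F) ^ p ^ k) • u = (1 : F) • u := by rw [one_smul]; exact h1.symm
      exact smul_left_injective F hu0 this
    apply Units.ext
    rw [Units.val_pow_eq_pow_val, h2, Units.val_one]
  have hzΓ : io F E z ∈ Γ := by
    have h1 := Γ.mul_mem (Γ.inv_mem (hscal a hap)) hzΓ'
    rwa [inv_mul_cancel_left] at h1
  have hzR : z ∈ RR Γ h := by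
    refine ⟨hzΓ, fun x x' => ?_⟩
    rw [hz, LinearEquiv.mul_apply, LinearEquiv.mul_apply, H.tv_isom v hv hc]
    have h1 : ∀ t, H.tv (y v) hw c' ((H.tv (y v) hw c')⁻¹ t) = t :=
      fun t => (H.tv (y v) hw c').apply_symm_apply t
    rw [← H.tv_isom (y v) hw hcc', h1, h1]
  -- the commutator space
  have hmem : ∀ x, (c * h x v) • v - (c' * h x (y v)) • y v ∈ com z := by
    intro x
    refine ⟨H.tv (y v) hw c' x, ?_⟩
    have h1 : z (H.tv (y v) hw c' x) = H.tv v hv c x := by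
      rw [hz, LinearEquiv.mul_apply]
      congr 1
      exact (H.tv (y v) hw c').symm_apply_apply x
    rw [LinearMap.sub_apply, LinearMap.id_apply, LinearEquiv.coe_coe, h1, H.tv_apply, H.tv_apply]
    abel
  have hle : com z ≤ Submodule.span F {v, y v} := by
    rintro t ⟨x, rfl⟩
    obtain ⟨x', rfl⟩ : ∃ x', x = H.tv (y v) hw c' x' :=
      ⟨(H.tv (y v) hw c').symm x, ((H.tv (y v) hw c').apply_symm_apply x).symm⟩
    have h1 : z (H.tv (y v) hw c' x') = H.tv v hv c x' := by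
      rw [hz, LinearEquiv.mul_apply]
      congr 1
      exact (H.tv (y v) hw c').symm_apply_apply x'
    rw [LinearMap.sub_apply, LinearMap.id_apply, LinearEquiv.coe_coe, h1, H.tv_apply, H.tv_apply]
    have h2 : x' + (c * h x' v) • v - (x' + (c' * h x' (y v)) • y v) =
        (c * h x' v) • v - (c' * h x' (y v)) • y v := by abel
    rw [h2]
    exact Submodule.sub_mem _ (Submodule.smul_mem _ _ (Submodule.subset_span (by simp)))
      (Submodule.smul_mem _ _ (Submodule.subset_span (by simp)))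
  have hfr : Module.finrank F (com z) ≤ 2 := by
    classical
    refine (Submodule.finrank_mono hle).trans ?_
    have h1 := finrank_span_finset_le_card (R := F) ({v, y v} : Finset E)
    rw [Finset.coe_insert, Finset.coe_singleton] at h1
    exact h1.trans Finset.card_le_two
  have hvn : v ∉ com z := by
    intro hvz
    by_cases hz1 : z = 1
    · rw [hz1] at hvz
      obtain ⟨x, hx⟩ := hvz
      rw [LinearMap.sub_apply, LinearMap.id_apply] at hx
      have : ((1 : E ≃ₗ[F] E) : E →ₗ[F] E) x = x := rfl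
      rw [this, sub_self] at hx
      exact hv0 hx.symm
    · have := hav z hzR hz1 hvz
      omega
  -- `h x (y v) = 0` implies `h x v = 0`
  have hk1 : ∀ x, h x (y v) = 0 → h x v = 0 := by
    intro x hx
    by_contra hx0
    apply hvn
    have h1 := hmem x
    rw [hx, mul_zero, zero_smul, sub_zero] at h1
    have h2 := (com z).smul_mem (c * h x v)⁻¹ h1
    rwa [smul_smul, inv_mul_cancel₀ (mul_ne_zero hc0 hx0), one_smul] at h2
  obtain ⟨x0, hx0⟩ := H.nd' hw0
  have hmul : ∀ x, h x v = (h x0 v / h x0 (y v)) * h x (y v) := by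
    intro x
    have h1 : h (x + (-(h x (y v) / h x0 (y v))) • x0) (y v) = 0 := by
      rw [H.add, H.smul]; field_simp; ring
    have h2 := hk1 _ h1
    rw [H.add, H.smul] at h2
    have h3 : h x v = (h x (y v) / h x0 (y v)) * h x0 v := by linear_combination h2
    rw [h3]; ring
  obtain ⟨μ, hμ⟩ : ∃ μ, μ = h x0 v / h x0 (y v) := ⟨_, rfl⟩
  rw [← hμ] at hmul
  have hvy : v = σ μ • y v := by
    have h1 : v + (-(σ μ)) • y v = 0 := by
      apply H.nd
      intro x
      rw [H.sym x, H.add_right, H.smul_right, map_neg, H.inv, hmul x]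
      rw [neg_mul, add_neg_cancel, map_zero]
    rw [neg_smul, ← sub_eq_add_neg, sub_eq_zero] at h1
    exact h1
  have hμ0 : σ μ ≠ 0 := by
    intro h0
    rw [h0, zero_smul] at hvy
    exact hv0 hvy
  refine ⟨(σ μ)⁻¹, inv_ne_zero hμ0, ?_, ?_⟩
  · conv_rhs => rw [hvy]
    rw [smul_smul, inv_mul_cancel₀ hμ0, one_smul]
  · by_contra hne
    obtain ⟨x1, hx1⟩ := H.nd' hv0
    apply hvn
    have hyv : y v = (σ μ)⁻¹ • v := by
      conv_rhs => rw [hvy]
      rw [smul_smul, inv_mul_cancel₀ hμ0, one_smul]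
    have h1 := hmem x1
    rw [hyv, H.smul_right, smul_smul, ← sub_smul] at h1
    have h2 : c * h x1 v - c' * (σ (σ μ)⁻¹ * h x1 v) * (σ μ)⁻¹ =
        (c - θ c * τ⁻¹ * (σ μ)⁻¹ * σ (σ μ)⁻¹) * h x1 v := by
      rw [hc']; ring
    rw [h2] at h1
    have h3 : (c - θ c * τ⁻¹ * (σ μ)⁻¹ * σ (σ μ)⁻¹) * h x1 v ≠ 0 :=
      mul_ne_zero (sub_ne_zero.2 hne) hx1
    have h4 := (com z).smul_mem ((c - θ c * τ⁻¹ * (σ μ)⁻¹ * σ (σ μ)⁻¹) * h x1 v)⁻¹ h1
    rwa [smul_smul, inv_mul_cancel₀ h3, one_smul] at h4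

end main

section final

theorem mem_zpowers_of_order {G : Type*} [Group G] [Finite G] [IsCyclic G] {a b : G}
    (h : orderOf a = orderOf b) : a ∈ Subgroup.zpowers b := by
  classical
  have : Fintype G := Fintype.ofFinite G
  have h1 := IsCyclic.card_pow_eq_one_le (α := G) (orderOf_pos b)
  have h2 : (Finset.univ.filter (fun x => x ∈ Subgroup.zpowers b)) ⊆
      Finset.univ.filter (fun x => x ^ orderOf b = 1) := by
    intro x hx
    rw [Finset.mem_filter] at hx ⊢
    refine ⟨Finset.mem_univ _, ?_⟩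
    obtain ⟨i, rfl⟩ := hx.2
    change (b ^ i) ^ orderOf b = 1
    rw [← zpow_natCast, ← zpow_mul, mul_comm, zpow_mul, zpow_natCast, pow_orderOf_eq_one, one_zpow]
  have h3 : (Finset.univ.filter (fun x => x ∈ Subgroup.zpowers b)).card = orderOf b := by
    rw [← Nat.card_zpowers, Nat.card_eq_fintype_card, Fintype.card_subtype]
  have h4 := Finset.eq_of_subset_of_card_le h2 (h1.trans h3.ge)
  have h5 : a ∈ Finset.univ.filter (fun x : G => x ^ orderOf b = 1) := by
    rw [Finset.mem_filter]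
    exact ⟨Finset.mem_univ _, by rw [← h, pow_orderOf_eq_one]⟩
  rw [← h4, Finset.mem_filter] at h5
  exact h5.2

variable {F : Type*} [Field F] [Finite F] {E : Type*} [AddCommGroup E] [Module F E] [Finite E]

omit [Finite F] [Finite E] in
theorem exists_linear {y : Equiv.Perm E} (hy : Semi F y (1 : F ≃+* F)) :
    ∃ r : E ≃ₗ[F] E, io F E r = y :=
  ⟨{ toFun := y
     invFun := y.symm
     map_add' := hy.1
     map_smul' := hy.2
     left_inv := y.left_inv
     right_inv := y.right_inv }, by ext x; rfl⟩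

omit [Finite F] [Finite E] in
theorem lin_data {σ : F ≃+* F} {h : E → E → F} (H : Herm σ h) {y : Equiv.Perm E} {τ l : F} {v : E}
    (hv0 : v ≠ 0) (hy : SemiH h y (1 : F ≃+* F) τ) (hyv : y v = l • v) {N : ℕ} (hN : y ^ N = 1) :
    l ^ N = 1 ∧ τ ^ N = 1 := by
  have h1 : ∀ m : ℕ, (y ^ m) v = l ^ m • v := by
    intro m
    induction m with
    | zero => simp
    | succ m ih =>
      rw [pow_succ', Equiv.Perm.mul_apply, ih, hy.2.1.2, hyv, smul_smul, pow_succ]
      rfl
  have h2 : ∀ (m : ℕ) (u w : E), h ((y ^ m) u) ((y ^ m) w) = τ ^ m * h u w := by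
    intro m
    induction m with
    | zero => intro u w; simp
    | succ m ih =>
      intro u w
      rw [pow_succ', Equiv.Perm.mul_apply, Equiv.Perm.mul_apply, hy.2.2, ih, pow_succ']
      change τ * (τ ^ m * h u w) = _
      ring
  constructor
  · have h3 := h1 N
    rw [hN, Equiv.Perm.one_apply] at h3
    have : (l ^ N) • v = (1 : F) • v := by rw [one_smul]; exact h3.symm
    exact smul_left_injective F hv0 this
  · obtain ⟨u, hu⟩ := H.nd' hv0
    have h3 := h2 N u v
    rw [hN, Equiv.Perm.one_apply, Equiv.Perm.one_apply] at h3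
    have : τ ^ N * h u v = 1 * h u v := by rw [one_mul]; exact h3.symm
    exact mul_right_cancel₀ hu this

/-- `y` stabilises the line of `v` and commutes with the transvection with parameter `c`. -/
def Fx (σ : F ≃+* F) (h : E → E → F) (v : E) (c : F) (y : Equiv.Perm E) (θ : F ≃+* F) (τ l : F) :
    Prop :=
  SemiH h y θ τ ∧ l ≠ 0 ∧ y v = l • v ∧ c = θ c * τ⁻¹ * l * σ l

omit [Finite E] in
theorem fx_pow {σ : F ≃+* F} {h : E → E → F} {v : E} {c : F} {y : Equiv.Perm E} {θ : F ≃+* F}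
    {τ l : F} (hy : Fx σ h v c y θ τ l) (m : ℕ) :
    ∃ τ' l', Fx σ h v c (y ^ m) (θ ^ m) τ' l' := by
  induction m with
  | zero =>
    refine ⟨1, 1, ⟨one_ne_zero, semi_one, fun u v => ?_⟩, one_ne_zero, ?_, ?_⟩
    · change h u v = 1 * h u v
      rw [one_mul]
    · rw [pow_zero, one_smul]; rfl
    · rw [map_one, inv_one, mul_one, mul_one, mul_one]; rfl
  | succ m ih =>
    obtain ⟨τ', l', h1, h2, h3, h4⟩ := ih
    obtain ⟨g1, g2, g3, g4⟩ := hy
    refine ⟨τ * θ τ', θ l' * l, ?_, mul_ne_zero (by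
      rw [Ne, map_eq_zero_iff θ θ.injective]; exact h2) g2, ?_, ?_⟩
    · rw [pow_succ', pow_succ']
      exact semiH_mul g1 h1
    · rw [pow_succ', Equiv.Perm.mul_apply, h3, g1.2.1.2, g3, smul_smul]
    · have h5 : θ c = θ ((θ ^ m) c) * (θ τ')⁻¹ * θ l' * θ (σ l') := by
        conv_lhs => rw [h4]
        rw [map_mul, map_mul, map_mul, map_inv₀]
      have h6 : (θ ^ (m + 1)) c = θ ((θ ^ m) c) := by rw [pow_succ']; rfl
      rw [h6, map_mul, ringAut_comm σ θ, mul_inv]
      conv_lhs => rw [g4, h5]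
      ring

theorem sep_abs {p : ℕ} [Fact p.Prime] (hp : 5 ≤ p) {σ : F ≃+* F} {h : E → E → F} (H : Herm σ h)
    (hσ1 : ∃ a, σ a ≠ a) (h3 : 3 ≤ Module.finrank F E) (hreg : RegU p F E)
    {Γ : Subgroup (Equiv.Perm E)} (hΓ : IsPGroup p Γ)
    (hY : ∀ y ∈ Γ, ∃ θ τ, SemiH h y θ τ)
    (hscal : ∀ a : Fˣ, (∃ k : ℕ, a ^ p ^ k = 1) → scal F E a ∈ Γ) :
    ∃ (v : E) (hv : h v v = 0) (c : F), c + σ c = 0 ∧
      ∀ y ∈ Γ, (∃ a : Fˣ, scal F E a *
        (io F E (H.tv v hv c) * y * (io F E (H.tv v hv c))⁻¹) ∈ Γ) → ∃ b : Fˣ, y = scal F E b := by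
  have hpp : p.Prime := Fact.out
  have hfd : FiniteDimensional F E := inferInstance
  have hcyc : IsCyclic (F ≃+* F) := isCyclic_ringAut F
  have hfin : Finite (F ≃+* F) := by
    exact Finite.of_injective (fun f : F ≃+* F => (f : F → F)) DFunLike.coe_injective
  obtain ⟨v, hv0, hv, hvr, hav⟩ := hreg σ H.inv hσ1 h H.add H.smul H.sym H.nd (RR Γ h)
    (RR_pgroup hΓ h) (fun r hr => hr.2) (fun a ha hk => ⟨hscal a hk, fun x y => by
      change h ((a : F) • x) ((a : F) • y) = _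
      rw [H.smul, H.smul_right, ← mul_assoc, ha, one_mul]⟩)
  refine ⟨v, hv, ?_⟩
  by_contra hcon
  push Not at hcon
  -- Claim A
  have hA : ∀ c : F, c ≠ 0 → c + σ c = 0 →
      ∃ y ∈ Γ, ∃ θ τ l, Fx σ h v c y θ τ l ∧ orderOf θ = p := by
    intro c hc0 hc
    obtain ⟨y, hyΓ, ⟨a, ha⟩, hyb⟩ := hcon c hc
    obtain ⟨θ, τ, hy⟩ := hY y hyΓ
    obtain ⟨l, hl0, hyv, hcl⟩ := step H h3 hΓ hscal hv0 hv hav hc0 hc hyΓ
      (fun x => ringAut_comm σ θ x) hy ha
    obtain ⟨k, hk⟩ := hΓ ⟨y, hyΓ⟩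
    have hk' : y ^ p ^ k = 1 := congrArg Subtype.val hk
    have hθ1 : θ ≠ 1 := by
      rintro rfl
      have h1 : l * σ l = τ := by
        have h2 : c * (τ⁻¹ * (l * σ l)) = c * 1 := by
          rw [mul_one]
          conv_rhs => rw [hcl]
          change _ = c * τ⁻¹ * l * σ l
          ring
        have h3 := mul_left_cancel₀ hc0 h2
        have h4 := hy.1
        field_simp at h3
        exact h3
      have h2 := lin_data H hv0 hy hyv hk'
      let L : Fˣ := Units.mk0 l hl0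
      have hL : ∃ k : ℕ, L⁻¹ ^ p ^ k = 1 := by
        refine ⟨k, ?_⟩
        rw [inv_pow, inv_eq_one]
        apply Units.ext
        rw [Units.val_pow_eq_pow_val, Units.val_one]
        exact h2.1
      have h3 : scal F E L⁻¹ * y ∈ Γ := Γ.mul_mem (hscal _ hL) hyΓ
      have h4 : Semi F (scal F E L⁻¹ * y) (1 : F ≃+* F) := by
        refine ⟨fun u w => ?_, fun b w => ?_⟩
        · rw [Equiv.Perm.mul_apply, Equiv.Perm.mul_apply, Equiv.Perm.mul_apply, hy.2.1.1,
            scal_apply, scal_apply, scal_apply, smul_add]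
        · rw [Equiv.Perm.mul_apply, Equiv.Perm.mul_apply, hy.2.1.2, scal_apply, scal_apply,
            smul_comm]
      obtain ⟨r, hr⟩ := exists_linear h4
      have hrx : ∀ x, r x = (L⁻¹ : Fˣ) • y x := fun x => by
        rw [← io_apply, hr]; rfl
      have h5 : r ∈ RR Γ h := by
        refine ⟨hr ▸ h3, fun x x' => ?_⟩
        rw [hrx, hrx]
        change h (((L⁻¹ : Fˣ) : F) • y x) (((L⁻¹ : Fˣ) : F) • y x') = _
        rw [H.smul, H.smul_right, hy.2.2]
        change _ * (_ * (τ * h x x')) = _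
        rw [← h1]
        change ((L⁻¹ : Fˣ) : F) * (σ ((L⁻¹ : Fˣ) : F) * ((L : F) * σ (L : F) * h x x')) = _
        have h6 : σ ((L⁻¹ : Fˣ) : F) * σ (L : F) = 1 := by
          rw [← map_mul, Units.inv_mul, map_one]
        have h7 : ((L⁻¹ : Fˣ) : F) * (L : F) = 1 := Units.inv_mul L
        linear_combination (h x x') * (h7 * (σ ((L⁻¹ : Fˣ) : F) * σ (L : F)) + h6)
      have h6 : r v = v := by
        rw [hrx, hyv]
        change ((L⁻¹ : Fˣ) : F) • (L : F) • v = v
        rw [smul_smul, Units.inv_mul, one_smul]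
      have h7 := hvr r h5 h6
      refine hyb L ?_
      rw [h7, map_one] at hr
      rw [eq_comm, mul_eq_one_iff_inv_eq, ← map_inv, inv_inv] at hr
      exact hr.symm
    have hθk : θ ^ p ^ k = 1 := by
      have hpw : ∀ m : ℕ, Semi F (y ^ m) (θ ^ m) := by
        intro m
        induction m with
        | zero => exact semi_one
        | succ m ih => rw [pow_succ', pow_succ']; exact semi_mul hy.2.1 ih
      have h1 := hpw (p ^ k)
      rw [hk'] at h1
      exact semi_unique h1 semi_one hv0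
    have hdvd : orderOf θ ∣ p ^ k := orderOf_dvd_of_pow_eq_one hθk
    obtain ⟨j, -, hj⟩ := (Nat.dvd_prime_pow hpp).1 hdvd
    have hpj : p ∣ orderOf θ := by
      rw [hj]
      apply dvd_pow_self
      rintro rfl
      rw [pow_zero, orderOf_eq_one_iff] at hj
      exact hθ1 hj
    obtain ⟨τ', l', hfx⟩ := fx_pow (σ := σ) (h := h) (v := v) (c := c) (y := y) (θ := θ) (τ := τ)
      (l := l) ⟨hy, hl0, hyv, hcl⟩ (orderOf θ / p)
    exact ⟨_, Γ.pow_mem hyΓ _, _, τ', l', hfx,
      orderOf_pow_orderOf_div (by rw [hj]; exact pow_ne_zero _ hpp.ne_zero) hpj⟩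
  obtain ⟨c₀, hc₀, hc₀'⟩ : ∃ c : F, c ≠ 0 ∧ c + σ c = 0 := by
    obtain ⟨a, ha⟩ := hσ1
    refine ⟨a - σ a, sub_ne_zero.2 (Ne.symm ha), ?_⟩
    rw [map_sub, H.inv]; ring
  obtain ⟨y₀, hy₀Γ, θ₀, τ₀, l₀, ⟨hy₀, hl₀, hyv₀, hcl₀⟩, hord₀⟩ := hA c₀ hc₀ hc₀'
  obtain ⟨u, hu0, huσ, hu⟩ := field_kill_fix (by omega : 3 ≤ p) σ H.inv θ₀ hord₀
  obtain ⟨y₁, hy₁Γ, θ₁, τ₁, l₁, hfx₁, hord₁⟩ := hA (u * c₀) (mul_ne_zero hu0 hc₀) (by
    rw [map_mul, huσ, ← mul_add, hc₀', mul_zero])
  obtain ⟨m, hm⟩ : ∃ m : ℕ, θ₁ ^ m = θ₀ := by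
    have h1 := mem_zpowers_of_order (hord₀.trans hord₁.symm)
    rw [← mem_powers_iff_mem_zpowers] at h1
    exact h1
  obtain ⟨τ', l', ⟨hy', hl', hyv', hcl'⟩⟩ := fx_pow hfx₁ m
  rw [hm] at hy' hcl'
  have hy'Γ : y₁ ^ m ∈ Γ := Γ.pow_mem hy₁Γ m
  obtain ⟨y', hy'e⟩ : ∃ y', y' = y₁ ^ m := ⟨_, rfl⟩
  rw [← hy'e] at hy' hyv' hy'Γ
  have h1 := semiH_mul hy' (semiH_inv hy₀)
  rw [mul_inv_cancel] at h1
  have h2 : τ' * θ₀ ((θ₀.symm τ₀)⁻¹) = τ' * τ₀⁻¹ := by
    rw [map_inv₀, θ₀.apply_symm_apply]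
  rw [h2] at h1
  have h4 : (y' * y₀⁻¹) v = (l' * l₀⁻¹) • v := by
    have h5 : y₀⁻¹ v = (θ₀.symm l₀)⁻¹ • v := by
      apply y₀.injective
      have h6 : y₀ (y₀⁻¹ v) = v := by simp
      rw [h6, hy₀.2.1.2, hyv₀, map_inv₀, θ₀.apply_symm_apply, smul_smul, inv_mul_cancel₀ hl₀,
        one_smul]
    rw [Equiv.Perm.mul_apply, h5, hy'.2.1.2, hyv', map_inv₀, θ₀.apply_symm_apply, smul_smul,
      mul_comm]
  obtain ⟨k, hk⟩ := hΓ ⟨_, Γ.mul_mem hy'Γ (Γ.inv_mem hy₀Γ)⟩
  have hk' : (y' * y₀⁻¹) ^ p ^ k = 1 := congrArg Subtype.val hk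
  obtain ⟨g1, g2⟩ := lin_data H hv0 h1 h4 hk'
  apply hu k
  have hθc : θ₀ c₀ ≠ 0 := by rw [Ne, map_eq_zero_iff θ₀ θ₀.injective]; exact hc₀
  have hθu : θ₀ u ≠ 0 := by rw [Ne, map_eq_zero_iff θ₀ θ₀.injective]; exact hu0
  have hσl₀ : σ l₀ ≠ 0 := by rw [Ne, map_eq_zero_iff σ σ.injective]; exact hl₀
  have hτ₀ := hy₀.1
  have hτ' := hy'.1
  have e1 : u / θ₀ u = (τ' * τ₀⁻¹)⁻¹ * (l' * l₀⁻¹) * σ (l' * l₀⁻¹) := by
    rw [map_mul] at hcl'
    have e2 : u * (θ₀ c₀ * τ₀⁻¹ * l₀ * σ l₀) = θ₀ u * θ₀ c₀ * τ'⁻¹ * l' * σ l' := by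
      rw [← hcl₀]; exact hcl'
    rw [map_mul, map_inv₀]
    field_simp
    field_simp at e2
    have e3 : u * l₀ * σ l₀ * τ' = θ₀ u * l' * σ l' * τ₀ := by
      linear_combination e2
    linear_combination e3
  rw [e1, mul_pow, mul_pow, inv_pow, g2, g1, ← map_pow, g1, map_one]
  norm_num

end final

/-! ### the standard hermitian form -/

section std

variable {F : Type} [Field F] [Fintype F] {q : ℕ}

theorem exists_sigma (hF : Fintype.card F = q ^ 2) :
    ∃ σ : F ≃+* F, (∀ x, σ x = x ^ q) ∧ (∀ x, σ (σ x) = x) ∧ ∃ a, σ a ≠ a := by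
  obtain ⟨r, hr⟩ := CharP.exists F
  have hrp : r.Prime := CharP.char_is_prime F r
  have : Fact r.Prime := ⟨hrp⟩
  obtain ⟨f, -, hf⟩ := FiniteField.card F r
  rw [hF] at hf
  obtain ⟨j, -, hj⟩ := (Nat.dvd_prime_pow hrp).1 (hf ▸ dvd_pow_self q two_ne_zero)
  have h1 : ∀ x : F, iterateFrobeniusEquiv F r j x = x ^ q := fun x => by
    rw [iterateFrobeniusEquiv_def, hj]
  refine ⟨iterateFrobeniusEquiv F r j, h1, fun x => ?_, ?_⟩
  · rw [h1, h1, ← pow_mul, ← sq, ← hF, FiniteField.pow_card]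
  · obtain ⟨g, hg⟩ := IsCyclic.exists_generator (α := Fˣ)
    have hq2 : 2 ≤ q := by
      by_contra hcon
      have : q = 0 ∨ q = 1 := by omega
      have h2 : 1 < Fintype.card F := Fintype.one_lt_card
      rcases this with rfl | rfl
      · rw [hF] at h2; omega
      · rw [hF] at h2; omega
    refine ⟨g, fun h2 => ?_⟩
    rw [h1] at h2
    have h3 : g ^ (q - 1) = 1 := by
      have h4 : g * g ^ (q - 1) = g * 1 := by
        rw [← pow_succ', Nat.sub_add_cancel (by omega), mul_one]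
        apply Units.ext
        rw [Units.val_pow_eq_pow_val]; exact h2
      exact mul_left_cancel h4
    have h5 : orderOf g = q ^ 2 - 1 := by
      rw [orderOf_eq_card_of_forall_mem_zpowers hg, Nat.card_units, Nat.card_eq_fintype_card, hF]
    have h6 := Nat.le_of_dvd (by omega) (orderOf_dvd_of_pow_eq_one h3)
    rw [h5, sq] at h6
    have h7 : 2 * q ≤ q * q := Nat.mul_le_mul_right _ hq2
    omega

omit [Fintype F] in
theorem herm_std {n : ℕ} {σ : F ≃+* F} (hσ : ∀ x, σ x = x ^ q)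
    (hσ2 : ∀ x, σ (σ x) = x) (hq : q ≠ 0) : Herm σ (Cfsg.hermForm n F q) where
  inv := hσ2
  add x y z := by
    simp only [Cfsg.hermForm, Pi.add_apply, add_mul, Finset.sum_add_distrib]
  smul a x y := by
    simp only [Cfsg.hermForm, Pi.smul_apply, smul_eq_mul, Finset.mul_sum, mul_assoc]
  sym x y := by
    simp only [Cfsg.hermForm, map_sum, map_mul]
    refine Finset.sum_congr rfl fun i _ => ?_
    rw [hσ (x i), ← hσ (y i), hσ2, mul_comm]
  nd x hx := by
    ext i
    have h1 := hx (Pi.single i 1)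
    rw [Cfsg.hermForm, Finset.sum_eq_single i] at h1
    · simpa using h1
    · intro j _ hj
      rw [Pi.single_eq_of_ne hj, zero_pow hq, mul_zero]
    · intro h; exact absurd (Finset.mem_univ i) h

/-- **Task 611 (S5762).** The unitary row in cross characteristic. -/
theorem sepSU_cross {p n q : ℕ} [Fact p.Prime] (hp : 5 ≤ p) {F : Type} [Field F] [Fintype F]
    (hF : Fintype.card F = q ^ 2) (_hpF : (p : F) ≠ 0) (hn : 3 ≤ n)
    (hreg : Cfsg.Agent.H903.SylReg.RegU p F (Fin n → F)) :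
    Cfsg.Agent.H903.SylSemi.SepSU p F n q := by
  intro Γ hΓ hY hscal
  obtain ⟨σ, hσ, hσ2, hσ1⟩ := exists_sigma hF
  have hq : q ≠ 0 := by
    rintro rfl
    have := Fintype.card_pos (α := F)
    rw [hF] at this
    simp at this
  have H : Herm σ (Cfsg.hermForm n F q) := herm_std hσ hσ2 hq
  obtain ⟨v, hv, c, hc, hy⟩ := sep_abs hp H hσ1 (by simpa using hn) hreg hΓ hY hscal
  refine ⟨io F _ (H.tv v hv c), ⟨⟨(H.tv v hv c : (Fin n → F) →ₗ[F] (Fin n → F)), fun x => rfl,
    H.tv_det v hv c⟩, fun x y => H.tv_isom v hv hc x y⟩, hy⟩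

end std

end Cfsg.Agent.H479.SepSU

private theorem dce_73c0dd13586c : _root_.True := by
  try have : _root_.True := by simp only [_root_.Cfsg.hermForm.eq_1]
  try have : _root_.True := by simp only [_root_.Cfsg.Agent.H479.SepSU.Herm.fn.congr_simp]
  try have : _root_.True := by simp only [_root_.Cfsg.Agent.H479.SepSU.Herm.tv.congr_simp]
  exact _root_.True.intro
end

section
prune_inst 0xf0fdffebf8bddfdfff7e7ffed9dffc39809fffe6dff94b7fe8e1ff2bdf23080dc52bad0de010fe0ed6601410b87813fb7eeeffeb6fdc7ffffd5ff41ffbee4fe5f7b50951d48c340fbc0fff03f07f8a7f000000000000000000000000000000000200000000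

-- part: H185/MeetChev
section
prune_inst 0xe0200040002202000000000240003c47d6000192006b08010140094004806f0208000f20b4a01312102aa204203c004811100040021800000a0084000118018004aa0202b008a00000000e009804400000000000000000000000000000000004000000000
set_option linter.all false
open scoped Cfsg.Agent.FastGrp

/-!
# Chevalley groups `G₂, F₄, E₆, E₇, E₈` in defining characteristic `p ≥ 5`: `Meet p`
-/

set_option autoImplicit false

namespace Cfsg.Agent.H185.MeetChev

open scoped Pointwise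
open Cfsg Cfsg.Lie Cfsg.Agent.ChevalleyStructure Cfsg.Agent.ChevalleyStructure.Elts
  Cfsg.Agent.ChevalleyStructure.BNChev Cfsg.Agent.Schreier.ChevLocal
  Cfsg.Agent.S1042 Cfsg.Agent.H70.AutFix Cfsg.Agent.H70.ChevTab Cfsg.Agent.H70.ChevFix Cfsg.Agent.H70.ChevField
open Cfsg.Agent.H79.FieldAuts (fieldHom fieldHom_xS)
open Cfsg.Agent.H903.SylMeet

universe u

variable {D : ChevalleyDatum} (hD : InList D) {F : Type u} [Field F]

theorem st_xe (σ : RingAut F) {r : ℕ} (hr : r < D.nroots) (t : F) :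
    fieldHom hD F σ (xe hD r t) = xe hD r (σ t) := fieldHom_xS hD σ hr t

theorem st_UU (σ : RingAut F) : ∀ u ∈ UU D F, fieldHom hD F σ u ∈ UU D F := by
  have h : D.posUnipotent F ≤ ((UU D F).comap (fieldHom hD F σ).toMonoidHom).map (D.group F).subtype := by
    rw [posUnipotent_le_iff hD]
    intro r hr t
    refine ⟨xe hD r t, ?_, rfl⟩
    show fieldHom hD F σ (xe hD r t) ∈ UU D F
    rw [st_xe hD σ hr.1 t]
    exact xG_mem_posUnipotent hD hr _
  intro u hu
  obtain ⟨v, hv, e⟩ := h hu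
  have h1 : v = u := Subtype.ext e
  exact h1 ▸ hv

theorem st_ne (σ : RingAut F) {i : ℕ} (hi : i < D.rank) (t : F) :
    fieldHom hD F σ (ne hD (D.simple i) t) = ne hD (D.simple i) (σ t) := by
  rw [ne_def, ne_def, map_mul, map_mul, st_xe hD σ (simple_lt hD hi), st_xe hD σ (neg_simple_lt hD hi), map_neg,
    map_inv₀]

theorem st_he (σ : RingAut F) {i : ℕ} (hi : i < D.rank) (t : F) :
    fieldHom hD F σ (he hD (D.simple i) t) = he hD (D.simple i) (σ t) := by
  rw [he_eq, he_eq, map_mul, map_inv, st_ne hD σ hi, st_ne hD σ hi, map_one]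

/-- the longest element is fixed by the field automorphisms -/
theorem st_longest (hinj : Function.Injective (MulAut.conj : ↥(D.group F) →* MulAut ↥(D.group F)))
    {n : GL D.Idx F} {a : ℕ → ℕ} (L : Longest hD F n a) (σ : RingAut F) :
    fieldHom hD F σ ⟨n, monomial_le_group hD F L.mem⟩ = ⟨n, monomial_le_group hD F L.mem⟩ := by
  set nE : ↥(D.group F) := ⟨n, monomial_le_group hD F L.mem⟩ with hnE
  have key : ∀ s < D.nroots, ∀ t : F,
      fieldHom hD F σ nE * xe hD s t * (fieldHom hD F σ nE)⁻¹ = nE * xe hD s t * nE⁻¹ := by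
    intro s hs t
    obtain ⟨η, hη, h⟩ := L.conj s hs
    have h' : ∀ t, nE * xe hD s t * nE⁻¹ = xe hD (a s) (η * t) := fun t => Subtype.ext (h t)
    have h1 := congrArg (fieldHom hD F σ) (h' (σ.symm t))
    have hση : σ η = η := by
      rcases hη with rfl | rfl
      · exact map_one σ
      · rw [map_neg, map_one]
    rw [map_mul, map_mul, map_inv, st_xe hD σ hs, st_xe hD σ (L.lt s hs), map_mul, hση,
      RingEquiv.apply_symm_apply] at h1
    rw [h1, h']
  have hc : MulAut.conj (nE⁻¹ * fieldHom hD F σ nE) = 1 := by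
    apply Cfsg.Agent.H79.SimpleGen.equiv_ext hD
    · intro i hi t
      have h1 := key _ (simple_lt hD hi) t
      show nE⁻¹ * fieldHom hD F σ nE * xe hD (D.simple i) t * (nE⁻¹ * fieldHom hD F σ nE)⁻¹ = xe hD (D.simple i) t
      calc nE⁻¹ * fieldHom hD F σ nE * xe hD (D.simple i) t * (nE⁻¹ * fieldHom hD F σ nE)⁻¹
          = nE⁻¹ * (fieldHom hD F σ nE * xe hD (D.simple i) t * (fieldHom hD F σ nE)⁻¹) * nE := by group
        _ = _ := by rw [h1]; group
    · intro i hi t
      have h1 := key _ (neg_simple_lt hD hi) t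
      show nE⁻¹ * fieldHom hD F σ nE * xe hD (D.neg (D.simple i)) t * (nE⁻¹ * fieldHom hD F σ nE)⁻¹ =
        xe hD (D.neg (D.simple i)) t
      calc nE⁻¹ * fieldHom hD F σ nE * xe hD (D.neg (D.simple i)) t * (nE⁻¹ * fieldHom hD F σ nE)⁻¹
          = nE⁻¹ * (fieldHom hD F σ nE * xe hD (D.neg (D.simple i)) t * (fieldHom hD F σ nE)⁻¹) * nE := by group
        _ = _ := by rw [h1]; group
  have h2 := hinj (hc.trans (map_one _).symm)
  exact (inv_mul_eq_one.1 h2).symm

include hD in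
/-- **Chevalley groups in characteristic `p`.** -/
theorem meet_chev [Finite F] {p : ℕ} [Fact p.Prime] [CharP F p] [IsSimpleGroup ↥(D.group F)]
    (hT : ¬ IsMulCommutative ↥(D.group F)) {m : ℕ} (hm : ¬ p ∣ m)
    (hout : Nat.card (Cfsg.Out ↥(D.group F)) ∣ m * Nat.card (RingAut F))
    {i s : ℕ} (hi : i < D.rank) (hs : s < D.nroots) (his : D.cartan i s = 1) : Meet p ↥(D.group F) := by
  have := Fintype.ofFinite F
  have hfinG : Finite ↥(D.group F) := inferInstance
  have hfinR : Finite (RingAut F) := Finite.of_injective (fun σ : RingAut F => (σ : F → F)) DFunLike.coe_injective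
  have hinj := conj_injective (T := ↥(D.group F)) hT
  obtain ⟨n, a, L⟩ := exists_longest hD F
  set nE : ↥(D.group F) := ⟨n, monomial_le_group hD F L.mem⟩ with hnE
  obtain ⟨S, hS⟩ := Cfsg.Agent.S2326.result (F := F) p D hD
  have hUp : IsPGroup p ↥(UU D F) := by
    have h1 := S.isPGroup'
    rw [hS] at h1
    exact h1
  have hUi : ¬ p ∣ (UU D F).index := by
    have h1 := S.not_dvd_index
    rw [hS] at h1
    exact h1
  obtain ⟨c, hc⟩ := IsCyclic.exists_generator (α := Fˣ)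
  have hnV : ∀ u ∈ UU D F, ((nE * u * nE⁻¹ : ↥(D.group F)) : GL D.Idx F) ∈ D.negUnipotent F := by
    have h1 : D.posUnipotent F ≤ (D.negUnipotent F).comap (MulAut.conj n).toMonoidHom := by
      rw [posUnipotent_le_iff hD]
      intro r hr t
      obtain ⟨η, -, h⟩ := L.conj r hr.1
      show n * xG hD r t * n⁻¹ ∈ D.negUnipotent F
      rw [h]
      exact xG_mem_negUnipotent hD (L.pos r hr) _
    intro u hu
    exact h1 hu
  have hone : ∀ u ∈ UU D F, ((nE * u * nE⁻¹ : ↥(D.group F)) : GL D.Idx F) ∈ D.borelSubgroup F → u = 1 := by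
    intro u hu h
    have h1 : nE * u * nE⁻¹ = 1 := Subtype.ext (one_of_mem_borel_of_mem_neg h (hnV u hu) hD)
    have h2 : nE * u * nE⁻¹ = nE * 1 * nE⁻¹ := by rw [h1]; group
    exact mul_left_cancel (mul_right_cancel h2)
  set t : ↥(D.group F) := he hD (D.simple i) (c : F) with ht
  have htH : ∀ σ : RingAut F, ((fieldHom hD F σ t : ↥(D.group F)) : GL D.Idx F) ∈ D.diagonalSubgroup F := by
    intro σ
    rw [ht, st_he hD σ hi]
    refine he_mem_HH hD (simple_lt hD hi) ?_
    rw [Ne, map_eq_zero]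
    exact c.ne_zero
  have htH1 : (t : GL D.Idx F) ∈ D.diagonalSubgroup F := he_mem_HH hD (simple_lt hD hi) c.ne_zero
  refine MeetChar.meet_of_frame hT hUp hUi (fieldHom hD F) (st_UU hD) hm hout nE t
    (fun σ => st_longest hD hinj L σ) ?_ ?_ ?_
  · intro u hu h
    exact hone u hu (Subgroup.mem_sup_left h)
  · intro u hu σ h
    apply hone u hu
    have h1 : ((t * (nE * u * nE⁻¹) * (fieldHom hD F σ t)⁻¹ : ↥(D.group F)) : GL D.Idx F) ∈ D.posUnipotent F := h
    have h2 : ((nE * u * nE⁻¹ : ↥(D.group F)) : GL D.Idx F) =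
        (t : GL D.Idx F)⁻¹ * ((t * (nE * u * nE⁻¹) * (fieldHom hD F σ t)⁻¹ : ↥(D.group F)) : GL D.Idx F) *
          ((fieldHom hD F σ t : ↥(D.group F)) : GL D.Idx F) := by
      simp only [Subgroup.coe_mul, Subgroup.coe_inv]
      group
    rw [h2]
    exact mul_mem (mul_mem (Subgroup.mem_sup_right (inv_mem htH1)) (Subgroup.mem_sup_left h1))
      (Subgroup.mem_sup_right (htH σ))
  · intro σ _ h
    have h1 : (t * (fieldHom hD F σ t)⁻¹ : ↥(D.group F)) = 1 := by
      apply Subtype.ext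
      have h2 : ((t * (fieldHom hD F σ t)⁻¹ : ↥(D.group F)) : GL D.Idx F) ∈
          D.posUnipotent F ⊓ D.diagonalSubgroup F := by
        refine Subgroup.mem_inf.2 ⟨h, ?_⟩
        rw [Subgroup.coe_mul, Subgroup.coe_inv]
        exact mul_mem htH1 (inv_mem (htH σ))
      rw [(Cfsg.Agent.S1036.result (F := F) D hD).2, Subgroup.mem_bot] at h2
      exact h2
    have h3 : t = fieldHom hD F σ t := mul_inv_eq_one.1 h1
    rw [ht, st_he hD σ hi] at h3
    have hσc : σ (c : F) ≠ 0 := by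
      rw [Ne, map_eq_zero]
      exact c.ne_zero
    have h4 := he_conj hD hi hs c.ne_zero (1 : F)
    rw [h3, he_conj hD hi hs hσc, his, zpow_one, zpow_one, mul_one, mul_one] at h4
    have h5 : σ (c : F) = c := xe_inj hD hs h4
    ext y
    rcases eq_or_ne y 0 with rfl | hy
    · rw [map_zero]; rfl
    · obtain ⟨k, hk⟩ := hc (Units.mk0 y hy)
      have h6 : y = (c : F) ^ k := by
        have := congrArg Units.val hk
        simpa using this.symm
      rw [h6, map_zpow₀, h5]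
      rfl

/-! ### the types -/

theorem not_dvd_of_dvd_six {p k : ℕ} (hp : p.Prime) (hp5 : 5 ≤ p) (hk : k ∣ 6) : ¬ p ∣ k := by
  intro h
  have h1 := Nat.le_of_dvd (by norm_num) (h.trans hk)
  interval_cases p
  · exact absurd (h.trans hk) (by norm_num)
  · exact absurd hp (by norm_num)

/-- **`G₂, F₄, E₆, E₇, E₈` in characteristic `p ≥ 5`.** -/
theorem char_chev (D : ChevalleyDatum) (hD : D ∈ [chevG2, chevF4, chevE6, chevE7, chevE8])
    {F : Type} [Field F] [Fintype F] {p : ℕ} [Fact p.Prime] (hp : 5 ≤ p) [CharP F p] :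
    Meet p ↥(D.group F) := by
  have hpp : p.Prime := Fact.out
  obtain ⟨f, -, hF⟩ := FiniteField.card F p
  have hf : 1 ≤ (f : ℕ) := f.pos
  have hRA : Nat.card (RingAut F) = f := Cfsg.Agent.Lib.FieldAutCard.card_ringAut hf hF
  have hpf : p ≤ p ^ (f : ℕ) := Nat.le_self_pow (by omega) p
  have hmem : D ∈ [chevG2, chevB2, chevD4, chevF4, chevE6, chevE7, chevE8] := by
    simp only [List.mem_cons, List.not_mem_nil, or_false] at hD ⊢
    tauto
  obtain ⟨hs, hna⟩ := Cfsg.Agent.S2155.simple (F := F) D hmem (fun _ => by rw [hF]; omega)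
  simp only [List.mem_cons, List.not_mem_nil, or_false] at hD
  rcases hD with rfl | rfl | rfl | rfl | rfl
  · refine meet_chev hmem hna (m := 1) (not_dvd_of_dvd_six hpp hp (by norm_num)) ?_ (i := 0) (s := 3)
      (by decide +kernel) (by decide +kernel) (by decide +kernel)
    rw [Cfsg.Agent.S2121.result p f hF (by omega), if_neg (by omega), hRA, one_mul]
  · refine meet_chev hmem hna (m := 1) (not_dvd_of_dvd_six hpp hp (by norm_num)) ?_ (i := 0) (s := 7)
      (by decide +kernel) (by decide +kernel) (by decide +kernel)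
    have h2 : Nat.gcd 2 p = 1 := (Nat.coprime_primes Nat.prime_two hpp).2 (by omega)
    rw [Cfsg.Agent.S2122.result p f hF, hRA, h2]
  · refine meet_chev hmem hna (m := 6) (not_dvd_of_dvd_six hpp hp (by norm_num)) ?_ (i := 0) (s := 16)
      (by decide +kernel) (by decide +kernel) (by decide +kernel)
    rw [Cfsg.Agent.S2123.result p f hF, hRA]
    exact mul_dvd_mul_right (mul_dvd_mul_left 2 (Nat.gcd_dvd_left 3 _)) _
  · refine meet_chev hmem hna (m := 2) (not_dvd_of_dvd_six hpp hp (by norm_num)) ?_ (i := 0) (s := 1)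
      (by decide +kernel) (by decide +kernel) (by decide +kernel)
    rw [Cfsg.Agent.S2124.result p f hF, hRA]
    exact mul_dvd_mul_right (Nat.gcd_dvd_left 2 _) _
  · refine meet_chev hmem hna (m := 1) (not_dvd_of_dvd_six hpp hp (by norm_num)) ?_ (i := 0) (s := 14)
      (by decide +kernel) (by decide +kernel) (by decide +kernel)
    rw [Cfsg.Agent.S2125.result p f hF, hRA, one_mul]

end Cfsg.Agent.H185.MeetChev

private theorem dce_1d9f0d48493c : _root_.True := by
  try have : _root_.True := by simp only [_root_.Cfsg.Agent.H79.FieldAuts.fieldHom.congr_simp]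
  exact _root_.True.intro
end

-- part: H185/MeetTw
section
set_option linter.all false
open scoped Cfsg.Agent.FastGrp

-- part: H185/MeetRgd
section
/-!
# Groups with a root group datum in characteristic `p`: `Meet p`
-/

set_option autoImplicit false

namespace Cfsg.Agent.H185.MeetRgd

open CoxeterSystem Cfsg.Agent.ChevalleyStructure.CoxeterGeom Cfsg.Agent.Tits.Roots Cfsg.Agent.Tits.Core
  Cfsg.Agent.Tits.Exchange Cfsg.Agent.Nodes.Reps Cfsg.Agent.Nodes.BNOf Cfsg.Agent.Nodes.StabComb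
  Cfsg.Agent.Nodes.Bruhat Cfsg.Agent.Nodes.OppDec
  Cfsg.Agent.KFacts.RgdAut Cfsg.Agent.KFacts.RgdDiag Cfsg.Agent.KFacts.RgdAutFacts
open Cfsg.Agent.H903.SylMeet

variable {I W Y : Type*} [Fintype I] [DecidableEq I] [Group W] [Group Y] {M : CoxeterMatrix I}
  {cs : CoxeterSystem M W} {A : I → I → ℤ} {h : IsCartan M A} {p : ℕ} {T : Subgroup Y} {n : I → Y}
  {X : (I → ℤ) → Subgroup Y}

/-- representatives fixed by a group of automorphisms fixing the `n i` -/
theorem exists_rp_fix (R : RGD cs h p T n X) {Γ : Type*} (st : Γ → MulAut Y) (hn : ∀ γ i, st γ (n i) = n i)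
    (w : W) : ∃ k, Rp cs R.nsys w k ∧ ∀ γ, st γ k = k := by
  obtain ⟨ω, rfl⟩ := cs.wordProd_surjective w
  induction ω with
  | nil => exact ⟨1, by rw [wordProd_nil]; exact rp_one, fun γ => map_one _⟩
  | cons i ω ih =>
    obtain ⟨k, hk, e⟩ := ih
    refine ⟨n i * k, ?_, fun γ => by rw [map_mul, hn, e]⟩
    rw [wordProd_cons]
    exact (rp_simple cs R.nsys i).mul hk

/-- **Root group data in characteristic `p`.** -/
theorem meet_rgd (R : RGD cs h p T n X) [Finite W] [Finite Y] [IsSimpleGroup Y] [Fact p.Prime]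
    (hY : ¬ IsMulCommutative Y) (hG : GG cs h T X = ⊤) {Γ : Type*} [Group Γ] [Finite Γ] (st : Γ →* MulAut Y)
    (hD : ∀ γ, Diag T X (st γ) 1) (hn : ∀ γ i, st γ (n i) = n i) {m : ℕ} (hm : ¬ p ∣ m)
    (hout : Nat.card (Cfsg.Out Y) ∣ m * Nat.card Γ) (t : Y) (ht : t ∈ T)
    (hreg : ∀ γ, (∃ k, γ ^ p ^ k = 1) → st γ t = t → γ = 1) : Meet p Y := by
  obtain ⟨S, hS⟩ := exists_sylow R hG
  have hUp : IsPGroup p ↥(RGD.Sup X (RGD.Pos cs h)) := R.isPGroup_Upos
  have hUi : ¬ p ∣ (RGD.Sup X (RGD.Pos cs h)).index := by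
    rw [← hS]
    exact S.not_dvd_index
  have hst : ∀ γ, ∀ u ∈ RGD.Sup X (RGD.Pos cs h), st γ u ∈ RGD.Sup X (RGD.Pos cs h) := by
    intro γ u hu
    have h1 : RGD.Sup X (RGD.Pos cs h) ≤ (RGD.Sup X (RGD.Pos cs h)).comap (st γ).toMonoidHom := by
      refine RGD.Sup_le fun z hz a ha => ?_
      have h2 := (Diag.root_comp R (hD γ) (fun i j => rfl) hz.1 a).2 ha
      exact RGD.le_Sup (S := RGD.Pos cs h) hz h2
    exact h1 hu
  obtain ⟨k, hk, hkf⟩ := exists_rp_fix R (fun γ => st γ) hn (w0 cs)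
  have hkU : ∀ u ∈ RGD.Sup X (RGD.Pos cs h), k * u * k⁻¹ ∈ UN cs h X := by
    intro u hu
    rw [← cj_U R hk]
    exact conj_mem_cj.2 hu
  have hone : ∀ u ∈ RGD.Sup X (RGD.Pos cs h), k * u * k⁻¹ ∈ RGD.B cs h T X → u = 1 := by
    intro u hu hB
    have h1 : k * u * k⁻¹ = 1 := eq_one_of_mem_UN_of_mem_B R (hkU u hu) hB
    have h2 : k * u * k⁻¹ = k * 1 * k⁻¹ := by rw [h1]; group
    exact mul_left_cancel (mul_right_cancel h2)
  have hTB : T ≤ RGD.B cs h T X := RGD.T_le_B
  have hUB : RGD.Sup X (RGD.Pos cs h) ≤ RGD.B cs h T X := RGD.U_le_B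
  have htf : ∀ γ, st γ t ∈ T := fun γ => ((hD γ).tor t).2 ht
  refine MeetChar.meet_of_frame hY hUp hUi st hst hm hout k t hkf ?_ ?_ ?_
  · intro u hu h1
    exact hone u hu (hUB h1)
  · intro u hu γ h1
    apply hone u hu
    have h2 : k * u * k⁻¹ = t⁻¹ * (t * (k * u * k⁻¹) * (st γ t)⁻¹) * st γ t := by group
    rw [h2]
    exact mul_mem (mul_mem (hTB (inv_mem ht)) (hUB h1)) (hTB (htf γ))
  · intro γ hγ h1
    apply hreg γ hγ
    have h2 : t * (st γ t)⁻¹ ∈ RGD.Sup X (RGD.Pos cs h) ⊓ T :=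
      Subgroup.mem_inf.2 ⟨h1, mul_mem ht (inv_mem (htf γ))⟩
    rw [U_inf_T R, Subgroup.mem_bot] at h2
    exact (mul_inv_eq_one.1 h2).symm

end Cfsg.Agent.H185.MeetRgd
end

-- part: H185/MeetTw
section
/-!
# `²E₆(q)` and `³D₄(q)` in characteristic `p ≥ 5`: `Meet p`
-/

set_option autoImplicit false
set_option linter.unusedSectionVars false
set_option maxHeartbeats 400000

namespace Cfsg.Agent.H185.MeetTw

open CoxeterSystem Cfsg.Agent.ChevalleyStructure.CoxeterGeom Cfsg.Agent.Tits.Roots Cfsg.Agent.Tits.Core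
  Cfsg.Agent.Tits.Exchange Cfsg.Agent.Nodes.Reps Cfsg.Agent.Nodes.BNOf Cfsg.Agent.Nodes.StabComb
  Cfsg.Agent.Nodes.Bruhat Cfsg.Agent.Nodes.OppDec Cfsg.Agent.Nodes.RGDTwGen Cfsg.Agent.Nodes.RGDChev
  Cfsg.Agent.Nodes.RGDFold Cfsg.Agent.Nodes.RGDFoldSL
open Cfsg.Agent.KFacts.RgdOpp Cfsg.Agent.KFacts.RgdAut Cfsg.Agent.KFacts.RgdDiag Cfsg.Agent.KFacts.RgdRigid
  Cfsg.Agent.KFacts.RgdField Cfsg.Agent.KFacts.RgdTau Cfsg.Agent.KFacts.RgdNodes
open Cfsg.Lie Cfsg.Agent.ChevalleyStructure Cfsg.Agent.ChevalleyStructure.Elts Cfsg.Agent.ChevStructure.FieldMap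
open Cfsg.Agent.ChevalleyStructure.SL2Hom (up lo)
open Cfsg.Agent.CpAut.RgdTwStd
open Cfsg.Agent.H903.SylMeet

universe u

/-- an element of `T` on which the field automorphisms act freely -/
theorem exists_free {Y F : Type*} [Group Y] [Field F] [Finite F] {T P : Subgroup Y} {x : F → Y} {χ : Y → F}
    (C : Coord T P x χ) : ∃ t ∈ T, ∀ τ : F ≃+* F, τ (χ t) = χ t → τ = 1 := by
  let f : ↥T →* Fˣ :=
    { toFun := fun t => Units.mk0 (χ t) (C.chi_ne_zero t.2)
      map_one' := by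
        apply Units.ext
        have h1 := C.chi_mul (one_mem T) (one_mem T)
        rw [mul_one] at h1
        have h2 := C.chi_ne_zero (one_mem T)
        exact mul_left_cancel₀ h2 (by rw [Units.val_mk0, Units.val_one, mul_one]; exact h1.symm)
      map_mul' := fun s t => Units.ext (C.chi_mul s.2 t.2) }
  have hcyc : IsCyclic ↥f.range := inferInstance
  obtain ⟨⟨_, t, rfl⟩, hg⟩ := IsCyclic.exists_generator (α := ↥f.range)
  refine ⟨t, t.2, fun τ hτ => C.ext (fun s hs => ?_)⟩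
  obtain ⟨k, hk⟩ := Subgroup.mem_zpowers_iff.1 (hg ⟨f ⟨s, hs⟩, ⟨s, hs⟩, rfl⟩)
  have h1 : χ t ^ k = χ s := by
    have h2 : ((f t) ^ k : Fˣ) = f ⟨s, hs⟩ := congrArg Subtype.val hk
    have h3 := congrArg Units.val h2
    rw [Units.val_zpow_eq_zpow_val] at h3
    exact h3
  rw [← h1, map_zpow₀, hτ]
  rfl

/-! ### `²E₆` -/

section E6

open Cfsg.Agent.KFacts.TwESix.NodeCoord Cfsg.Agent.KFacts.TwESix.Out Cfsg.Agent.KFacts.TwESix.OutTwo
open Cfsg.Agent.Nodes.RGDTwE6 Cfsg.Agent.Nodes.RGDTwNode.E6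
open Cfsg.Agent.ChevalleyStructure.TwE6Basic (hE6 exists_frob)
open Cfsg.Agent.CpAut.RgdTwE6 (st rs st_n ntau_st)

/-- the field automorphisms -/
noncomputable def stE {K : Type u} [Field K] (q : ℕ) : (K ≃+* K) →* MulAut ↥(twistedE6 K q) where
  toFun := st q
  map_one' := by
    apply MulEquiv.ext
    intro g
    apply Subtype.ext
    exact glE_one _
  map_mul' τ τ' := by
    apply MulEquiv.ext
    intro g
    apply Subtype.ext
    exact glE_mul τ τ' _

/-- **`²E₆(q)` in characteristic `p ≥ 5`.** -/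
theorem char_2E6 {K : Type} [Field K] [Fintype K] (q : ℕ) (hq : IsPrimePow q) (hK : Fintype.card K = q ^ 2)
    {p : ℕ} [Fact p.Prime] (hp : 5 ≤ p) (hpq : p ∣ q) : Meet p ↥(twistedE6 K q) := by
  have hpp : p.Prime := Fact.out
  obtain ⟨φ, hφ, hqq⟩ := exists_frob hq hK
  obtain ⟨p', f, hp', hf, hpf⟩ := (isPrimePow_nat_iff _).1 hq
  obtain rfl : p = p' := by
    rw [← hpf] at hpq
    exact (Nat.prime_dvd_prime_iff_eq hpp hp').1 (hpp.dvd_of_dvd_pow hpq)
  have hKp : Fintype.card K = p ^ (2 * f) := by rw [hK, ← hpf, ← pow_mul, mul_comm]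
  have hchar : CharP K p := by
    obtain ⟨c, hc⟩ := CharP.exists K
    have : c = p := Cfsg.Agent.FixBN.TwESixSplit.char_eq (K := K) hpp hKp
    exact this ▸ hc
  have hW : Finite CoxeterMatrix.F₄.Group :=
    Cfsg.Agent.Nodes.RGDFold.finite_W (hp := Cfsg.Agent.Nodes.RGDTwE6.hp) CoxeterMatrix.F₄.toCoxeterSystem
      Cfsg.Agent.Nodes.RGDTwE6.isCartan Cfsg.Agent.Nodes.RGDTwE6.foldData
  obtain ⟨cs, -⟩ : ∃ cs : CoxeterSystem CoxeterMatrix.F₄ CoxeterMatrix.F₄.Group, cs = cs :=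
    ⟨CoxeterMatrix.F₄.toCoxeterSystem, rfl⟩
  have R := Cfsg.Agent.Nodes.RGDTwE6.rgd cs hφ hqq p
  have hG1 := G1_top cs hφ hqq
  obtain ⟨hs, hna⟩ := Cfsg.Agent.S1070.result hq hK
  have hout := Cfsg.Agent.S2130.result (K := K) p f hKp hf.nat_succ_le
  rw [hpf] at hout
  have hRA : Nat.card (K ≃+* K) = 2 * f :=
    Cfsg.Agent.Lib.FieldAutCard.card_ringAut (by omega) hKp
  have hfinR : Finite (K ≃+* K) := Finite.of_injective (fun σ : K ≃+* K => (σ : K → K)) DFunLike.coe_injective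
  obtain ⟨t, ht, hfree⟩ := exists_free (coordE hφ hqq 2)
  refine MeetRgd.meet_rgd R hna (GG_eq_top (T := T K q) hG1) (stE q)
    (fun τ => (ntau_st hφ hqq τ cs p).diag) (fun τ i => st_n hφ τ i) (m := 6)
    (MeetChev.not_dvd_of_dvd_six hpp hp (by norm_num)) ?_ t ht ?_
  · rw [hout, hRA]
    refine dvd_trans (b := 2 * 3 * f) ?_ ?_
    · exact mul_dvd_mul_right (mul_dvd_mul_left 2 (Nat.gcd_dvd_left 3 _)) _
    · exact ⟨2, by ring⟩
  · intro τ _ h
    have h1 := (ntau_st hφ hqq τ cs p).char 2 t ht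
    have h2 : st q τ t = t := h
    rw [h2] at h1
    have h3 := hfree _ h1.symm
    ext a
    have h4 : a ∈ KF φ 2 := by
      have := F2_eq_top hφ hqq
      show a ∈ Fx φ 2
      rw [this]
      exact Subfield.mem_top a
    have h5 := congrArg (fun f : KF φ 2 ≃+* KF φ 2 => ((f ⟨a, h4⟩ : KF φ 2) : K)) h3
    exact h5

end E6

/-! ### `³D₄` -/

section D4

open Cfsg.Agent.KFacts.TwDFour.Out
open Cfsg.Agent.Nodes.RGDTwD4 Cfsg.Agent.Nodes.RGDTwNode.D4
open Cfsg.Agent.ChevalleyStructure (D4Fixed.exists_frob)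
open Cfsg.Agent.H69.OutTwD4 (st rs st_n ntau_st)

/-- the field automorphisms -/
noncomputable def stD {K : Type u} [Field K] (q : ℕ) : (K ≃+* K) →* MulAut ↥(twistedD4 K q) where
  toFun := st q
  map_one' := by
    apply MulEquiv.ext
    intro g
    apply Subtype.ext
    exact glE_one _
  map_mul' τ τ' := by
    apply MulEquiv.ext
    intro g
    apply Subtype.ext
    exact glE_mul τ τ' _

/-- **`³D₄(q)` in characteristic `p ≥ 5`.** -/
theorem char_3D4 {K : Type} [Field K] [Fintype K] (q : ℕ) (hq : IsPrimePow q) (hK : Fintype.card K = q ^ 3)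
    {p : ℕ} [Fact p.Prime] (hp : 5 ≤ p) (hpq : p ∣ q) : Meet p ↥(twistedD4 K q) := by
  have hpp : p.Prime := Fact.out
  obtain ⟨φ, hφ⟩ := Cfsg.Agent.ChevalleyStructure.D4Fixed.exists_frob hq hK
  obtain ⟨p', f, hp', hf, hpf⟩ := (isPrimePow_nat_iff _).1 hq
  obtain rfl : p = p' := by
    rw [← hpf] at hpq
    exact (Nat.prime_dvd_prime_iff_eq hpp hp').1 (hpp.dvd_of_dvd_pow hpq)
  have hKp : Fintype.card K = p ^ (3 * f) := by rw [hK, ← hpf, ← pow_mul, mul_comm]
  have hchar : CharP K p := by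
    obtain ⟨c, hc⟩ := CharP.exists K
    have : c = p := Cfsg.Agent.FixBN.TwESixSplit.char_eq (K := K) hpp hKp
    exact this ▸ hc
  obtain ⟨cs, -⟩ : ∃ cs : CoxeterSystem CoxeterMatrix.G₂ CoxeterMatrix.G₂.Group, cs = cs :=
    ⟨CoxeterMatrix.G₂.toCoxeterSystem, rfl⟩
  have hW : Finite CoxeterMatrix.G₂.Group := finiteW cs
  have R := Cfsg.Agent.Nodes.RGDTwD4.rgd cs hK hφ p
  have hG1 : RGD.Sup (X φ q) {x | IsRoot cs isCartan x} = ⊤ := G1_eq_top cs hK hφ
  obtain ⟨hs, hna⟩ := Cfsg.Agent.S1071.result hq hK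
  have hout := Cfsg.Agent.S2129.result (K := K) p f hKp hf.nat_succ_le
  rw [hpf] at hout
  have hRA : Nat.card (K ≃+* K) = 3 * f :=
    Cfsg.Agent.Lib.FieldAutCard.card_ringAut (by omega) hKp
  have hfinR : Finite (K ≃+* K) := Finite.of_injective (fun σ : K ≃+* K => (σ : K → K)) DFunLike.coe_injective
  obtain ⟨t, ht, hfree⟩ := exists_free (coordD hφ hK 1)
  refine MeetRgd.meet_rgd R hna (GG_eq_top (T := T K q) hG1) (stD q)
    (fun τ => (ntau_st hφ hK τ cs p).diag) (fun τ i => st_n hφ τ i) (m := 1)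
    (MeetChev.not_dvd_of_dvd_six hpp hp (by norm_num)) ?_ t ht ?_
  · rw [hout, hRA, one_mul]
  · intro τ _ h
    have h1 := (ntau_st hφ hK τ cs p).char 1 t ht
    have h2 : st q τ t = t := h
    rw [h2] at h1
    have h3 := hfree _ h1.symm
    ext a
    have h4 : a ∈ KD φ 1 := by
      rw [F3_eq_top hK hφ]
      exact Subfield.mem_top a
    have h5 := congrArg (fun f : KD φ 1 ≃+* KD φ 1 => ((f ⟨a, h4⟩ : KD φ 1) : K)) h3
    exact h5

end D4

end Cfsg.Agent.H185.MeetTw
end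
end

-- part: H903/SylExc
section
prune_inst 0x200040500000000000000000000004100000000000000000800100000842020400000000001000080800000004000000000000000000000a000000000001000000000000000000000000000000400000000000000000000000000000000004000000000
set_option linter.all false
open scoped Cfsg.Agent.FastGrp

-- part: H172/SITwAmp
section
/-!
# The amplified index bound for fixed points on a special group

`TwData` for an automorphism of order 2 together with elements `Y β t = y β t * y (ρ β) (η β * φ t)` of `G`: the group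
`Q0` is irreducible under the `Y β t` (`irr_tw`), and `amp_tw` is the resulting index bound.
-/

set_option autoImplicit false

namespace Cfsg.Agent.H172.SITwAmp

open MulAction Cfsg.Agent.H934.Burn Cfsg.Agent.H934.Heis Cfsg.Agent.H934.HeisData Cfsg.Agent.H934.HeisRoot
  Cfsg.Agent.H934.HeisTw Cfsg.Agent.H934.HeisTw.TwData

section Irr

variable {Γ F ι κ : Type*} [Group Γ] [Field F] [Fintype ι] [DecidableEq ι] (R : RH Γ F ι κ)

theorem tr_two {M : Type*} [AddCommGroup M] (s : M →+ M) (v : M) : tr s 2 v = v + s v := by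
  unfold tr
  rw [Finset.sum_range_succ, Finset.sum_range_succ, Finset.sum_range_zero, zero_add, Function.iterate_one]
  rfl

/-- **Irreducibility of the fixed points.** -/
theorem irr_tw {φ : F →+* F} (h2 : ∀ t, φ (φ t) = t) {b0 : F} (hb0 : b0 + φ b0 = 1) {μ : F} (hμ : φ μ ≠ μ)
    (s : (ι → F) →+ (ι → F)) (hs : ∀ (c : F) v, s (c • v) = φ c • s v) (W : AddSubgroup (ι → F))
    (hW : ∀ β (t : F), ∀ v ∈ W, v + (t • R.N β v + s (t • R.N β v)) + (t * φ t) • R.N β (s (R.N β v)) ∈ W) :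
    W = ⊥ ∨ ∀ v, s v = v → v ∈ W := by
  have hφ1 : φ 1 = 1 := map_one φ
  -- the traces
  have h3 : ∀ β (t : F), ∀ v ∈ W, t • R.N β v + s (t • R.N β v) ∈ W := by
    intro β t v hv
    have hA : ∀ t : F, t • R.N β v + s (t • R.N β v) + (t * φ t) • R.N β (s (R.N β v)) ∈ W := by
      intro t
      have h := W.sub_mem (hW β t v hv) hv
      have e : v + (t • R.N β v + s (t • R.N β v)) + (t * φ t) • R.N β (s (R.N β v)) - v =
        t • R.N β v + s (t • R.N β v) + (t * φ t) • R.N β (s (R.N β v)) := by abel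
      rwa [e] at h
    have hB : ∀ a b : F, (a * φ b + b * φ a) • R.N β (s (R.N β v)) ∈ W := by
      intro a b
      have h := W.sub_mem (W.sub_mem (hA (a + b)) (hA a)) (hA b)
      have e : (a + b) • R.N β v + s ((a + b) • R.N β v) + ((a + b) * φ (a + b)) • R.N β (s (R.N β v)) -
          (a • R.N β v + s (a • R.N β v) + (a * φ a) • R.N β (s (R.N β v))) -
          (b • R.N β v + s (b • R.N β v) + (b * φ b) • R.N β (s (R.N β v))) =
          (a * φ b + b * φ a) • R.N β (s (R.N β v)) := by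
        rw [map_add φ, add_smul, map_add s,
          show (a + b) * (φ a + φ b) = a * φ a + b * φ b + (a * φ b + b * φ a) by ring, add_smul, add_smul]
        abel
      rwa [e] at h
    have hC := hB (b0 * (t * φ t)) 1
    have e : b0 * (t * φ t) * φ 1 + 1 * φ (b0 * (t * φ t)) = t * φ t := by
      rw [map_mul, map_mul, h2, hφ1]
      calc b0 * (t * φ t) * 1 + 1 * (φ b0 * (φ t * t)) = (b0 + φ b0) * (t * φ t) := by ring
        _ = _ := by rw [hb0, one_mul]
    rw [e] at hC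
    have h := W.sub_mem (hA t) hC
    rwa [add_sub_cancel_right] at h
  let U : AddSubgroup (ι → F) :=
    { carrier := {v | ∀ l : F, l • v + s (l • v) ∈ W}
      zero_mem' := by
        intro l
        rw [smul_zero, map_zero, add_zero]
        exact W.zero_mem
      add_mem' := by
        intro v w hv hw l
        have h := W.add_mem (hv l) (hw l)
        have e : l • v + s (l • v) + (l • w + s (l • w)) = l • (v + w) + s (l • (v + w)) := by
          rw [smul_add, map_add]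
          abel
        rwa [e] at h
      neg_mem' := by
        intro v hv l
        have h := W.neg_mem (hv l)
        have e : -(l • v + s (l • v)) = l • (-v) + s (l • (-v)) := by
          rw [smul_neg, map_neg]
          abel
        rwa [e] at h }
  have hU : ∀ v, v ∈ U ↔ ∀ l : F, l • v + s (l • v) ∈ W := fun v => Iff.rfl
  have hUN : ∀ β, ∀ v ∈ U, R.N β v ∈ U := by
    intro β v hv
    rw [hU] at hv ⊢
    -- `tr (t N (tr (m v)))`
    have h4 : ∀ t m : F, (t * m) • R.N β v + s ((t * m) • R.N β v) +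
        ((t * φ m) • R.N β (s v) + s ((t * φ m) • R.N β (s v))) ∈ W := by
      intro t m
      have h := h3 β t _ (hv m)
      have e : t • R.N β (m • v + s (m • v)) + s (t • R.N β (m • v + s (m • v))) =
          (t * m) • R.N β v + s ((t * m) • R.N β v) +
        ((t * φ m) • R.N β (s v) + s ((t * φ m) • R.N β (s v))) := by
        rw [hs, map_add (R.N β), map_smul, map_smul, smul_add, smul_smul, smul_smul, map_add s]
        abel
      rwa [e] at h
    have hμ0 : μ ≠ 0 := by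
      rintro rfl
      exact hμ (map_zero φ)
    have h5 : ∀ l : F, (l * (1 - φ μ / μ)) • R.N β (s v) + s ((l * (1 - φ μ / μ)) • R.N β (s v)) ∈ W := by
      intro l
      have h6 := W.sub_mem (h4 l 1) (h4 (l / μ) μ)
      rw [hφ1, mul_one, div_mul_cancel₀ l hμ0] at h6
      have e : l • R.N β v + s (l • R.N β v) + (l • R.N β (s v) + s (l • R.N β (s v))) -
          (l • R.N β v + s (l • R.N β v) + ((l / μ * φ μ) • R.N β (s v) + s ((l / μ * φ μ) • R.N β (s v)))) =
          (l * (1 - φ μ / μ)) • R.N β (s v) + s ((l * (1 - φ μ / μ)) • R.N β (s v)) := by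
        rw [show l * (1 - φ μ / μ) = l - l / μ * φ μ by ring, sub_smul, map_sub]
        abel
      rwa [e] at h6
    have hd : 1 - φ μ / μ ≠ 0 := by
      intro h
      rw [sub_eq_zero, eq_div_iff hμ0, one_mul] at h
      exact hμ h.symm
    have h6 : ∀ l : F, l • R.N β (s v) + s (l • R.N β (s v)) ∈ W := by
      intro l
      have h := h5 (l / (1 - φ μ / μ))
      rwa [div_mul_cancel₀ l hd] at h
    intro l
    have h := W.sub_mem (h4 l 1) (h6 l)
    rw [hφ1, mul_one] at h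
    rwa [add_sub_cancel_right] at h
  have hUs : ∀ (c : F), ∀ v ∈ U, c • v ∈ U := by
    intro c v hv l
    have h := hv (l * c)
    rwa [mul_smul] at h
  rcases R.irr U (fun k v hv => U.add_mem hv (hUs _ _ (hUN _ _ hv))) with h | h
  · left
    rw [AddSubgroup.eq_bot_iff_forall]
    intro w hw
    have h5 : ∀ β, R.N β w = 0 := by
      intro β
      have h6 : R.N β w ∈ U := fun l => h3 β l w hw
      rw [h, AddSubgroup.mem_bot] at h6
      exact h6
    ext i
    obtain ⟨L, j, hL, hr, hk⟩ := R.iso i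
    obtain ⟨e, he, he'⟩ := R.T_single_some L hr
    have h4 : R.T L w = Pi.single j (e * w i) := by
      conv_lhs => rw [← Finset.univ_sum_single w]
      rw [map_sum, Finset.sum_eq_single i (fun k _ hki => R.T_single_none L (hk k hki) _)
        (fun h' => absurd (Finset.mem_univ i) h'), he']
    have h6 : R.T L w = 0 := by
      cases L with
      | nil => exact absurd rfl hL
      | cons β L =>
        show R.T L (R.N β w) = 0
        rw [h5, map_zero]
    rw [h6] at h4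
    have h7 := congrFun h4 j
    rw [Pi.single_eq_same, Pi.zero_apply] at h7
    rw [Pi.zero_apply]
    exact (mul_eq_zero.1 h7.symm).resolve_left he
  · right
    intro v hv
    have h4 : v ∈ U := by rw [h]; exact AddSubgroup.mem_top v
    have h5 := h4 b0
    rw [hs, hv, ← add_smul, hb0, one_smul] at h5
    exact h5

end Irr

section Pair

/-- Burnside counting on a natural `SL₂`-module. -/
theorem card_le_of_pair {P F : Type*} [Group P] [Finite P] [Field F] [Finite F] (M : Subgroup P) (A B C D : F → P)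
    (hA : ∀ s t, A (s + t) = A s * A t) (hB : ∀ s t, B (s + t) = B s * B t) (hAB : ∀ s t, A s * B t = B t * A s)
    {k k' : F} (hk : k ≠ 0) (hk' : k' ≠ 0)
    (hC : ∀ u s, C u * A s * (C u)⁻¹ = A s * B (k * u * s)) (hCB : ∀ u t, C u * B t * (C u)⁻¹ = B t)
    (hD : ∀ u t, D u * B t * (D u)⁻¹ = B t * A (k' * u * t)) (hDA : ∀ u s, D u * A s * (D u)⁻¹ = A s)
    {s0 : F} (hM : A s0 ∉ M) : Nat.card F ^ 2 ≤ M.index := by
  classical
  have hA0 : A 0 = 1 := by
    have h := hA 0 0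
    rw [add_zero] at h
    exact (left_eq_mul.1 h)
  have hB0 : B 0 = 1 := by
    have h := hB 0 0
    rw [add_zero] at h
    exact (left_eq_mul.1 h)
  let f : Multiplicative (F × F) →* P :=
    { toFun := fun x => A x.toAdd.1 * B x.toAdd.2
      map_one' := by
        show A 0 * B 0 = 1
        rw [hA0, hB0, one_mul]
      map_mul' := by
        intro x y
        show A (x.toAdd.1 + y.toAdd.1) * B (x.toAdd.2 + y.toAdd.2) = A x.toAdd.1 * B x.toAdd.2 * (A y.toAdd.1 * B y.toAdd.2)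
        rw [hA, hB, mul_assoc (A x.toAdd.1), mul_assoc (A x.toAdd.1) (B x.toAdd.2), ← mul_assoc (A y.toAdd.1),
          ← mul_assoc (B x.toAdd.2), hAB, mul_assoc (B x.toAdd.2)] }
  have cC : ∀ u s t, IsConj (A s * B t) (A s * B (t + k * u * s)) := by
    intro u s t
    refine isConj_iff.2 ⟨C u, ?_⟩
    have e : C u * (A s * B t) * (C u)⁻¹ = (C u * A s * (C u)⁻¹) * (C u * B t * (C u)⁻¹) := by group
    rw [e, hC, hCB, mul_assoc, ← hB, add_comm]
  have cD : ∀ u s t, IsConj (A s * B t) (A (s + k' * u * t) * B t) := by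
    intro u s t
    refine isConj_iff.2 ⟨D u, ?_⟩
    have e : D u * (A s * B t) * (D u)⁻¹ = (D u * A s * (D u)⁻¹) * (D u * B t * (D u)⁻¹) := by group
    rw [e, hD, hDA, hA, mul_assoc (A s), hAB]
  have hconj : ∀ x : Multiplicative (F × F), x ≠ 1 → IsConj (f x) (A 1) := by
    intro x hx
    obtain ⟨s, t, rfl⟩ : ∃ s t, x = Multiplicative.ofAdd ((s, t) : F × F) := ⟨x.toAdd.1, x.toAdd.2, rfl⟩
    have hst : ¬ (s = 0 ∧ t = 0) := by
      rintro ⟨rfl, rfl⟩
      exact hx rfl
    show IsConj (A s * B t) (A 1)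
    -- make `t` nonzero
    have h1 : ∀ s t, t ≠ 0 → IsConj (A s * B t) (A 1) := by
      intro s t ht
      have h2 := cD ((1 - s) / (k' * t)) s t
      have h3 : s + k' * ((1 - s) / (k' * t)) * t = 1 := by
        field_simp
        ring
      rw [h3] at h2
      have h4 := cC (-t / k) 1 t
      have h5 : t + k * (-t / k) * 1 = 0 := by
        field_simp
        ring
      rw [h5, hB0, mul_one (A 1)] at h4
      exact h2.trans h4
    by_cases ht : t = 0
    · subst ht
      have hs0 : s ≠ 0 := fun h => hst ⟨h, rfl⟩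
      have h2 := cC (1 / (k * s)) s 0
      have h3 : 0 + k * (1 / (k * s)) * s = 1 := by
        field_simp
        ring
      rw [h3] at h2
      exact h2.trans (h1 _ _ one_ne_zero)
    · exact h1 s t ht
  let _ : MulAction (Multiplicative (F × F)) (P ⧸ M) := MulAction.compHom _ f
  have hfx : ∀ x : Multiplicative (F × F), fx (P ⧸ M) x = fx (P ⧸ M) (f x) := fun x => rfl
  have hc : ∀ x : Multiplicative (F × F), x ≠ 1 → fx (P ⧸ M) x = fx (P ⧸ M) (A 1) := by
    intro x hx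
    rw [hfx]
    exact fx_of_isConj (hconj x hx)
  have hs0 : s0 ≠ 0 := by
    rintro rfl
    exact hM (by rw [hA0]; exact one_mem M)
  have hlt : fx (P ⧸ M) (A 1) < Nat.card (P ⧸ M) := by
    have h1 := hconj (Multiplicative.ofAdd ((s0, 0) : F × F)) (by
      intro h
      have h2 : ((s0, 0) : F × F) = 0 := h
      exact hs0 (congrArg Prod.fst h2))
    have h2 : IsConj (A s0) (A 1) := by
      have h3 : f (Multiplicative.ofAdd ((s0, 0) : F × F)) = A s0 := by
        show A s0 * B 0 = A s0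
        rw [hB0, mul_one]
      rwa [h3] at h1
    rw [← fx_of_isConj h2]
    refine fx_lt ⟨((1 : P) : P ⧸ M), fun h => hM ?_⟩
    have h2 : ((A s0 * 1 : P) : P ⧸ M) = ((1 : P) : P ⧸ M) := h
    have h3 := QuotientGroup.eq.1 h2.symm
    rwa [inv_one, one_mul, mul_one] at h3
  have h := card_le_of_const (Q := Multiplicative (F × F)) (Ω := P ⧸ M) _ hc hlt
  have h1 : Nat.card (Multiplicative (F × F)) = Nat.card F ^ 2 := by
    rw [pow_two]
    exact Nat.card_prod F F
  rw [h1] at h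
  exact (Nat.le_add_right _ _).trans h

end Pair

section Group

variable {Γ F ι κ : Type*} [Group Γ] [Field F] [Fintype ι] [DecidableEq ι] (R : RH Γ F ι κ)

/-- The elements of the fixed group. -/
def Y (φ : F →+* F) (ρB : κ → κ) (η : κ → F) (β : κ) (t : F) : Γ := R.y β t * R.y (ρB β) (η β * φ t)

/-- The group generated by the special group and the `Y β t`. -/
def P0 (G : Subgroup Γ) (φ : F →+* F) (ρB : κ → κ) (η : κ → F) : Subgroup Γ :=
  Subgroup.closure ((Q0 R.toData G : Set Γ) ∪ Set.range (fun k : κ × F => Y R φ ρB η k.1 k.2))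

variable {R} {G : Subgroup Γ} {φ : F →+* F} {ρB : κ → κ} {η : κ → F}

theorem Q0_le_P0 : Q0 R.toData G ≤ P0 R G φ ρB η := fun _ hx => Subgroup.subset_closure (Or.inl hx)

theorem Y_mem (β : κ) (t : F) : Y R φ ρB η β t ∈ P0 R G φ ρB η := Subgroup.subset_closure (Or.inr ⟨(β, t), rfl⟩)

theorem Y_mem_Pg (β : κ) (t : F) : Y R φ ρB η β t ∈ R.toData.Pg :=
  mul_mem (R.toData.y_mem (β, t)) (R.toData.y_mem (ρB β, η β * φ t))

theorem P0_le (hY : ∀ β t, Y R φ ρB η β t ∈ G) : P0 R G φ ρB η ≤ G := by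
  rw [P0, Subgroup.closure_le]
  rintro x (hx | ⟨⟨β, t⟩, rfl⟩)
  · exact hx.1
  · exact hY β t

theorem P0_le_Pg : P0 R G φ ρB η ≤ R.toData.Pg := by
  rw [P0, Subgroup.closure_le]
  rintro x (hx | ⟨⟨β, t⟩, rfl⟩)
  · exact R.toData.Qg_le hx.2
  · exact Y_mem_Pg β t

theorem P0_le_normalizer [Finite Γ] (hY : ∀ β t, Y R φ ρB η β t ∈ G) :
    P0 R G φ ρB η ≤ Subgroup.normalizer (Q0 R.toData G : Set Γ) := by
  intro g hg
  apply mem_norm
  intro x hx
  have hx1 : x ∈ G := hx.1
  have h1 : g * x * g⁻¹ ∈ G := mul_mem (mul_mem (P0_le hY hg) hx1) (inv_mem (P0_le hY hg))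
  refine ⟨h1, ?_⟩
  exact ((Subgroup.mem_normalizer_iff.1 (R.toData.Pg_le_normalizer (P0_le_Pg hg))) x).1 hx.2

/-- The special group in `P0`. -/
noncomputable abbrev QQ (R : RH Γ F ι κ) (G : Subgroup Γ) (φ : F →+* F) (ρB : κ → κ) (η : κ → F) : Subgroup (P0 R G φ ρB η) :=
  (Q0 R.toData G).subgroupOf (P0 R G φ ρB η)

/-- The centre. -/
noncomputable abbrev ZZ (R : RH Γ F ι κ) (G : Subgroup Γ) (φ : F →+* F) (ρB : κ → κ) (η : κ → F) : Subgroup (P0 R G φ ρB η) :=
  (G ⊓ R.toData.Zg).subgroupOf (P0 R G φ ρB η)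

theorem exists_not_mem {M : Subgroup (P0 R G φ ρB η)} (hQ : QQ R G φ ρB η ≤ M) (hM : M ≠ ⊤) :
    ∃ k : κ × F, (⟨Y R φ ρB η k.1 k.2, Y_mem k.1 k.2⟩ : P0 R G φ ρB η) ∉ M := by
  by_contra hcon
  push Not at hcon
  apply hM
  rw [eq_top_iff]
  have h1 : P0 R G φ ρB η ≤ M.map (P0 R G φ ρB η).subtype := by
    conv_lhs => rw [P0]
    rw [Subgroup.closure_le]
    rintro x (hx | ⟨k, rfl⟩)
    · exact ⟨⟨x, Q0_le_P0 hx⟩, hQ hx, rfl⟩
    · exact ⟨_, hcon k, rfl⟩
  intro g _
  obtain ⟨g', hg', h⟩ := h1 g.2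
  have : g' = g := Subtype.ext h
  rwa [← this]

variable {σ : Γ →* Γ} {ρ : Equiv.Perm ι} {ε : ι → F}

theorem hyp_tw (T : TwData R.toData σ G φ (sV φ ρ ε)) : Hyp (ZZ R G φ ρB η) (QQ R G φ ρB η) where
  le := fun g hg => ⟨hg.1, R.toData.Zg_le_Qg hg.2⟩
  central := by
    rintro z ⟨-, a, ha⟩ g
    apply Subtype.ext
    have ha' : R.toData.z a = (z : Γ) := ha
    show (g : Γ) * (z : Γ) = (z : Γ) * (g : Γ)
    rw [← ha']
    exact R.toData.central (P0_le_Pg g.2) a
  comm_mem := by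
    rintro x ⟨hxG, v, a, hx⟩ y ⟨hyG, w, b, hy⟩
    have hxG' : (x : Γ) ∈ G := hxG
    have hyG' : (y : Γ) ∈ G := hyG
    have hx' : (x : Γ) = R.toData.X v * R.toData.z a := hx
    have hy' : (y : Γ) = R.toData.X w * R.toData.z b := hy
    refine ⟨?_, R.toData.om v w, ?_⟩
    · show (x : Γ) * (y : Γ) * (x : Γ)⁻¹ * (y : Γ)⁻¹ ∈ G
      exact mul_mem (mul_mem (mul_mem hxG' hyG') (inv_mem hxG')) (inv_mem hyG')
    · show R.toData.z (R.toData.om v w) = (x : Γ) * (y : Γ) * (x : Γ)⁻¹ * (y : Γ)⁻¹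
      rw [hx', hy', R.toData.comm_eq]
  special := by
    rintro x ⟨hxG, v, a, hx⟩ hxZ z ⟨hzG, b, hz⟩
    have hxG' : (x : Γ) ∈ G := hxG
    have hzG' : (z : Γ) ∈ G := hzG
    have hx' : (x : Γ) = R.toData.X v * R.toData.z a := hx
    have hz' : R.toData.z b = (z : Γ) := hz
    have hv : v ≠ 0 := by
      rintro rfl
      apply hxZ
      obtain ⟨c, hc⟩ := R.toData.exists_X_zero
      exact ⟨hxG, c + a, by rw [R.toData.z_add, ← hc]; exact hx'.symm⟩
    have hb : φ b = b := T.fix_z (by rw [hz']; exact hzG')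
    obtain ⟨w, hw, hom⟩ := T.pair v (T.fix_coord (by rw [← hx']; exact hxG')) hv b hb
    obtain ⟨c, hc⟩ := T.lift w hw
    have hc' : R.toData.X w * R.toData.z c ∈ Q0 R.toData G := ⟨hc, w, c, rfl⟩
    refine ⟨⟨R.toData.X w * R.toData.z c, Q0_le_P0 hc'⟩, hc', ?_⟩
    apply Subtype.ext
    show (x : Γ) * (R.toData.X w * R.toData.z c) * (x : Γ)⁻¹ * (R.toData.X w * R.toData.z c)⁻¹ = (z : Γ)
    rw [hx', R.toData.comm_eq, hom, hz']

theorem Y_X (hN : ∀ β v, sV φ ρ ε (R.N β v) = η β • R.N (ρB β) (sV φ ρ ε v)) (β : κ) (t : F) {v : ι → F}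
    (hv : sV φ ρ ε v = v) : ∃ a, Y R φ ρB η β t * R.X v * (Y R φ ρB η β t)⁻¹ =
      R.X (v + (t • R.N β v + sV φ ρ ε (t • R.N β v)) + (t * φ t) • R.N β (sV φ ρ ε (R.N β v))) * R.z a := by
  obtain ⟨a, ha⟩ := R.y_X (ρB β, η β * φ t) v
  obtain ⟨b, hb⟩ := R.y_X (β, t) (R.rho (ρB β, η β * φ t) v)
  have e1 : R.rho (β, t) (R.rho (ρB β, η β * φ t) v) =
      v + (t • R.N β v + sV φ ρ ε (t • R.N β v)) + (t * φ t) • R.N β (sV φ ρ ε (R.N β v)) := by
    have h1 : R.rho (ρB β, η β * φ t) v = v + φ t • sV φ ρ ε (R.N β v) := by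
      show v + (η β * φ t) • R.N (ρB β) v = _
      rw [hN, hv, smul_smul, mul_comm]
    rw [h1]
    show v + φ t • sV φ ρ ε (R.N β v) + t • R.N β (v + φ t • sV φ ρ ε (R.N β v)) = _
    rw [map_add (R.N β), map_smul, smul_add, smul_smul, sV_smul]
    abel
  rw [e1] at hb
  refine ⟨b + a, ?_⟩
  unfold Y
  have e2 : R.y β t * R.y (ρB β) (η β * φ t) * R.X v * (R.y β t * R.y (ρB β) (η β * φ t))⁻¹ =
      R.y β t * (R.y (ρB β) (η β * φ t) * R.X v * (R.y (ρB β) (η β * φ t))⁻¹) * (R.y β t)⁻¹ := by group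
  rw [e2, ha]
  have e3 : R.y β t * (R.X (R.rho (ρB β, η β * φ t) v) * R.z a) * (R.y β t)⁻¹ =
      R.y β t * R.X (R.rho (ρB β, η β * φ t) v) * (R.y β t)⁻¹ * R.z a := by
    have h3 : R.z a * (R.y β t)⁻¹ = (R.y β t)⁻¹ * R.z a := by
      rw [eq_inv_mul_iff_mul_eq, ← mul_assoc, R.y_z, mul_inv_cancel_right]
    rw [mul_assoc, mul_assoc, h3]
    simp only [mul_assoc]
  rw [e3, hb, R.z_add, mul_assoc]

theorem irred_tw (T : TwData R.toData σ G φ (sV φ ρ ε)) (h2 : ∀ t, φ (φ t) = t) {b0 : F} (hb0 : b0 + φ b0 = 1)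
    {μ : F} (hμ : φ μ ≠ μ) (hN : ∀ β v, sV φ ρ ε (R.N β v) = η β • R.N (ρB β) (sV φ ρ ε v))
    (N : Subgroup (P0 R G φ ρB η)) (hNn : N.Normal) (hZ : ZZ R G φ ρB η ≤ N) (hQ : N ≤ QQ R G φ ρB η) :
    N = ZZ R G φ ρB η ∨ N = QQ R G φ ρB η := by
  -- elements of `N` as elements of `Γ`
  let N' : Subgroup Γ := N.map (P0 R G φ ρB η).subtype
  have hN'1 : ∀ {g : Γ}, g ∈ N' → g ∈ Q0 R.toData G := by
    rintro _ ⟨g, hg, rfl⟩
    exact hQ hg
  have hN'z : ∀ a, φ a = a → R.z a ∈ N' := fun a ha => by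
    have h1 : R.z a ∈ Q0 R.toData G := ⟨T.z_mem a ha, R.toData.z_mem_Qg a⟩
    exact ⟨⟨R.z a, Q0_le_P0 h1⟩, hZ ⟨T.z_mem a ha, a, rfl⟩, rfl⟩
  have hN'c : ∀ {g}, g ∈ N' → ∀ k ∈ P0 R G φ ρB η, k * g * k⁻¹ ∈ N' := by
    rintro _ ⟨g, hg, rfl⟩ k hk
    exact ⟨_, hNn.conj_mem g hg ⟨k, hk⟩, rfl⟩
  have hmem : ∀ g : P0 R G φ ρB η, g ∈ N ↔ (g : Γ) ∈ N' := by
    intro g
    refine ⟨fun h => ⟨g, h, rfl⟩, ?_⟩
    rintro ⟨g', hg', h⟩
    have : g' = g := Subtype.ext h
    rwa [← this]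
  let W : AddSubgroup (ι → F) :=
    { carrier := {v | ∃ a, R.X v * R.z a ∈ N'}
      zero_mem' := ⟨0, by rw [R.X_zero, R.z_zero, mul_one]; exact one_mem _⟩
      add_mem' := by
        rintro v w ⟨a, ha⟩ ⟨b, hb⟩
        obtain ⟨c, hc⟩ := R.X_add v w
        refine ⟨-c + (a + b), ?_⟩
        have h := mul_mem ha hb
        have e : R.X v * R.z a * (R.X w * R.z b) = R.X (v + w) * R.z (-c + (a + b)) := by
          rw [hc, mul_assoc (R.X v * R.X w), ← R.z_add c, add_neg_cancel_left, R.z_add]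
          calc R.X v * R.z a * (R.X w * R.z b) = R.X v * (R.z a * R.X w) * R.z b := by simp only [mul_assoc]
            _ = _ := by rw [← R.X_z]; simp only [mul_assoc]
        rwa [e] at h
      neg_mem' := by
        rintro v ⟨a, ha⟩
        obtain ⟨b, hb⟩ := R.toData.exists_X_neg v
        refine ⟨b - a, ?_⟩
        have h := inv_mem ha
        have e : (R.X v * R.z a)⁻¹ = R.X (-v) * R.z (b - a) := by
          have hz : (R.z a)⁻¹ = R.z (-a) := (R.toData.z_neg a).symm
          rw [mul_inv_rev, hz]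
          have hb' : (R.X v)⁻¹ = R.X (-v) * R.z b := hb
          rw [hb', ← mul_assoc, ← R.X_z, mul_assoc, ← R.z_add]
          congr 2
          ring
        rwa [e] at h }
  have hW : ∀ v, v ∈ W ↔ ∃ a, R.X v * R.z a ∈ N' := fun v => Iff.rfl
  have : Nontrivial F := inferInstance
  have hWf : ∀ v ∈ W, sV φ ρ ε v = v := by
    rintro v ⟨a, ha⟩
    exact T.fix_coord (hN'1 ha).1
  have hWY : ∀ β (t : F), ∀ v ∈ W, v + (t • R.N β v + sV φ ρ ε (t • R.N β v)) +
      (t * φ t) • R.N β (sV φ ρ ε (R.N β v)) ∈ W := by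
    intro β t v hv
    obtain ⟨c, hc⟩ := Y_X hN β t (hWf v hv)
    obtain ⟨a, ha⟩ := hv
    have h := hN'c ha _ (Y_mem β t)
    refine ⟨c + a, ?_⟩
    have e : Y R φ ρB η β t * (R.X v * R.z a) * (Y R φ ρB η β t)⁻¹ =
        Y R φ ρB η β t * R.X v * (Y R φ ρB η β t)⁻¹ * R.z a := by
      have h3 := R.toData.central (inv_mem (Y_mem_Pg (R := R) (φ := φ) (ρB := ρB) (η := η) β t)) a
      have h4 : (Y R φ ρB η β t)⁻¹ * R.z a = R.z a * (Y R φ ρB η β t)⁻¹ := h3
      rw [mul_assoc, mul_assoc, ← h4]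
      simp only [mul_assoc]
    rw [e, hc, mul_assoc, ← R.z_add] at h
    exact h
  rcases irr_tw R h2 hb0 hμ (sV φ ρ ε) (sV_smul φ ρ ε) W hWY with h | h
  · left
    refine le_antisymm ?_ hZ
    intro g hg
    obtain ⟨hgG, v, a, hva⟩ := hQ hg
    have hva' : (g : Γ) = R.X v * R.z a := hva
    have hgG' : (g : Γ) ∈ G := hgG
    have hv : v ∈ W := ⟨a, by rw [← hva']; exact (hmem g).1 hg⟩
    rw [h, AddSubgroup.mem_bot] at hv
    subst hv
    rw [R.X_zero, one_mul] at hva'
    exact ⟨hgG, a, hva'.symm⟩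
  · right
    refine le_antisymm hQ ?_
    intro g hg
    obtain ⟨hgG, v, a, hva⟩ := hg
    have hva' : (g : Γ) = R.X v * R.z a := hva
    have hgG' : (g : Γ) ∈ G := hgG
    have hv : sV φ ρ ε v = v := T.fix_coord (by rw [hva'] at hgG'; exact hgG')
    obtain ⟨b, hb⟩ := h v hv
    rw [hmem, hva']
    have e : R.X v * R.z a = R.X v * R.z b * R.z (a - b) := by
      rw [mul_assoc, ← R.z_add]
      congr 2
      ring
    rw [e]
    refine mul_mem hb (hN'z _ ?_)
    apply T.fix_z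
    have h5 : R.z (a - b) = (R.X v * R.z b)⁻¹ * (g : Γ) := by rw [hva', e, inv_mul_cancel_left]
    show R.z (a - b) ∈ G
    rw [h5]
    exact mul_mem (inv_mem (hN'1 hb).1) hgG'

/-- **The amplified bound.** -/
theorem amp_tw [Finite Γ] [Nonempty ι] (T : TwData R.toData σ G φ (sV φ ρ ε)) (h2 : ∀ t, φ (φ t) = t)
    (hss : ∀ v, sV φ ρ ε (sV φ ρ ε v) = v) {b0 : F}
    (hb0 : b0 + φ b0 = 1) {μ : F} (hμ : φ μ ≠ μ)
    (hN : ∀ β v, sV φ ρ ε (R.N β v) = η β • R.N (ρB β) (sV φ ρ ε v)) (hY : ∀ β t, Y R φ ρB η β t ∈ G)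
    {X0 : Type*} [Group X0] [Finite X0] [IsSimpleGroup X0] (π : G →* X0) (hπ : Function.Injective π)
    {H : Subgroup X0} (hH : H ≠ ⊤)
    (hconj : ∀ a b (ha : φ a = a) (hb : φ b = b), a ≠ 0 → b ≠ 0 →
      IsConj (⟨R.z a, T.z_mem a ha⟩ : G) ⟨R.z b, T.z_mem b hb⟩) (m : ℕ)
    (hm : ∀ M : Subgroup (P0 R G φ ρB η), QQ R G φ ρB η ≤ M → M ≠ ⊤ → m ≤ M.index) :
    Nat.card {v : ι → F // sV φ ρ ε v = v} * Nat.card {a : F // φ a = a} ≤ H.index ∨
      m ^ 2 * (Nat.card {a : F // φ a = a} * (Nat.card {v : ι → F // sV φ ρ ε v = v} *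
        Nat.card {a : F // φ a = a})) ≤ H.index ^ 2 := by
  have hG := P0_le hY
  have hφ1 : φ 1 = 1 := map_one φ
  let z0 : G := ⟨R.z 1, T.z_mem 1 hφ1⟩
  have hz0 : π z0 ≠ 1 := by
    intro h
    have h3 : z0 = 1 := hπ (by rw [map_one]; exact h)
    exact one_ne_zero (R.z_inj 1 (congrArg Subtype.val h3))
  have hlt : fx (Cos π H) z0 < H.index := by
    rw [← card_cos π H]
    exact fx_lt (exists_moved π hH hz0)
  have hnorm : (QQ R G φ ρB η).Normal := Subgroup.normal_subgroupOf_of_le_normalizer (P0_le_normalizer hY)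
  have h1Q : R.z 1 ∈ Q0 R.toData G := ⟨T.z_mem 1 hφ1, R.toData.z_mem_Qg 1⟩
  obtain ⟨lam, hl⟩ := (hyp_tw (ρB := ρB) (η := η) T).exists_char (t := ⟨R.z 1, Q0_le_P0 h1Q⟩)
    ⟨T.z_mem 1 hφ1, 1, rfl⟩ fun h => one_ne_zero (R.z_inj 1 (congrArg Subtype.val h))
  -- `Z ≠ Q`
  have hne : ZZ R G φ ρB η ≠ QQ R G φ ρB η := by
    intro h
    obtain ⟨i⟩ := ‹Nonempty ι›
    -- a fixed vector
    obtain ⟨v, hv, hv0⟩ : ∃ v : ι → F, sV φ ρ ε v = v ∧ v ≠ 0 := by
      by_contra hcon
      push Not at hcon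
      have h3 : ∀ u : ι → F, sV φ ρ ε u = -u := by
        intro u
        have h4 := hcon (u + sV φ ρ ε u) (by rw [map_add, hss, add_comm])
        rw [add_comm] at h4
        exact eq_neg_of_add_eq_zero_left h4
      have h5 := h3 (μ • Pi.single i 1)
      rw [sV_smul, h3, smul_neg, neg_inj] at h5
      have h6 := congrFun h5 i
      simp only [Pi.smul_apply, Pi.single_eq_same, smul_eq_mul, mul_one] at h6
      exact hμ h6
    obtain ⟨c, hc⟩ := T.lift v hv
    have h3 : (⟨R.X v * R.z c, Q0_le_P0 ⟨hc, v, c, rfl⟩⟩ : P0 R G φ ρB η) ∈ ZZ R G φ ρB η := by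
      rw [h]
      exact ⟨hc, v, c, rfl⟩
    obtain ⟨-, a, ha⟩ := h3
    have ha' : R.z a = R.X v * R.z c := ha
    apply hv0
    apply R.toData.uniq v (a - c)
    show R.X v = R.z (a - c)
    rw [sub_eq_add_neg, R.z_add, ha', mul_assoc, ← R.z_add, add_neg_cancel, R.z_zero, mul_one]
  have h1 := amp (Ω := Cos (π.comp (Subgroup.inclusion hG)) H) (hyp_tw T) hl (fx (Cos π H) z0) (fun z hz hz1 => by
      obtain ⟨hzG, a, ha⟩ := hz
      have ha' : R.z a = (z : Γ) := ha
      have ha2 : a ≠ 0 := by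
        rintro rfl
        exact hz1 (Subtype.ext (by rw [← ha', R.z_zero]; rfl))
      have haG : R.z a ∈ G := by rw [ha']; exact hzG
      have hfa := T.fix_z haG
      have h2 : fx (Cos π H) (⟨R.z a, T.z_mem a hfa⟩ : G) = fx (Cos π H) z0 :=
        fx_of_isConj (hconj a 1 hfa hφ1 ha2 one_ne_zero)
      rw [← h2]
      have h3 : (⟨R.z a, T.z_mem a hfa⟩ : G) = Subgroup.inclusion hG z := Subtype.ext ha'
      rw [h3]
      rfl) hlt m hm (irred_tw T h2 hb0 hμ hN) hne
  have hcQ : Nat.card {v : ι → F // sV φ ρ ε v = v} * Nat.card {a : F // φ a = a} ≤ Nat.card (QQ R G φ ρB η) := by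
    have h := T.card_Q
    rw [Subgroup.card_top] at h
    rw [Nat.card_congr (Subgroup.subgroupOfEquivOfLe Q0_le_P0).toEquiv]
    exact h
  have hcZ : Nat.card {a : F // φ a = a} ≤ Nat.card (ZZ R G φ ρB η) := by
    refine Nat.card_le_card_of_injective
      (fun a => ⟨⟨R.z a, Q0_le_P0 ⟨T.z_mem a a.2, R.toData.z_mem_Qg a⟩⟩, T.z_mem a a.2, a, rfl⟩) fun a b h => ?_
    apply Subtype.ext
    exact z_injective R.toData (congrArg (fun w : ZZ R G φ ρB η => ((w : P0 R G φ ρB η) : Γ)) h)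
  have hcard : Nat.card (Cos (π.comp (Subgroup.inclusion hG)) H) = H.index := rfl
  rw [hcard] at h1
  rcases h1 with h1 | h1
  · left
    exact hcQ.trans (h1.trans (Nat.sub_le _ _))
  · right
    calc m ^ 2 * (Nat.card {a : F // φ a = a} * (Nat.card {v : ι → F // sV φ ρ ε v = v} *
        Nat.card {a : F // φ a = a})) ≤ m ^ 2 * (Nat.card (ZZ R G φ ρB η) * Nat.card (QQ R G φ ρB η)) :=
          Nat.mul_le_mul_left _ (Nat.mul_le_mul hcZ hcQ)
      _ ≤ _ := h1
      _ ≤ _ := Nat.pow_le_pow_left (Nat.sub_le _ _) 2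

end Group

end Cfsg.Agent.H172.SITwAmp
end

-- part: H172/SITwE6
section
/-!
# A better index bound for `²E₆(q)`

The 24 roots of the subsystem `A₅` which are not fixed by the graph automorphism act irreducibly on the special group of
the highest root; every proper subgroup of `²E₆(q)` has index at least `q ^ 15`.
-/

set_option autoImplicit false

namespace Cfsg.Agent.H172.SITwE6

open Cfsg.Lie Cfsg.Agent.ChevalleyStructure
open Cfsg.Agent.ChevalleyStructure.Elts hiding x_add x_zero x_eq_one_iff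
open Cfsg.Agent.ChevalleyStructure.TwE6Basic Cfsg.Agent.ChevalleyStructure.TwE6BN
open Cfsg.Agent.H934 Cfsg.Agent.H934.HeisTw Cfsg.Agent.H934.HeisRoot Cfsg.Agent.H934.HeisChev Cfsg.Agent.H934.HeisTwE6
open Cfsg.Agent.H934.HeisE6 (at' dec byte)
open Cfsg.Agent.H172.SITwAmp

universe u

/-- sign from bit `i` of `N` -/
def sb (N i : ℕ) : ℤ := if N.testBit i then -1 else 1

/-- index -/
def toB (a : ℕ) : Fin 24 := ⟨a % 24, Nat.mod_lt _ (by norm_num)⟩

/-- The tables. -/
def tab : HTab 20 24 where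
  S := HeisE6.tab.S
  th := HeisE6.tab.th
  B := fun i => byte 0x3b2d3a292b2839262a253824221d1f1c230f210e1e0d1a0c i
  opp := HeisE6.tab.opp
  e := HeisE6.tab.e
  next := fun b i => dec (byte (at' 0 [0x907000504000200010000000000000000000000, 0xe0c0b0000000000000003020001000000000000, 0xa00070600040300000100000000000000000000, 0x110000000c0b0000000006050000000001000000, 0xa090800000004030200000000000000000000, 0x1100000e00000b000008000005000002000000, 0xa090807060500000000000000000000, 0x1100000e000c000000080006000003000000, 0x10000d0c00000000000000040300000100000000, 0x120000000d000b00000007000500000000010000, 0x100f0e00000000000000000004030200000000, 0x1200000f0000000b0009000000050000020000, 0x1200000f000d0000000900070000040000, 0x100f0e0d0c0b00000000, 0x130000100000000c000a0000000600000300, 0x13121100000000000000000007060500, 0x1300001000000d00000a00000700000400, 0x1312110000000d0c0b00, 0x140000000010000e0000000a000800000003, 0x14000012110000000000000009080005,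 0x1400000000100f000000000a0900000004, 0x1400001211000f0e000b, 0x14001312000000000000000a0907, 0x140013001110000e0c] b) i)
  cc := fun b i => sb (at' 0 [0xc8000, 0xe0000, 0x36000, 0x80008, 0x1c00, 0x1048, 0x0, 0x25148, 0x80180, 0x8204, 0x70070, 0x48a24, 0x128a4, 0x0, 0x24512, 0xe00e, 0x412, 0xe, 0x1041, 0x800c, 0x10001, 0x6c, 0x2c00, 0x148] b) i
  ng := fun b => toB (at' 0 [23, 22, 21, 20, 17, 16, 13, 12, 19, 18, 15, 14, 7, 6, 11, 10, 5, 4, 9, 8, 3, 2, 1, 0] b)
  p := HeisE6.tab.p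

/-- isolating paths -/
def isoL : List (List ℕ) := [[18, 11, 16], [14, 9, 20], [9, 19, 13], [3, 18, 11], [8, 18, 12], [10, 9, 21], [1, 18, 11], [8, 9, 20], [1, 14, 9], [1, 9, 19], [2, 18, 12], [0, 18, 15], [4, 3, 19], [0, 14, 15], [2, 3, 18], [0, 3, 19], [0, 8, 18], [1, 2, 18], [0, 1, 18], [0, 1, 14]]

/-- paths to the lowest weight -/
def dnL : List (List ℕ) := [[], [14, 9], [9], [3], [8], [10, 9], [1], [8, 9], [3, 8], [1, 9], [2], [0], [4, 3], [2, 9], [2, 3], [0, 3], [0, 8], [1, 2], [0, 1], [0, 3, 8]]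

/-- paths from the lowest weight -/
def frL : List (List ℕ) := [[], [18, 11], [18], [20], [19], [18, 15], [22], [18, 19], [19, 20], [18, 22], [21], [23], [20, 17], [18, 21], [20, 21], [20, 23], [19, 23], [21, 22], [22, 23], [18, 21, 22]]

theorem iso_run : ∀ i : Fin 20, (at' [] isoL i).map toB ≠ [] ∧ (run tab.next ((at' [] isoL i).map toB) i).isSome ∧
    ∀ l, l ≠ i → run tab.next ((at' [] isoL i).map toB) l = none := by decide +kernel

theorem dn_run : ∀ i : Fin 20, run tab.next ((at' [] dnL i).map toB) i = some 0 := by decide +kernel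

theorem fr_run : ∀ i : Fin 20, run tab.next ((at' [] frL i).map toB) 0 = some i := by decide +kernel

theorem tab_ok : tab.Ok chevE6 where
  S_lt := HeisE6.tab_ok.S_lt
  th_lt := HeisE6.tab_ok.th_lt
  B_lt := by decide +kernel
  th_ne := HeisE6.tab_ok.th_ne
  th_ne' := by (rewrite [Cfsg.Agent.ChevFast.E6.commTerms, Cfsg.Agent.ChevFast.E6.neg]; decide +kernel)
  S_ne := HeisE6.tab_ok.S_ne
  opp_ne := HeisE6.tab_ok.opp_ne
  opp_opp := HeisE6.tab_ok.opp_opp
  e_sq := HeisE6.tab_ok.e_sq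
  B_ne := by (rewrite [Cfsg.Agent.ChevFast.E6.commTerms, Cfsg.Agent.ChevFast.E6.neg]; decide +kernel)
  c_sq := by decide +kernel
  B_comm := by (open scoped Cfsg.Agent.ChevFast.Lin in decide +kernel)
  ng_spec := by decide +kernel
  p_lt := HeisE6.tab_ok.p_lt
  p_th := HeisE6.tab_ok.p_th
  iso := fun i => by
    obtain ⟨h1, h2, h3⟩ := iso_run i
    obtain ⟨j, hj⟩ := Option.isSome_iff_exists.1 h2
    exact ⟨_, j, h1, hj, h3⟩
  conn := fun i j => ⟨_, run_append (dn_run i) (fr_run j)⟩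

/-- the graph automorphism on the 24 roots -/
def rB (b : Fin 24) : Fin 24 := toB (if (b : ℕ) % 2 = 0 then b + 1 else b - 1)

/-- signs -/
def eta : Fin 24 → ℤ := ![-1, -1, 1, 1, -1, -1, 1, 1, -1, -1, 1, 1, 1, 1, 1, 1, -1, -1, -1, -1, 1, 1, -1, -1]

/-- a root `d` for each root `b` ... -/
def dI (b : Fin 24) : Fin 24 := toB (at' 0 [14, 15, 11, 10, 9, 8, 8, 9, 5, 4, 3, 2, 3, 2, 0, 1, 1, 0, 0, 1, 1, 0, 3, 2] b)

/-- ... and the sum `b + d` -/
def bI (b : Fin 24) : Fin 24 := toB (at' 0 [2, 3, 0, 1, 0, 1, 2, 3, 1, 0, 1, 0, 9, 8, 2, 3, 8, 9, 4, 5, 10, 11, 15, 14] b)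

/-- structure constants -/
def k1 (b : Fin 24) : ℤ := sb 0x555aaa b

/-- words to the fundamental classes -/
def wdL : List (List ℕ) := [[2, 1, 2, 3], [2, 1, 2, 3], [1, 2, 3], [1, 2, 3], [2, 3], [2, 3], [3], [3], [1, 2], [1, 2], [2], [2], [], [], [], [], [2], [2], [1], [1], [1, 2], [1, 2], [2, 1, 2], [2, 1, 2]]

/-- word -/
def wd (b : Fin 24) : List (Fin 4) := (at' [] wdL b).map fun a => ⟨a % 4, Nat.mod_lt _ (by norm_num)⟩

theorem go_wd : ∀ b : Fin 24, go (wd b) (tab.B b) (tab.B (rB b)) = true := by (delta Cfsg.Agent.ChevalleyStructure.TwE6Basic.wp Cfsg.Agent.H934.HeisTwE6.go Cfsg.Agent.H934.HeisTwE6.go._f Cfsg.Lie.ChevalleyDatum.chainRoot Cfsg.Lie.ChevalleyDatum.reflectRoot; rewrite [Cfsg.Agent.ChevFast.E6.cartan, Cfsg.Agent.ChevFast.E6.chainEntry, Cfsg.Agent.ChevFast.E6.neg]; decide +kernel)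

theorem tabB_rho : ∀ b : Fin 24, (rho ⟨tab.B b, tab_ok.B_lt b⟩).val = tab.B (rB b) ∧
    epsE ⟨tab.B b, tab_ok.B_lt b⟩ = eta b := by decide +kernel

theorem tab_eq : ∀ β i, tab.next (rB β) (rhoI i) = (tab.next β i).map rhoI ∧
    ∀ j, tab.next β i = some j → eps j * tab.cc β i = eta β * tab.cc (rB β) (rhoI i) * eps i := by (open scoped Cfsg.Agent.ChevFast.Lin in decide +kernel)

/-- commuting root elements -/
def EE (r s : ℕ) : Prop := s ≠ r ∧ s ≠ chevE6.neg r ∧ chevE6.commTerms r s = []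

instance instDecEE (r s : ℕ) : Decidable (EE r s) := inferInstanceAs (Decidable (_ ∧ _ ∧ _))

/-- commutator relation with one factor -/
def E1 (r s l : ℕ) (c : ℤ) : Prop := s ≠ r ∧ s ≠ chevE6.neg r ∧ chevE6.commTerms r s = [(l, c, 1, 1)]

instance instDecE1 (r s l : ℕ) (c : ℤ) : Decidable (E1 r s l c) := inferInstanceAs (Decidable (_ ∧ _ ∧ _))

/-- the relations between the pairs `r, r'`, `d, d'`, `l, l'` -/
def Rel (r r' d d' l l' : ℕ) (c c' : ℤ) : Prop :=
  E1 r d l c ∧ E1 r' d' l' c' ∧ EE r d' ∧ EE r' d ∧ EE r' l ∧ EE l d ∧ EE l' d' ∧ EE l' d ∧ EE l d'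

instance instDecRel (r r' d d' l l' : ℕ) (c c' : ℤ) : Decidable (Rel r r' d d' l l' c c') :=
  inferInstanceAs (Decidable (_ ∧ _ ∧ _ ∧ _ ∧ _ ∧ _ ∧ _ ∧ _ ∧ _))

theorem rel1 : ∀ b, Rel (tab.B b) (tab.B (rB b)) (tab.B (dI b)) (tab.B (rB (dI b))) (tab.B (bI b)) (tab.B (rB (bI b)))
    (k1 b) (k1 b * eta (bI b) * eta b * eta (dI b)) := by (refine of_decide_eq_true ?_; delta Cfsg.Agent.H172.SITwE6.E1 Cfsg.Agent.H172.SITwE6.EE Cfsg.Agent.H172.SITwE6.Rel Cfsg.Agent.H172.SITwE6.instDecE1 Cfsg.Agent.H172.SITwE6.instDecE1._aux_1 Cfsg.Agent.H172.SITwE6.instDecEE Cfsg.Agent.H172.SITwE6.instDecEE._aux_1 Cfsg.Agent.H172.SITwE6.instDecRel Cfsg.Agent.H172.SITwE6.instDecRel._aux_1; rewrite [Cfsg.Agent.ChevFast.E6.commTerms, Cfsg.Agent.ChevFast.E6.neg]; decide +kernel)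

theorem rel2 : ∀ b, Rel (tab.B (bI b)) (tab.B (rB (bI b))) (tab.B (tab.ng (dI b))) (tab.B (rB (tab.ng (dI b))))
    (tab.B b) (tab.B (rB b)) (k1 b) (k1 b * eta b * eta (bI b) * eta (dI b)) := by (refine of_decide_eq_true ?_; delta Cfsg.Agent.H172.SITwE6.E1 Cfsg.Agent.H172.SITwE6.EE Cfsg.Agent.H172.SITwE6.Rel Cfsg.Agent.H172.SITwE6.instDecE1 Cfsg.Agent.H172.SITwE6.instDecE1._aux_1 Cfsg.Agent.H172.SITwE6.instDecEE Cfsg.Agent.H172.SITwE6.instDecEE._aux_1 Cfsg.Agent.H172.SITwE6.instDecRel Cfsg.Agent.H172.SITwE6.instDecRel._aux_1; rewrite [Cfsg.Agent.ChevFast.E6.commTerms, Cfsg.Agent.ChevFast.E6.neg]; decide +kernel)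

theorem rel3 : ∀ b, EE (tab.B b) (tab.B (rB b)) ∧ EE (tab.B b) (tab.B (bI b)) ∧ EE (tab.B b) (tab.B (rB (bI b))) ∧
    EE (tab.B (rB b)) (tab.B (rB (bI b))) ∧ rB (rB b) = b ∧ eta (rB b) * eta b = 1 ∧
    eta (tab.ng (dI b)) = eta (dI b) ∧ eta b * eta b = 1 ∧ k1 b * k1 b = 1 := by (refine of_decide_eq_true ?_; delta Cfsg.Agent.H172.SITwE6.EE Cfsg.Agent.H172.SITwE6.instDecEE Cfsg.Agent.H172.SITwE6.instDecEE._aux_1; rewrite [Cfsg.Agent.ChevFast.E6.commTerms, Cfsg.Agent.ChevFast.E6.neg]; decide +kernel)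

end Cfsg.Agent.H172.SITwE6
end

-- part: H172/SITwE6b
section
/-!
# A better index bound for `²E₆(q)`: the proof
-/

set_option autoImplicit false

namespace Cfsg.Agent.H172.SITwE6

open MulAction Cfsg.Lie Cfsg.Agent.ChevalleyStructure
open Cfsg.Agent.ChevalleyStructure.Elts hiding x_add x_zero x_eq_one_iff
open Cfsg.Agent.ChevalleyStructure.TwE6Basic Cfsg.Agent.ChevalleyStructure.TwE6BN
open Cfsg.Agent.H934 Cfsg.Agent.H934.HeisTw Cfsg.Agent.H934.HeisRoot Cfsg.Agent.H934.HeisChev Cfsg.Agent.H934.HeisTwE6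
open Cfsg.Agent.H172.SITwAmp

universe u

variable {K : Type u} [Field K]

/-- root elements -/
noncomputable def R' (K : Type u) [Field K] : RH (GL chevE6.Idx K) K (Fin 20) (Fin 24) :=
  mapRH (tab.rh HeisE6.hD tab_ok K) (chevE6.group K).subtype Subtype.val_injective

theorem R'_y (b : Fin 24) (t : K) : (R' K).y b t = x (tab.B b) t := Units.ext rfl

/-! ### Commutator relations -/

theorem x_of_xe (r : ℕ) (t : K) : x r t = (xe HeisE6.hD r t : GL chevE6.Idx K) := Units.ext rfl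

theorem xadd (r : ℕ) (s t : K) : x r (s + t) = x r s * x r t := by
  rw [x_of_xe, x_of_xe, x_of_xe, xe_add]
  rfl

theorem xnil {r s : ℕ} (hr : r < 72) (hs : s < 72) (h : EE r s) (t u : K) : x s u * x r t = x r t * x s u := by
  obtain ⟨h1, h2, h3⟩ := h
  have h4 := _root_.Cfsg.Agent.H934.HeisChev.comm_nil (F := K) HeisE6.hD (r := r) (s := s) hr hs h1 h2 h3 t u
  rw [x_of_xe, x_of_xe, ← Subgroup.coe_mul, ← Subgroup.coe_mul, h4]

theorem xone {r s l : ℕ} {c : ℤ} (hr : r < 72) (hs : s < 72) (h : E1 r s l c) (t u : K) :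
    x s u * x r t = x r t * x s u * x l (-(c : K) * t * u) := by
  obtain ⟨h1, h2, h3⟩ := h
  have h4 := comm_single (F := K) HeisE6.hD (r := r) (s := s) hr hs h1 h2 h3 t u
  rw [x_of_xe, x_of_xe, x_of_xe, ← Subgroup.coe_mul, ← Subgroup.coe_mul, ← Subgroup.coe_mul, h4]

/-- conjugation of pairs -/
theorem conj_pair {Γ : Type*} [Group Γ] {a a' l l' d d' : Γ} (h1 : d * a = a * d * l) (h2 : d' * a' = a' * d' * l')
    (h3 : d' * a = a * d') (h4 : d * a' = a' * d) (h5 : l * a' = a' * l) (h6 : d * l = l * d) (h7 : d' * l' = l' * d')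
    (h8 : d * l' = l' * d) : d * d' * (a * a') * (d * d')⁻¹ = a * a' * (l * l') := by
  rw [mul_inv_eq_iff_eq_mul]
  calc d * d' * (a * a') = d * (d' * a) * a' := by simp only [mul_assoc]
    _ = (d * a) * (d' * a') := by rw [h3]; simp only [mul_assoc]
    _ = a * (d * l) * (a' * d' * l') := by rw [h1, h2]; simp only [mul_assoc]
    _ = a * l * (d * a') * d' * l' := by rw [h6]; simp only [mul_assoc]
    _ = a * (l * a') * (d * (d' * l')) := by rw [h4]; simp only [mul_assoc]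
    _ = a * a' * l * (d * l') * d' := by rw [h5, h7]; simp only [mul_assoc]
    _ = _ := by rw [h8]; simp only [mul_assoc]

theorem conj_rel {φ : K →+* K} {r r' d d' l l' : ℕ} {c c' er ed el : ℤ} (hr : r < 72) (hr' : r' < 72) (hd : d < 72)
    (hd' : d' < 72) (hl : l < 72) (hl' : l' < 72) (h : Rel r r' d d' l l' c c') (hc : c * el = c' * er * ed) (s u : K) :
    x d u * x d' ((ed : K) * φ u) * (x r s * x r' ((er : K) * φ s)) * (x d u * x d' ((ed : K) * φ u))⁻¹ =
      x r s * x r' ((er : K) * φ s) * (x l (-(c : K) * u * s) * x l' ((el : K) * φ (-(c : K) * u * s))) := by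
  obtain ⟨h1, h2, h3, h4, h5, h6, h7, h8, -⟩ := h
  have e1 : (el : K) * φ (-(c : K) * u * s) = -(c' : K) * ((er : K) * φ s) * ((ed : K) * φ u) := by
    have hc' : (c : K) * el = c' * er * ed := by exact_mod_cast congrArg (Int.cast (R := K)) hc
    rw [map_mul, map_mul, map_neg, map_intCast]
    calc (el : K) * (-(c : K) * φ u * φ s) = -((c : K) * el) * (φ u * φ s) := by ring
      _ = _ := by rw [hc']; ring
  have e2 : -(c : K) * u * s = -(c : K) * s * u := by ring
  rw [e1, e2]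
  exact conj_pair (xone hr hd h1 _ _) (xone hr' hd' h2 _ _) (xnil hr hd' h3 _ _) (xnil hr' hd h4 _ _)
    (xnil hr' hl h5 _ _) (xnil hl hd h6 _ _).symm.symm (xnil hl' hd' h7 _ _) (xnil hl' hd h8 _ _)

/-- conjugation of pairs, trivial case -/
theorem conj_pair' {Γ : Type*} [Group Γ] {a a' d d' : Γ} (h1 : d * a = a * d) (h2 : d' * a' = a' * d')
    (h3 : d' * a = a * d') (h4 : d * a' = a' * d) : d * d' * (a * a') * (d * d')⁻¹ = a * a' := by
  rw [mul_inv_eq_iff_eq_mul]
  calc d * d' * (a * a') = d * (d' * a) * a' := by simp only [mul_assoc]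
    _ = (d * a) * (d' * a') := by rw [h3]; simp only [mul_assoc]
    _ = a * (d * a') * d' := by rw [h1, h2]; simp only [mul_assoc]
    _ = _ := by rw [h4]; simp only [mul_assoc]

/-! ### The elements of the twisted group -/

/-- the element -/
noncomputable abbrev y (φ : K →+* K) (b : Fin 24) (t : K) : GL chevE6.Idx K :=
  Y (R' K) φ rB (fun b => (eta b : K)) b t

theorem y_def (φ : K →+* K) (b : Fin 24) (t : K) :
    y φ b t = x (tab.B b) t * x (tab.B (rB b)) ((eta b : K) * φ t) := by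
  show (R' K).y b t * (R' K).y (rB b) ((eta b : K) * φ t) = _
  rw [R'_y, R'_y]

theorem y_mem {q : ℕ} {φ : K →+* K} (hφ : ∀ t, φ t = t ^ q) (hqq : ∀ t : K, (t ^ q) ^ q = t) (b : Fin 24) (t : K) :
    y φ b t ∈ twistedE6 K q := by
  have h2 : ∀ t, φ (φ t) = t := fun t => by rw [hφ, hφ, hqq]
  obtain ⟨h3, -, -, -, h5, h6, -⟩ := rel3 b
  have hsg : ∀ (b : Fin 24) (t : K), sg φ (x (tab.B b) t) = x (tab.B (rB b)) ((eta b : K) * φ t) := by
    intro b t
    have h := sg_x' φ ⟨tab.B b, tab_ok.B_lt b⟩ t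
    rw [(tabB_rho b).1, (tabB_rho b).2] at h
    exact h
  rw [y_def]
  refine mem_of_go hφ hqq (wd b) _ _ (go_wd b) _ (mul_mem ?_ ?_) ?_
  · exact x_mem_rs (by simp) t
  · exact x_mem_rs (by simp) _
  · rw [mem_fix, map_mul, hsg, hsg, h5]
    simp only [map_mul, map_intCast]
    rw [h2, ← mul_assoc, ← Int.cast_mul, h6, Int.cast_one, one_mul]
    exact xnil (tab_ok.B_lt _) (tab_ok.B_lt _) h3 _ _

theorem y_add (φ : K →+* K) (b : Fin 24) (s t : K) : y φ b (s + t) = y φ b s * y φ b t := by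
  obtain ⟨h3, -⟩ := rel3 b
  rw [y_def, y_def, y_def, xadd, map_add, mul_add, xadd, mul_assoc, mul_assoc (x (tab.B b) s)]
  congr 1
  rw [← mul_assoc, ← mul_assoc]
  congr 1
  exact (xnil (tab_ok.B_lt _) (tab_ok.B_lt _) h3 _ _).symm

theorem hN (φ : K →+* K) (β : Fin 24) (v : Fin 20 → K) :
    sV φ rhoI (fun i => (eps i : K)) ((R' K).N β v) =
      (eta β : K) • (R' K).N (rB β) (sV φ rhoI (fun i => (eps i : K)) v) := by
  refine RH.pi_induction (p := fun v => sV φ rhoI (fun i => (eps i : K)) ((R' K).N β v) =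
      (eta β : K) • (R' K).N (rB β) (sV φ rhoI (fun i => (eps i : K)) v)) ?_ ?_ ?_ v
  · rw [map_zero, map_zero, map_zero, smul_zero]
  · intro v w hv hw
    rw [map_add, map_add, hv, hw, map_add, map_add, smul_add]
  · intro i t
    obtain ⟨h1, h2⟩ := tab_eq β i
    rw [sV_single]
    have hnx : (R' K).next = tab.next := rfl
    have hcc : ∀ β i, (R' K).c β i = -(tab.cc β i : K) := fun _ _ => rfl
    cases hn : tab.next β i with
    | none =>
      rw [hn] at h1
      rw [RH.N_single_none (R' K) (by rw [hnx]; exact hn), RH.N_single_none (R' K) (by rw [hnx]; exact h1), map_zero,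
        smul_zero]
    | some j =>
      rw [hn] at h1
      rw [RH.N_single_some (R' K) (by rw [hnx]; exact hn), RH.N_single_some (R' K) (by rw [hnx]; exact h1), sV_single,
        ← Pi.single_smul, hcc, hcc, smul_eq_mul, map_mul, map_neg, map_intCast]
      congr 1
      have h3 := h2 j hn
      have h3' : (eps j : K) * tab.cc β i = eta β * tab.cc (rB β) (rhoI i) * eps i := by
        exact_mod_cast congrArg (Int.cast (R := K)) h3
      calc (eps j : K) * (-(tab.cc β i : K) * φ t) = -((eps j : K) * tab.cc β i) * φ t := by ring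
        _ = _ := by rw [h3']; ring

/-! ### Overgroups -/

theorem y_conj (φ : K →+* K) (b : Fin 24) (u s : K) :
    y φ (dI b) u * y φ b s * (y φ (dI b) u)⁻¹ = y φ b s * y φ (bI b) (-(k1 b : K) * u * s) := by
  obtain ⟨-, -, -, -, -, -, -, h8, -⟩ := rel3 b
  obtain ⟨-, -, -, -, -, -, -, h8', -⟩ := rel3 (dI b)
  rw [y_def, y_def, y_def]
  refine conj_rel (tab_ok.B_lt _) (tab_ok.B_lt _) (tab_ok.B_lt _) (tab_ok.B_lt _) (tab_ok.B_lt _) (tab_ok.B_lt _)
    (rel1 b) ?_ s u
  calc k1 b * eta (bI b) = k1 b * eta (bI b) * (eta b * eta b) * (eta (dI b) * eta (dI b)) := by rw [h8, h8']; ring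
    _ = _ := by ring

theorem y_conj2 (φ : K →+* K) (b : Fin 24) (u s : K) :
    y φ (tab.ng (dI b)) u * y φ (bI b) s * (y φ (tab.ng (dI b)) u)⁻¹ =
      y φ (bI b) s * y φ b (-(k1 b : K) * u * s) := by
  obtain ⟨-, -, -, -, -, -, h7, -⟩ := rel3 b
  obtain ⟨-, -, -, -, -, -, -, h8, -⟩ := rel3 (bI b)
  obtain ⟨-, -, -, -, -, -, -, h8', -⟩ := rel3 (dI b)
  rw [y_def, y_def, y_def]
  refine conj_rel (tab_ok.B_lt _) (tab_ok.B_lt _) (tab_ok.B_lt _) (tab_ok.B_lt _) (tab_ok.B_lt _) (tab_ok.B_lt _)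
    (rel2 b) ?_ s u
  rw [h7]
  calc k1 b * eta b = k1 b * eta b * (eta (bI b) * eta (bI b)) * (eta (dI b) * eta (dI b)) := by rw [h8, h8']; ring
    _ = _ := by ring

theorem y_fix (φ : K →+* K) (b : Fin 24) (u s : K) :
    y φ (dI b) u * y φ (bI b) s * (y φ (dI b) u)⁻¹ = y φ (bI b) s := by
  obtain ⟨-, -, -, -, -, h6, h7, h8, h9⟩ := rel1 b
  have hl := tab_ok.B_lt
  rw [y_def, y_def]
  exact conj_pair' (xnil (hl _) (hl _) h6 _ _) (xnil (hl _) (hl _) h7 _ _) (xnil (hl _) (hl _) h9 _ _)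
    (xnil (hl _) (hl _) h8 _ _)

theorem y_fix2 (φ : K →+* K) (b : Fin 24) (u s : K) :
    y φ (tab.ng (dI b)) u * y φ b s * (y φ (tab.ng (dI b)) u)⁻¹ = y φ b s := by
  obtain ⟨-, -, -, -, -, h6, h7, h8, h9⟩ := rel2 b
  have hl := tab_ok.B_lt
  rw [y_def, y_def]
  exact conj_pair' (xnil (hl _) (hl _) h6 _ _) (xnil (hl _) (hl _) h7 _ _) (xnil (hl _) (hl _) h9 _ _)
    (xnil (hl _) (hl _) h8 _ _)

theorem y_comm (φ : K →+* K) (b : Fin 24) (s t : K) : y φ b s * y φ (bI b) t = y φ (bI b) t * y φ b s := by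
  obtain ⟨-, -, -, -, h5, -⟩ := rel1 b
  obtain ⟨-, h1, h2, h3, -⟩ := rel3 b
  have hl := tab_ok.B_lt
  rw [y_def, y_def]
  have h := conj_pair' (xnil (K := K) (hl _) (hl _) h1 s t) (xnil (hl _) (hl _) h3 ((eta b : K) * φ s)
    ((eta (bI b) : K) * φ t)) (xnil (hl _) (hl _) h2 s ((eta (bI b) : K) * φ t)) (xnil (hl _) (hl _) h5 ((eta b : K) * φ s) t)
  exact (mul_inv_eq_iff_eq_mul.1 h).symm

theorem pair_index [Fintype K] {G : Subgroup (GL chevE6.Idx K)} {φ : K →+* K}
    (M : Subgroup (P0 (R' K) G φ rB (fun b => (eta b : K)))) (hQ : QQ (R' K) G φ rB (fun b => (eta b : K)) ≤ M)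
    (hM : M ≠ ⊤) : Fintype.card K ^ 2 ≤ M.index := by
  classical
  have : Finite (GL chevE6.Idx K) := inferInstance
  obtain ⟨⟨b, t0⟩, hk⟩ := exists_not_mem hQ hM
  obtain ⟨-, -, -, -, -, -, -, -, h9⟩ := rel3 b
  let f : Fin 24 → K → P0 (R' K) G φ rB (fun b => (eta b : K)) := fun b t => ⟨y φ b t, Y_mem b t⟩
  have hk1 : -(k1 b : K) ≠ 0 := neg_ne_zero.2 (cast_ne_zero h9)
  have h := card_le_of_pair M (f b) (f (bI b)) (f (dI b)) (f (tab.ng (dI b)))
    (fun s t => Subtype.ext (y_add φ b s t)) (fun s t => Subtype.ext (y_add φ _ s t))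
    (fun s t => Subtype.ext (y_comm φ b s t)) hk1 hk1 (fun u s => Subtype.ext (y_conj φ b u s))
    (fun u s => Subtype.ext (y_fix φ b u s)) (fun u s => Subtype.ext (y_conj2 φ b u s))
    (fun u s => Subtype.ext (y_fix2 φ b u s)) (s0 := t0) hk
  rwa [Nat.card_eq_fintype_card] at h

/-- **The better bound for `²E₆(q)`.** -/
theorem index_2E6 {K : Type u} [Field K] [Fintype K] {q : ℕ} (hq : IsPrimePow q) (hK : Fintype.card K = q ^ 2)
    (hs : IsSimpleGroup ↥(Cfsg.Lie.twistedE6 K q)) (L : Subgroup ↥(Cfsg.Lie.twistedE6 K q)) (hL : L ≠ ⊤) :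
    q ^ 30 ≤ L.index ^ 2 := by
  classical
  obtain ⟨φ, hφ, hqq⟩ := exists_frob hq hK
  have : Finite (GL chevE6.Idx K) := inferInstance
  have h2 : ∀ t, φ (φ t) = t := fun t => by rw [hφ, hφ, hqq]
  have hVn := sV_two (K := K) (φ := φ) h2
  obtain ⟨b, hb⟩ := exists_distinct hq.one_lt (n := 2) (by norm_num) hφ hK
  obtain ⟨b0, hb0⟩ := exists_tr_one (by norm_num) hb (iterate_frob_n hφ hK)
  have T := of_trace (R' K) (sg φ) (twistedE6 K q) φ rhoI (fun i => (eps i : K)) 2 (sig_R φ) (sig_z φ)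
    (fun g hg => twisted_le_fix φ hφ hqq hg) (z_mem hφ hqq) hVn hb0 (fun i t => lift_two (R' K) (lift hφ hqq i t))
  have hμ : φ b ≠ b := fun h => by
    have := hb 1 (by norm_num) 0 (by norm_num) h
    omega
  have hb1 : b0 + φ b0 = 1 := by
    have h := tr_two (φ : K →+ K) b0
    rw [hb0] at h
    exact h.symm
  have h1 := amp_tw T h2 (fun v => hVn v) hb1 hμ (hN φ)
    (fun β t => y_mem hφ hqq β t) (MonoidHom.id _) Function.injective_id hL
    (fun a b ha hb ha0 hb0 => by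
      obtain ⟨h, hh, he⟩ := z_conj hφ ha hb ha0 hb0
      exact isConj_iff.2 ⟨⟨h, hh⟩, Subtype.ext he⟩) (Fintype.card K ^ 2) (fun M hQ hM => pair_index M hQ hM)
  have hc1 : q ≤ Nat.card {a : K // φ a = a} := by
    have h3 := card_le_pow (M := K) (F := K) (by norm_num) hb (s := (φ : K →+ K)) (fun c v => map_mul φ c v)
      (iterate_frob_n hφ hK)
    rw [Nat.card_eq_fintype_card, hK] at h3
    exact le_of_pow_le_pow_left₀ (by norm_num) (by omega) h3
  have hc2 : q ^ 20 ≤ Nat.card {v : Fin 20 → K // sV φ rhoI (fun i => (eps i : K)) v = v} := by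
    have h3 := card_le_pow (M := Fin 20 → K) (by norm_num) hb (s := sV φ rhoI (fun i => (eps i : K)))
      (sV_smul φ rhoI _) hVn
    rw [Nat.card_fun, Nat.card_eq_fintype_card (α := K), Nat.card_eq_fintype_card (α := Fin 20), Fintype.card_fin, hK,
      ← pow_mul, mul_comm, pow_mul] at h3
    exact le_of_pow_le_pow_left₀ (by norm_num) (by omega) h3
  have hq1 : 1 ≤ q := hq.pos
  rcases h1 with h1 | h1
  · have h3 : q ^ 21 ≤ L.index := by
      calc q ^ 21 = q ^ 20 * q := by ring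
        _ ≤ _ := Nat.mul_le_mul hc2 hc1
        _ ≤ _ := h1
    calc q ^ 30 ≤ q ^ 42 := Nat.pow_le_pow_right hq1 (by norm_num)
      _ = (q ^ 21) ^ 2 := by ring
      _ ≤ _ := Nat.pow_le_pow_left h3 2
  · calc q ^ 30 = ((q ^ 2) ^ 2) ^ 2 * (q * (q ^ 20 * q)) := by ring
      _ ≤ ((q ^ 2) ^ 2) ^ 2 * _ := Nat.mul_le_mul_left _ (Nat.mul_le_mul hc1 (Nat.mul_le_mul hc2 hc1))
      _ ≤ _ := by rw [hK] at h1; exact h1

end Cfsg.Agent.H172.SITwE6
end

-- part: H172/SI2E6
section
/-!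
# `²E₆(q)` in cross characteristic
-/

set_option autoImplicit false

namespace Cfsg.Agent.H172.SI

open Cfsg.Lie Cfsg.Agent.H903.SylMeet Cfsg.Agent.ChevalleyStructure Cfsg.Agent.ChevalleyStructure.Elts

variable {p : ℕ} [hp : Fact p.Prime]

theorem neg_one_ne : (-1 : ZMod 5) ≠ 1 := by decide

/-- `²E₆(q)`, cross characteristic. -/
theorem cross_2E6 {K : Type} [Field K] [Fintype K] (q : ℕ) (hq : IsPrimePow q) (hK : Fintype.card K = q ^ 2)
    (hp5 : 5 ≤ p) (hpK : ¬ p ∣ q) : Meet p ↥(twistedE6 K q) := by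
  classical
  refine cross_2E6_of q hq hK hp5 hpK ?_
  intro h5 hq5 hout
  subst h5
  have : Finite (GL chevE6.Idx K) := inferInstance
  obtain ⟨hs, hT⟩ := Cfsg.Agent.S1070.result hq hK
  have hq2 : 2 ≤ q := hq.two_le
  have hq4 : 4 ≤ q := by have := Nat.le_of_dvd (by omega) hq5; omega
  have hcard := Cfsg.Agent.S1066.result hq hK
  have hpow1 : ∀ k : ℕ, (q ^ k + 1) * (q ^ k - 1) = q ^ (2 * k) - 1 := by
    intro k
    have := Nat.sq_sub_sq (q ^ k) 1
    rw [one_pow, ← pow_mul, mul_comm k 2] at this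
    exact this.symm
  have hcd : Nat.card ↥(twistedE6 K q) ∣ (q ^ 5 ^ 0) ^ 36 * pr (q ^ 5 ^ 0) [2, 6, 8, 10, 12, 18] := by
    rw [pow_zero, pow_one]
    refine ⟨Nat.gcd 3 (q + 1) * ((q ^ 5 - 1) * (q ^ 9 - 1)), ?_⟩
    have h7 : pr q [2, 6, 8, 10, 12, 18] = (q ^ 2 - 1) * (q ^ 6 - 1) * (q ^ 8 - 1) *
        (q ^ (2 * 5) - 1) * (q ^ 12 - 1) * (q ^ (2 * 9) - 1) := by
      simp only [pr, mul_assoc, _root_.List.map_cons, _root_.List.map_nil, _root_.List.prod_cons, _root_.List.prod_nil, _root_.mul_one, _root_.Nat.reduceMul]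
    rw [h7, ← hpow1, ← hpow1]
    calc _ = (q ^ 36 * (q ^ 2 - 1) * (q ^ 5 + 1) * (q ^ 6 - 1) * (q ^ 8 - 1) *
        (q ^ 9 + 1) * (q ^ 12 - 1)) * ((q ^ 5 - 1) * (q ^ 9 - 1)) := by ring
      _ = _ := by rw [← hcard]; ring
  have hv : padicValNat 5 (Nat.card (Cfsg.Out ↥(twistedE6 K q))) = 0 := padicValNat.eq_zero_of_not_dvd hout
  have hb := vbound (p := 5) (by decide) hpK hq2 (ds := [2, 6, 8, 10, 12, 18]) (by simp only [_root_.List.mem_cons, _root_.List.not_mem_nil, _root_.or_false, _root_.forall_eq_or_imp, _root_.Order.lt_two_iff, _root_.zero_le, _root_.Nat.ofNat_pos, _root_.forall_eq, _root_.and_self]) hcd hv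
  have hord : orderOf (q : ZMod 5) = 2 := by
    have h1 : ((q + 1 : ℕ) : ZMod 5) = 0 := (ZMod.natCast_eq_zero_iff _ _).2 hq5
    rw [Nat.cast_add, Nat.cast_one] at h1
    have h2 : (q : ZMod 5) = -1 := eq_neg_of_add_eq_zero_left h1
    rw [h2]
    have : Fact (Nat.Prime 2) := ⟨Nat.prime_two⟩
    exact orderOf_eq_prime (neg_one_sq) neg_one_ne
  have hw : 5 ^ wt 5 (orderOf (q : ZMod 5)) [2, 6, 8, 10, 12, 18] ≤ 5 :=
    (Nat.pow_le_pow_right (by norm_num) (wt_le _ _ (by simp only [_root_.List.mem_cons, _root_.List.not_mem_nil, _root_.or_false, _root_.forall_eq_or_imp, _root_.Order.lt_two_iff, _root_.zero_le, _root_.Nat.ofNat_pos, _root_.forall_eq, _root_.and_self]))).trans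
      (pow_v_le_of (a := 9) (b := 4) (c := 5) hp5 (by norm_num) (by norm_num))
  have hb2 : 5 ^ (padicValNat 5 (Nat.card ↥(twistedE6 K q)) + padicValNat 5 (Nat.card (Cfsg.Out ↥(twistedE6 K q)))) ≤
      5 * (q + 1) ^ 6 := by
    refine hb.trans ((bound_le (W := 5) (l := 6) (by norm_num) ?_ ?_ hw).trans (by simp))
    · rw [hord]; decide
    · rw [hord]; decide
  have hm : ∀ H : Subgroup ↥(twistedE6 K q), H ≠ ⊤ → q ^ 30 ≤ H.index ^ 2 := fun H hH =>
    Cfsg.Agent.H172.SITwE6.index_2E6 hq hK hs H hH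
  refine meet_of_num_sq hp5 hT hm hb2 ?_ (by positivity)
  have := num_ineq (C := 625) (A := 0) (B := 24) (M := 30) (D := 256) (s₀ := 1) (b := 4) (by norm_num)
    (by norm_num) (by norm_num) (by norm_num) (by norm_num) le_rfl hq4
  calc (5 * (q + 1) ^ 6) ^ 4 = 625 * 1 ^ 0 * (q + 1) ^ 24 := by ring
    _ ≤ 256 * q ^ (30 * 1) := this.le
    _ = _ := by ring

end Cfsg.Agent.H172.SI
end

-- part: H743/TwF4Index
section
set_option autoImplicit false
set_option linter.unusedSectionVars false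

namespace Cfsg.Agent.H743.TwF4Index

open Cfsg.Agent.SplitTwo Cfsg.Agent.SplitTwo.ZS Cfsg.Agent.TitsThree.RankTwoZ Cfsg.Agent.KFacts.TwF4
open Cfsg.Agent.KFacts.TwF4.Arc Cfsg.Agent.KFacts.TwF4.Irr Cfsg.Agent.KFacts.TwF4.Layers
open Cfsg.Agent.KFacts.TwF4.Perf Cfsg.Agent.KFacts.TwF4.Inv Cfsg.Agent.KFacts.TwF4.SylU
open Cfsg.Agent.PreUniq.LowExc.TwF4

universe u

variable {F : Type*} [Field F] {σ : F →+* F} {G : Type u} [Group G] (S : Full σ G)

/-- the commutator -/
def cm (g v : G) : G := g * v * g⁻¹ * v⁻¹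

theorem cm_of {g v z : G} (h : g * v = v * g * z) (hz : ∀ x ∈ ({g, v} : Set G), x * z = z * x) : cm g v = z := by
  unfold cm
  have h1 := hz g (by simp)
  have h2 := hz v (by simp)
  rw [h]
  calc v * g * z * g⁻¹ * v⁻¹ = v * (g * z) * g⁻¹ * v⁻¹ := by group
    _ = v * (z * g) * g⁻¹ * v⁻¹ := by rw [h1]
    _ = (v * z) * v⁻¹ := by group
    _ = z := by rw [h2]; group

theorem cm_one {g v : G} (h : g * v = v * g) : cm g v = 1 := by
  unfold cm; rw [h]; group

theorem cm_mul {g v w : G} (h : v * cm g w = cm g w * v) : cm g (v * w) = cm g v * cm g w := by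
  have e : cm g (v * w) = g * v * g⁻¹ * (cm g w) * v⁻¹ := by unfold cm; group
  rw [e]
  have : g * v * g⁻¹ * cm g w * v⁻¹ = cm g v * (v * cm g w) * v⁻¹ := by unfold cm; group
  rw [this, h]; group

theorem cm_mul_left {g h v : G} (hz : g * cm h v = cm h v * g) : cm (g * h) v = cm h v * cm g v := by
  have e : cm (g * h) v = g * cm h v * (v * g⁻¹ * v⁻¹) := by unfold cm; group
  rw [e, hz]; unfold cm; group

/-- the subgroup of `P = C(Z_4)` centralising `Q2 / Z_4` -/
def UU : Subgroup G where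
  carrier := {g | g ∈ S.PL ∧ ∀ v ∈ S.Q2, cm g v ∈ S.Zc 2}
  one_mem' := ⟨one_mem _, fun v _ => by
    have : cm 1 v = 1 := by unfold cm; group
    rw [this]; exact one_mem _⟩
  mul_mem' := by
    rintro g h ⟨hg, hg'⟩ ⟨hh, hh'⟩
    refine ⟨mul_mem hg hh, fun v hv => ?_⟩
    rw [cm_mul_left (S.comm_PL hg (hh' v hv))]
    exact mul_mem (hh' v hv) (hg' v hv)
  inv_mem' := by
    rintro g ⟨hg, hg'⟩
    refine ⟨inv_mem hg, fun v hv => ?_⟩
    have h1 := S.comm_PL hg (hg' v hv)
    have h2 : cm g⁻¹ v = (cm g v)⁻¹ := by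
      have h3 : cm g⁻¹ v = g⁻¹ * (cm g v)⁻¹ * g := by unfold cm; group
      rw [h3]
      calc g⁻¹ * (cm g v)⁻¹ * g = (g⁻¹ * cm g v * g)⁻¹ := by group
        _ = (g⁻¹ * (g * cm g v))⁻¹ := by rw [mul_assoc, h1]
        _ = _ := by group
    rw [h2]
    exact inv_mem (hg' v hv)

/-- `Q2` lies in `P` -/
theorem Q2_le_PL : S.Q2 ≤ S.PL := (Q2_le_Q S).trans (J_mono (by norm_num) (by norm_num))

/-- value on `Q2` of a commutator given by its values on the five pieces -/
theorem cm_q2 {g : G} {a b c d f : F → F} (h1 : ∀ x, cm g (S.e 1 0 x) = S.e 2 0 (a x))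
    (h2 : ∀ x, cm g (S.o 1 x) = S.e 2 0 (b x)) (h3 : ∀ x, cm g (S.e 2 0 x) = S.e 2 0 (c x))
    (h4 : ∀ x, cm g (S.o 2 x) = S.e 2 0 (d x)) (h5 : ∀ x, cm g (S.e 3 0 x) = S.e 2 0 (f x)) (u s z t w : F) :
    cm g (q2 S u s z t w) = S.e 2 0 (a u + b s + c z + d t + f w) := by
  have hcz : ∀ v ∈ S.Q2, ∀ x, v * S.e 2 0 x = S.e 2 0 x * v := fun v hv x =>
    S.comm_PL (Q2_le_PL S hv) (S.mem_Zc.2 ⟨x, rfl⟩)
  unfold q2
  rw [cm_mul (by rw [h5]; exact hcz _ (mul_mem (mul_mem (mul_mem (S.q2_1 _) (S.q2_2 _)) (S.q2_3 _)) (S.q2_4 _)) _),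
    cm_mul (by rw [h4]; exact hcz _ (mul_mem (mul_mem (S.q2_1 _) (S.q2_2 _)) (S.q2_3 _)) _),
    cm_mul (by rw [h3]; exact hcz _ (mul_mem (S.q2_1 _) (S.q2_2 _)) _),
    cm_mul (by rw [h2]; exact hcz _ (S.q2_1 _) _), h1, h2, h3, h4, h5, z_add, z_add, z_add, z_add]


theorem mZ (x : F) : S.e 2 0 x ∈ S.Zc 2 := S.mem_Zc.2 ⟨x, rfl⟩

theorem o0_PL (x : F) : S.o 0 x ∈ S.PL := mem_J ((mem_X1 S).2 ⟨x, rfl⟩) (by norm_num) (by norm_num)
theorem e1_PL (p u : F) : S.e 1 p u ∈ S.PL := mem_J ((mem_X2 S).2 ⟨p, u, rfl⟩) (by norm_num) (by norm_num)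
theorem o1_PL (x : F) : S.o 1 x ∈ S.PL := mem_J ((mem_X3 S).2 ⟨x, rfl⟩) (by norm_num) (by norm_num)
theorem o2_PL (x : F) : S.o 2 x ∈ S.PL := mem_J ((mem_X5 S).2 ⟨x, rfl⟩) (by norm_num) (by norm_num)
theorem e3_PL (p u : F) : S.e 3 p u ∈ S.PL := mem_J ((mem_X6 S).2 ⟨p, u, rfl⟩) (by norm_num) (by norm_num)
theorem o3_PL (x : F) : S.o 3 x ∈ S.PL := mem_J ((mem_X7 S).2 ⟨x, rfl⟩) (by norm_num) (by norm_num)

theorem cm_Z {g : G} (hg : g ∈ S.PL) (x : F) : cm g (S.e 2 0 x) = S.e 2 0 0 := by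
  rw [S.e_zero]; exact cm_one (S.comm_PL hg (mZ S x))

theorem cm_ofZ {g v : G} {x : F} (hg : g ∈ S.PL) (hv : v ∈ S.PL) (h : g * v = v * g * S.e 2 0 x) :
    cm g v = S.e 2 0 x :=
  cm_of h (by
    rintro y (rfl | rfl)
    · exact S.comm_PL hg (mZ S x)
    · exact S.comm_PL hv (mZ S x))

theorem cm_one' {g v : G} (h : g * v = v * g) : cm g v = S.e 2 0 0 := by
  rw [S.e_zero]; exact cm_one h

/-- `X_1` -/
theorem cm_o0 (x u s z t w : F) : cm (S.o 0 x) (q2 S u s z t w) = S.e 2 0 (x * w) := by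
  have h := cm_q2 S (g := S.o 0 x) (a := fun _ => 0) (b := fun _ => 0) (c := fun _ => 0) (d := fun _ => 0)
    (f := fun w => x * w)
    (fun y => cm_one' S (S.o_e1 0 x 0 y)) (fun y => cm_one' S (S.o_o1 0 x y)) (cm_Z S (o0_PL S x))
    (fun y => cm_one' S (S.o_o2 0 x y))
    (fun y => cm_ofZ S (o0_PL S x) (e3_PL S 0 y) (by
      have h := S.o_e3 0 x 0 y
      simp only [map_zero, mul_zero, zero_add, S.o_zero, S.e_zero, mul_one] at h
      exact h)) u s z t w
  simpa using h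

/-- `X_7` -/
theorem cm_o3 (x u s z t w : F) : cm (S.o 3 x) (q2 S u s z t w) = S.e 2 0 (u * x) := by
  have h := cm_q2 S (g := S.o 3 x) (a := fun u => u * x) (b := fun _ => 0) (c := fun _ => 0) (d := fun _ => 0)
    (f := fun w => 0)
    (fun y => cm_ofZ S (o3_PL S x) (e1_PL S 0 y) (by
      have h := S.e_o2 1 0 y x
      simp only [map_zero, zero_mul, zero_add, S.o_zero, S.e_zero, mul_one] at h
      have h' : S.e 1 0 y * S.o 3 x = S.o 3 x * S.e 1 0 y * S.e 2 0 (y * x) := h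
      have h2 : S.e 2 0 (y * x) * S.e 2 0 (y * x) = 1 := by rw [z_add, char2 S, S.e_zero]
      have h3 := S.comm_PL (mul_mem (e1_PL S 0 y) (o3_PL S x)) (mZ S (y * x))
      rw [h', mul_assoc _ _ (S.e 2 0 (y * x)), h2, mul_one]))
    (fun y => cm_one' S (S.o_o2 1 y x).symm) (cm_Z S (o3_PL S x))
    (fun y => cm_one' S (S.o_o1 2 y x).symm)
    (fun y => cm_one' S (S.e_o0 3 0 y x).symm) u s z t w
  simpa using h

/-- `X_2` -/
theorem cm_e1 (p u s z t w : F) : cm (S.e 1 p 0) (q2 S u s z t w) = S.e 2 0 (p * t) := by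
  have h := cm_q2 S (g := S.e 1 p 0) (a := fun u => 0) (b := fun _ => 0) (c := fun _ => 0) (d := fun t => p * t)
    (f := fun w => 0)
    (fun y => cm_one' S (by rw [S.e_mul, S.e_mul]; simp))
    (fun y => cm_one' S (S.e_o0 1 p 0 y)) (cm_Z S (e1_PL S p 0))
    (fun y => cm_ofZ S (e1_PL S p 0) (o2_PL S y) (S.e_o1 1 p 0 y))
    (fun y => cm_one' S (S.e_e2 1 p 0 0 y)) u s z t w
  simpa using h

/-- `X_6` -/
theorem cm_e3 (p u s z t w : F) : cm (S.e 3 p 0) (q2 S u s z t w) = S.e 2 0 (s * p) := by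
  have h := cm_q2 S (g := S.e 3 p 0) (a := fun u => 0) (b := fun s => s * p) (c := fun _ => 0) (d := fun t => 0)
    (f := fun w => 0)
    (fun y => cm_one' S (S.e_e2 1 0 y p 0).symm)
    (fun y => cm_ofZ S (e3_PL S p 0) (o1_PL S y) (by
      have h' : S.o 1 y * S.e 3 p 0 = S.e 3 p 0 * S.o 1 y * S.e 2 0 (y * p) := S.o_e2 1 y p 0
      have h2 : S.e 2 0 (y * p) * S.e 2 0 (y * p) = 1 := by rw [z_add, char2 S, S.e_zero]
      rw [h', mul_assoc _ _ (S.e 2 0 (y * p)), h2, mul_one]))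
    (cm_Z S (e3_PL S p 0))
    (fun y => cm_one' S (S.o_e1 2 y p 0).symm)
    (fun y => cm_one' S (by rw [S.e_mul, S.e_mul]; simp)) u s z t w
  simpa using h

theorem mem_UU' {g : G} (hg : g ∈ S.PL) (h : ∀ u s z t w, ∃ x, cm g (q2 S u s z t w) = S.e 2 0 x) : g ∈ UU S := by
  refine ⟨hg, fun v hv => ?_⟩
  obtain ⟨u, s, z, t, w, rfl⟩ := (mem_Q2 S).1 hv
  obtain ⟨x, hx⟩ := h u s z t w
  rw [hx]
  exact S.mem_Zc.2 ⟨_, rfl⟩

/-- `[UU, v] = Z_4` for `v` in `Q2` outside `Z_4`. -/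
theorem special {v : G} (hv : v ∈ S.Q2) (hvZ : v ∉ S.Zc 2) {z : G} (hz : z ∈ S.Zc 2) :
    ∃ g ∈ UU S, cm g v = z := by
  obtain ⟨u, s, z', t, w, rfl⟩ := (mem_Q2 S).1 hv
  obtain ⟨y, rfl⟩ := S.mem_Zc.1 hz
  by_cases hw : w = 0
  · by_cases hu : u = 0
    · by_cases ht : t = 0
      · by_cases hs : s = 0
        · exfalso
          apply hvZ
          subst hw hu ht hs
          rw [S.mem_Zc]
          refine ⟨z', ?_⟩
          unfold q2
          simp only [S.e_zero, S.o_zero, mul_one, one_mul]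
        · refine ⟨S.e 3 (s⁻¹ * y) 0, mem_UU' S (e3_PL S _ _) (fun u s z t w => ⟨_, cm_e3 S _ _ _ _ _ _⟩), ?_⟩
          rw [cm_e3, mul_inv_cancel_left₀ hs]
      · refine ⟨S.e 1 (y * t⁻¹) 0, mem_UU' S (e1_PL S _ _) (fun u s z t w => ⟨_, cm_e1 S _ _ _ _ _ _⟩), ?_⟩
        rw [cm_e1, inv_mul_cancel_right₀ ht]
    · refine ⟨S.o 3 (u⁻¹ * y), mem_UU' S (o3_PL S _) (fun u s z t w => ⟨_, cm_o3 S _ _ _ _ _ _⟩), ?_⟩
      rw [cm_o3, mul_inv_cancel_left₀ hu]
  · refine ⟨S.o 0 (y * w⁻¹), mem_UU' S (o0_PL S _) (fun u s z t w => ⟨_, cm_o0 S _ _ _ _ _ _⟩), ?_⟩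
    rw [cm_o0, inv_mul_cancel_right₀ hw]

/-- `Q2 ≤ UU` -/
theorem Q2_le_UU : S.Q2 ≤ UU S := fun g hg =>
  ⟨Q2_le_PL S hg, fun v hv => by rw [cm_one (Q2_comm S hg hv)]; exact one_mem _⟩

include S in
/-- **Indices in a simple group of type `²F₄`.** -/
theorem card_pow_le_index [Finite F] [Finite G] [IsSimpleGroup G] (H : Subgroup G) (hH : H ≠ ⊤) :
    Nat.card F ^ 4 ≤ H.index := by
  have hne : S.Zc 2 ≠ ⊥ := by
    intro h
    have h1 : S.e 2 0 1 ∈ S.Zc 2 := mZ S 1
    rw [h, Subgroup.mem_bot] at h1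
    exact one_ne_zero (S.e_eq_one h1).2
  have hle : S.Zc 2 ≤ S.Q2 := by
    intro x hx
    obtain ⟨y, rfl⟩ := S.mem_Zc.1 hx
    exact S.q2_3 y
  have h := LSIndex.card_le_index (UU S) S.Q2 (S.Zc 2) hle (Q2_le_UU S) (fun a ha b hb => Q2_comm S ha hb) hne
    (fun z hz g hg => S.comm_PL hg.1 hz) (fun g hg v hv => hg.2 v hv)
    (fun v hv hvZ z hz => special S hv hvZ hz) H hH
  have h1 : Nat.card F ^ 5 ≤ Nat.card S.Q2 := by
    have h2 : Nat.card (F × F × F × F × F) ≤ Nat.card S.Q2 := by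
      refine Nat.card_le_card_of_injective
        (fun x => (⟨q2 S x.1 x.2.1 x.2.2.1 x.2.2.2.1 x.2.2.2.2, (mem_Q2 S).2 ⟨_, _, _, _, _, rfl⟩⟩ : S.Q2)) ?_
      rintro ⟨a, b, c, d, e⟩ ⟨a', b', c', d', e'⟩ hh
      obtain ⟨h1, h2, h3, h4, h5⟩ := q2_inj S (congrArg Subtype.val hh)
      simp only at h1 h2 h3 h4 h5
      subst h1 h2 h3 h4 h5
      rfl
    simp only [Nat.card_prod] at h2
    calc Nat.card F ^ 5 = Nat.card F * (Nat.card F * (Nat.card F * (Nat.card F * Nat.card F))) := by ring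
      _ ≤ _ := h2
  have h2 : Nat.card (S.Zc 2) ≤ Nat.card F := by
    refine Nat.card_le_card_of_surjective (fun x : F => (⟨S.e 2 0 x, mZ S x⟩ : S.Zc 2)) ?_
    rintro ⟨x, hx⟩
    obtain ⟨y, rfl⟩ := S.mem_Zc.1 hx
    exact ⟨y, rfl⟩
  have h3 : 0 < Nat.card F := Nat.card_pos
  have h4 : Nat.card F * Nat.card F ^ 4 ≤ Nat.card F * H.index := by
    calc Nat.card F * Nat.card F ^ 4 = Nat.card F ^ 5 := by ring
      _ ≤ Nat.card (S.Zc 2) * H.index := h1.trans h
      _ ≤ _ := Nat.mul_le_mul_right _ h2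
  exact Nat.le_of_mul_le_mul_left h4 h3

end Cfsg.Agent.H743.TwF4Index
end

-- part: H743/TwF4Arith
section
set_option autoImplicit false

namespace Cfsg.Agent.H743.TwF4Arith

/-- a prime power dividing a product of numbers without common factor `p` -/
theorem dvd_or {p a A B : ℕ} (hp : p.Prime) (h : p ^ a ∣ A * B) (hAB : p ∣ A → ¬ p ∣ B) : p ^ a ∣ A ∨ p ^ a ∣ B := by
  by_cases hA : p ∣ A
  · exact Or.inl ((Nat.Coprime.pow_left a ((hp.coprime_iff_not_dvd).2 (hAB hA))).dvd_of_dvd_mul_right h)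
  · exact Or.inr ((Nat.Coprime.pow_left a ((hp.coprime_iff_not_dvd).2 hA)).dvd_of_dvd_mul_left h)

theorem factor (x : ℕ) (hx : 2 ≤ x) :
    x ^ 12 - 1 = ((x ^ 3 - 1) * (x ^ 3 + 1)) * ((x ^ 2 + 1) * (x ^ 4 - x ^ 2 + 1)) := by
  have h3 : 1 ≤ x ^ 3 := Nat.one_le_pow _ _ (by omega)
  have h12 : 1 ≤ x ^ 12 := Nat.one_le_pow _ _ (by omega)
  have h42 : x ^ 2 ≤ x ^ 4 := Nat.pow_le_pow_right (by omega) (by norm_num)
  zify [h3, h12, h42]
  ring

/-- `p ^ a ∣ x¹² - 1` implies `p ^ a ≤ x⁴`. -/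
theorem le_four {p a x : ℕ} (hp : p.Prime) (h5 : 5 ≤ p) (hx : 2 ≤ x) (h : p ^ a ∣ x ^ 12 - 1) : p ^ a ≤ x ^ 4 := by
  have h3 : 1 ≤ x ^ 3 := Nat.one_le_pow _ _ (by omega)
  have h42 : x ^ 2 ≤ x ^ 4 := Nat.pow_le_pow_right (by omega) (by norm_num)
  have hno2 : ∀ y : ℕ, y ≤ 4 → 0 < y → ¬ p ∣ y := fun y hy hy0 hd => by
    have := Nat.le_of_dvd hy0 hd
    omega
  have e6 : (x ^ 3 - 1) * (x ^ 3 + 1) + 2 = (x ^ 2 + 1) * (x ^ 4 - x ^ 2 + 1) := by
    zify [h3, h42]; ring
  have e3 : (x ^ 3 - 1) + 2 = x ^ 3 + 1 := by omega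
  have e4 : (x ^ 4 - x ^ 2 + 1) + 3 * x ^ 2 = (x ^ 2 + 1) * (x ^ 2 + 1) := by
    zify [h42]; ring
  rw [factor x hx] at h
  have hx2 : x ^ 2 * x ^ 2 = x ^ 4 := by ring
  have hx3 : x ^ 3 * x = x ^ 4 := by ring
  have hx4 : 4 ≤ x ^ 2 := by nlinarith only [hx]
  have hx8 : 8 ≤ x ^ 3 := by
    calc 8 = 2 ^ 3 := by norm_num
      _ ≤ x ^ 3 := Nat.pow_le_pow_left hx 3
  rcases dvd_or hp h (fun h1 h2 => by
    rw [← e6] at h2
    exact hno2 2 (by norm_num) (by norm_num) ((Nat.dvd_add_right h1).1 h2)) with h1 | h1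
  · rcases dvd_or hp h1 (fun h1 h2 => by
      rw [← e3] at h2
      exact hno2 2 (by norm_num) (by norm_num) ((Nat.dvd_add_right h1).1 h2)) with h2 | h2
    · have := Nat.le_of_dvd (by omega) h2
      nlinarith only [hx, e3, this]
    · have := Nat.le_of_dvd (by omega) h2
      nlinarith only [hx4, this, _root_.sq_nonneg (↑x : ℤ), _root_.mul_self_nonneg (↑x ^ 2 : ℤ), _root_.Nat.cast_nonneg (α := ℤ) (x)]
  · rcases dvd_or hp h1 (fun h1 h2 => by
      have h3 : p ∣ (x ^ 4 - x ^ 2 + 1) + 3 * x ^ 2 := by rw [e4]; exact h1.mul_right _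
      have h4 : p ∣ 3 * x ^ 2 := (Nat.dvd_add_right h2).1 h3
      rcases (hp.dvd_mul).1 h4 with h5 | h5
      · exact hno2 3 (by norm_num) (by norm_num) h5
      · have h6 : p ∣ 1 := (Nat.dvd_add_right h5).1 h1
        exact hno2 1 (by norm_num) (by norm_num) h6) with h2 | h2
    · have := Nat.le_of_dvd (by omega) h2
      nlinarith only [hx4, this]
    · have := Nat.le_of_dvd (by omega) h2
      omega

/-- For `p = 5` and `x² ≡ -1`: `5 ^ a ≤ x² + 1`. -/
theorem le_two {a x : ℕ} (hx : 2 ≤ x) (hx5 : 5 ∣ x ^ 2 + 1) (h : 5 ^ a ∣ x ^ 12 - 1) : 5 ^ a ≤ x ^ 2 + 1 := by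
  have hp : Nat.Prime 5 := by norm_num
  have h3 : 1 ≤ x ^ 3 := Nat.one_le_pow _ _ (by omega)
  have h42 : x ^ 2 ≤ x ^ 4 := Nat.pow_le_pow_right (by omega) (by norm_num)
  have e6 : (x ^ 3 - 1) * (x ^ 3 + 1) + 2 = (x ^ 2 + 1) * (x ^ 4 - x ^ 2 + 1) := by
    zify [h3, h42]; ring
  have e4 : (x ^ 4 - x ^ 2 + 1) + 3 * x ^ 2 = (x ^ 2 + 1) * (x ^ 2 + 1) := by
    zify [h42]; ring
  rw [factor x hx] at h
  have hAB : ¬ 5 ∣ (x ^ 3 - 1) * (x ^ 3 + 1) := by
    intro h1
    have h2 : 5 ∣ (x ^ 3 - 1) * (x ^ 3 + 1) + 2 := by rw [e6]; exact hx5.mul_right _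
    have := (Nat.dvd_add_right h1).1 h2
    omega
  have hD : ¬ 5 ∣ x ^ 4 - x ^ 2 + 1 := by
    intro h2
    have h3 : 5 ∣ (x ^ 4 - x ^ 2 + 1) + 3 * x ^ 2 := by rw [e4]; exact hx5.mul_right _
    have h4 : 5 ∣ 3 * x ^ 2 := (Nat.dvd_add_right h2).1 h3
    omega
  have h1 := (Nat.Coprime.pow_left a ((hp.coprime_iff_not_dvd).2 hAB)).dvd_of_dvd_mul_left h
  have h2 := (Nat.Coprime.pow_left a ((hp.coprime_iff_not_dvd).2 hD)).dvd_of_dvd_mul_right h1
  exact Nat.le_of_dvd (by omega) h2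

theorem five_dvd {n : ℕ} (hn : Odd n) : 5 ∣ (2 ^ n) ^ 2 + 1 := by
  obtain ⟨k, rfl⟩ := hn
  have h1 : (2 ^ (2 * k + 1)) ^ 2 + 1 = 4 * 16 ^ k + 1 := by
    rw [← pow_mul]
    have : (2 * k + 1) * 2 = 2 + 4 * k := by ring
    rw [this, pow_add, pow_mul]; norm_num
  rw [h1]
  have h2 : 16 ^ k % 5 = 1 := by
    rw [Nat.pow_mod]; norm_num
  omega

theorem two_mul_le {n : ℕ} (hn : 1 ≤ n) : 2 * n ≤ 2 ^ n := by
  induction n, hn using Nat.le_induction with
  | base => norm_num
  | succ k hk ih => rw [pow_succ]; omega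

theorem cube_le {p : ℕ} (hp : 7 ≤ p) : p ^ 3 ≤ (p - 1) * 2 ^ (2 * p - 8) := by
  induction p, hp using Nat.le_induction with
  | base => norm_num
  | succ k hk ih =>
    have e : 2 * (k + 1) - 8 = (2 * k - 8) + 2 := by omega
    rw [e, pow_add]
    have h1 : (k + 1) ^ 3 ≤ 4 * k ^ 3 := by
      have : k + 1 ≤ 2 * k := by omega
      nlinarith only [hk, _root_.sq_nonneg (↑k : ℤ), _root_.Nat.cast_nonneg (α := ℤ) (k)]
    calc (k + 1) ^ 3 ≤ 4 * k ^ 3 := h1
      _ ≤ 4 * ((k - 1) * 2 ^ (2 * k - 8)) := Nat.mul_le_mul_left _ ih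
      _ ≤ 4 * (k * 2 ^ (2 * k - 8)) := Nat.mul_le_mul_left _ (Nat.mul_le_mul_right _ (by omega))
      _ = (k + 1 - 1) * (2 ^ (2 * k - 8) * 2 ^ 2) := by rw [Nat.add_sub_cancel]; ring

/-- the final inequality -/
theorem final {p n a : ℕ} (hp : p.Prime) (h5 : 5 ≤ p) (hn : Odd n)
    (ha : p ^ a ∣ (2 ^ n) ^ 12 - 1) :
    (p * p ^ a) ^ 2 * (p * n) ≤ (p - 1) * ((2 ^ n) ^ p) ^ 2 := by
  have hn1 : 1 ≤ n := hn.pos
  have hx : 2 ≤ 2 ^ n := by
    calc 2 = 2 ^ 1 := by norm_num
      _ ≤ 2 ^ n := Nat.pow_le_pow_right (by norm_num) hn1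
  have h2n := two_mul_le hn1
  have h5d := five_dvd hn
  obtain ⟨x, hxe⟩ : ∃ x, x = 2 ^ n := ⟨_, rfl⟩
  rw [← hxe] at ha hx h2n h5d ⊢
  have hx5 : 32 ≤ x ^ 5 := by
    calc 32 = 2 ^ 5 := by norm_num
      _ ≤ x ^ 5 := Nat.pow_le_pow_left hx 5
  by_cases hp5 : p = 5
  · subst hp5
    have h1 := le_two hx h5d ha
    have hx4 : 4 ≤ x ^ 2 := by nlinarith only [hn1, h2n]
    have h2 : 4 * 5 ^ a ≤ 5 * x ^ 2 := by omega
    have h3 : 16 * (5 ^ a) ^ 2 ≤ 25 * x ^ 4 := by
      calc 16 * (5 ^ a) ^ 2 = (4 * 5 ^ a) ^ 2 := by ring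
        _ ≤ (5 * x ^ 2) ^ 2 := Nat.pow_le_pow_left h2 2
        _ = 25 * x ^ 4 := by ring
    have h4 : 32 * ((5 * 5 ^ a) ^ 2 * (5 * n)) ≤ 32 * ((5 - 1) * (x ^ 5) ^ 2) := by
      calc 32 * ((5 * 5 ^ a) ^ 2 * (5 * n)) = 125 * (16 * (5 ^ a) ^ 2) * (2 * n) := by ring
        _ ≤ 125 * (25 * x ^ 4) * x := Nat.mul_le_mul (Nat.mul_le_mul_left _ h3) h2n
        _ = 3125 * x ^ 5 := by ring
        _ ≤ 4096 * x ^ 5 := Nat.mul_le_mul_right _ (by norm_num)
        _ = 128 * (32 * x ^ 5) := by ring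
        _ ≤ 128 * (x ^ 5 * x ^ 5) := Nat.mul_le_mul_left _ (Nat.mul_le_mul_right _ hx5)
        _ = 32 * ((5 - 1) * (x ^ 5) ^ 2) := by ring
    exact Nat.le_of_mul_le_mul_left h4 (by norm_num)
  · have h7 : 7 ≤ p := by
      by_contra h
      have : p = 6 := by omega
      subst this
      norm_num at hp
    have h1 := le_four hp h5 hx ha
    have h2 := cube_le h7
    have h3 : 2 * ((p * p ^ a) ^ 2 * (p * n)) ≤ 2 * ((p - 1) * (x ^ p) ^ 2) := by
      calc 2 * ((p * p ^ a) ^ 2 * (p * n)) = p ^ 3 * (p ^ a) ^ 2 * (2 * n) := by ring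
        _ ≤ p ^ 3 * (x ^ 4) ^ 2 * x := Nat.mul_le_mul (Nat.mul_le_mul_left _ (Nat.pow_le_pow_left h1 2)) h2n
        _ = p ^ 3 * x ^ 9 := by ring
        _ ≤ ((p - 1) * 2 ^ (2 * p - 8)) * x ^ 9 := Nat.mul_le_mul_right _ h2
        _ = 2 * ((p - 1) * (2 ^ (2 * p - 9) * x ^ 9)) := by
            have : 2 * p - 8 = (2 * p - 9) + 1 := by omega
            rw [this, pow_succ]; ring
        _ ≤ 2 * ((p - 1) * (x ^ (2 * p - 9) * x ^ 9)) := by
            gcongr
        _ = 2 * ((p - 1) * (x ^ p) ^ 2) := by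
            rw [← pow_add, ← pow_mul]
            congr 3
            omega
    exact Nat.le_of_mul_le_mul_left h3 (by norm_num)


/-- the `p`-part of `q¹² - 1`, `q = x ^ p` -/
theorem pow_val {p x : ℕ} [hp : Fact p.Prime] (h5 : 5 ≤ p) (hx : 2 ≤ x) :
    ∃ a, p ^ a ∣ x ^ 12 - 1 ∧ p ^ padicValNat p ((x ^ p) ^ 12 - 1) ≤ p * p ^ a := by
  have hodd : Odd p := hp.out.odd_of_ne_two (by omega)
  have h12 : 1 < x ^ 12 := Nat.one_lt_pow (by norm_num) (by omega)
  refine ⟨padicValNat p (x ^ 12 - 1), pow_padicValNat_dvd, ?_⟩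
  have e : (x ^ p) ^ 12 - 1 = (x ^ 12) ^ p - 1 ^ p := by
    rw [← pow_mul, ← pow_mul, mul_comm, one_pow]
  by_cases h : p ∣ x ^ 12 - 1
  · have hnx : ¬ p ∣ x ^ 12 := by
      intro h1
      have h2 : p ∣ (x ^ 12 - 1) + 1 := by
        rw [Nat.sub_add_cancel h12.le]; exact h1
      have h3 : p ∣ 1 := (Nat.dvd_add_right h).1 h2
      have := Nat.le_of_dvd (by norm_num) h3
      omega
    rw [e, padicValNat.pow_sub_pow hodd h12 h hnx hp.out.ne_zero, padicValNat_self, pow_succ, mul_comm]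
  · have h1 : ¬ p ∣ (x ^ p) ^ 12 - 1 := by
      intro h2
      apply h
      have hle1 : 1 ≤ (x ^ p) ^ 12 := Nat.one_le_pow _ _ (Nat.pow_pos (by omega))
      have h3 : ((1 : ℕ) : ZMod p) = (((x ^ p) ^ 12 : ℕ) : ZMod p) := by
        rw [ZMod.natCast_eq_natCast_iff]
        exact (Nat.modEq_iff_dvd' hle1).2 h2
      have h4 : (((x ^ p) ^ 12 : ℕ) : ZMod p) = ((x ^ 12 : ℕ) : ZMod p) := by
        push_cast
        rw [ZMod.pow_card]
      rw [h4, ZMod.natCast_eq_natCast_iff] at h3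
      exact (Nat.modEq_iff_dvd' h12.le).1 h3
    rw [padicValNat.eq_zero_of_not_dvd h1, pow_zero]
    exact Nat.one_le_iff_ne_zero.2 (by have := hp.out.pos; positivity)

/-- **The order of a `p`-subgroup of `Aut(²F₄(q))`, `p ∣ 2m+1`.** -/
theorem card_le {p m k : ℕ} [hp : Fact p.Prime] (h5 : 5 ≤ p) (hpm : p ∣ 2 * m + 1) {q : ℕ}
    (hq : q = 2 ^ (2 * m + 1))
    (h : p ^ k ∣ (q ^ 12 * (q - 1) * (q ^ 3 + 1) * (q ^ 4 - 1) * (q ^ 6 + 1)) * (2 * m + 1)) :
    p ^ k ≤ (p - 1) * q ^ 2 := by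
  obtain ⟨n, hn⟩ := hpm
  have hnodd : Odd n := by
    rcases Nat.even_or_odd n with h1 | h1
    · exfalso
      have : Even (2 * m + 1) := by rw [hn]; exact h1.mul_left p
      rw [Nat.even_iff] at this
      omega
    · exact h1
  have hn1 : 1 ≤ n := hnodd.pos
  have hx : 2 ≤ 2 ^ n := by
    calc 2 = 2 ^ 1 := by norm_num
      _ ≤ 2 ^ n := Nat.pow_le_pow_right (by norm_num) hn1
  have hqx : q = (2 ^ n) ^ p := by rw [hq, hn, mul_comm, pow_mul]
  obtain ⟨a, ha, hle⟩ := pow_val (p := p) h5 hx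
  rw [← hqx] at hle
  have hfin := final hp.out h5 hnodd ha
  rw [← hqx] at hfin
  have hq2 : 2 ≤ q := by
    rw [hq]
    calc 2 = 2 ^ 1 := by norm_num
      _ ≤ 2 ^ (2 * m + 1) := Nat.pow_le_pow_right (by norm_num) (by omega)
  -- the order divides `q ^ 12 * (q ^ 12 - 1) ^ 2`
  have h1 : 1 ≤ q ^ 3 := Nat.one_le_pow _ _ (by omega)
  have h4 : 1 ≤ q ^ 4 := Nat.one_le_pow _ _ (by omega)
  have h12 : 1 < q ^ 12 := Nat.one_lt_pow (by norm_num) (by omega)
  have d1 : (q - 1) * (q ^ 3 + 1) * (q ^ 6 + 1) ∣ q ^ 12 - 1 := by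
    have e : q ^ 12 - 1 = (q ^ 3 - 1) * (q ^ 3 + 1) * (q ^ 6 + 1) := by
      zify [h1, h12.le]; ring
    rw [e]
    exact Nat.mul_dvd_mul (Nat.mul_dvd_mul (by simpa only [_root_.one_pow] using Nat.sub_dvd_pow_sub_pow q 1 3) dvd_rfl) dvd_rfl
  have d2 : q ^ 4 - 1 ∣ q ^ 12 - 1 := by
    have := Nat.sub_dvd_pow_sub_pow (q ^ 4) 1 3
    rwa [one_pow, ← pow_mul] at this
  have hpq : Nat.Coprime (p ^ k) (q ^ 12) := by
    apply Nat.Coprime.pow
    rw [hq]
    apply Nat.Coprime.pow_right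
    exact (Nat.coprime_primes hp.out Nat.prime_two).2 (by omega)
  have h2 : p ^ k ∣ (q ^ 12 - 1) ^ 2 * (2 * m + 1) := by
    have h3 : p ^ k ∣ q ^ 12 * ((q ^ 12 - 1) ^ 2 * (2 * m + 1)) := by
      refine h.trans ?_
      have e : (q ^ 12 * (q - 1) * (q ^ 3 + 1) * (q ^ 4 - 1) * (q ^ 6 + 1)) * (2 * m + 1) =
          q ^ 12 * ((((q - 1) * (q ^ 3 + 1) * (q ^ 6 + 1)) * (q ^ 4 - 1)) * (2 * m + 1)) := by ring
      rw [e, sq]
      exact Nat.mul_dvd_mul dvd_rfl (Nat.mul_dvd_mul (Nat.mul_dvd_mul d1 d2) dvd_rfl)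
    exact hpq.dvd_of_dvd_mul_left h3
  have hne : q ^ 12 - 1 ≠ 0 := by omega
  have hk : k ≤ padicValNat p ((q ^ 12 - 1) ^ 2 * (2 * m + 1)) :=
    (padicValNat_dvd_iff_le (mul_ne_zero (pow_ne_zero _ hne) (by omega))).1 h2
  rw [padicValNat.mul (pow_ne_zero _ hne) (by omega), padicValNat.pow] at hk
  have h6 : p ^ padicValNat p (2 * m + 1) ≤ p * n := by
    rw [← hn]
    exact Nat.le_of_dvd (by omega) pow_padicValNat_dvd
  calc p ^ k ≤ p ^ (2 * padicValNat p (q ^ 12 - 1) + padicValNat p (2 * m + 1)) :=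
        Nat.pow_le_pow_right hp.out.pos hk
    _ = (p ^ padicValNat p (q ^ 12 - 1)) ^ 2 * p ^ padicValNat p (2 * m + 1) := by
        rw [pow_add, ← pow_mul, mul_comm 2]
    _ ≤ (p * p ^ a) ^ 2 * (p * n) := Nat.mul_le_mul (Nat.pow_le_pow_left hle 2) h6
    _ ≤ (p - 1) * q ^ 2 := hfin

end Cfsg.Agent.H743.TwF4Arith
end

-- part: H743/MeetTwF4
section
set_option autoImplicit false

namespace Cfsg.Agent.H743.MeetTwF4

open Cfsg Cfsg.Lie Cfsg.Agent.H903.SylMeet

/-- **Large Ree groups.** -/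
theorem meet_2F4 {G : Type*} [Group G] [Finite G] [IsSimpleGroup G] (h : Cfsg.Lie.Iso2F4 G)
    {p : ℕ} [Fact p.Prime] (hp : 5 ≤ p) : Meet p G := by
  obtain ⟨K, _, _, m, hm, hK, ⟨e⟩⟩ := h
  have hs : IsSimpleGroup ↥(twistedF4 K (2 ^ m)) := e.isSimpleGroup_congr.1 inferInstance
  have hfin : Finite ↥(twistedF4 K (2 ^ m)) := Finite.of_equiv G e.toEquiv
  have hpp := (Fact.out : p.Prime)
  refine Meet.congr e.symm ?_
  have hcard := S1068.result hK
  obtain ⟨q, hq⟩ : ∃ q, q = 2 ^ (2 * m + 1) := ⟨_, rfl⟩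
  have h8 : 8 ≤ q := by
    rw [hq]
    calc 8 = 2 ^ 3 := by norm_num
      _ ≤ 2 ^ (2 * m + 1) := Nat.pow_le_pow_right (by norm_num) (by omega)
  rw [← hq] at hcard
  have hT : ¬ IsMulCommutative ↥(twistedF4 K (2 ^ m)) := by
    intro hc
    let _ : CommGroup ↥(twistedF4 K (2 ^ m)) :=
      { (inferInstance : Group ↥(twistedF4 K (2 ^ m))) with mul_comm := hc.is_comm.comm }
    have h1 := IsSimpleGroup.prime_card (α := ↥(twistedF4 K (2 ^ m)))
    rw [hcard] at h1
    have h2 : 1 < q ^ 12 * (q - 1) * (q ^ 3 + 1) * (q ^ 4 - 1) := by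
      have e1 : 1 ≤ q ^ 12 := Nat.one_le_pow _ _ (by omega)
      have e2 : 1 ≤ q - 1 := by omega
      have e3 : 1 < q ^ 3 + 1 := by
        have : 1 ≤ q ^ 3 := Nat.one_le_pow _ _ (by omega)
        omega
      have e4 : 1 ≤ q ^ 4 - 1 := by
        have : 1 < q ^ 4 := Nat.one_lt_pow (by norm_num) (by omega)
        omega
      calc 1 < q ^ 3 + 1 := e3
        _ = 1 * 1 * (q ^ 3 + 1) * 1 := by ring
        _ ≤ _ := by gcongr
    have h3 : 1 < q ^ 6 + 1 := by
      have : 1 ≤ q ^ 6 := Nat.one_le_pow _ _ (by omega)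
      omega
    exact Nat.not_prime_mul h2.ne' h3.ne' h1
  have hout : (MulAut.conj : ↥(twistedF4 K (2 ^ m)) →* MulAut ↥(twistedF4 K (2 ^ m))).range.index = 2 * m + 1 :=
    S2128.result hm hK
  have hpq : ¬ p ∣ q := by
    rw [hq]
    intro h1
    have := (Nat.prime_dvd_prime_iff_eq hpp Nat.prime_two).1 (hpp.dvd_of_dvd_pow h1)
    omega
  obtain ⟨P⟩ : Nonempty (Sylow p (MulAut ↥(twistedF4 K (2 ^ m)))) := inferInstance
  by_cases hpm : p ∣ 2 * m + 1
  · have : CharP K 2 := Cfsg.Agent.ChevalleyStructure.TwF4.Twisted.charP_two hK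
    obtain ⟨φ, hφ⟩ := Cfsg.Agent.ChevalleyStructure.TwF4.TwistedFix.exists_rln hK
    have hidx : ∀ H : Subgroup ↥(twistedF4 K (2 ^ m)), H ≠ ⊤ → q ^ 4 ≤ H.index := by
      intro H hH
      have := TwF4Index.card_pow_le_index (KFacts.TwF4.Inst.full hK hφ) H hH
      rwa [Nat.card_eq_fintype_card, hK, ← hq] at this
    refine meet_of_card_lt hT hidx P ?_
    obtain ⟨k, hk⟩ := P.isPGroup'.exists_card_eq
    have h1 : p ^ k ∣ Nat.card (MulAut ↥(twistedF4 K (2 ^ m))) := by
      rw [← hk]; exact Subgroup.card_subgroup_dvd_card _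
    rw [← (MulAut.conj : ↥(twistedF4 K (2 ^ m)) →* MulAut ↥(twistedF4 K (2 ^ m))).range.card_mul_index,
      ← Nat.card_congr (MonoidHom.ofInjective (_root_.Cfsg.Agent.H903.SylMeet.conj_injective hT)).toEquiv, hout, hcard] at h1
    have h2 := TwF4Arith.card_le hp hpm hq h1
    have h3 : 1 ≤ p ^ k := Nat.one_le_pow _ _ hpp.pos
    have h4 : (Nat.card P - 1) < (p - 1) * q ^ 2 := by
      have h5 : Nat.card P = p ^ k := hk
      omega
    calc (Nat.card P - 1) ^ 2 < ((p - 1) * q ^ 2) ^ 2 := Nat.pow_lt_pow_left h4 (by norm_num)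
      _ = (p - 1) ^ 2 * q ^ 4 := by ring
  · -- `P` consists of inner automorphisms
    have hn : (MulAut.conj : ↥(twistedF4 K (2 ^ m)) →* MulAut ↥(twistedF4 K (2 ^ m))).range.Normal := ⟨by
      rintro _ ⟨t, rfl⟩ g
      exact ⟨g t, (conj_apply_aut g t).symm⟩⟩
    have hin : ∀ a ∈ P, ∃ t : ↥(twistedF4 K (2 ^ m)), MulAut.conj t = a := by
      intro a ha
      obtain ⟨k, hk⟩ := P.isPGroup' ⟨a, ha⟩
      have hk' : a ^ p ^ k = 1 := by simpa only [_root_.SubmonoidClass.mk_pow, _root_.OneMemClass.coe_one] using congrArg Subtype.val hk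
      have h1 : ((a : MulAut ↥(twistedF4 K (2 ^ m))) :
          MulAut ↥(twistedF4 K (2 ^ m)) ⧸ (MulAut.conj : ↥(twistedF4 K (2 ^ m)) →*
            MulAut ↥(twistedF4 K (2 ^ m))).range) = 1 := by
        have h2 : orderOf ((a : MulAut ↥(twistedF4 K (2 ^ m))) :
          MulAut ↥(twistedF4 K (2 ^ m)) ⧸ (MulAut.conj : ↥(twistedF4 K (2 ^ m)) →*
            MulAut ↥(twistedF4 K (2 ^ m))).range) ∣ p ^ k := by
          apply orderOf_dvd_of_pow_eq_one
          rw [← QuotientGroup.mk_pow, hk']; rfl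
        have h3 : orderOf ((a : MulAut ↥(twistedF4 K (2 ^ m))) :
          MulAut ↥(twistedF4 K (2 ^ m)) ⧸ (MulAut.conj : ↥(twistedF4 K (2 ^ m)) →*
            MulAut ↥(twistedF4 K (2 ^ m))).range) ∣ 2 * m + 1 := by
          rw [← hout]; exact orderOf_dvd_natCard _
        have h4 : Nat.Coprime (p ^ k) (2 * m + 1) :=
          Nat.Coprime.pow_left _ ((hpp.coprime_iff_not_dvd).2 hpm)
        exact orderOf_eq_one_iff.1 (Nat.eq_one_of_dvd_coprimes h4 h2 h3)
      exact (QuotientGroup.eq_one_iff a).1 h1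
    have hab := H790.ExcAb.tw2F4 (K := K) (e := 2 ^ m) (q := q) (by rw [hK, hq]) hpq hp
    apply meet_of_comm hT P
    intro a ha b hb
    obtain ⟨s, rfl⟩ := hin a ha
    obtain ⟨t, rfl⟩ := hin b hb
    have hR : IsPGroup p ((P : Subgroup (MulAut ↥(twistedF4 K (2 ^ m)))).comap MulAut.conj) :=
      P.isPGroup'.comap_of_injective _ (_root_.Cfsg.Agent.H903.SylMeet.conj_injective hT)
    rw [← map_mul, ← map_mul, hab _ hR s ha t hb]

end Cfsg.Agent.H743.MeetTwF4
end

-- part: H903/SylExc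
section
set_option autoImplicit false

namespace Cfsg.Agent.H903.SylExc

open Cfsg Cfsg.Lie Cfsg.Agent.H903.SylMeet

variable {p : ℕ} [Fact p.Prime]

/-- If `p` divides `|F|`, then `p` is the characteristic. -/
theorem charP_of_dvd {F : Type*} [Field F] [Fintype F] (h : p ∣ Fintype.card F) : CharP F p := by
  obtain ⟨r, hr⟩ := CharP.exists F
  haveI := hr
  obtain ⟨n, hrp, hcard⟩ := FiniteField.card F r
  rw [hcard] at h
  have h1 := (Nat.prime_dvd_prime_iff_eq (Fact.out : p.Prime) hrp).1 ((Fact.out : p.Prime).dvd_of_dvd_pow h)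
  rw [h1]
  exact hr

theorem chev (hp : 5 ≤ p) (D : ChevalleyDatum) (hD : D ∈ [chevG2, chevF4, chevE6, chevE7, chevE8])
    {F : Type} [Field F] [Fintype F] {T : Type*} [Group T] (e : T ≃* D.group F)
    (hc : ¬ p ∣ Fintype.card F → Meet p ↥(D.group F)) : Meet p T := by
  refine Meet.congr e.symm ?_
  by_cases hd : p ∣ Fintype.card F
  · haveI := charP_of_dvd hd
    exact Cfsg.Agent.H185.MeetChev.char_chev D hD hp
  · exact hc hd

/-- **All exceptional groups**, `p ≥ 5`. -/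
theorem meet_exc {T : Type*} [Group T] [Finite T] [IsSimpleGroup T] (hp : 5 ≤ p)
    (h : IsExceptionalLieType T) : Meet p T := by
  rcases h with h | h | h | h | h | h | h | h | h | h | h
  · obtain ⟨F, _, _, hF, ⟨e⟩⟩ := h
    exact chev hp chevG2 (by simp) e fun hd => Cfsg.Agent.H172.SI.cross_G2 hF hp hd
  · obtain ⟨F, _, _, ⟨e⟩⟩ := h
    exact chev hp chevF4 (by simp) e fun hd => Cfsg.Agent.H172.SI.cross_F4 hp hd
  · obtain ⟨F, _, _, ⟨e⟩⟩ := h
    exact chev hp chevE6 (by simp) e fun hd => Cfsg.Agent.H172.SI.cross_E6 hp hd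
  · obtain ⟨F, _, _, ⟨e⟩⟩ := h
    exact chev hp chevE7 (by simp) e fun hd => Cfsg.Agent.H172.SI.cross_E7 hp hd
  · obtain ⟨F, _, _, ⟨e⟩⟩ := h
    exact chev hp chevE8 (by simp) e fun hd => Cfsg.Agent.H172.SI.cross_E8 hp hd
  · obtain ⟨K, _, _, q, hq, hK, ⟨e⟩⟩ := h
    refine Meet.congr e.symm ?_
    by_cases hd : p ∣ q
    · exact Cfsg.Agent.H185.MeetTw.char_2E6 q hq hK hp hd
    · exact Cfsg.Agent.H172.SI.cross_2E6 q hq hK hp hd
  · obtain ⟨K, _, _, q, hq, hK, ⟨e⟩⟩ := h
    refine Meet.congr e.symm ?_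
    by_cases hd : p ∣ q
    · exact Cfsg.Agent.H185.MeetTw.char_3D4 q hq hK hp hd
    · exact Cfsg.Agent.H172.SI.cross_3D4 q hq hK hp hd
  · exact Cfsg.Agent.H743.MeetTw.meet_Sz h hp
  · exact Cfsg.Agent.H743.MeetTw.meet_Ree h hp
  · exact Cfsg.Agent.H743.MeetTwF4.meet_2F4 h hp
  · exact Cfsg.Agent.H743.MeetTits.meet_Tits h hp

end Cfsg.Agent.H903.SylExc
end

private theorem dce_0654f15d710d : _root_.True := by
  try have : _root_.True := by simp only [_root_.Cfsg.Agent.H172.SITwAmp.P0.eq_1]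
  exact _root_.True.intro
end

-- part: CpAutCoOneFive/ClD
section
prune_inst 0xf0000100040002000000000240003c23e4000090000b080041e0084200002c200d002e200c80010208228000000000000000000000000000000004000001000080804202b308a10426000f800004000000000000000000000000000000000000000000000
set_option linter.all false

-- part: CpAutCoOneFive/Nums
section
/-!
# Lists of simple groups by order (helper6)

`hS` : the classification; `T` : the table of orders (`OrdDiv.table`).
-/

set_option autoImplicit false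

namespace Cfsg.Agent.CpAutCoOneFive.Nums

open Cfsg Subgroup Cfsg.Agent.OrdDiv
open Cfsg.Agent.CpAut (AllKnown)

end Cfsg.Agent.CpAutCoOneFive.Nums
end

-- part: CpAutCoOneFive/ClA
section
/-!
# The elements of order five with a fixed space of dimension 8 (helper6)

`comps_a` : the components of `C(a) / O_{5'}(C(a))` are isomorphic to `A₅`.
-/

set_option autoImplicit false

namespace Cfsg.Agent.CpAutCoOneFive.ClA

open Cfsg Subgroup Cfsg.Agent.SporadicStructure.Co0Base
open Cfsg.Agent.CpAutCoOneFive.Elem Cfsg.Agent.CpAutCoOneFive.Nf Cfsg.Agent.CpAutCoOneFive.Cls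
open Cfsg.Agent.CpAutBig Cfsg.Agent.OrdDiv
open Cfsg.Agent.CpAut (AllKnown)
open Cfsg.Agent.LThree (Comps)

end Cfsg.Agent.CpAutCoOneFive.ClA
end

-- part: CpAutCoOneFive/Rigid
section
/-!
# The centralizer of a fixed point free element of order five (helper6)

`y` is conjugate to `d`; `card_mono` : at most four elements of the monomial group commute with `y`;
`card_le` : `|C(d)| ≤ 4 * 8292375`.
-/

set_option autoImplicit false

namespace Cfsg.Agent.CpAutCoOneFive.Rigid

open Cfsg Subgroup Cfsg.Agent.SporadicStructure.Co0Base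
open Cfsg.Agent.SporadicStructure.Co0Matrix Cfsg.Agent.CoOneType.CoEval
open Cfsg.Agent.SporadicA Cfsg.Agent.SporadicA.GolayBase
open Cfsg.Agent.SporadicA.Co1Simple (N mem_N_iff)
open Cfsg.Agent.CpAutCoOneFive.Mat Cfsg.Agent.CpAutCoOneFive.Elem
open Cfsg.Agent.CpAutBig

/-! ### Signed permutations commuting with `y` -/

/-- the sign -/
def sg (c : Finset GolayPt) (p : GolayPt) : ℤ := by
  classical
  exact if p ∈ c then -1 else 1

end Cfsg.Agent.CpAutCoOneFive.Rigid
end

-- part: CpAutCoOneFive/ClD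
section
/-!
# The elements of order five without fixed vectors (helper6)

`comps_d` : the components of `C(d) / O_{5'}(C(d))` are isomorphic to `A₁₀` or `J₂`.
-/

set_option autoImplicit false

namespace Cfsg.Agent.CpAutCoOneFive.ClD

open Cfsg Subgroup Cfsg.Agent.SporadicStructure.Co0Base
open Cfsg.Agent.CpAutCoOneFive.Elem Cfsg.Agent.CpAutCoOneFive.Nf Cfsg.Agent.CpAutCoOneFive.Cls
open Cfsg.Agent.CpAutCoOneFive.ClA
open Cfsg.Agent.CpAutBig Cfsg.Agent.OrdDiv
open Cfsg.Agent.CpAut (AllKnown)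
open Cfsg.Agent.LThree (Comps)

end Cfsg.Agent.CpAutCoOneFive.ClD
end
end
end
end
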