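/-
helper903: S5762, assembly over the list of known simple groups.
-/
import Cfsg.Agent.H47.MeetONan
import Cfsg.Agent.CpAutJ4.Row
import Mathlib
import Cfsg.Agent.H935.Meet.Base_m3
import Cfsg.Agent.SylowL.Lower
import Cfsg.Agent.SporRec.LyG2.LyEmb
import Cfsg.Agent.TypeM.OutLyFin
import Cfsg.Agent.S1702
import Cfsg.Agent.CpAutCoOneFive.Cls
import Cfsg.Agent.H903.SylRegO_m3
import Cfsg.Agent.H149.Sp.Conway
import Cfsg.Agent.CpAutMSeven.Quo_m3
import Cfsg.Agent.CpAutMSeven.Hex
import Cfsg.Agent.CpAutBFive.Final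
import Cfsg.Agent.MFive.JTwo
import Cfsg.Agent.S1701
import Cfsg.Agent.H573.Spor.BFive
import Cfsg.Agent.BpSpor.MFiveHA
import Cfsg.Agent.CpAut.TwoInnerB
import Cfsg.Agent.Lib.Refl
import Cfsg.Agent.H903.SylRegU
import Cfsg.Agent.H897.MeetPSL
import Cfsg.Agent.H513.MeetPSp
import Cfsg.Agent.H177.MeetPSU
import Cfsg.Agent.H126.S74.OmInv
import Cfsg.Agent.H126.SepMain_m3
import Cfsg.Agent.H579.MpoMain
import Cfsg.Agent.CpAutFiSeven.None
import Cfsg.Agent.CpAutHe.Seven
import Cfsg.Agent.SporadicA.PermTab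
import Cfsg.Agent.HN.AutHS
import Cfsg.Agent.BpSpor.Row.HS
import Cfsg.Agent.McLType.ThreeElts
import Cfsg.Agent.UGT.End.McLOuter
import Cfsg.Agent.TypeM.FactsMcL
import Cfsg.Agent.CpAutRuFive.Main
import Cfsg.Agent.S1627
import Cfsg.Agent.H68.MeetTh
import Cfsg.Agent.H68.MeetHN
import Cfsg.Agent.H903.SylMeet
import Cfsg.Agent.FastGrp
import Cfsg.Agent.Prune
set_option linter.all false

section
prune_inst 0x7ffebdfbaff83ddeffff7e7fffdddffff9fcdfffa4dff9fbffe8ebff8bdf430e09e5f3ad6fe050fe1ed6c03410a87843fbffceffe26bdc7ffffd5ff45ffbee5ff7ffbd0c51d6ac341ffe6ffffbf17f8e7f3fffffffffffffffffffffffffffbeffffffffffff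

-- part: H47/MeetJ4
section
set_option linter.all false
open scoped Cfsg.Agent.FastGrp

/-!
# Trivial Sylow intersections: `J4`, `p = 11` (helper47, S5762)
-/

set_option autoImplicit false

namespace Cfsg.Agent.H47.MeetS.JFour

open Subgroup Cfsg Cfsg.Agent.J4Type Cfsg.Agent.H903.SylMeet
open Cfsg.Agent.CpAut Cfsg.Agent.CpAutJ4

universe u

variable {G : Type u} [Group G] [Finite G]

instance fact11 : Fact (Nat.Prime 11) := ⟨by norm_num⟩

theorem card_z (F : Hex G) : 2 ^ 21 ∣ Nat.card (centralizer ({F.z} : Set G)) := by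
  have h1 := NormE.card_normalizer_inf F HexMax.hex0_isHex
  have h2 : Nat.card (normalizer (F.E hex0 : Set G) ⊓ centralizer ({F.z} : Set G) : Subgroup G) ∣
      Nat.card (centralizer ({F.z} : Set G)) := Subgroup.card_dvd_of_le inf_le_right
  rw [h1] at h2
  exact dvd_trans (by norm_num) h2

theorem index_z (F : Hex G) {x : G} (hx : orderOf x = 11) (hxz : x * F.z = F.z * x) :
    2 ^ 17 ≤ (normalizer (zpowers x : Set G)).index := by
  let C : Cent G := F.toCent
  have hxC : x ∈ centralizer ({C.z} : Set G) := mem_centralizer_singleton_iff.2 hxz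
  have hzz : C.z * C.z = 1 := KFacts.J4.Easy.zz C
  have hz1 : C.z ≠ 1 := KFacts.J4.Easy.z1 C
  have hx11 : x ^ 11 = 1 := by rw [← hx, pow_orderOf_eq_one]
  have hx1 : x ≠ 1 := by
    rintro rfl
    rw [orderOf_one] at hx
    exact absurd hx (by norm_num)
  let x' : ↥(centralizer ({C.z} : Set G)) := ⟨x, hxC⟩
  have hx' : orderOf x' = 11 := by rw [Subgroup.orderOf_mk, hx]
  -- `P x ≠ 1`
  have hP1 : C.P x' ≠ 1 := by
    intro h
    obtain ⟨q, hq, i, hi⟩ := (C.P_ker x').1 h
    have hi' : x = q * C.ρ ^ i := hi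
    obtain ⟨q', hq', h2⟩ := KFacts.J4.AutP.pow_eq (C := C) hq i 3
    have h3 : (C.ρ ^ i) ^ 3 = 1 := by
      rw [← pow_mul, mul_comm, pow_mul, KFacts.J4.AutP.rho_cube, one_pow]
    rw [h3, mul_one, ← hi'] at h2
    have h4 : x ^ 12 = 1 := by
      rw [show (12 : ℕ) = 3 * 4 from rfl, pow_mul, h2, KFacts.J4.AutP.Q_pow_four hq']
    rw [show (12 : ℕ) = 11 + 1 from rfl, pow_succ, hx11, one_mul] at h4
    exact hx1 h4
  have hPx : orderOf (C.P x') = 11 := orderOf_map C.P hx' hP1
  have hPM : ∀ c, C.P c ∈ M24 := by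
    intro c
    have h1 : C.P c ∈ C.P.range := ⟨c, rfl⟩
    rw [C.P_range] at h1
    exact h1.1
  have hPn : C.P x' none = none := by
    rcases KFacts.J4.Easy.P_cases C x' with h | h
    · exact h.1
    · exfalso
      have h1 : ∀ n : ℕ, ((C.P x') ^ (2 * n)) none = none := by
        intro n
        induction n with
        | zero => rfl
        | succ n ih =>
          rw [show 2 * (n + 1) = 2 * n + 1 + 1 by ring, pow_succ, pow_succ, Equiv.Perm.mul_apply,
            Equiv.Perm.mul_apply, h.1, h.2, ih]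
      have h2 : (C.P x') ^ (2 * 5 + 1) = 1 := by
        change (C.P x') ^ 11 = 1
        rw [← hPx, pow_orderOf_eq_one]
      have h3 : ((C.P x') ^ (2 * 5 + 1)) none = some 0 := by
        rw [pow_succ', Equiv.Perm.mul_apply, h1, h.1]
      rw [h2] at h3
      exact absurd h3 (by decide)
  have S : Sit C.Q x C.z C.ρ :=
    { x_order := hx
      z_ne := hz1
      zz := hzz
      zQ := C.z_mem_Q
      card := C.Q_card
      sq := C.Q_sq
      comm := C.Q_comm
      cent := C.Q_cent
      xz := hxz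
      xQ := C.Q_conj x hxz
      ρ3 := by
        have h := KFacts.J4.AutP.rho_cube C
        rwa [pow_succ, pow_two] at h
      ρz := C.ρ_comm
      ρQ := C.Q_conj C.ρ C.ρ_comm
      ρfix := C.ρ_fix
      xρ := C.P_inner x' hPn }
  refine pow_dvd_index_sub (p := 11) (r := 2) (a := 17) (b := 1) (c := 3) (centralizer ({C.z} : Set G)) C.Q hxC hx
    Nat.prime_two (card_z F) (by norm_num) ?_ (by rw [S.card_cent]; norm_num)
  rintro c hcC hcx ⟨n, hn⟩
  let c' : ↥(centralizer ({C.z} : Set G)) := ⟨c, hcC⟩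
  have hc1 : c' ^ 2 ^ n = 1 := Subtype.ext hn
  have hcx' : c' * x' = x' * c' := Subtype.ext hcx
  have h1 : C.P c' = 1 := Eleven.eq_one_of_pow (hPM x') hPx (hPM c') n
    (by rw [← map_pow, hc1, map_one]) (by rw [← map_mul, hcx', map_mul])
  obtain ⟨q, hq, i, hi⟩ := (C.P_ker c').1 h1
  have hi' : c = q * C.ρ ^ i := hi
  rw [hi'] at hn
  rw [hi', KFacts.J4.AutP.mem_Q_of_two hq hn, mul_one]
  exact hq

omit [Finite G] in
theorem card_N (K : Frame G) : Nat.card (normalizer (K.E hex0 : Set G)) = 2 ^ 11 * 244823040 := by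
  have hE : Nat.card (K.E hex0) = 2 ^ 11 := K.E_card _ HexMax.hex0_isHex
  have hsurj : Function.Surjective K.π := K.π_surj
  have hk : Nat.card K.π.ker = 2 ^ 11 := by
    rw [← hE]
    refine Nat.card_congr ⟨fun x => ⟨((x : normalizer (K.E hex0 : Set G)) : G),
      (K.π_ker x).1 x.2⟩, fun y => ⟨⟨y, le_normalizer y.2⟩, (K.π_ker _).2 y.2⟩, fun x => rfl, fun y => rfl⟩
  have h3 := Subgroup.card_eq_card_quotient_mul_card_subgroup K.π.ker
  rw [Nat.card_congr (QuotientGroup.quotientKerEquivOfSurjective _ hsurj).toEquiv, hk,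
    SporadicA.M24Trans.card_M24] at h3
  rw [h3, mul_comm]

theorem index_duad (K : Frame G) {p q : GolayPt} (hpq : p ≠ q) {x : G} (hx : orderOf x = 11)
    (hxz : x * K.ε {p, q} = K.ε {p, q} * x) : 2 ^ 17 ≤ (normalizer (zpowers x : Set G)).index := by
  have hH := FusionConj.isHex_hex0
  have hE := K.E_elem hex0 hH
  have hxN : x ∈ Subgroup.normalizer (K.E hex0 : Set G) := DuadCent.duad_cent K hpq hxz
  have hx11 : x ^ 11 = 1 := by rw [← hx, pow_orderOf_eq_one]
  have hx1 : x ≠ 1 := by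
    rintro rfl
    rw [orderOf_one] at hx
    exact absurd hx (by norm_num)
  have hxE : x ∉ K.E hex0 := by
    intro h
    have h1 := hE.1 x h
    have h2 : orderOf x ∣ 2 := orderOf_dvd_of_pow_eq_one (by rw [pow_two, h1])
    rw [hx] at h2
    exact absurd h2 (by norm_num)
  let x' : ↥(Subgroup.normalizer (K.E hex0 : Set G)) := ⟨x, hxN⟩
  have hx' : orderOf x' = 11 := by rw [Subgroup.orderOf_mk, hx]
  have hπx : orderOf ((K.π x' : M24) : Equiv.Perm GolayPt) = 11 := by
    rw [Subgroup.orderOf_coe]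
    exact orderOf_map K.π hx' (fun h => hxE ((K.π_ker x').1 h))
  have hconj : ∀ c ∈ Subgroup.normalizer (K.E hex0 : Set G), ∀ t ∈ K.E hex0, c * t * c⁻¹ ∈ K.E hex0 :=
    fun c hc t ht => (Subgroup.mem_normalizer_iff.1 hc t).1 ht
  -- fixed points of `x` on `E`
  have hfix := card_fix hx (K.E hex0 : Set G) (hconj x hxN)
  have h1 : Nat.card {a : G // a ∈ (K.E hex0 : Set G) ∧ x * a = a * x} =
      Nat.card ↥(K.E hex0 ⊓ centralizer ({x} : Set G)) := by
    refine Nat.card_congr ⟨fun a => ⟨a, a.2.1, ?_⟩, fun a => ⟨a, a.2.1, ?_⟩, fun a => rfl, fun a => rfl⟩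
    · exact mem_centralizer_singleton_iff.2 a.2.2.symm
    · exact (mem_centralizer_singleton_iff.1 a.2.2).symm
  rw [h1] at hfix
  have hEc : Nat.card ↥(K.E hex0 : Set G) = 2 ^ 11 := K.E_card hex0 hH
  have hEc' : Nat.card ↥(K.E hex0) = 2 ^ 11 := K.E_card hex0 hH
  rw [hEc] at hfix
  have h2 : Nat.card ↥(K.E hex0 ⊓ centralizer ({x} : Set G)) ∣ 2 ^ 11 := by
    rw [← hEc']
    exact card_dvd_of_le inf_le_left
  obtain ⟨m, hm, hm2⟩ := (Nat.dvd_prime_pow Nat.prime_two).1 h2
  rw [hm2] at hfix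
  have h3 : Nat.card ↥(K.E hex0 ⊓ centralizer ({x} : Set G)) = 2 := by
    have h4 : m = 1 ∨ m = 11 := by
      interval_cases m <;> first | (left; rfl) | (right; rfl) | (exfalso; revert hfix; decide)
    rcases h4 with rfl | rfl
    · rw [hm2, pow_one]
    · exfalso
      have h5 : K.E hex0 ⊓ centralizer ({x} : Set G) = K.E hex0 := by
        apply eq_of_le_of_card_ge inf_le_left
        rw [hm2, hEc']
      apply hxE
      apply K.A_cent hex0 hH
      intro a ha _
      rw [← h5] at ha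
      exact (mem_centralizer_singleton_iff.1 ha.2).symm
  refine pow_dvd_index_sub (p := 11) (r := 2) (a := 17) (b := 1) (c := 3) (normalizer (K.E hex0 : Set G)) (K.E hex0)
    hxN hx Nat.prime_two (by rw [card_N K]; norm_num) (by norm_num) ?_ (by rw [h3]; norm_num)
  rintro c hcN hcx ⟨n, hn⟩
  let c' : ↥(Subgroup.normalizer (K.E hex0 : Set G)) := ⟨c, hcN⟩
  have hc1 : c' ^ 2 ^ n = 1 := Subtype.ext hn
  have hcx' : c' * x' = x' * c' := Subtype.ext hcx
  have h4 : ((K.π c' : M24) : Equiv.Perm GolayPt) = 1 :=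
    Eleven.eq_one_of_pow (K.π x').2 hπx (K.π c').2 n
      (by
        have h5 : (K.π c') ^ 2 ^ n = 1 := by rw [← map_pow, hc1, map_one]
        exact congrArg Subtype.val h5)
      (by
        have h5 : K.π c' * K.π x' = K.π x' * K.π c' := by rw [← map_mul, hcx', map_mul]
        exact congrArg Subtype.val h5)
  exact (K.π_ker c').1 (Subtype.ext h4)

theorem index_eleven (x : Cfsg.Spor.J4) (hx : orderOf x = 11) :
    2 ^ 17 ≤ (normalizer (zpowers x : Set Cfsg.Spor.J4)).index := by
  have hJ : Cfsg.IsJ4 Cfsg.Spor.J4 := Cfsg.Agent.S1703.result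
  obtain ⟨hfin, -, ⟨F⟩⟩ := KFacts.J4.Base.exists_full (K := Cfsg.Spor.J4) ⟨MulEquiv.refl _⟩
  have h0 : (none : GolayPt) ≠ some 0 := by decide
  have hnc := F.C.duad_not_conj none (some 0) h0
  have hz1 : F.C.z ≠ 1 := KFacts.J4.Easy.z1 F.C.toCent
  have hzz : F.C.z * F.C.z = 1 := KFacts.J4.Easy.zz F.C.toCent
  have he1 : F.C.ε {none, some 0} ≠ 1 := DuadUniq.duad_ne_one F.C.toFrame h0
  have hH := FusionConj.isHex_hex0
  have hee : F.C.ε {none, some 0} * F.C.ε {none, some 0} = 1 :=
    (F.C.E_elem hex0 hH).1 _ (F.C.ε_mem _ (by rw [Finset.card_pair h0]; decide))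
  -- the two classes of involutions
  have hcls : ∀ u : Cfsg.Spor.J4, u * u = 1 → u ≠ 1 → IsConj u F.C.z ∨ IsConj u (F.C.ε {none, some 0}) := by
    intro u hu hu1
    rcases Final.invol hJ u hu hu1 with h | h <;> rcases Final.invol hJ _ hzz hz1 with hz | hz <;>
      rcases Final.invol hJ _ hee he1 with he | he
    · exact absurd (hz.trans he.symm) hnc
    · exact Or.inl (h.trans hz.symm)
    · exact Or.inr (h.trans he.symm)
    · exact absurd (hz.trans he.symm) hnc
    · exact absurd (hz.trans he.symm) hnc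
    · exact Or.inr (h.trans he.symm)
    · exact Or.inl (h.trans hz.symm)
    · exact absurd (hz.trans he.symm) hnc
  by_cases h2 : 2 ∣ Nat.card ↥(centralizer ({x} : Set Cfsg.Spor.J4))
  · have : Fact (Nat.Prime 2) := ⟨Nat.prime_two⟩
    obtain ⟨u, hu⟩ := exists_prime_orderOf_dvd_card' 2 h2
    have hu' : orderOf (u : Cfsg.Spor.J4) = 2 := by rw [Subgroup.orderOf_coe, hu]
    have hux : (u : Cfsg.Spor.J4) * x = x * u := mem_centralizer_singleton_iff.1 u.2
    have huu : (u : Cfsg.Spor.J4) * u = 1 := by rw [← pow_two, ← hu', pow_orderOf_eq_one]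
    have hu1 : (u : Cfsg.Spor.J4) ≠ 1 := by
      intro h
      rw [h, orderOf_one] at hu'
      exact absurd hu' (by norm_num)
    have key : ∀ w g : Cfsg.Spor.J4, g * u * g⁻¹ = w → (g * x * g⁻¹) * w = w * (g * x * g⁻¹) := by
      rintro w g rfl
      calc g * x * g⁻¹ * (g * u * g⁻¹) = g * (x * u) * g⁻¹ := by group
        _ = g * (u * x) * g⁻¹ := by rw [hux]
        _ = g * u * g⁻¹ * (g * x * g⁻¹) := by group
    have hxg : ∀ g : Cfsg.Spor.J4, orderOf (g * x * g⁻¹) = 11 := by
      intro g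
      rw [← hx]
      exact MulEquiv.orderOf_eq (MulAut.conj g) x
    have hidx : ∀ g : Cfsg.Spor.J4, (normalizer (zpowers (g * x * g⁻¹) : Set Cfsg.Spor.J4)).index ≤
        (normalizer (zpowers x : Set Cfsg.Spor.J4)).index := by
      intro g
      have h := index_normalizer_conj g⁻¹ (g * x * g⁻¹)
      have h1 : g⁻¹ * (g * x * g⁻¹) * g⁻¹⁻¹ = x := by group
      rwa [h1] at h
    rcases hcls u huu hu1 with h | h
    · obtain ⟨g, hg⟩ := isConj_iff.1 h
      exact (index_z F.C.toHex (hxg g) (key _ g hg)).trans (hidx g)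
    · obtain ⟨g, hg⟩ := isConj_iff.1 h
      exact (index_duad F.C.toFrame h0 (hxg g) (key _ g hg)).trans (hidx g)
  · refine Nat.le_of_dvd (Nat.pos_of_ne_zero index_ne_zero_of_finite)
      (pow_dvd_index_of_odd (p := 11) hx (a := 17) (b := 4) Nat.prime_two ?_ (by norm_num) h2)
    rw [NotCT.Orders.j4 ⟨MulEquiv.refl _⟩]
    norm_num

end Cfsg.Agent.H47.MeetS.JFour

namespace Cfsg.Agent.H47.MeetS

open Cfsg Cfsg.Agent.H903.SylMeet

theorem meet11_J4 {G : Type*} [Group G] [Finite G] [IsSimpleGroup G] (h : Spor.IsoJ4 G) : Meet 11 G := by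
  have hs : IsSporadicGroup G := by unfold IsSporadicGroup; tauto
  obtain ⟨e⟩ := h
  obtain ⟨hfin, hsim, -⟩ := KFacts.J4.Base.exists_full (K := Cfsg.Spor.J4) ⟨MulEquiv.refl _⟩
  have hs1 : IsSporadicGroup Spor.J4 := by
    have : Spor.IsoJ4 Spor.J4 := ⟨MulEquiv.refl _⟩
    unfold IsSporadicGroup; tauto
  refine Meet.congr e.symm (meet_of_index (not_comm_spor hs1) (H498.SporOut.index_le_two hs1) (by norm_num) (k := 3)
    (s := 133) (n := 2 ^ 17) (by rw [NotCT.Orders.j4 ⟨MulEquiv.refl _⟩]; norm_num) (by norm_num)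
    (fun y hy => JFour.index_eleven y hy) (by norm_num))

end Cfsg.Agent.H47.MeetS
end

-- part: H68/MeetLy_mg
section
prune_inst 0x800000000000002000000200000000000000000100000000006100000000000400008000000000000000000010000000000000000000000000000000000100000000000000000000002000000000000000000000000000000041000000000000
set_option linter.all false
open scoped Cfsg.Agent.FastGrp

-- part: H68/MeetUT
section
/-!
# Trivial intersections of Sylow `p`-subgroups: certificates by matrices over the prime field (helper68)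

`A : G →* Matrix (Fin n) (Fin n) (ZMod p)` injective, the generators of `P` are mapped to upper unitriangular
matrices, their conjugates by `x⁻¹` to lower unitriangular matrices.
-/

set_option autoImplicit false

namespace Cfsg.Agent.H68.MeetUT

open Subgroup Cfsg.Agent.H68.MeetB

variable {n p : ℕ} [Fact p.Prime]

/-- upper unitriangular -/
def Up (M : Matrix (Fin n) (Fin n) (ZMod p)) : Prop := (∀ i j, j < i → M i j = 0) ∧ ∀ i, M i i = 1

/-- lower unitriangular -/
def Lo (M : Matrix (Fin n) (Fin n) (ZMod p)) : Prop := (∀ i j, i < j → M i j = 0) ∧ ∀ i, M i i = 1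

instance decUp (M : Matrix (Fin n) (Fin n) (ZMod p)) : Decidable (Up M) :=
  decidable_of_iff ((∀ t : Fin n × Fin n, t.2 < t.1 → M t.1 t.2 = 0) ∧ ∀ i, M i i = 1)
    ⟨fun h => ⟨fun i j hij => h.1 (i, j) hij, h.2⟩, fun h => ⟨fun t ht => h.1 t.1 t.2 ht, h.2⟩⟩

instance decLo (M : Matrix (Fin n) (Fin n) (ZMod p)) : Decidable (Lo M) :=
  decidable_of_iff ((∀ t : Fin n × Fin n, t.1 < t.2 → M t.1 t.2 = 0) ∧ ∀ i, M i i = 1)
    ⟨fun h => ⟨fun i j hij => h.1 (i, j) hij, h.2⟩, fun h => ⟨fun t ht => h.1 t.1 t.2 ht, h.2⟩⟩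

theorem Up.one : Up (1 : Matrix (Fin n) (Fin n) (ZMod p)) :=
  ⟨fun _ _ h => Matrix.one_apply_ne h.ne', fun _ => Matrix.one_apply_eq _⟩

theorem Lo.one : Lo (1 : Matrix (Fin n) (Fin n) (ZMod p)) :=
  ⟨fun _ _ h => Matrix.one_apply_ne h.ne, fun _ => Matrix.one_apply_eq _⟩

theorem Up.mul {M N : Matrix (Fin n) (Fin n) (ZMod p)} (hM : Up M) (hN : Up N) : Up (M * N) := by
  constructor
  · intro i j hij
    rw [Matrix.mul_apply]
    refine Finset.sum_eq_zero fun k _ => ?_
    rcases lt_or_ge k i with h | h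
    · rw [hM.1 i k h, zero_mul]
    · rw [hN.1 k j (hij.trans_le h), mul_zero]
  · intro i
    rw [Matrix.mul_apply, Finset.sum_eq_single i]
    · rw [hM.2, hN.2, mul_one]
    · intro k _ hk
      rcases lt_or_gt_of_ne hk with h | h
      · rw [hM.1 i k h, zero_mul]
      · rw [hN.1 k i h, mul_zero]
    · intro h
      exact absurd (Finset.mem_univ i) h

theorem Up.transpose {M : Matrix (Fin n) (Fin n) (ZMod p)} : Up M.transpose ↔ Lo M :=
  ⟨fun h => ⟨fun i j hij => h.1 j i hij, fun i => h.2 i⟩, fun h => ⟨fun i j hij => h.1 j i hij, fun i => h.2 i⟩⟩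

theorem Lo.mul {M N : Matrix (Fin n) (Fin n) (ZMod p)} (hM : Lo M) (hN : Lo N) : Lo (M * N) := by
  rw [← Up.transpose, Matrix.transpose_mul]
  exact (Up.transpose.2 hN).mul (Up.transpose.2 hM)

theorem eq_one {M : Matrix (Fin n) (Fin n) (ZMod p)} (h : Up M) (h' : Lo M) : M = 1 := by
  ext i j
  rcases lt_trichotomy i j with hij | rfl | hij
  · rw [h'.1 i j hij, Matrix.one_apply_ne hij.ne]
  · rw [h.2, Matrix.one_apply_eq]
  · rw [h.1 i j hij, Matrix.one_apply_ne hij.ne']

/-- the entries `(r, j)`, `r < j ≤ c`, vanish -/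
def Win (r c : Fin n) (M : Matrix (Fin n) (Fin n) (ZMod p)) : Prop := ∀ j, r < j → j ≤ c → M r j = 0

instance decWin (r c : Fin n) (M : Matrix (Fin n) (Fin n) (ZMod p)) : Decidable (Win r c M) :=
  decidable_of_iff (∀ j, (r < j ∧ j ≤ c) → M r j = 0) ⟨fun h j h1 h2 => h j ⟨h1, h2⟩, fun h j h1 => h j h1.1 h1.2⟩

theorem Win.mul {r c : Fin n} {M N : Matrix (Fin n) (Fin n) (ZMod p)} (hM : Up M) (hN : Up N) (h : Win r c M)
    (h' : Win r c N) : Win r c (M * N) := by
  intro j hrj hjc
  rw [Matrix.mul_apply]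
  refine Finset.sum_eq_zero fun k _ => ?_
  rcases lt_trichotomy k r with hk | rfl | hk
  · rw [hM.1 r k hk, zero_mul]
  · rw [h' j hrj hjc, mul_zero]
  · rcases le_or_gt k c with hkc | hkc
    · rw [h k hk hkc, zero_mul]
    · rw [hN.1 k j (hjc.trans_lt hkc), mul_zero]

theorem closure_prop {G : Type*} [Group G] [Finite G] {S : Set G} {Q : G → Prop} (h1 : Q 1)
    (hmul : ∀ a b, Q a → Q b → Q (a * b)) (hS : ∀ s ∈ S, Q s) {y : G} (hy : y ∈ _root_.Subgroup.closure S) : Q y := by
  have h2 : y ∈ Submonoid.closure S := by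
    rw [← Subgroup.closure_toSubmonoid_of_finite]
    exact hy
  clear hy
  induction h2 using Submonoid.closure_induction with
  | mem x hx => exact hS x hx
  | one => exact h1
  | mul x z _ _ hx hz => exact hmul x z hx hz

theorem mul_card_le {G : Type*} [Group G] [Finite G] {H K : Subgroup G} (hK : IsPGroup p K) (hHK : H ≤ K) {g : G}
    (hg : g ∈ K) (hg' : g ∉ H) : p * Nat.card H ≤ Nat.card K := by
  have hpp : p.Prime := Fact.out
  obtain ⟨a, ha⟩ := hK.exists_card_eq
  have h1 : Nat.card H ∣ Nat.card K := card_dvd_of_le hHK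
  obtain ⟨b, hb⟩ := h1
  have h2 : b ∣ p ^ a := ⟨Nat.card H, by rw [← ha, hb, mul_comm]⟩
  obtain ⟨c, -, hc⟩ := (Nat.dvd_prime_pow hpp).1 h2
  rcases Nat.eq_zero_or_pos c with h0 | h0
  · exfalso
    rw [h0, pow_zero] at hc
    rw [hc, mul_one] at hb
    have h3 : H = K := Subgroup.eq_of_le_of_card_ge hHK hb.le
    exact hg' (h3 ▸ hg)
  · rw [hb, hc, mul_comm]
    refine Nat.mul_le_mul_left _ ?_
    calc p = p ^ 1 := (pow_one p).symm
      _ ≤ p ^ c := Nat.pow_le_pow_right hpp.pos h0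

variable {G : Type*} [Group G] [Finite G] (A : G →* Matrix (Fin n) (Fin n) (ZMod p)) (hA : Function.Injective A)

/-- subgroup generated by a list -/
def cl (l : List G) : Subgroup G := _root_.Subgroup.closure {x | x ∈ l}

omit [Finite G] in
theorem cl_cons (g : G) (l : List G) : cl l ≤ cl (g :: l) :=
  _root_.Subgroup.closure_mono fun _ hx => List.mem_cons_of_mem _ hx

omit [Finite G] in
theorem mem_cl {g : G} {l : List G} (h : g ∈ l) : g ∈ cl l := _root_.Subgroup.subset_closure h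

theorem up_of_mem {l : List G} (h : ∀ g ∈ l, Up (A g)) {y : G} (hy : y ∈ cl l) : Up (A y) :=
  closure_prop (Q := fun y => Up (A y)) (by rw [map_one]; exact Up.one)
    (fun a b ha hb => by rw [map_mul]; exact ha.mul hb) h hy

omit [Finite G] in
include hA in
theorem isPGroup_of_up {K : Subgroup G} (h : ∀ y ∈ K, Up (A y)) : IsPGroup p K := by
  have h1 : IsPGroup p (Cfsg.Agent.SylowL.UT.UT n (ZMod p)) := by
    apply IsPGroup.of_card (n := n * (n - 1) / 2)
    rw [Cfsg.Agent.SylowL.Lower.card_UT, Nat.card_zmod]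
  have h2 : Function.Injective A.toHomUnits := by
    intro a b hab
    exact hA (congrArg Units.val hab)
  have h3 : K ≤ (Cfsg.Agent.SylowL.UT.UT n (ZMod p)).comap A.toHomUnits := by
    intro y hy
    rw [mem_comap]
    change ((A.toHomUnits y : (Matrix (Fin n) (Fin n) (ZMod p))ˣ) : Matrix (Fin n) (Fin n) (ZMod p)) - 1 ∈
      Cfsg.Agent.SylowL.Lev.lev n (ZMod p) 1
    rw [Cfsg.Agent.SylowL.Lev.mem_lev']
    intro i j hij
    have h4 : A y i j = (1 : Matrix (Fin n) (Fin n) (ZMod p)) i j := by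
      rcases (Nat.lt_succ_iff.1 hij).lt_or_eq with h5 | h5
      · rw [(h y hy).1 i j h5, Matrix.one_apply_ne (by rintro rfl; exact absurd h5 (lt_irrefl _))]
      · have h6 : j = i := Fin.ext h5
        rw [h6, (h y hy).2, Matrix.one_apply_eq]
    rw [Matrix.sub_apply, sub_eq_zero]
    exact h4
  exact (h1.comap_of_injective _ h2).to_le h3

/-- the pivot conditions -/
def Piv : List (G × Fin n × Fin n) → Prop
  | [] => True
  | a :: l => a.2.1 < a.2.2 ∧ A a.1 a.2.1 a.2.2 ≠ 0 ∧ (∀ b ∈ l, Win a.2.1 a.2.2 (A b.1)) ∧ Piv l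

include hA in
theorem card_ge (l : List (G × Fin n × Fin n)) (hup : ∀ a ∈ l, Up (A a.1)) (h : Piv A l) :
    p ^ l.length ≤ Nat.card ↥(cl (l.map Prod.fst)) := by
  induction l with
  | nil => exact Nat.card_pos
  | cons a l ih =>
    obtain ⟨h1, h2, h3, h4⟩ := h
    have hup' : ∀ b ∈ l, Up (A b.1) := fun b hb => hup b (List.mem_cons_of_mem _ hb)
    have h5 := ih hup' h4
    have hUp : ∀ y ∈ cl ((a :: l).map Prod.fst), Up (A y) := fun y hy => up_of_mem A (by
      intro g hg
      obtain ⟨b, hb, rfl⟩ := List.mem_map.1 hg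
      exact hup b hb) hy
    have h6 : p * Nat.card ↥(cl (l.map Prod.fst)) ≤ Nat.card ↥(cl ((a :: l).map Prod.fst)) := by
      refine mul_card_le (isPGroup_of_up A hA hUp) (cl_cons _ _) (g := a.1) (mem_cl (by simp only [_root_.List.map_cons, _root_.List.mem_cons, _root_.List.mem_map, _root_.Prod.exists, _root_.exists_and_right, _root_.exists_eq_right, _root_.true_or])) fun hmem => ?_
      have h7 : Up (A a.1) ∧ Win a.2.1 a.2.2 (A a.1) :=
        closure_prop (Q := fun y => Up (A y) ∧ Win a.2.1 a.2.2 (A y))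
          ⟨by rw [map_one]; exact Up.one, by
            rw [map_one]
            intro j hj _
            exact Matrix.one_apply_ne hj.ne⟩
          (fun y z hy hz => by
            rw [map_mul]
            exact ⟨hy.1.mul hz.1, Win.mul hy.1 hz.1 hy.2 hz.2⟩)
          (fun s hs => by
            obtain ⟨b, hb, rfl⟩ := List.mem_map.1 hs
            exact ⟨hup' b hb, h3 b hb⟩) hmem
      exact h2 (h7.2 a.2.2 h1 le_rfl)
    rw [List.length_cons, pow_succ, mul_comm]
    exact (Nat.mul_le_mul_left p h5).trans h6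

include hA in
/-- **certificate by matrices** -/
theorem meetIn (l : List (G × Fin n × Fin n)) (hup : ∀ a ∈ l, Up (A a.1)) (h : Piv A l) (x : G)
    (hlo : ∀ a ∈ l, Lo (A (x⁻¹ * a.1 * x))) (hcard : ¬ p ^ (l.length + 1) ∣ Nat.card G) : MeetIn p G := by
  have hpp : p.Prime := Fact.out
  let P : Subgroup G := cl (l.map Prod.fst)
  have hUp : ∀ y ∈ P, Up (A y) := fun y hy => up_of_mem A (by
      intro g hg
      obtain ⟨b, hb, rfl⟩ := List.mem_map.1 hg
      exact hup b hb) hy
  have hP : IsPGroup p P := isPGroup_of_up A hA hUp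
  have h1 := card_ge A hA l hup h
  refine MeetIn.of_one P hP ?_ ⟨x, fun y hy hxy => ?_⟩
  · intro hd
    apply hcard
    obtain ⟨k, hk⟩ := hP.exists_card_eq
    have h2 : l.length ≤ k := by
      rw [← Nat.pow_le_pow_iff_right hpp.one_lt, ← hk]
      exact h1
    rw [← card_mul_index P, pow_succ]
    refine mul_dvd_mul ?_ hd
    rw [hk]
    exact pow_dvd_pow p h2
  · have h2 : Lo (A (x⁻¹ * (x * y * x⁻¹) * x)) :=
      closure_prop (Q := fun z => Lo (A (x⁻¹ * z * x))) (by
          have : x⁻¹ * 1 * x = 1 := by group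
          rw [this, map_one]
          exact Lo.one)
        (fun a b ha hb => by
          have : x⁻¹ * (a * b) * x = (x⁻¹ * a * x) * (x⁻¹ * b * x) := by group
          rw [this, map_mul]
          exact ha.mul hb)
        (fun s hs => by
          obtain ⟨b, hb, rfl⟩ := List.mem_map.1 hs
          exact hlo b hb) hxy
    have h3 : x⁻¹ * (x * y * x⁻¹) * x = y := by group
    rw [h3] at h2
    apply hA
    rw [map_one]
    exact eq_one (hUp y hy) h2

end Cfsg.Agent.H68.MeetUT
end

-- part: H68/MeetLy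
section
/-!
# Sylow 5-subgroups of `G₂(5)` and of the Lyons group: trivial intersections (helper68)
-/

set_option autoImplicit false
set_option maxRecDepth 100000

namespace Cfsg.Agent.H68.MeetLy

open Cfsg.Agent.Lib.PackMat Cfsg.Agent.Lib.PackOrbit
open Cfsg.Agent.SporRec.LyG2.M7Data Cfsg.Agent.SporRec.LyG2.Rel Cfsg.Agent.SporRec.LyG2.Pres
  Cfsg.Agent.SporRec.LyG2.M7 Cfsg.Agent.SporRec.LyG2.Simple Cfsg.Agent.SporRec.LyG2.LyEmb
open Cfsg.Agent.H68.MeetB Cfsg.Agent.H68.MeetUT Cfsg.Agent.H903.SylMeet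
open Cfsg.Spor (Ly IsoLy)

def TT : Matrix (Fin 7) (Fin 7) (ZMod 5) := !![1, 4, 3, 2, 0, 1, 0; 1, 0, 2, 3, 1, 1, 4; 0, 0, 1, 3, 1, 1, 4; 0, 0, 1, 4, 0, 4, 0; 0, 0, 1, 0, 0, 1, 4; 0, 0, 0, 0, 0, 1, 4; 0, 0, 0, 0, 0, 1, 0]
def TI : Matrix (Fin 7) (Fin 7) (ZMod 5) := !![0, 1, 4, 0, 4, 1, 0; 4, 1, 4, 3, 4, 1, 4; 0, 0, 0, 0, 1, 4, 0; 0, 0, 0, 4, 1, 4, 4; 0, 0, 1, 3, 1, 3, 3; 0, 0, 0, 0, 0, 0, 1; 0, 0, 0, 0, 0, 4, 1]

theorem TT_TI : TT * TI = 1 := by decide +kernel
theorem TI_TT : TI * TT = 1 := by decide +kernel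

def a30 : Matrix (Fin 7) (Fin 7) (ZMod 5) := !![1, 0, 0, 0, 0, 0, 0; 0, 1, 1, 0, 0, 0, 0; 0, 0, 1, 0, 0, 0, 0; 0, 0, 0, 1, 0, 0, 0; 0, 0, 0, 0, 1, 1, 0; 0, 0, 0, 0, 0, 1, 0; 0, 0, 0, 0, 0, 0, 1]
def a32 : Matrix (Fin 7) (Fin 7) (ZMod 5) := !![1, 4, 1, 0, 3, 2, 0; 0, 1, 0, 3, 1, 4, 2; 0, 0, 1, 3, 1, 4, 2; 0, 0, 0, 1, 4, 1, 0; 0, 0, 0, 0, 1, 0, 4; 0, 0, 0, 0, 0, 1, 4; 0, 0, 0, 0, 0, 0, 1]
def a34 : Matrix (Fin 7) (Fin 7) (ZMod 5) := !![1, 0, 1, 0, 0, 2, 0; 0, 1, 0, 3, 0, 4, 2; 0, 0, 1, 0, 0, 0, 0; 0, 0, 0, 1, 0, 1, 0; 0, 0, 0, 0, 1, 0, 4; 0, 0, 0, 0, 0, 1, 0; 0, 0, 0, 0, 0, 0, 1]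
def a36 : Matrix (Fin 7) (Fin 7) (ZMod 5) := !![1, 0, 0, 3, 0, 0, 1; 0, 1, 0, 0, 1, 0, 0; 0, 0, 1, 0, 0, 1, 0; 0, 0, 0, 1, 0, 0, 4; 0, 0, 0, 0, 1, 0, 0; 0, 0, 0, 0, 0, 1, 0; 0, 0, 0, 0, 0, 0, 1]
def a38 : Matrix (Fin 7) (Fin 7) (ZMod 5) := !![1, 0, 0, 0, 4, 1, 0; 0, 1, 0, 0, 0, 0, 1; 0, 0, 1, 0, 0, 0, 1; 0, 0, 0, 1, 0, 0, 0; 0, 0, 0, 0, 1, 0, 0; 0, 0, 0, 0, 0, 1, 0; 0, 0, 0, 0, 0, 0, 1]
def a40 : Matrix (Fin 7) (Fin 7) (ZMod 5) := !![1, 0, 0, 0, 0, 1, 0; 0, 1, 0, 0, 0, 0, 1; 0, 0, 1, 0, 0, 0, 0; 0, 0, 0, 1, 0, 0, 0; 0, 0, 0, 0, 1, 0, 0; 0, 0, 0, 0, 0, 1, 0; 0, 0, 0, 0, 0, 0, 1]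
def a28 : Matrix (Fin 7) (Fin 7) (ZMod 5) := !![1, 0, 0, 0, 0, 0, 0; 0, 2, 4, 0, 0, 0, 0; 0, 1, 0, 0, 0, 0, 0; 0, 0, 0, 1, 0, 0, 0; 0, 0, 0, 0, 2, 4, 0; 0, 0, 0, 0, 1, 0, 0; 0, 0, 0, 0, 0, 0, 1]
def a22 : Matrix (Fin 7) (Fin 7) (ZMod 5) := !![4, 0, 0, 4, 0, 0, 1; 0, 2, 0, 0, 4, 0, 0; 0, 0, 2, 0, 0, 4, 0; 3, 0, 0, 4, 0, 0, 0; 0, 1, 0, 0, 0, 0, 0; 0, 0, 1, 0, 0, 0, 0; 1, 0, 0, 0, 0, 0, 0]
def xh : Matrix (Fin 7) (Fin 7) (ZMod 5) := !![4, 0, 0, 4, 0, 0, 1; 0, 4, 3, 0, 3, 1, 0; 0, 2, 0, 0, 4, 0, 0; 3, 0, 0, 4, 0, 0, 0; 0, 2, 4, 0, 0, 0, 0; 0, 1, 0, 0, 0, 0, 0; 1, 0, 0, 0, 0, 0, 0]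
def xi : Matrix (Fin 7) (Fin 7) (ZMod 5) := !![0, 0, 0, 0, 0, 0, 1; 0, 0, 0, 0, 0, 1, 0; 0, 0, 0, 0, 4, 2, 0; 0, 0, 0, 4, 0, 0, 3; 0, 0, 4, 0, 0, 2, 0; 0, 1, 3, 0, 3, 4, 0; 1, 0, 0, 4, 0, 0, 4]

/-- change of the index types -/
def c7 (M : Mat7) : Matrix (Fin 7) (Fin 7) (ZMod 5) := M

theorem c7_mul (M N : Mat7) : c7 (M * N) = c7 M * c7 N := rfl

theorem c7_one : c7 1 = 1 := rfl

/-- the `7 × 7` matrix in the new basis -/
noncomputable def A : P44 →* Matrix (Fin 7) (Fin 7) (ZMod 5) where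
  toFun y := TT * c7 (φ y : Mat7) * TI
  map_one' := by rw [map_one, Units.val_one, c7_one, mul_one, TT_TI]
  map_mul' a b := by
    rw [map_mul, Units.val_mul, c7_mul]
    calc TT * (c7 (φ a : Mat7) * c7 (φ b : Mat7)) * TI = TT * c7 (φ a : Mat7) * 1 * c7 (φ b : Mat7) * TI := by
          rw [mul_one]; simp only [mul_assoc]
      _ = _ := by rw [← TI_TT]; simp only [mul_assoc]

theorem A_apply (y : P44) : A y = TT * c7 (φ y : Mat7) * TI := rfl

theorem A_injective : Function.Injective A := by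
  intro y z h
  rw [A_apply, A_apply] at h
  have key : ∀ M : Matrix (Fin 7) (Fin 7) (ZMod 5), TI * (TT * M * TI) * TT = M := by
    intro M
    calc TI * (TT * M * TI) * TT = (TI * TT) * M * (TI * TT) := by simp only [mul_assoc]
      _ = M := by rw [TI_TT, one_mul, mul_one]
  have h1 := congrArg (fun M => TI * M * TT) h
  simp only [key] at h1
  exact Cfsg.Agent.SporRec.LyG2.M7.φ_injective (Units.ext h1)

theorem A_Y (k : ℕ) : A (Y k) = TT * c7 (mat C7 (cd k)) * TI := by
  rw [A_apply, φ_Y, X_val]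

theorem e30 : A (Y 30) = a30 := by
  rw [A_Y]
  exact (by decide +kernel : TT * c7 (mat C7 (cd 30)) * TI = a30)
theorem e32 : A (Y 32) = a32 := by
  rw [A_Y]
  exact (by decide +kernel : TT * c7 (mat C7 (cd 32)) * TI = a32)
theorem e34 : A (Y 34) = a34 := by
  rw [A_Y]
  exact (by decide +kernel : TT * c7 (mat C7 (cd 34)) * TI = a34)
theorem e36 : A (Y 36) = a36 := by
  rw [A_Y]
  exact (by decide +kernel : TT * c7 (mat C7 (cd 36)) * TI = a36)
theorem e38 : A (Y 38) = a38 := by
  rw [A_Y]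
  exact (by decide +kernel : TT * c7 (mat C7 (cd 38)) * TI = a38)
theorem e40 : A (Y 40) = a40 := by
  rw [A_Y]
  exact (by decide +kernel : TT * c7 (mat C7 (cd 40)) * TI = a40)
theorem e28 : A (Y 28) = a28 := by
  rw [A_Y]
  exact (by decide +kernel : TT * c7 (mat C7 (cd 28)) * TI = a28)
theorem e22 : A (Y 22) = a22 := by
  rw [A_Y]
  exact (by decide +kernel : TT * c7 (mat C7 (cd 22)) * TI = a22)

theorem exh : A (Y 28 * Y 22) = xh := by
  rw [map_mul, e28, e22]
  decide +kernel

theorem exi : A (Y 28 * Y 22)⁻¹ = xi := by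
  have h : xh * xi = 1 := by decide +kernel
  calc A (Y 28 * Y 22)⁻¹ = A (Y 28 * Y 22)⁻¹ * (xh * xi) := by rw [h, mul_one]
    _ = (A (Y 28 * Y 22)⁻¹ * A (Y 28 * Y 22)) * xi := by rw [exh, mul_assoc]
    _ = xi := by rw [← map_mul, inv_mul_cancel, map_one, one_mul]

/-- generators and pivots -/
noncomputable def gl : List (P44 × Fin 7 × Fin 7) := [(Y 30, 1, 2), (Y 32, 0, 1), (Y 34, 0, 2), (Y 36, 0, 3), (Y 38, 0, 4), (Y 40, 0, 5)]

theorem gl_up : ∀ a ∈ gl, Up (A a.1) := by
  simp only [gl, List.forall_mem_cons, List.not_mem_nil, false_imp_iff, implies_true, and_true, e30, e32, e34, e36,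
    e38, e40]
  decide +kernel

theorem gl_lo : ∀ a ∈ gl, Lo (A ((Y 28 * Y 22)⁻¹ * a.1 * (Y 28 * Y 22))) := by
  have key : ∀ g : P44, A ((Y 28 * Y 22)⁻¹ * g * (Y 28 * Y 22)) = xi * A g * xh := by
    intro g
    rw [map_mul A, map_mul A _ g, exh, exi]
  simp only [gl, List.forall_mem_cons, List.not_mem_nil, false_imp_iff, implies_true, and_true, key, e30, e32, e34,
    e36, e38, e40]
  (delta Cfsg.Agent.H68.MeetUT.Lo; set_option synthInstance.maxSize 100000 in open scoped Cfsg.Agent.Lib.Refl.U in exact Cfsg.Agent.Lib.Refl.of (by decide +kernel))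

theorem gl_piv : Piv A gl := by
  simp only [gl, Piv, List.forall_mem_cons, List.not_mem_nil, false_imp_iff, implies_true, and_true, e30, e32, e34,
    e36, e38, e40]
  decide +kernel

theorem meetIn_P44 : MeetIn 5 P44 := by
  have : Fact (Nat.Prime 5) := ⟨by norm_num⟩
  exact meetIn A A_injective gl gl_up gl_piv (Y 28 * Y 22) gl_lo (by
    rw [Cfsg.Agent.SporRec.LyG2.M7.card_P44]
    change ¬ 5 ^ 7 ∣ 5859000000
    norm_num)

theorem card_Ly : Nat.card Ly = 51765179004000000 := Cfsg.Agent.S1702.result.2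

theorem meetIn_Ly' : MeetIn 5 Ly := by
  have : Fact (Nat.Prime 5) := ⟨by norm_num⟩
  have : Finite Ly := Nat.finite_of_card_ne_zero (by rw [card_Ly]; norm_num)
  refine MeetIn.of_hom η η_injective ?_ meetIn_P44
  have h1 := η.range.card_mul_index
  have h2 : Nat.card η.range = 5859000000 := by
    rw [← Cfsg.Agent.SporRec.LyG2.M7.card_P44]
    exact (Nat.card_congr (MonoidHom.ofInjective η_injective).toEquiv).symm
  rw [h2, card_Ly] at h1
  have h3 : η.range.index = 8835156 := by omega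
  rw [h3]
  norm_num

theorem meetIn_Ly {G : Type*} [Group G] (h : IsoLy G) : MeetIn 5 G := by
  obtain ⟨e⟩ := h
  exact meetIn_Ly'.congr e.symm

theorem meet5_Ly {G : Type*} [Group G] [Finite G] [IsSimpleGroup G] (h : IsoLy G) : Meet 5 G := by
  have : Fact (Nat.Prime 5) := ⟨by norm_num⟩
  refine MeetIn.meet ?_ ?_ (meetIn_Ly h)
  · intro α _
    obtain ⟨g, hg⟩ := Cfsg.Agent.TypeM.OutLyFin.inner h α
    exact ⟨g, hg.symm⟩
  · obtain ⟨e⟩ := h
    apply not_comm_of_card
    rw [Nat.card_congr e.toEquiv, card_Ly]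
    norm_num

end Cfsg.Agent.H68.MeetLy
end

-- part: CpAutCoOneFive/ClC
section
/-!
# The elements of order five with a fixed space of dimension 4 (helper6)

`no_comp_c` : `C(c) / O_{5'}(C(c))` has no components.
-/

set_option autoImplicit false

namespace Cfsg.Agent.CpAutCoOneFive.ClC

open Cfsg Subgroup Cfsg.Agent.SporadicStructure.Co0Base
open Cfsg.Agent.CpAutCoOneFive.Elem Cfsg.Agent.CpAutCoOneFive.Nf Cfsg.Agent.CpAutCoOneFive.Cls
open Cfsg.Agent.CpAutBig Cfsg.Agent.OrdDiv
open Cfsg.Agent.CpAut (AllKnown)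
open Cfsg.Agent.LThree (Comps)
open Module
open scoped commutatorElement

theorem not_dvd_c {q : ℕ} (hq : q.Prime) (h7 : 7 ≤ q) : ¬ q ∣ Nat.card (centralizer ({c} : Set Co0)) := by
  have h1 := Fac.finrank_c
  have h2 : 0 < finrank ℚ (LinearMap.ker (SigZeroCo2.Lin.rep c - 1)) := by
    obtain ⟨v, hn, ha, hb⟩ := exists_ab 32 (Or.inl rfl)
    have hv := ne_zero_of_norm hn (by norm_num)
    rw [Module.finrank_pos_iff_exists_ne_zero]
    refine ⟨⟨SigZeroCo2.Lin.toV v, ?_⟩, ?_⟩
    · rw [LinearMap.mem_ker]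
      change SigZeroCo2.Lin.rep c (SigZeroCo2.Lin.toV v) - SigZeroCo2.Lin.toV v = 0
      rw [SigZeroCo2.Lin.rep_toV, fix_c ha hb, sub_self]
    · intro h
      apply hv
      apply SigZeroCo2.Lin.toV_injective
      rw [SigZeroCo2.Lin.toV_zero]
      exact congrArg Subtype.val h
  refine TwoPr.not_dvd five hq (by omega) orderOf_c (by omega) ?_
  have h3 : 6 * (5 - 1) ≤ (q - 1) * (5 - 1) := Nat.mul_le_mul_right _ (by omega)
  omega

theorem card_dvd_c : Nat.card (centralizer ({c} : Set Co0)) ∣ 51597803520000 := by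
  have h1 : Nat.card (centralizer ({c} : Set Co0)) ∣ 51597803520000 * 161161 := by
    have h2 := card_subgroup_dvd_card (centralizer ({c} : Set Co0))
    rw [S0397.result] at h2
    exact h2
  refine Nat.Coprime.dvd_of_dvd_mul_right ?_ h1
  have hc : ∀ q : ℕ, q.Prime → 7 ≤ q → (Nat.card (centralizer ({c} : Set Co0))).Coprime q := fun q hq h7 =>
    ((Nat.Prime.coprime_iff_not_dvd hq).2 (not_dvd_c hq h7)).symm
  have h7 := hc 7 (by norm_num) (by norm_num)
  have h11 := hc 11 (by norm_num) (by norm_num)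
  have h13 := hc 13 (by norm_num) (by norm_num)
  have h23 := hc 23 (by norm_num) (by norm_num)
  have e : 161161 = 7 * 7 * 11 * 13 * 23 := by norm_num
  rw [e]
  exact (((h7.mul_right h7).mul_right h11).mul_right h13).mul_right h23

end Cfsg.Agent.CpAutCoOneFive.ClC
end

-- part: CpAutCoOneFive/Main
section
/-!
# The components for the elements of order five of `Co0` (helper6)

`comps_co0` : the components of `C(x) / O_{5'}(C(x))`, `x ∈ Co0` of order 5, are `C_5`-groups.
-/

set_option autoImplicit false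

namespace Cfsg.Agent.CpAutCoOneFive.Main

open Cfsg Subgroup Cfsg.Agent.SporadicStructure.Co0Base
open Cfsg.Agent.CpAutCoOneFive.Elem Cfsg.Agent.CpAutCoOneFive.Nf Cfsg.Agent.CpAutCoOneFive.Cls
open Cfsg.Agent.CpAutBig Cfsg.Agent.OrdDiv
open Cfsg.Agent.CpAut (AllKnown)
open Cfsg.Agent.LThree (Comps)
open scoped Pointwise

/-- the centralizers of conjugate subgroups of order `p` -/
theorem centralizer_equiv {G : Type*} [Group G] {p : ℕ} (hp : p.Prime) {x r w : G} (hx : orderOf x = p)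
    (hr : orderOf r = p) (h : w * x * w⁻¹ ∈ zpowers r) :
    Nonempty (↥(centralizer ({x} : Set G)) ≃* ↥(centralizer ({r} : Set G))) := by
  have h1 : orderOf (w * x * w⁻¹) = p := by
    rw [← MulAut.conj_apply, MulEquiv.orderOf_eq, hx]
  rw [← CoZero.centralizer_eq_of_mem hp h1 hr h, ← CoZero.map_centralizer]
  exact ⟨(centralizer ({x} : Set G)).equivMapOfInjective _ (MulAut.conj w).injective⟩

/-- the centre of `P4` -/
theorem center_P4 {x : Co0} (hx : x ∈ P4 quad) (hcomm : ∀ z ∈ P4 quad, z * x = x * z) : x ∈ zpowers c := by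
  obtain ⟨i, k, l, j, rfl⟩ := hx
  have key : ∀ z ∈ P4 quad, z * N a b c d i k l j * z⁻¹ = N a b c d i k l j := by
    intro z hz
    rw [hcomm z hz, mul_inv_cancel_right]
  have haP : a ∈ P4 quad := ⟨1, 0, 0, 0, by unfold N; rw [E_a, pw_zero, mul_one]⟩
  have hbP : b ∈ P4 quad := ⟨0, 0, 0, 1, by unfold N; rw [E_zero, pw_one, one_mul]⟩
  have h1 := key a haP
  rw [moveA quad] at h1
  have h2 := N_injective (a₁ := (i, k + j, l, j)) (a₂ := (i, k, l, j)) h1
  simp only [Prod.mk.injEq] at h2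
  have hj : j = 0 := by
    have := h2.2.1
    exact left_eq_add.1 this.symm
  have h3 := key b hbP
  rw [moveB quad] at h3
  have h4 := N_injective (a₁ := (i + 4 * l, k - i + 2 * l, l, j)) (a₂ := (i, k, l, j)) h3
  simp only [Prod.mk.injEq] at h4
  have h5 : ∀ i k l : ZMod 5, i + 4 * l = i → k - i + 2 * l = k → i = 0 ∧ l = 0 := by decide +kernel
  obtain ⟨hi, hl⟩ := h5 i k l h4.1 h4.2.1
  subst hi hl hj
  refine ⟨(k.val : ℤ), ?_⟩
  change c ^ ((k.val : ℕ) : ℤ) = N a b c d 0 k 0 0
  unfold N E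
  rw [pw_zero, pw_zero, pw_zero, one_mul, mul_one, mul_one, zpow_natCast]
  rfl

/-- an element of order 5 whose centralizer contains a Sylow subgroup -/
theorem conj_c_of_card {x : Co0} (hx : orderOf x = 5) (h : 5 ^ 4 ∣ Nat.card (centralizer ({x} : Set Co0))) :
    ∃ w : Co0, w * x * w⁻¹ ∈ zpowers c := by
  have hfin := CoZero.finite_co0
  have : Fact (Nat.Prime 5) := ⟨five⟩
  obtain ⟨Q, hQ⟩ := Sylow.exists_subgroup_card_pow_prime 5 h
  have hQc : Nat.card ↥(Q.map (centralizer ({x} : Set Co0)).subtype) = 625 := by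
    rw [← Nat.card_congr (Q.equivMapOfInjective _ (centralizer ({x} : Set Co0)).subtype_injective).toEquiv, hQ]
    norm_num
  have hnd : ∀ A : Subgroup Co0, Nat.card ↥A = 625 → ¬ 5 * Nat.card ↥A ∣ Nat.card Co0 := by
    intro A hA hd
    rw [hA, S0397.result] at hd
    norm_num at hd
  have hQp : IsPGroup 5 ↥(Q.map (centralizer ({x} : Set Co0)).subtype) :=
    IsPGroup.of_card (n := 4) (by rw [hQc]; norm_num)
  obtain ⟨T, hT⟩ := Abs.exists_sylow five hQp (hnd _ hQc)
  obtain ⟨U, hU⟩ := Abs.exists_sylow five isPGroup_P4 (hnd _ card_P4)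
  obtain ⟨w, hw⟩ := MulAction.exists_smul_eq Co0 T U
  have hUT : (U : Subgroup Co0) = MulAut.conj w • (T : Subgroup Co0) := by
    rw [← hw]
    rfl
  refine ⟨w, ?_⟩
  have hcomm : ∀ z ∈ P4 quad, z * (w * x * w⁻¹) = (w * x * w⁻¹) * z := by
    intro z hz
    rw [← hU, hUT] at hz
    obtain ⟨t, ht, rfl⟩ := hz
    rw [SetLike.mem_coe, hT] at ht
    obtain ⟨q, -, rfl⟩ := ht
    have h1 : (q : Co0) * x = x * q := mem_centralizer_singleton_iff.1 q.2
    change (w * (q : Co0) * w⁻¹) * (w * x * w⁻¹) = (w * x * w⁻¹) * (w * (q : Co0) * w⁻¹)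
    calc (w * (q : Co0) * w⁻¹) * (w * x * w⁻¹) = w * ((q : Co0) * x) * w⁻¹ := by group
      _ = w * (x * q) * w⁻¹ := by rw [h1]
      _ = (w * x * w⁻¹) * (w * (q : Co0) * w⁻¹) := by group
  refine center_P4 ?_ hcomm
  have hxo : orderOf (w * x * w⁻¹) = 5 := by
    rw [← MulAut.conj_apply, MulEquiv.orderOf_eq, hx]
  have hzp : IsPGroup 5 ↥(zpowers (w * x * w⁻¹)) :=
    IsPGroup.of_card (n := 1) (by rw [Nat.card_zpowers, hxo, pow_one])
  have h2 := hzp.inf_normalizer_sylow U
  have h3 : w * x * w⁻¹ ∈ zpowers (w * x * w⁻¹) ⊓ normalizer (U : Set Co0) := by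
    refine mem_inf.2 ⟨mem_zpowers _, ?_⟩
    change w * x * w⁻¹ ∈ normalizer ((U : Subgroup Co0) : Set Co0)
    rw [hU, mem_normalizer_iff]
    intro z
    constructor
    · intro hz
      have h4 := hcomm z hz
      have h5 : (w * x * w⁻¹) * z * (w * x * w⁻¹)⁻¹ = z := by rw [← h4, mul_inv_cancel_right]
      rwa [h5]
    · intro hz
      have h4 := hcomm _ hz
      have h5 : z = (w * x * w⁻¹) * z * (w * x * w⁻¹)⁻¹ := by
        have h6 : z = (w * x * w⁻¹)⁻¹ * (((w * x * w⁻¹) * z * (w * x * w⁻¹)⁻¹) * (w * x * w⁻¹)) := by group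
        rw [h4] at h6
        rw [inv_mul_cancel_left] at h6
        exact h6
      rw [h5]
      exact hz
  rw [h2] at h3
  have h4 := (mem_inf.1 h3).2
  rwa [hU] at h4

end Cfsg.Agent.CpAutCoOneFive.Main
end

-- part: H47/MeetCo
section
/-!
# Trivial Sylow 5-intersections: `Co3`, `Co2`, `Co1` (helper47, S5762)
-/

set_option autoImplicit false

namespace Cfsg.Agent.H47.MeetS

open Subgroup Cfsg Cfsg.Agent.H903.SylMeet

instance fact5 : Fact (Nat.Prime 5) := ⟨by norm_num⟩
instance fact7 : Fact (Nat.Prime 7) := ⟨by norm_num⟩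

/-- a subgroup of order divisible by the full power of `p` meets every class of `p`-elements -/
theorem exists_conj_mem {G : Type*} [Group G] [Finite G] {p n : ℕ} [Fact p.Prime] (hG : ¬ p ^ (n + 1) ∣ Nat.card G)
    {H : Subgroup G} (hH : p ^ n ∣ Nat.card H) {a : G} {k : ℕ} (ha : a ^ p ^ k = 1) : ∃ g : G, g * a * g⁻¹ ∈ H := by
  obtain ⟨Q, hQ⟩ := Sylow.exists_subgroup_card_pow_prime p hH
  have hQc : Nat.card (Q.map H.subtype) = p ^ n := by
    rw [← Nat.card_congr (Q.equivMapOfInjective _ H.subtype_injective).toEquiv, hQ]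
  have hQp : IsPGroup p (Q.map H.subtype) := IsPGroup.of_card hQc
  have hz : IsPGroup p (zpowers a) := by
    have h1 : orderOf a ∣ p ^ k := orderOf_dvd_of_pow_eq_one ha
    obtain ⟨j, -, hj⟩ := (Nat.dvd_prime_pow Fact.out).1 h1
    exact IsPGroup.of_card (n := j) (by rw [Nat.card_zpowers, hj])
  obtain ⟨S, hS⟩ := hQp.exists_le_sylow
  obtain ⟨T, hT⟩ := hz.exists_le_sylow
  have hSQ : (S : Subgroup G) = Q.map H.subtype := by
    symm
    apply Subgroup.eq_of_le_of_card_ge hS
    rw [hQc]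
    obtain ⟨m, hm⟩ := S.isPGroup'.exists_card_eq
    rw [hm]
    apply Nat.pow_le_pow_right (Fact.out : p.Prime).pos
    by_contra hlt
    exact hG ((pow_dvd_pow p (by omega)).trans (hm ▸ Subgroup.card_subgroup_dvd_card (S : Subgroup G)))
  obtain ⟨g, hg⟩ := MulAction.exists_smul_eq G T S
  refine ⟨g, ?_⟩
  have h1 : g * a * g⁻¹ ∈ ((g • T : Sylow p G) : Subgroup G) := by
    rw [Sylow.coe_subgroup_smul]
    exact ⟨a, hT (mem_zpowers a), rfl⟩
  rw [hg, hSQ] at h1
  obtain ⟨q, -, hq⟩ := h1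
  rw [← hq]
  exact q.2

/-! ### subgroups of `Co0` -/

section

open Cfsg.Agent.H149.Sp Cfsg.Agent.H163.PG

theorem meet_emb {G : Type*} [Group G] [Finite G] [IsSimpleGroup G] (hs : IsSporadicGroup G) (f : G →* Co0)
    (hf : Function.Injective f) {v : leechLattice} (hv : v ≠ 0) (hfix : ∀ g, f g • v = v)
    (hd : 1771 ∣ Nat.card G) (h5 : ¬ 5 ^ 4 ∣ Nat.card G) : Meet 5 G := by
  have hadj : ∀ r : ℕ, r = 7 ∨ r = 11 ∨ r = 23 → ¬ Adj G 5 r := by
    rintro r (rfl | rfl | rfl)
    · exact not_adj_57 f hf hv hfix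
    · exact not_adj_of_emb f hf p5 p11 (by norm_num) (by norm_num)
    · exact not_adj_of_emb f hf p5 p23 (by norm_num) (by norm_num)
  have hr : ∀ r : ℕ, r.Prime → r ∣ 1771 → r = 7 ∨ r = 11 ∨ r = 23 := by
    intro r hr h
    rw [show 1771 = 7 * (11 * 23) by norm_num, hr.dvd_mul, hr.dvd_mul, Nat.prime_dvd_prime_iff_eq hr (by norm_num),
      Nat.prime_dvd_prime_iff_eq hr (by norm_num), Nat.prime_dvd_prime_iff_eq hr (by norm_num)] at h
    exact h
  refine meet_of_bound (not_comm_spor hs) (H498.SporOut.index_le_two hs) (by norm_num) (k := 3) (s := 31)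
    (B := Nat.card G / 1771) h5 (by norm_num) (fun y hy => ?_) ?_
  · rw [Nat.le_div_iff_mul_le (by norm_num)]
    refine card_mul_le _ hd fun r hr1 hr2 => ?_
    have h3 := hr r hr1 hr2
    refine not_dvd_normalizer hy hr1 ?_ ?_
    · rcases h3 with rfl | rfl | rfl <;> norm_num
    · intro x hx hxy
      apply hadj r h3
      refine ⟨x * y, ?_⟩
      rw [(show Commute x y from hxy).orderOf_mul_eq_mul_orderOf_of_coprime, hx, hy, mul_comm]
      rw [hx, hy]
      rcases h3 with rfl | rfl | rfl <;> norm_num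
  · have h1 : Nat.card G / 1771 * 1771 ≤ Nat.card G := Nat.div_mul_le_self _ _
    have h2 : 0 < Nat.card G := Nat.card_pos
    omega

theorem meet5_Co3 {G : Type*} [Group G] [Finite G] [IsSimpleGroup G] (h : Spor.IsoCo3 G) : Meet 5 G := by
  have hn : Nat.card G = 495766656000 := NotCT.Orders.co3 h
  have hs : IsSporadicGroup G := by unfold IsSporadicGroup; (solve | repeat (first | with_reducible assumption | exact Or.inl (by with_reducible assumption) | refine Or.inr ?_) | simp only [h, true_or, or_true])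
  obtain ⟨e⟩ := h
  exact meet_emb hs ((Subgroup.inclusion (inf_le_left : Spor.Co3 ≤ Co0)).comp e.toMonoidHom)
    ((Subgroup.inclusion_injective (inf_le_left : Spor.Co3 ≤ Co0)).comp e.injective) leechV_ne (fun g => (e g).2.2)
    (by rw [hn]; norm_num) (by rw [hn]; norm_num)

theorem meet5_Co2 {G : Type*} [Group G] [Finite G] [IsSimpleGroup G] (h : Spor.IsoCo2 G) : Meet 5 G := by
  have hn : Nat.card G = 42305421312000 := NotCT.Orders.co2 h
  have hs : IsSporadicGroup G := by unfold IsSporadicGroup; (solve | repeat (first | with_reducible assumption | exact Or.inl (by with_reducible assumption) | refine Or.inr ?_) | simp only [h, true_or, or_true])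
  obtain ⟨e⟩ := h
  exact meet_emb hs ((Subgroup.inclusion (inf_le_left : Spor.Co2 ≤ Co0)).comp e.toMonoidHom)
    ((Subgroup.inclusion_injective (inf_le_left : Spor.Co2 ≤ Co0)).comp e.injective) leechU_ne (fun g => (e g).2.2)
    (by rw [hn]; norm_num) (by rw [hn]; norm_num)

end

/-! ### `Co1` -/

section

open Module Polynomial
open Cfsg.Agent.SigZeroCo2.Rank (fix mem_fix)
open Cfsg.Agent.H149.Sp

/-- Two commuting automorphisms of prime orders, the first one moving fewer than `(p - 1) (q - 1)` dimensions -/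
theorem finrank_le_add' {V : Type*} [AddCommGroup V] [Module ℚ V] [FiniteDimensional ℚ V] {p q : ℕ} (hp : p.Prime)
    (hq : q.Prime) (hpq : p ≠ q) {x y : End ℚ V} (hx : x ^ p = 1) (hy : y ^ q = 1) (hc : x * y = y * x)
    (hbig : finrank ℚ V < finrank ℚ (fix x) + (q - 1) * (p - 1)) :
    finrank ℚ V ≤ finrank ℚ (fix x) + finrank ℚ (fix y) := by
  have hc' : Commute x y := hc
  have hwq : (x * y) ^ q = x ^ q := by rw [hc'.mul_pow, hy, mul_one]
  have hwp : (x * y) ^ p = y ^ p := by rw [hc'.mul_pow, hx, one_mul]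
  have key : ∀ v, (x ^ q) ((y ^ p) v - v) = (y ^ p) v - v := by
    intro v
    by_contra hne
    set! u := (x ^ q) ((y ^ p) v - v) - ((y ^ p) v - v) with hu
    have hu0 : u ≠ 0 := sub_ne_zero.2 hne
    have hue : u = aeval (x * y) ((X ^ q - 1) * (X ^ p - 1) : ℚ[X]) v := by
      simp only [map_mul, map_sub, aeval_X, map_one, map_pow, hwq, hwp, Module.End.mul_apply,
        LinearMap.sub_apply, Module.End.one_apply]
      rw [hu, map_sub]
      abel
    have hinv : ∀ w ∈ LinearMap.range (x - LinearMap.id), (x * y) w ∈ LinearMap.range (x - LinearMap.id) := by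
      rintro _ ⟨w, rfl⟩
      refine ⟨(x * y) w, ?_⟩
      have h1 : x (y w) = y (x w) := LinearMap.congr_fun hc w
      simp only [LinearMap.sub_apply, LinearMap.id_apply, Module.End.mul_apply, map_sub]
      rw [← h1]
    have h1 := totient_le_of_mem (x * y) _ hinv (Nat.mul_pos hq.pos hp.pos) (u := u) ?_ hu0 ?_
    · rw [Nat.totient_mul ((Nat.coprime_primes hq hp).2 (Ne.symm hpq)), Nat.totient_prime hq, Nat.totient_prime hp] at h1
      have := finrank_range_add x
      omega
    · obtain ⟨R, hR⟩ : (X - 1 : ℚ[X]) ∣ X ^ q - 1 := by simpa only [] using sub_one_dvd_pow_sub_one (X : ℚ[X]) q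
      refine ⟨aeval x R ((y ^ p) v - v), ?_⟩
      have h3 : x ^ q - 1 = (x - 1) * aeval x R := by
        have h4 := congrArg (aeval x) hR
        rw [map_mul, map_sub, map_sub, map_pow, aeval_X, map_one] at h4
        exact h4
      have h5 : u = (x ^ q - 1) ((y ^ p) v - v) := by
        rw [hu, LinearMap.sub_apply]; rfl
      rw [h5, h3, Module.End.mul_apply]
      rfl
    · rw [hue, ← Module.End.mul_apply, ← map_mul, CpAutBig.TwoPrimes.cyclotomic_mul hp hq hpq, map_mul]
      have h3 : aeval (x * y) (X ^ (q * p) - 1 : ℚ[X]) = 0 := by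
        rw [map_sub, map_pow, aeval_X, map_one, pow_mul, hwq, ← pow_mul, mul_comm q p, pow_mul, hx, one_pow, sub_self]
      rw [h3, zero_mul, LinearMap.zero_apply]
  have hfy : fix (y ^ p) = fix y := fix_pow_of_coprime hy ((Nat.coprime_primes hp hq).2 hpq)
  have hfx : fix (x ^ q) = fix x := fix_pow_of_coprime hx ((Nat.coprime_primes hq hp).2 (Ne.symm hpq))
  have h1 : LinearMap.range (y ^ p - LinearMap.id) ≤ fix x := by
    rintro _ ⟨v, rfl⟩
    rw [← hfx, mem_fix]
    simpa only [_root_.LinearMap.sub_apply, _root_.LinearMap.id_coe, _root_.id_eq, _root_.map_sub] using key v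
  have h2 := finrank_range_add (y ^ p)
  rw [hfy] at h2
  have h3 := Submodule.finrank_mono h1
  omega

open Cfsg.Agent.SigZeroCo2.Lin Cfsg.Agent.LThreeBX.NoSeven Cfsg.Agent.CoOneType.ClosingFacts
open Cfsg.Agent.CpAutBig.SevenFix (r7 isPerm_r7 r7_pow r7_ne orderOf_r7)
open Cfsg.Agent.SporadicA.Co0Mono (signCo0)
open Cfsg.Agent.SporadicA.Co1Simple (allOne)

theorem fd_r7 : fd r7 = 6 := by
  have h1 := fr_mk_eq (a := r7) (n := 7) (by decide) r7_pow
  have h2 : LThreeMB.fr (QuotientGroup.mk r7 : Spor.Co1) = 2 ^ 6 := CpAutMSeven.RanksH.fr_s0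
  rw [h2] at h1
  exact (Nat.pow_right_injective le_rfl h1).symm

/-- no element of order 5 commutes with a conjugate of `r7` -/
theorem r7_not_comm {g b : Co0} (hb : orderOf b = 5) : (g * r7 * g⁻¹) * b ≠ b * (g * r7 * g⁻¹) := by
  intro hc
  have hc' : r7 * (g⁻¹ * b * g) = (g⁻¹ * b * g) * r7 := by
    calc r7 * (g⁻¹ * b * g) = g⁻¹ * ((g * r7 * g⁻¹) * b) * g := by group
      _ = g⁻¹ * (b * (g * r7 * g⁻¹)) * g := by rw [hc]
      _ = (g⁻¹ * b * g) * r7 := by group
  have hb' : orderOf (g⁻¹ * b * g) = 5 := by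
    rw [← hb]
    have h2 : (MulAut.conj g⁻¹) b = g⁻¹ * b * g := by
      rw [MulAut.conj_apply, inv_inv]
    rw [← h2]
    exact MulEquiv.orderOf_eq (MulAut.conj g⁻¹) b
  have h1 := fd_le (Or.inl rfl) hb'
  have h2 := finrank_le_add' (p := 7) (q := 5) (by norm_num) (by norm_num) (by norm_num) (x := rep r7)
    (y := rep (g⁻¹ * b * g)) (by rw [← map_pow, r7_pow, map_one])
    (by rw [← map_pow, ← hb', pow_orderOf_eq_one, map_one]) (by rw [← map_mul, hc', map_mul]) (by
      rw [finrank_Sp]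
      have h3 : finrank ℚ (fix (rep r7)) = 6 := fd_r7
      rw [h3]
      norm_num)
  rw [finrank_Sp] at h2
  have h3 : finrank ℚ (fix (rep r7)) = 6 := fd_r7
  have h4 : finrank ℚ (fix (rep (g⁻¹ * b * g))) ≤ 8 := h1
  omega

theorem not_49 {x : Co0} (hx : orderOf x = 5) : ¬ 7 ^ 2 ∣ Nat.card (centralizer ({x} : Set Co0)) := by
  have hfin : Finite Co0 := Cfsg.Agent.CoOneType.FrameFix.finite_co0
  intro h
  obtain ⟨g, hg⟩ := exists_conj_mem (p := 7) (n := 2) (by rw [S0397.result]; norm_num) h (a := r7) (k := 1)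
    (by rw [pow_one]; exact r7_pow)
  exact r7_not_comm hx (mem_centralizer_singleton_iff.1 hg)

theorem card_cent_co0 {x : Co0} (hx : orderOf x = 5) :
    Nat.card (centralizer ({x} : Set Co0)) * 115115 ≤ Nat.card Co0 := by
  have hfin : Finite Co0 := Cfsg.Agent.CoOneType.FrameFix.finite_co0
  by_cases h5 : 5 ^ 4 ∣ Nat.card (centralizer ({x} : Set Co0))
  · obtain ⟨w, hw⟩ := CpAutCoOneFive.Main.conj_c_of_card hx h5
    obtain ⟨e⟩ := CpAutCoOneFive.Main.centralizer_equiv (by norm_num) hx CpAutCoOneFive.Cls.orderOf_c hw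
    rw [Nat.card_congr e.toEquiv, S0397.result]
    have h1 := Nat.le_of_dvd (by norm_num) CpAutCoOneFive.ClC.card_dvd_c
    exact (Nat.mul_le_mul_right _ h1).trans (by norm_num)
  · -- the primes `7, 11, 13, 23` and `5`
    have hd : Nat.card (centralizer ({x} : Set Co0)) ∣ 8315553613086720000 := by
      rw [← S0397.result]
      exact Subgroup.card_subgroup_dvd_card _
    have hnd : ∀ r : ℕ, P5 r → 7 < r → ¬ r ∣ Nat.card (centralizer ({x} : Set Co0)) := by
      intro r hr h7 hdr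
      have := Fact.mk hr.prime
      obtain ⟨b, hb⟩ := exists_prime_orderOf_dvd_card' r hdr
      exact co0_not_comm p5 hr (by omega) (by omega) hx (by rw [Subgroup.orderOf_coe, hb])
        (mem_centralizer_singleton_iff.1 b.2).symm
    have h11 := hnd 11 p11 (by norm_num)
    have h13 := hnd 13 p13 (by norm_num)
    have h23 := hnd 23 p23 (by norm_num)
    have h49 := not_49 hx
    obtain ⟨m, hm⟩ := hd
    have key : ∀ {a r k : ℕ}, r.Prime → r ^ (k + 1) ∣ a * m → ¬ r ^ (k + 1) ∣ a → r ∣ m := by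
      intro a r k hr h1 h2
      by_contra h3
      exact h2 (((Nat.Prime.coprime_iff_not_dvd hr).2 h3).pow_left _ |>.dvd_of_dvd_mul_right h1)
    have m5 : 5 ∣ m := key (k := 3) (by norm_num) (by rw [← hm]; norm_num) h5
    have m7 : 7 ∣ m := key (k := 1) (by norm_num) (by rw [← hm]; norm_num) h49
    have m11 : 11 ∣ m := key (k := 0) (by norm_num) (by rw [← hm]; norm_num) (by simpa only [_root_.zero_add, _root_.pow_one] using h11)
    have m13 : 13 ∣ m := key (k := 0) (by norm_num) (by rw [← hm]; norm_num) (by simpa only [_root_.zero_add, _root_.pow_one] using h13)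
    have m23 : 23 ∣ m := key (k := 0) (by norm_num) (by rw [← hm]; norm_num) (by simpa only [_root_.zero_add, _root_.pow_one] using h23)
    have hmm : 115115 ∣ m := by
      rw [show 115115 = 5 * (7 * (11 * (13 * 23))) by norm_num]
      exact Nat.Coprime.mul_dvd_of_dvd_of_dvd (by norm_num) m5 (Nat.Coprime.mul_dvd_of_dvd_of_dvd (by norm_num) m7
        (Nat.Coprime.mul_dvd_of_dvd_of_dvd (by norm_num) m11 (Nat.Coprime.mul_dvd_of_dvd_of_dvd (by norm_num) m13 m23)))
    have hm0 : 0 < m := by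
      rcases Nat.eq_zero_or_pos m with h | h
      · rw [h, mul_zero] at hm
        norm_num at hm
      · exact h
    have h1 := Nat.le_of_dvd hm0 hmm
    rw [S0397.result, hm]
    exact Nat.mul_le_mul_left _ h1

theorem card_cent_co1 {s : Spor.Co1} (hs : orderOf s = 5) :
    Nat.card (centralizer ({s} : Set Spor.Co1)) * 115115 ≤ Nat.card Spor.Co1 := by
  have hfin : Finite Co0 := Cfsg.Agent.CoOneType.FrameFix.finite_co0
  have hf1 : Finite Spor.Co1 := Nat.finite_of_card_ne_zero (by rw [Cfsg.Agent.S0399.result.2]; norm_num)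
  obtain ⟨a, rfl, ha⟩ := exists_odd (n := 5) (by decide) (show s ^ 5 = 1 by rw [← hs, pow_orderOf_eq_one])
  have hao : orderOf a = 5 := by
    refine orderOf_eq_prime ha ?_
    rintro rfl
    have : (QuotientGroup.mk 1 : Spor.Co1) = 1 := rfl
    change orderOf (QuotientGroup.mk 1 : Spor.Co1) = 5 at hs
    rw [this, orderOf_one] at hs
    norm_num at hs
  have h1 := card_cent_co0 hao
  have h2 : Nat.card (centralizer ({_root_.Cfsg.Agent.CoOneType.ClosingFacts.mk a} : Set Spor.Co1)) * 2 ≤ Nat.card (centralizer ({a} : Set Co0)) := by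
    have hl : ∀ k : centralizer ({_root_.Cfsg.Agent.CoOneType.ClosingFacts.mk a} : Set Spor.Co1), ∃ g : Co0, _root_.Cfsg.Agent.CoOneType.ClosingFacts.mk g = k ∧ g * a = a * g := by
      intro k
      obtain ⟨g, hg⟩ := exists_mk (k : Spor.Co1)
      refine ⟨g, hg, ?_⟩
      have h3 := mem_centralizer_singleton_iff.1 k.2
      rw [← hg] at h3
      exact (comm_of_mk (by decide) ha h3.symm).symm
    choose g hg1 hg2 using hl
    have hc : ∀ x : Co0, x * signCo0 allOne = signCo0 allOne * x := fun x => by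
      have h3 : signCo0 allOne ∈ center Co0 := (mem_center_iff _).2 (Or.inr rfl)
      exact Subgroup.mem_center_iff.1 h3 x
    have h3 : Nat.card Bool = 2 := by simp
    rw [← h3, ← Nat.card_prod]
    refine Nat.card_le_card_of_injective (fun k => (⟨g k.1 * (if k.2 then signCo0 allOne else 1), ?_⟩ :
      centralizer ({a} : Set Co0))) ?_
    · rw [mem_centralizer_singleton_iff]
      split_ifs
      · rw [mul_assoc, ← hc, ← mul_assoc, hg2, mul_assoc]
      · rw [mul_one, hg2]
    · rintro ⟨k, i⟩ ⟨l, j⟩ hkl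
      have h4 : g k * (if i then signCo0 allOne else 1) = g l * (if j then signCo0 allOne else 1) :=
        congrArg Subtype.val hkl
      have hmk : ∀ b : Bool, _root_.Cfsg.Agent.CoOneType.ClosingFacts.mk (if b then signCo0 allOne else 1) = 1 := by
        intro b
        rw [mk_eq_one]
        cases b
        · exact Or.inl rfl
        · exact Or.inr rfl
      have h5 : (k : Spor.Co1) = l := by
        have h6 := congrArg _root_.Cfsg.Agent.CoOneType.ClosingFacts.mk h4
        rw [mk_mul, mk_mul, hmk, hmk, mul_one, mul_one, hg1, hg1] at h6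
        exact h6
      have h6 : k = l := Subtype.ext h5
      subst h6
      have h7 := mul_left_cancel h4
      cases i <;> cases j
      · rfl
      · exact absurd h7.symm n_ne
      · exact absurd h7 n_ne
      · rfl
  rw [S0397.result] at h1
  rw [Cfsg.Agent.S0399.result.2]
  have h3 := Nat.mul_le_mul_right 115115 h2
  linarith only [h1, h2]

theorem meet5_Co1 {G : Type*} [Group G] [Finite G] [IsSimpleGroup G] (h : Spor.IsoCo1 G) : Meet 5 G := by
  have hs : IsSporadicGroup G := by unfold IsSporadicGroup; (solve | repeat (first | with_reducible assumption | exact Or.inl (by with_reducible assumption) | refine Or.inr ?_) | simp only [h, true_or, or_true])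
  obtain ⟨e⟩ := h
  have hf1 : Finite Spor.Co1 := Nat.finite_of_card_ne_zero (by rw [Cfsg.Agent.S0399.result.2]; norm_num)
  have hsim : IsSimpleGroup Spor.Co1 := Cfsg.Agent.S0399.result.1
  have hs1 : IsSporadicGroup Spor.Co1 := by
    have : Spor.IsoCo1 Spor.Co1 := ⟨MulEquiv.refl _⟩
    unfold IsSporadicGroup; (solve | repeat (first | with_reducible assumption | exact Or.inl (by with_reducible assumption) | refine Or.inr ?_) | simp only [this, true_or, or_true])
  refine Meet.congr e.symm (meet_of_bound (not_comm_spor hs1) (H498.SporOut.index_le_two hs1) (by norm_num) (k := 4)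
    (s := 156) (B := 4 * (Nat.card Spor.Co1 / 115115)) (by rw [Cfsg.Agent.S0399.result.2]; norm_num) (by norm_num)
    (fun y hy => ?_) ?_)
  · have h1 := card_normalizer_le hy
    have h2 := (Nat.le_div_iff_mul_le (by norm_num)).2 (card_cent_co1 hy)
    omega
  · rw [Cfsg.Agent.S0399.result.2]
    norm_num

end

end Cfsg.Agent.H47.MeetS
end

-- part: H47/MeetM
section
/-!
# Trivial Sylow intersections: the Monster, `p = 7` and `p = 13` (helper47, S5762)
-/

set_option autoImplicit false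
set_option maxRecDepth 100000

namespace Cfsg.Agent.H47.MeetS.Mon

open Cfsg Cfsg.Agent.H903.SylMeet
open Cfsg.Agent.LThreeMB (fr XX KChart.Cent KChart.pi KChart.chart)
open Cfsg.Agent.MonsterX Cfsg.Agent.MonsterX.Model Cfsg.Agent.MonsterX.MainSimple Cfsg.Agent.MonsterX.MainPack
open Cfsg.Agent.MonsterX.MainBasic
open Cfsg.Agent.MonsterU
open Cfsg.Agent.MonsterU.Ch
open Cfsg.Agent.MonsterU.Lam2 (L2)
open Cfsg.Spor (Co1)
open Subgroup (centralizer mem_centralizer_singleton_iff normalizer zpowers)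
open Cfsg.Agent.H149.Sp

instance fact13 : Fact (Nat.Prime 13) := ⟨by norm_num⟩

theorem card_co1 : Nat.card Co1 = 4157776806543360000 := Cfsg.Agent.S0399.result.2

/-- the fixed points in `Q` -/
theorem card_fix_le {G : Type*} [Group G] {Q : Subgroup G} {z : G} {eta : G → L2}
    {pi : Subgroup.centralizer ({z} : Set G) →* Co1} (h : Chart Q z eta pi) {p : ℕ} (ho : Odd p)
    {x : Subgroup.centralizer ({z} : Set G)} (hx : x ^ p = 1) :
    Nat.card {q : Subgroup.centralizer ({z} : Set G) // q ∈ pi.ker ∧ x * q = q * x} ≤ fr (pi x) * 2 := by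
  have h1 := MFive.card_pre h ho hx ⊤
  have h2 : Nat.card {v : L2 // v ∈ (⊤ : AddSubgroup L2) ∧ pi x • v = v} = fr (pi x) := by
    apply Nat.card_congr
    exact
      { toFun := fun v => ⟨v.1, v.2.2⟩
        invFun := fun v => ⟨v.1, trivial, v.2⟩
        left_inv := fun v => rfl
        right_inv := fun v => rfl }
  rw [h2] at h1
  rw [← h1]
  have hfQ : Finite Q := h.fin
  have hfin : Finite {q : G // (q ∈ Q ∧ eta q ∈ (⊤ : AddSubgroup L2)) ∧ (x : G) * q = q * x} :=
    Finite.of_injective (fun q => (⟨q.1, q.2.1.1⟩ : Q)) fun a b hab =>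
      Subtype.ext (congrArg (fun q : Q => (q : G)) hab)
  refine Nat.card_le_card_of_injective (fun q => ⟨(q.1 : G),
    ⟨(h.pi_eq_one _).1 ((MonoidHom.mem_ker).1 q.2.1), trivial⟩, congrArg Subtype.val q.2.2⟩) fun a b hab => ?_
  exact Subtype.ext (Subtype.ext (congrArg
    (fun q : {q : G // (q ∈ Q ∧ eta q ∈ (⊤ : AddSubgroup L2)) ∧ (x : G) * q = q * x} => (q : G)) hab))

/-- the index of the normalizer in `C(z)` -/
theorem index_z {G : Type*} [Group G] [Finite G] {Q : Subgroup G} {z : G} {eta : G → L2}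
    {pi : Subgroup.centralizer ({z} : Set G) →* Co1} (h : Chart Q z eta pi) {p : ℕ} [hp : Fact p.Prime] (h2 : p ≠ 2)
    {x : Subgroup.centralizer ({z} : Set G)} (hx : orderOf x = p) {m : ℕ}
    (hm : Nat.card (centralizer ({pi x} : Set Co1)) * m ≤ Nat.card Co1) :
    2 ^ 24 * m ≤ fr (pi x) * ((normalizer (zpowers (x : G) : Set G)).index * (p - 1)) := by
  have hf1 : Finite Co1 := Nat.finite_of_card_ne_zero (by rw [card_co1]; norm_num)
  have ho : Odd p := hp.out.odd_of_ne_two h2
  have hxp : x ^ p = 1 := by rw [← hx, pow_orderOf_eq_one]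
  have h3 := card_cent_hom pi x
  have h4 := card_fix_le h ho hxp
  have h5 : (centralizer ({x} : Set (centralizer ({z} : Set G)))).index ≤
      (normalizer (zpowers (x : G) : Set G)).index * (p - 1) :=
    (index_cent_le hx).trans (Nat.mul_le_mul_right _
      (index_normalizer_map (centralizer ({z} : Set G)).subtype Subtype.val_injective x))
  have h6 := (centralizer ({x} : Set (centralizer ({z} : Set G)))).card_mul_index
  rw [AmalElts.card_centralizer h] at h6
  set c := Nat.card (centralizer ({x} : Set (centralizer ({z} : Set G)))) with hc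
  set d := Nat.card (centralizer ({pi x} : Set Co1)) with hd
  set i := (centralizer ({x} : Set (centralizer ({z} : Set G)))).index with hi
  have hd0 : 0 < d := Nat.card_pos
  have h7 : c ≤ fr (pi x) * 2 * d := h3.trans (Nat.mul_le_mul_right _ h4)
  rw [card_co1] at hm
  refine le_trans ?_ (Nat.mul_le_mul_left _ h5)
  apply Nat.le_of_mul_le_mul_left _ hd0
  have h8 : 2 ^ 25 * (d * m) ≤ fr (pi x) * 2 * d * i := by
    refine le_trans ?_ (Nat.mul_le_mul_right i h7)
    rw [h6]
    exact le_trans (Nat.mul_le_mul_left _ hm) (by norm_num)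
  have h9 : 2 * (d * (2 ^ 24 * m)) ≤ 2 * (d * (fr (pi x) * i)) := by
    calc 2 * (d * (2 ^ 24 * m)) = 2 ^ 25 * (d * m) := by ring
      _ ≤ fr (pi x) * 2 * d * i := h8
      _ = 2 * (d * (fr (pi x) * i)) := by ring
  omega

/-! ### `Co1` -/

/-- elements of order `q` do not commute with `s` -/
theorem co1_free {s : Co1} {p q : ℕ} (hp : P5 p) (hq : P5 q) (hne : p ≠ q) (h57 : ¬ (p = 5 ∧ q = 7))
    (h75 : ¬ (p = 7 ∧ q = 5)) (hs : orderOf s = p) : ¬ q ∣ Nat.card (centralizer ({s} : Set Co1)) := by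
  intro hd
  have hf1 : Finite Co1 := Nat.finite_of_card_ne_zero (by rw [card_co1]; norm_num)
  have := Fact.mk hq.prime
  obtain ⟨b, hb⟩ := exists_prime_orderOf_dvd_card' q hd
  have h1 := mem_centralizer_singleton_iff.1 b.2
  have h2 : orderOf (b : Co1) = q := by rw [Subgroup.orderOf_coe, hb]
  rcases Nat.lt_or_gt_of_ne hne with h | h
  · exact co1_not_comm hp hq h h57 hs h2 h1.symm
  · exact co1_not_comm hq hp h (fun h3 => h75 ⟨h3.2, h3.1⟩) h2 hs h1

theorem cent7 {s : Co1} (hs : orderOf s = 7) : Nat.card (centralizer ({s} : Set Co1)) * 3289 ≤ Nat.card Co1 := by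
  have hf1 : Finite Co1 := Nat.finite_of_card_ne_zero (by rw [card_co1]; norm_num)
  refine card_mul_le _ (by rw [card_co1]; norm_num) fun r hr hd => ?_
  rw [show 3289 = 11 * (13 * 23) by norm_num, hr.dvd_mul, hr.dvd_mul, Nat.prime_dvd_prime_iff_eq hr (by norm_num),
    Nat.prime_dvd_prime_iff_eq hr (by norm_num), Nat.prime_dvd_prime_iff_eq hr (by norm_num)] at hd
  rcases hd with rfl | rfl | rfl
  · exact co1_free (Or.inr (Or.inl rfl)) p11 (by norm_num) (by norm_num) (by norm_num) hs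
  · exact co1_free (Or.inr (Or.inl rfl)) p13 (by norm_num) (by norm_num) (by norm_num) hs
  · exact co1_free (Or.inr (Or.inl rfl)) p23 (by norm_num) (by norm_num) (by norm_num) hs

theorem cent13 {s : Co1} (hs : orderOf s = 13) : Nat.card (centralizer ({s} : Set Co1)) * 253 ≤ Nat.card Co1 := by
  have hf1 : Finite Co1 := Nat.finite_of_card_ne_zero (by rw [card_co1]; norm_num)
  refine card_mul_le _ (by rw [card_co1]; norm_num) fun r hr hd => ?_
  rw [show 253 = 11 * 23 by norm_num, hr.dvd_mul, Nat.prime_dvd_prime_iff_eq hr (by norm_num),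
    Nat.prime_dvd_prime_iff_eq hr (by norm_num)] at hd
  rcases hd with rfl | rfl
  · exact co1_free p13 p11 (by norm_num) (by norm_num) (by norm_num) hs
  · exact co1_free p13 p23 (by norm_num) (by norm_num) (by norm_num) hs

open Cfsg.Agent.CpAutBig.SevenFix (r7 r7_pow)
open Cfsg.Agent.LThreeBX.NoSeven Cfsg.Agent.CoOneType.ClosingFacts in
/-- an element of order 7 and fixed rank 6 -/
theorem cent7' {s : Co1} (hs : orderOf s = 7) (hf : fr s = 2 ^ 6) :
    Nat.card (centralizer ({s} : Set Co1)) * 16445 ≤ Nat.card Co1 := by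
  have hf1 : Finite Co1 := Nat.finite_of_card_ne_zero (by rw [card_co1]; norm_num)
  obtain ⟨c, hc⟩ := isConj_iff.1 (CpAutMSeven.RanksH.isConj_s0 hs hf)
  refine card_mul_le _ (by rw [card_co1]; norm_num) fun r hr hd => ?_
  rw [show 16445 = 5 * (11 * (13 * 23)) by norm_num, hr.dvd_mul, hr.dvd_mul, hr.dvd_mul,
    Nat.prime_dvd_prime_iff_eq hr (by norm_num),
    Nat.prime_dvd_prime_iff_eq hr (by norm_num), Nat.prime_dvd_prime_iff_eq hr (by norm_num),
    Nat.prime_dvd_prime_iff_eq hr (by norm_num)] at hd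
  rcases hd with rfl | rfl | rfl | rfl
  · intro h5
    obtain ⟨b, hb5, hb1⟩ : ∃ b : Co1, orderOf b = 5 ∧ b * s = s * b := by
      obtain ⟨b, hb⟩ := exists_prime_orderOf_dvd_card' 5 h5
      exact ⟨b, by rw [Subgroup.orderOf_coe, hb], mem_centralizer_singleton_iff.1 b.2⟩
    obtain ⟨w, hw, hw5⟩ := exists_odd (n := 5) (by decide) (show b ^ 5 = 1 by rw [← hb5, pow_orderOf_eq_one])
    obtain ⟨d, hd⟩ := exists_mk c
    have hwo : orderOf w = 5 := by
      refine orderOf_eq_prime hw5 ?_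
      rintro rfl
      have h1 : (mk 1 : Co1) = 1 := rfl
      rw [← hw, h1, orderOf_one] at hb5
      norm_num at hb5
    -- `s = c⁻¹ s0 c`
    have hsc : s = mk (d⁻¹ * r7 * d⁻¹⁻¹) := by
      rw [mk_mul, mk_mul]
      have h1 : (mk r7 : Co1) = CpAutMSeven.RanksH.s0 := rfl
      have h2 : (mk d⁻¹ : Co1) = c⁻¹ := by rw [← hd]; rfl
      have h3 : (mk d⁻¹⁻¹ : Co1) = c := by rw [inv_inv, hd]
      rw [h1, h2, h3, ← hc]
      group
    rw [hsc, ← hw] at hb1
    have h7 : (d⁻¹ * r7 * d⁻¹⁻¹) ^ 7 = 1 := by rw [conj_pow, r7_pow, mul_one, mul_inv_cancel]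
    exact r7_not_comm hwo (comm_of_mk (by decide) h7 hb1.symm)
  · exact co1_free (Or.inr (Or.inl rfl)) p11 (by norm_num) (by norm_num) (by norm_num) hs
  · exact co1_free (Or.inr (Or.inl rfl)) p13 (by norm_num) (by norm_num) (by norm_num) hs
  · exact co1_free (Or.inr (Or.inl rfl)) p23 (by norm_num) (by norm_num) (by norm_num) hs

/-! ### the model -/

abbrev MG : Type := ↥InstData.M.G

theorem card_MG : Nat.card MG = 808017424794512875886459904961710757005754368000000000 := by
  obtain ⟨e⟩ := MonsterP.Equiv.equiv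
  exact NotCT.Orders.m ⟨e.symm⟩

theorem odd_index {p : ℕ} [hp : Fact p.Prime] (h8 : ¬ 2 ^ 4 ∣ p - 1) {y : MG} (hy : orderOf y = p)
    (ho : ¬ 2 ∣ Nat.card (centralizer ({y} : Set MG))) : 2 ^ 43 ∣ (normalizer (zpowers y : Set MG)).index := by
  have hfin := MFive.Row.finite_model
  refine pow_dvd_index_of_odd hy (a := 43) (b := 3) Nat.prime_two ?_ h8 ho
  rw [card_MG]
  norm_num

theorem index7 {y : MG} (hy : orderOf y = 7) : 384473665 ≤ (normalizer (zpowers y : Set MG)).index := by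
  have hfin := MFive.Row.finite_model
  have h0 : (normalizer (zpowers y : Set MG)).index ≠ 0 := Subgroup.index_ne_zero_of_finite
  by_cases h2 : 2 ∣ Nat.card (centralizer ({y} : Set MG))
  · obtain ⟨x, g, hg⟩ := MFive.Model.exists_in (MSevenT.hex7 y hy h2)
    have hx : orderOf x = 7 := by
      rw [← Subgroup.orderOf_coe, MFive.Model.orderOf_of_conj hg, hy]
    have h3 := KChart.chart KDone.lft MFive.Row.hc
    have h4 := MFive.orderOf_pi h3 (by norm_num) (by decide) hx
    have h5 : (normalizer (zpowers (x : MG) : Set MG)).index ≤ (normalizer (zpowers y : Set MG)).index := by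
      rw [← hg]
      exact index_normalizer_conj g x
    rcases CpAutMSeven.RanksH.ranks _ h4 with h6 | h6
    · have h7 := index_z h3 (by norm_num) hx (cent7 h4)
      rw [h6] at h7
      omega
    · have h7 := index_z h3 (by norm_num) hx (cent7' h4 h6)
      rw [h6] at h7
      omega
  · have h3 := Nat.le_of_dvd (Nat.pos_of_ne_zero h0) (odd_index (p := 7) (by norm_num) hy h2)
    omega

theorem meet7 : Meet 7 MG := by
  have hfin := MFive.Row.finite_model
  have hs := MFive.Row.simple_model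
  obtain ⟨e⟩ := MonsterP.Equiv.equiv
  have hsp : IsSporadicGroup MG := by
    have : Spor.IsoM MG := ⟨e.symm⟩
    unfold IsSporadicGroup; (solve | repeat (first | with_reducible assumption | exact Or.inl (by with_reducible assumption) | refine Or.inr ?_) | simp only [this, true_or, or_true])
  refine meet_of_index (not_comm_spor hsp) (H498.SporOut.index_le_two hsp) (by norm_num) (k := 6) (s := 19608) ?_
    (by norm_num) (fun y hy => index7 hy) (by norm_num)
  rw [card_MG]
  norm_num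

theorem meet7_M {G : Type*} [Group G] [Finite G] [IsSimpleGroup G] (h : Spor.IsoM G) : Meet 7 G := by
  obtain ⟨e⟩ := h
  obtain ⟨f⟩ := MonsterP.Equiv.equiv
  have hfin := MFive.Row.finite_model
  have hs := MFive.Row.simple_model
  exact Meet.congr (e.trans f).symm meet7

/-! ### `p = 13` -/

instance finite_th : Finite Spor.Th := Nat.finite_of_card_ne_zero (by rw [MSevenT.card_th]; norm_num)

theorem index_th {y : Spor.Th} (hy : orderOf y = 13) : 57344 ≤ (normalizer (zpowers y : Set Spor.Th)).index := by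
  have ho : ¬ 2 ∣ Nat.card (centralizer ({y} : Set Spor.Th)) := by
    intro h
    have : Fact (Nat.Prime 2) := ⟨Nat.prime_two⟩
    obtain ⟨u, hu⟩ := exists_prime_orderOf_dvd_card' 2 h
    have hu2 : orderOf (u : Spor.Th) = 2 := by rw [Subgroup.orderOf_coe, hu]
    have h1 := Cfsg.Agent.MonsterX.ThOneClass.card_centralizer hu2
    have h2 : y ∈ centralizer ({(u : Spor.Th)} : Set Spor.Th) :=
      mem_centralizer_singleton_iff.2 (mem_centralizer_singleton_iff.1 u.2).symm
    have h3 : orderOf (⟨y, h2⟩ : centralizer ({(u : Spor.Th)} : Set Spor.Th)) = 13 := by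
      rw [← Subgroup.orderOf_coe, hy]
    have h4 := orderOf_dvd_natCard (⟨y, h2⟩ : centralizer ({(u : Spor.Th)} : Set Spor.Th))
    rw [h3, h1] at h4
    norm_num at h4
  have h1 : 2 ^ 13 ∣ (normalizer (zpowers y : Set Spor.Th)).index :=
    pow_dvd_index_of_odd hy (a := 13) (b := 2) Nat.prime_two (by rw [MSevenT.card_th]; norm_num) (by norm_num) ho
  have h2 := index_mod (by rw [MSevenT.card_th]; norm_num) hy
  have h0 : (normalizer (zpowers y : Set Spor.Th)).index ≠ 0 := Subgroup.index_ne_zero_of_finite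
  obtain ⟨k, hk⟩ := h1
  (clear * - h2 hk; solve | lia | omega)

theorem card_centralizer_t : Nat.card (centralizer ({tG KDone.mGroup KDone.mRep} : Set MG)) =
    2 * 4154781481226426191177580544000000 := by
  have h1 := MSevenT.Row.card_cent
  have h0 : IsB Spor.BabyMonster := S1704.result
  rw [h0.2] at h1
  exact h1

theorem card_cent_conj' {G : Type*} [Group G] (a g : G) :
    Nat.card (centralizer ({g * a * g⁻¹} : Set G)) = Nat.card (centralizer ({a} : Set G)) := by
  refine Nat.card_congr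
    { toFun := fun c => ⟨g⁻¹ * c * g, mem_centralizer_singleton_iff.2 ?_⟩
      invFun := fun c => ⟨g * c * g⁻¹, mem_centralizer_singleton_iff.2 ?_⟩
      left_inv := fun c => Subtype.ext (by show g * (g⁻¹ * (c : G) * g) * g⁻¹ = c; group)
      right_inv := fun c => Subtype.ext (by show g⁻¹ * (g * (c : G) * g⁻¹) * g = c; group) }
  · have h1 := mem_centralizer_singleton_iff.1 c.2
    calc (g⁻¹ * (c : G) * g) * a = g⁻¹ * ((c : G) * (g * a * g⁻¹)) * g := by group
      _ = g⁻¹ * ((g * a * g⁻¹) * c) * g := by rw [h1]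
      _ = a * (g⁻¹ * (c : G) * g) := by group
  · have h1 := mem_centralizer_singleton_iff.1 c.2
    calc (g * (c : G) * g⁻¹) * (g * a * g⁻¹) = g * ((c : G) * a) * g⁻¹ := by group
      _ = g * (a * c) * g⁻¹ := by rw [h1]
      _ = (g * a * g⁻¹) * (g * (c : G) * g⁻¹) := by group

/-- an element of order 13 commuting with a conjugate of `t₀` is in a Thompson group -/
theorem in_th {y : MG} (hy : orderOf y = 13)
    (ht : ∃ g : MG, (g * tG KDone.mGroup KDone.mRep * g⁻¹) * y = y * (g * tG KDone.mGroup KDone.mRep * g⁻¹)) :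
    ∃ (f : Spor.Th →* MG) (y' : Spor.Th) (g : MG), Function.Injective f ∧ orderOf y' = 13 ∧ g * f y' * g⁻¹ = y := by
  have hfin := MFive.Row.finite_model
  have hsim := MFive.Row.simple_model
  have h := KChart.chart KDone.lft MFive.Row.hc
  obtain ⟨x₃, t, hzx, T, ⟨e⟩⟩ := MSevenT.exists_TT h
  obtain ⟨f⟩ := T.exists_equiv
  have htt : t * t = 1 := by rw [← pow_two, ← T.two, pow_orderOf_eq_one]
  have ht1 : t ≠ 1 := fun h1 => by have := T.two; rw [h1, orderOf_one] at this; omega
  have hcardT : Nat.card ↥(centralizer ({x₃} : Set MG) ⊓ centralizer ({t} : Set MG)) = 90745943887872000 := by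
    rw [Nat.card_congr (f.trans e).toEquiv, MSevenT.card_th]
  have htz : ¬ ∃ g, g * KDone.K.z * g⁻¹ = t := by
    rintro ⟨g, hg⟩
    have h1 : Nat.card ↥(centralizer ({x₃} : Set MG) ⊓ centralizer ({t} : Set MG)) ∣
        Nat.card ↥(centralizer ({t} : Set MG)) := Subgroup.card_dvd_of_le inf_le_right
    rw [hcardT, ← hg, card_cent_conj', AmalElts.card_centralizer h] at h1
    norm_num at h1
  obtain ⟨k, hk⟩ : ∃ k, k * tG KDone.mGroup KDone.mRep * k⁻¹ = t := (MFive.Row.two t htt ht1).resolve_left htz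
  have h13 : ¬ 13 ^ (1 + 1) ∣ Nat.card ↥(centralizer ({t} : Set MG)) := by
    rw [← hk, card_cent_conj', card_centralizer_t]
    norm_num
  obtain ⟨g, hg⟩ := ht
  -- `u = m t m⁻¹`
  let m : MG := g * k⁻¹
  have hm : m * t * m⁻¹ = g * tG KDone.mGroup KDone.mRep * g⁻¹ := by
    rw [← hk]
    show (g * k⁻¹) * (k * tG KDone.mGroup KDone.mRep * k⁻¹) * (g * k⁻¹)⁻¹ = _
    group
  rw [← hm] at hg
  have hxt : m⁻¹ * y * m ∈ centralizer ({t} : Set MG) := by
    rw [mem_centralizer_singleton_iff]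
    calc (m⁻¹ * y * m) * t = m⁻¹ * (y * (m * t * m⁻¹)) * m := by group
      _ = m⁻¹ * ((m * t * m⁻¹) * y) * m := by rw [hg]
      _ = t * (m⁻¹ * y * m) := by group
  have hx7 : orderOf (m⁻¹ * y * m) = 13 := by
    have h1 : m⁻¹ * y * m = MulAut.conj m⁻¹ y := by rw [MulAut.conj_apply, inv_inv]
    rw [h1, ← hy]
    exact MulEquiv.orderOf_eq (MulAut.conj m⁻¹) y
  obtain ⟨c, -, hc⟩ := MSevenT.conj_into (C := centralizer ({t} : Set MG))
    (T := centralizer ({x₃} : Set MG) ⊓ centralizer ({t} : Set MG)) inf_le_right (by norm_num : Nat.Prime 13)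
    h13 (by rw [hcardT]; norm_num) hx7 hxt
  set! y₁ : MG := c * (m⁻¹ * y * m) * c⁻¹ with hy₁; rewrite [← hy₁] at hc
  have hy7 : orderOf y₁ = 13 := by
    have h1 : y₁ = MulAut.conj c (m⁻¹ * y * m) := rfl
    rw [h1, ← hx7]
    exact MulEquiv.orderOf_eq (MulAut.conj c) _
  refine ⟨(centralizer ({x₃} : Set MG) ⊓ centralizer ({t} : Set MG)).subtype.comp (f.trans e).symm.toMonoidHom,
    (f.trans e) ⟨y₁, hc⟩, m * c⁻¹, ?_, ?_, ?_⟩
  · exact Subtype.val_injective.comp (f.trans e).symm.injective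
  · rw [MulEquiv.orderOf_eq]
    exact (Subgroup.orderOf_mk y₁ hc).trans hy7
  · show m * c⁻¹ * (((f.trans e).symm ((f.trans e) ⟨y₁, hc⟩) :
      ↥(centralizer ({x₃} : Set MG) ⊓ centralizer ({t} : Set MG))) : MG) * (m * c⁻¹)⁻¹ = y
    rw [MulEquiv.symm_apply_apply]
    show m * c⁻¹ * y₁ * (m * c⁻¹)⁻¹ = y
    rw [hy₁]
    group

theorem index13 {y : MG} (hy : orderOf y = 13) : 33490 ≤ (normalizer (zpowers y : Set MG)).index := by
  have hfin := MFive.Row.finite_model
  have h0 : (normalizer (zpowers y : Set MG)).index ≠ 0 := Subgroup.index_ne_zero_of_finite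
  by_cases h2 : 2 ∣ Nat.card (centralizer ({y} : Set MG))
  · have : Fact (Nat.Prime 2) := ⟨Nat.prime_two⟩
    obtain ⟨u, hu⟩ := exists_prime_orderOf_dvd_card' 2 h2
    have hu2 : orderOf (u : MG) = 2 := by rw [Subgroup.orderOf_coe, hu]
    have huu : (u : MG) * u = 1 := by rw [← pow_two, ← hu2, pow_orderOf_eq_one]
    have hu1 : (u : MG) ≠ 1 := fun h1 => by rw [h1, orderOf_one] at hu2; omega
    have huy : (u : MG) * y = y * u := mem_centralizer_singleton_iff.1 u.2
    rcases MFive.Row.two u huu hu1 with ⟨g, hg⟩ | ⟨g, hg⟩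
    · obtain ⟨x, g, hg⟩ := MFive.Model.exists_in (x := y) ⟨g, by rw [hg]; exact huy⟩
      have hx : orderOf x = 13 := by
        rw [← Subgroup.orderOf_coe, MFive.Model.orderOf_of_conj hg, hy]
      have h3 := KChart.chart KDone.lft MFive.Row.hc
      have h4 := MFive.orderOf_pi h3 (by norm_num) (by decide) hx
      have h5 : (normalizer (zpowers (x : MG) : Set MG)).index ≤ (normalizer (zpowers y : Set MG)).index := by
        rw [← hg]
        exact index_normalizer_conj g x
      have h6 : fr (KChart.pi MFive.Row.hc x) = 1 := by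
        obtain ⟨a, ha, ha13⟩ := Cfsg.Agent.LThreeBX.NoSeven.exists_odd (n := 13) (by decide)
          (show (KChart.pi MFive.Row.hc x) ^ 13 = 1 by rw [← h4, pow_orderOf_eq_one])
        have hao : orderOf a = 13 := by
          refine orderOf_eq_prime ha13 ?_
          rintro rfl
          have h1 : (Cfsg.Agent.CoOneType.ClosingFacts.mk 1 : Co1) = 1 := rfl
          rw [← ha, h1, orderOf_one] at h4
          norm_num at h4
        have h7 := fd_le (Or.inr (Or.inr (Or.inr (Or.inl rfl)))) hao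
        have h8 := fr_mk_eq (by decide) ha13
        have h9 : (QuotientGroup.mk a : Co1) = KChart.pi MFive.Row.hc x := ha
        rw [← h9, h8]
        have h10 := Nat.le_zero.1 h7
        rw [h10, pow_zero]
      have h7 := index_z h3 (by norm_num) hx (cent13 h4)
      rw [h6] at h7
      omega
    · obtain ⟨f, y', g, hf, hy', hg'⟩ := in_th hy ⟨g, by rw [hg]; exact huy⟩
      rw [← hg']
      exact le_trans (by norm_num) ((index_th hy').trans ((index_normalizer_map f hf y').trans (index_normalizer_conj g _)))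
  · have h3 := Nat.le_of_dvd (Nat.pos_of_ne_zero h0) (odd_index (p := 13) (by norm_num) hy h2)
    omega

theorem meet13 : Meet 13 MG := by
  have hfin := MFive.Row.finite_model
  have hs := MFive.Row.simple_model
  obtain ⟨e⟩ := MonsterP.Equiv.equiv
  have hsp : IsSporadicGroup MG := by
    have : Spor.IsoM MG := ⟨e.symm⟩
    unfold IsSporadicGroup; (solve | simp only [*, true_or, or_true, and_self, true_and, and_true, not_false_eq_true] | simp only [this, true_or, or_true])
  refine meet_of_index (not_comm_spor hsp) (H498.SporOut.index_le_two hsp) (by norm_num) (k := 3) (s := 183) ?_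
    (by norm_num) (fun y hy => index13 hy) (by norm_num)
  rw [card_MG]
  norm_num

theorem meet13_M {G : Type*} [Group G] [Finite G] [IsSimpleGroup G] (h : Spor.IsoM G) : Meet 13 G := by
  obtain ⟨e⟩ := h
  obtain ⟨f⟩ := MonsterP.Equiv.equiv
  have hfin := MFive.Row.finite_model
  have hs := MFive.Row.simple_model
  exact Meet.congr (e.trans f).symm meet13

end Cfsg.Agent.H47.MeetS.Mon
end

-- part: H68/MeetMon
section
/-!
# Trivial Sylow intersections: the Monster, `p = 5` (helper68, S5762)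

The cases for an element of order 5 are helper49's, helper92's and helper30's (`CpAutBFive.EvenRow.cases`,
`MFive.Row.cases_model`), the index bound in `C(z)` is helper47's.
-/

set_option autoImplicit false
set_option maxRecDepth 100000

namespace Cfsg.Agent.H68.MeetMon

open Cfsg Cfsg.Agent.H903.SylMeet Cfsg.Agent.H47.MeetS Cfsg.Agent.H47.MeetS.Mon
open Cfsg.Agent.LThreeMB (fr XX Zx KChart.Cent KChart.pi KChart.chart)
open Cfsg.Agent.MonsterX Cfsg.Agent.MonsterX.Model Cfsg.Agent.MonsterX.MainSimple Cfsg.Agent.MonsterX.MainPack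
open Cfsg.Agent.MonsterX.MainBasic
open Cfsg.Agent.MonsterU
open Cfsg.Spor (Co1)
open Subgroup (centralizer mem_centralizer_singleton_iff normalizer zpowers)

theorem hJ : CpAutBFive.Closed.HJ := fun _ hs h => MFive.JTwo.isoJ2 hs h

theorem card_HN : Nat.card Cfsg.Spor.HN = 273030912000000 := Cfsg.Agent.S1701.result.2

/-- `|C(x)| = |⟨x⟩| |C(x) / ⟨x⟩|` -/
theorem card_cent_eq {G : Type*} [Group G] [Finite G] (x : G) :
    Nat.card (centralizer ({x} : Set G)) = Nat.card (XX x) * orderOf x := by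
  have h := Subgroup.card_eq_card_quotient_mul_card_subgroup (Zx x)
  rw [h]
  congr 1
  show Nat.card (Zx x) = _
  rw [Zx, Nat.card_zpowers]
  exact Subgroup.orderOf_mk _ _

theorem zpowers_pow_eq {G : Type*} [Group G] [Finite G] {x : G} (hx : orderOf x = 5) {i : ℕ} (hi : x ^ i ≠ 1) :
    zpowers (x ^ i) = zpowers x := by
  have h5 : orderOf (x ^ i) = 5 := by
    refine orderOf_eq_prime ?_ hi
    rw [← pow_mul, mul_comm, pow_mul, ← hx, pow_orderOf_eq_one, one_pow]
  apply Subgroup.eq_of_le_of_card_ge (Subgroup.zpowers_le.2 (pow_mem (Subgroup.mem_zpowers x) i))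
  rw [Nat.card_zpowers, Nat.card_zpowers, h5, hx]

theorem index_five {y : MG} (hy : orderOf y = 5) : 238418334962 ≤ (normalizer (zpowers y : Set MG)).index := by
  have hfin := MFive.Row.finite_model
  have h0 : (normalizer (zpowers y : Set MG)).index ≠ 0 := Subgroup.index_ne_zero_of_finite
  rcases CpAutBFive.EvenRow.cases hy with hex | h4
  · rcases MFive.Row.cases_model (CpAutBFive.Closed.coFive hJ) CpAutBFive.Closed.hnEight hy hex with
      ⟨⟨e⟩⟩ | ⟨x₀, k, i, hx₀, hfr, hk⟩
    · have h1 := card_cent_eq y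
      rw [Nat.card_congr e.toEquiv, card_HN, hy] at h1
      have h2 := card_normalizer_le hy
      rw [h1] at h2
      have h3 := (normalizer (zpowers y : Set MG)).card_mul_index
      rw [card_MG] at h3
      by_contra hlt
      have h4 : Nat.card (normalizer (zpowers y : Set MG)) * (normalizer (zpowers y : Set MG)).index ≤
          (273030912000000 * 5 * (5 - 1)) * 238418334962 := Nat.mul_le_mul h2 (by omega)
      rw [h3] at h4
      norm_num at h4
    · have h3 := KChart.chart KDone.lft MFive.Row.hc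
      have h4 := MFive.orderOf_pi h3 (by norm_num) (by decide) hx₀
      have h7 := index_z h3 (by norm_num) hx₀ (card_cent_co1 h4)
      rw [hfr] at h7
      have hx5 : orderOf (x₀ : MG) = 5 := by rw [Subgroup.orderOf_coe, hx₀]
      have hne : (x₀ : MG) ^ i ≠ 1 := by
        intro h
        rw [h] at hk
        have h5 : y = 1 := by
          calc y = k⁻¹ * (k * y * k⁻¹) * k := by group
            _ = 1 := by rw [hk]; group
        rw [h5, orderOf_one] at hy
        norm_num at hy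
      have h8 := index_normalizer_conj k⁻¹ ((x₀ : MG) ^ i)
      have h9 : k⁻¹ * ((x₀ : MG) ^ i) * k⁻¹⁻¹ = y := by rw [← hk]; group
      rw [h9, zpowers_pow_eq hx5 hne] at h8
      omega
  · have h1 : 2 ^ 43 ∣ (normalizer (zpowers y : Set MG)).index := by
      refine pow_dvd_index hy (a := 43) (b := 2) (c := 1) Nat.prime_two ?_ (by norm_num) (fun h => h4 (by convert h using 1; norm_num))
      rw [card_MG]
      norm_num
    have h2 := Nat.le_of_dvd (Nat.pos_of_ne_zero h0) h1
    omega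

theorem meet5 : Meet 5 MG := by
  have hfin := MFive.Row.finite_model
  have hs := MFive.Row.simple_model
  obtain ⟨e⟩ := MonsterP.Equiv.equiv
  have hsp : IsSporadicGroup MG := by
    have : Spor.IsoM MG := ⟨e.symm⟩
    unfold IsSporadicGroup; (solve | simp only [*, true_or, or_true, and_self, true_and, and_true, not_false_eq_true] | simp only [this, true_or, or_true])
  refine _root_.Cfsg.Agent.H47.MeetS.meet_of_index (not_comm_spor hsp) (H498.SporOut.index_le_two hsp) (by norm_num) (k := 9) (s := 488281) ?_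
    (by norm_num) (fun y hy => index_five hy) (by norm_num)
  rw [card_MG]
  norm_num

theorem meet5_M {G : Type*} [Group G] [Finite G] [IsSimpleGroup G] (h : Spor.IsoM G) : Meet 5 G := by
  obtain ⟨e⟩ := h
  obtain ⟨f⟩ := MonsterP.Equiv.equiv
  have hfin := MFive.Row.finite_model
  have hs := MFive.Row.simple_model
  exact Meet.congr (e.trans f).symm meet5

end Cfsg.Agent.H68.MeetMon
end

-- part: H68/MeetBaby
section
/-!
# Trivial Sylow intersections: the Baby Monster, `p = 5` (helper68, S5762)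

`|C_M(x)|_2 ≤ 2 ^ 14` for the elements `x` of order 5 of the Monster; the Baby Monster is `C(t) / ⟨t⟩`.
-/

set_option autoImplicit false
set_option maxRecDepth 100000

namespace Cfsg.Agent.H68.MeetBaby

open Cfsg Cfsg.Agent.H903.SylMeet Cfsg.Agent.H47.MeetS Cfsg.Agent.H47.MeetS.Mon Cfsg.Agent.H68.MeetMon
open Cfsg.Agent.H68.MeetB
open Cfsg.Agent.LThreeMB (fr XX Zx zD KChart.Cent KChart.pi KChart.chart)
open Cfsg.Agent.LThreeB (XT centXT centXT')
open Cfsg.Agent.MonsterX Cfsg.Agent.MonsterX.Model Cfsg.Agent.MonsterX.MainSimple Cfsg.Agent.MonsterX.MainPack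
open Cfsg.Agent.MonsterX.MainBasic
open Cfsg.Agent.MonsterU
open Cfsg.Agent.MonsterU.Ch
open Cfsg.Agent.MonsterU.Lam2 (L2)
open Cfsg.Agent.MonsterP Cfsg.Agent.MonsterN
open Cfsg.Spor (Co1)
open Subgroup (centralizer mem_centralizer_singleton_iff normalizer zpowers center)

section chart

variable {G : Type*} [Group G] {Q : Subgroup G} {z : G} {eta : G → L2}
  {pi : Subgroup.centralizer ({z} : Set G) →* Co1}

/-- a group with a normal subgroup of odd order: the 2-part -/
theorem dvd_of_odd_core {D : Type*} [Group D] [Finite D] {N A : Subgroup D} [N.Normal] (hNo : Odd (Nat.card ↥N))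
    (hsup : N ⊔ A = ⊤) {k : ℕ} (h : 2 ^ k ∣ Nat.card D) : 2 ^ k ∣ Nat.card A := by
  have h1 : Function.Surjective ((QuotientGroup.mk' N).comp A.subtype) := by
    intro d
    obtain ⟨d, rfl⟩ := QuotientGroup.mk'_surjective N d
    have hd : d ∈ N ⊔ A := by rw [hsup]; trivial
    obtain ⟨n, hn, a, ha, rfl⟩ := Subgroup.mem_sup_of_normal_left.1 hd
    refine ⟨⟨a, ha⟩, ?_⟩
    rw [MonoidHom.comp_apply, map_mul, (QuotientGroup.eq_one_iff n).2 hn |> fun h => (h : QuotientGroup.mk' N n = 1),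
      one_mul]
    rfl
  have h2 : Nat.card (D ⧸ N) ∣ Nat.card A := Subgroup.card_dvd_of_surjective _ h1
  have h3 := Subgroup.card_eq_card_quotient_mul_card_subgroup N
  rw [h3] at h
  have h4 : Nat.Coprime (2 ^ k) (Nat.card N) := (Nat.coprime_two_left.2 hNo).pow_left k
  exact (h4.dvd_of_dvd_mul_right h).trans h2

/-- `|C_{C(z)}(x)|` divides `2 |C_{Co1}(pi x)|` for `x` of fixed rank 0 -/
theorem card_zero_dvd [Finite G] (h : Chart Q z eta pi) {p : ℕ} [hp : Fact p.Prime] (h2 : p ≠ 2)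
    {x : Subgroup.centralizer ({z} : Set G)} (hx : orderOf x = p) (hfr : fr (pi x) = 1) :
    Nat.card (centralizer ({x} : Set (Subgroup.centralizer ({z} : Set G)))) ∣
      2 * Nat.card (centralizer ({pi x} : Set Co1)) := by
  have ho : Odd p := hp.out.odd_of_ne_two h2
  have hxp : x ^ p = 1 := by rw [← hx, pow_orderOf_eq_one]
  have h4 := card_fix_le h ho hxp
  rw [hfr, one_mul] at h4
  set A := centralizer ({x} : Set (Subgroup.centralizer ({z} : Set G))) with hA
  let f : A →* Co1 := pi.comp A.subtype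
  have h5 : Nat.card A = Nat.card f.ker * Nat.card f.range := by
    rw [Subgroup.card_eq_card_quotient_mul_card_subgroup f.ker, mul_comm,
      Nat.card_congr (QuotientGroup.quotientKerEquivRange f).toEquiv]
  have h6 : Nat.card f.ker ≤ 2 := by
    refine le_trans ?_ h4
    refine Nat.card_le_card_of_injective (fun q => ⟨((q : A) : Subgroup.centralizer ({z} : Set G)), q.2,
      (mem_centralizer_singleton_iff.1 (q : A).2).symm⟩) fun a b hab => ?_
    exact Subtype.ext (Subtype.ext (congrArg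
      (fun q : {q : Subgroup.centralizer ({z} : Set G) // q ∈ pi.ker ∧ x * q = q * x} => q.1) hab))
  have h7 : Nat.card f.ker ∣ 2 := by
    have h8 : 0 < Nat.card f.ker := Nat.card_pos
    interval_cases hc : Nat.card f.ker <;> norm_num
  have h8 : Nat.card f.range ∣ Nat.card (centralizer ({pi x} : Set Co1)) := by
    apply Subgroup.card_dvd_of_le
    rintro _ ⟨a, rfl⟩
    rw [mem_centralizer_singleton_iff]
    show pi (a : Subgroup.centralizer ({z} : Set G)) * pi x = pi x * pi a
    rw [← map_mul, mem_centralizer_singleton_iff.1 a.2, map_mul]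
  rw [h5]
  exact mul_dvd_mul h7 h8

theorem j2_card {S : Type*} [Group S] (h : Spor.IsoJ2 S) : Nat.card S = 604800 := by
  obtain ⟨e⟩ := h
  rw [Nat.card_congr e.toEquiv, Cfsg.Agent.J2Sylow.SporSylow.card_J2]

/-- `2 ^ 9 ∤ |C(x)|` for `x` of fixed rank 0 -/
theorem not_dvd_zero [Finite G] (h : Chart Q z eta pi) (htr : MFive.TrNe 5 z pi)
    (hJ : ∀ s : Co1, orderOf s = 5 → fr s = 1 → Spor.IsoJ2 (XX s))
    {x : Subgroup.centralizer ({z} : Set G)} (hx : orderOf x = 5) (hfr : fr (pi x) = 1) :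
    ¬ 2 ^ 9 ∣ Nat.card (centralizer ({(x : G)} : Set G)) := by
  intro hd
  obtain ⟨N, hN, hNo, hsup⟩ := MFive.exists_odd h (fun d hd hc => MFive.isolated h htr hx hfr d hd hc)
  have h1 := dvd_of_odd_core hNo hsup hd
  rw [Nat.card_congr ((centXT' (zD x)).trans (centXT x)).toEquiv] at h1
  have h2 := h1.trans (card_zero_dvd h (by norm_num) hx hfr)
  have h3 := MFive.orderOf_pi h (by norm_num) (by decide) hx
  have hf1 : Finite Co1 := Nat.finite_of_card_ne_zero (by rw [card_co1]; norm_num)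
  rw [card_cent_eq, h3, j2_card (hJ _ h3 hfr)] at h2
  norm_num at h2

end chart

/-! ### the elements of order 5 of the Monster -/

theorem card_cent_of_pow {G : Type*} [Group G] [Finite G] {x x₀ k : G} {i : ℕ} (hx : orderOf x = 5)
    (hx₀ : orderOf x₀ = 5) (hk : k * x * k⁻¹ = x₀ ^ i) :
    Nat.card (centralizer ({x} : Set G)) = Nat.card (centralizer ({x₀} : Set G)) := by
  rw [← card_cent_conj' x k, hk]
  have hne : x₀ ^ i ≠ 1 := by
    intro h
    rw [h] at hk
    have h5 : x = 1 := by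
      calc x = k⁻¹ * (k * x * k⁻¹) * k := by group
        _ = 1 := by rw [hk]; group
    rw [h5, orderOf_one] at hx
    norm_num at hx
  have h1 := zpowers_pow_eq hx₀ hne
  have h2 : centralizer ({x₀ ^ i} : Set G) = centralizer ({x₀} : Set G) := by
    ext g
    rw [mem_centralizer_singleton_iff, mem_centralizer_singleton_iff]
    constructor
    · intro h
      have h3 : x₀ ∈ zpowers (x₀ ^ i) := by rw [h1]; exact Subgroup.mem_zpowers x₀
      obtain ⟨j, hj⟩ := h3
      have h4 : Commute g (x₀ ^ i) := h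
      have h5 := h4.zpow_right j
      have h6 : (x₀ ^ i) ^ j = x₀ := hj
      rw [h6] at h5
      exact h5
    · intro h
      exact (show Commute g x₀ from h).pow_right i
  rw [h2]

theorem not_two {y : MG} (hy : orderOf y = 5) : ¬ 2 ^ 15 ∣ Nat.card (centralizer ({y} : Set MG)) := by
  have hfin := MFive.Row.finite_model
  rcases CpAutBFive.EvenRow.cases hy with hex | h4
  · rcases MFive.Row.cases_model (CpAutBFive.Closed.coFive hJ) CpAutBFive.Closed.hnEight hy hex with
      ⟨⟨e⟩⟩ | ⟨x₀, k, i, hx₀, hfr, hk⟩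
    · rw [card_cent_eq y, Nat.card_congr e.toEquiv, card_HN, hy]
      norm_num
    · have hx5 : orderOf (x₀ : MG) = 5 := by rw [Subgroup.orderOf_coe, hx₀]
      rw [card_cent_of_pow hy hx5 hk]
      intro h
      exact not_dvd_zero (KChart.chart KDone.lft MFive.Row.hc) BpSpor.M5.trNe hJ hx₀ hfr
        ((pow_dvd_pow 2 (by norm_num)).trans h)
  · intro h
    apply h4
    have h1 : (2 : ℕ) ^ 2 ∣ 2 ^ 15 := pow_dvd_pow 2 (by norm_num)
    convert Nat.dvd_trans h1 h using 1
    norm_num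

/-! ### the Baby Monster -/

theorem card_baby : Nat.card Cfsg.Spor.BabyMonster = 4154781481226426191177580544000000 :=
  Cfsg.Agent.BM.KHAll.card_B

instance finite_baby : Finite Cfsg.Spor.BabyMonster := Nat.finite_of_card_ne_zero (by rw [card_baby]; norm_num)

instance fact5 : Fact (Nat.Prime 5) := ⟨by norm_num⟩

/-- an element of odd order of the quotient by a central subgroup of order 2 lifts -/
theorem exists_lift_odd {C : Type*} [Group C] [Finite C] (h2 : Nat.card (center C) = 2) {y : C ⧸ center C}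
    (hy : orderOf y = 5) : ∃ x : C, orderOf x = 5 ∧ (QuotientGroup.mk x : C ⧸ center C) = y := by
  obtain ⟨g, rfl⟩ := QuotientGroup.mk'_surjective (center C) y
  have h5 : g ^ 5 ∈ center C := by
    have h1 : (QuotientGroup.mk' (center C)) (g ^ 5) = 1 := by rw [map_pow, ← hy, pow_orderOf_eq_one]
    exact (QuotientGroup.eq_one_iff _).1 h1
  have h10 : g ^ 10 = 1 := by
    have h1 := orderOf_dvd_natCard (⟨g ^ 5, h5⟩ : center C)
    rw [h2, Subgroup.orderOf_mk] at h1
    have h3 := orderOf_dvd_iff_pow_eq_one.1 h1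
    rw [← pow_mul] at h3
    exact h3
  refine ⟨g ^ 6, ?_, ?_⟩
  · refine orderOf_eq_prime ?_ ?_
    · rw [← pow_mul, show 6 * 5 = 10 * 3 by norm_num, pow_mul, h10, one_pow]
    · intro h
      have h1 : (QuotientGroup.mk' (center C)) g ^ 6 = 1 := by rw [← map_pow, h, map_one]
      have h3 := orderOf_dvd_of_pow_eq_one h1
      rw [hy] at h3
      norm_num at h3
  · show (QuotientGroup.mk' (center C)) (g ^ 6) = QuotientGroup.mk' (center C) g
    have h1 : (QuotientGroup.mk' (center C)) g ^ 5 = 1 := by rw [← hy, pow_orderOf_eq_one]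
    rw [map_pow, pow_succ, h1, one_mul]

theorem index_quot {C B' : Type*} [Group C] [Finite C] [Group B'] [Finite B'] (h2 : Nat.card (center C) = 2)
    (e : C ⧸ center C ≃* B') {y : B'} (hy : orderOf y = 5) :
    ∃ x : C, orderOf x = 5 ∧ (centralizer ({x} : Set C)).index = (centralizer ({y} : Set B')).index := by
  have hy' : orderOf (e.symm y) = 5 := by rw [MulEquiv.orderOf_eq, hy]
  obtain ⟨x, hx, hxy⟩ := exists_lift_odd h2 hy'
  refine ⟨x, hx, ?_⟩
  have h3 := Cfsg.Agent.H573.Spor.index_centralizer_mk (p := 5) (by decide) h2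
    (x := x) (by rw [← hx, pow_orderOf_eq_one])
  rw [hxy] at h3
  rw [h3]
  have h5 : centralizer ({y} : Set B') =
      (centralizer ({e.symm y} : Set (C ⧸ center C))).comap e.symm.toMonoidHom := by
    ext g
    rw [Subgroup.mem_comap, mem_centralizer_singleton_iff, mem_centralizer_singleton_iff]
    show g * y = y * g ↔ e.symm g * e.symm y = e.symm y * e.symm g
    rw [← map_mul, ← map_mul, EmbeddingLike.apply_eq_iff_eq]
  rw [h5, Subgroup.index_comap_of_surjective _ e.symm.surjective]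

theorem index_ge {C : Type*} [Group C] [Finite C] (A : Subgroup C) (h : 2 ^ 42 ∣ Nat.card C)
    (h8 : ¬ 2 ^ 15 ∣ Nat.card A) : 2 ^ 28 ≤ A.index := by
  have h0 : A.index ≠ 0 := Subgroup.index_ne_zero_of_finite
  refine Nat.le_of_dvd (Nat.pos_of_ne_zero h0) ?_
  by_contra hcon
  rw [← A.card_mul_index] at h
  have hc0 : Nat.card A ≠ 0 := Nat.card_pos.ne'
  have : Fact (Nat.Prime 2) := ⟨Nat.prime_two⟩
  rw [padicValNat_dvd_iff_le hc0] at h8
  rw [padicValNat_dvd_iff_le h0] at hcon
  rw [padicValNat_dvd_iff_le (mul_ne_zero hc0 h0), padicValNat.mul hc0 h0] at h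
  omega

theorem index_five_aux {t : MG} (h2 : Nat.card (center (centralizer ({t} : Set MG))) = 2)
    (e : (centralizer ({t} : Set MG)) ⧸ center (centralizer ({t} : Set MG)) ≃* Cfsg.Spor.BabyMonster)
    {y : Cfsg.Spor.BabyMonster} (hy : orderOf y = 5) :
    2 ^ 28 ≤ (centralizer ({y} : Set Cfsg.Spor.BabyMonster)).index := by
  have hfin := MFive.Row.finite_model
  obtain ⟨x, hx, hi⟩ := index_quot h2 e hy
  rw [← hi]
  have hxo : orderOf (x : MG) = 5 := by rw [Subgroup.orderOf_coe, hx]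
  apply index_ge
  · rw [Subgroup.card_eq_card_quotient_mul_card_subgroup (center (centralizer ({t} : Set MG))),
      Nat.card_congr e.toEquiv, card_baby, h2]
    norm_num
  · intro h
    apply not_two hxo
    refine Nat.dvd_trans h ?_
    rw [← Nat.card_congr (centXT x).toEquiv]
    exact Subgroup.card_dvd_of_le inf_le_left

theorem index_five_baby {y : Cfsg.Spor.BabyMonster} (hy : orderOf y = 5) :
    2 ^ 28 ≤ (centralizer ({y} : Set Cfsg.Spor.BabyMonster)).index := by
  obtain ⟨⟨h2, -, ⟨e⟩⟩, -⟩ := ModelB.fieldsKS LitFin.all KDone.lnk KDone.lft (NodesGrp.prel LitFin.H)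
    (NodesNe.ne LitFin.H) LitFin.conj_ten Cfsg.Agent.S1704.result KDone.lnk.x₀_mem
  exact index_five_aux h2 e hy

theorem meetIn_baby : MeetIn 5 Cfsg.Spor.BabyMonster := by
  refine MeetIn.of_index (n := 6) (m := 2 ^ 28) ?_ (fun y hy => index_five_baby hy) (by norm_num)
  rw [card_baby]
  norm_num

theorem meetIn_B {G : Type*} [Group G] (h : Spor.IsoB G) : MeetIn 5 G := by
  obtain ⟨e⟩ := h
  exact meetIn_baby.congr e.symm

theorem meet5_B {G : Type*} [Group G] [Finite G] [IsSimpleGroup G] (h : Spor.IsoB G) : Meet 5 G := by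
  have hsp : IsSporadicGroup G := by unfold IsSporadicGroup; (solve | repeat (first | with_reducible assumption | exact Or.inl (by with_reducible assumption) | refine Or.inr ?_) | simp only [h, true_or, or_true])
  have hin := meetIn_B h
  refine MeetIn.meet ?_ (not_comm_spor hsp) hin
  obtain ⟨e⟩ := h
  exact CpAut.AutInner.congr e.symm (fun α _ => CpAut.TwoInner.inner_b α)

end Cfsg.Agent.H68.MeetBaby
end

private theorem dce_da35b0f6ca9f : _root_.True := by
  try have : _root_.True := by simp only [_root_.Cfsg.Agent.H68.MeetLy.gl.eq_1]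
  try have : _root_.True := by simp only [_root_.Cfsg.Agent.H68.MeetUT.Lo.congr_simp]
  try have : _root_.True := by simp only [_root_.Cfsg.Agent.H68.MeetUT.Piv.eq_1]
  try have : _root_.True := by simp only [_root_.Cfsg.Agent.H68.MeetUT.Win.congr_simp]
  try have : _root_.True := by simp only [_root_.Cfsg.Agent.H68.MeetUT.Up.congr_simp]
  try have : _root_.True := by simp only [_root_.Cfsg.Agent.H68.MeetUT.Piv.eq_2]
  try have : _root_.True := by simp only [_root_.Cfsg.Agent.H68.MeetUT.Piv.eq_def]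
  exact _root_.True.intro
end

-- part: H903/SylFin
section
prune_inst 0x14200500540010000000000000000040320004b000200001414003420a890f6100802900ba9012001328a2a54039000002000099400000002000000001180080000102009118ac00100000000804000000000000000000000000000000000000000000000
set_option linter.all false
open scoped Cfsg.Agent.FastGrp

-- part: H903/SylClass
section
set_option autoImplicit false

namespace Cfsg.Agent.H903.SylClass

open Cfsg Cfsg.Agent.H903.SylMeet Cfsg.Agent.H903.SylReg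

variable {p : ℕ} [Fact p.Prime]

theorem not_dvd_card {F : Type*} [Field F] [Fintype F] (h : (p : F) ≠ 0) : ¬ p ∣ Fintype.card F := by
  intro hd
  apply h
  rw [← map_natCast (RingHom.id F)]
  obtain ⟨r, hr⟩ := CharP.exists F
  haveI := hr
  obtain ⟨n, hrp, hcard⟩ := FiniteField.card F r
  rw [hcard] at hd
  have h1 := (Nat.prime_dvd_prime_iff_eq (Fact.out : p.Prime) hrp).1 ((Fact.out : p.Prime).dvd_of_dvd_pow hd)
  rw [h1]
  simp

theorem alt (hp : 5 ≤ p) {T : Type*} [Group T] (h : IsAlternating T) : Meet p T := by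
  obtain ⟨n, hn, ⟨e⟩⟩ := h
  exact Meet.congr e.symm (Cfsg.Agent.H178.MeetAlt.meet_alt hp hn)

theorem psl (hp : 5 ≤ p) {T : Type*} [Group T] (h : IsPSL T) : Meet p T := by
  obtain ⟨F, _, _, n, hn, h2, ⟨e⟩⟩ := h
  refine Meet.congr e.symm ?_
  by_cases hpF : (p : F) = 0
  · haveI : CharP F p := (CharP.charP_iff_prime_eq_zero (Fact.out : p.Prime)).2 hpF
    exact Cfsg.Agent.H897.MeetPSL.meet_PSL hp hn h2
      (Cfsg.Agent.H126.SepMain.sepSL_char hp (by rw [Module.finrank_fin_fun]; exact hn))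
  · by_cases hn2 : n = 2
    · subst hn2
      exact Cfsg.Agent.H743.MeetPSL2.cross_PSL2 (h2 rfl) hp (not_dvd_card hpF)
    · exact Cfsg.Agent.H897.MeetPSL.meet_PSL hp hn h2
        (Cfsg.Agent.H206.SepCross.sepSL_cross hp hpF (by rw [Module.finrank_fin_fun]; omega)
          (regSL p hp F _ hpF (by rw [Module.finrank_fin_fun]; omega)))

theorem psp (hp : 5 ≤ p) {T : Type*} [Group T] (h : IsPSp T) : Meet p T := by
  obtain ⟨F, _, _, m, hm, h2, ⟨e⟩⟩ := h
  refine Meet.congr e.symm (Cfsg.Agent.H513.MeetPSp.meet_PSp hp hm h2 ?_)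
  by_cases hpF : (p : F) = 0
  · haveI : CharP F p := (CharP.charP_iff_prime_eq_zero (Fact.out : p.Prime)).2 hpF
    exact Cfsg.Agent.H126.SepSpSU.sepSp_char hp hm
  · exact Cfsg.Agent.H458.SepSp.sepSp_cross hp hpF hm (regSp p hp F _ hpF (by
      rw [Module.finrank_fintype_fun_eq_card]; simp only [_root_.Fintype.card_sum, _root_.Fintype.card_fin]; omega))

theorem psu (hp : 5 ≤ p) {T : Type*} [Group T] (h : IsPSU T) : Meet p T := by
  obtain ⟨F, _, _, n, q, hF, hn, h2, ⟨e⟩⟩ := h
  refine Meet.congr e.symm (Cfsg.Agent.H177.MeetPSU.meet_PSU hp hF hn h2 ?_)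
  by_cases hpF : (p : F) = 0
  · haveI : CharP F p := (CharP.charP_iff_prime_eq_zero (Fact.out : p.Prime)).2 hpF
    exact Cfsg.Agent.H126.SepSpSU.sepSU_char hp hF hn
  · exact Cfsg.Agent.H479.SepSU.sepSU_cross hp hF hpF hn (regU p hp F _ hpF (by
      rw [Module.finrank_fin_fun]; exact hn))

theorem pomega_odd (hp : 5 ≤ p) {T : Type*} [Group T] (h : IsPOmegaOdd T) : Meet p T := by
  obtain ⟨F, _, _, m, hm, ho, ⟨e⟩⟩ := h
  refine Meet.congr e.symm ?_
  by_cases hpF : (p : F) = 0
  · haveI : CharP F p := (CharP.charP_iff_prime_eq_zero (Fact.out : p.Prime)).2 hpF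
    exact Cfsg.Agent.H152.MeetOmega.meet_POmega_odd hm ho
      (Cfsg.Agent.H126.SepOrth.sepO_char_odd hp hm)
  · exact Cfsg.Agent.H579.Mpo.meet_POmega_odd_cross hp hpF hm ho (regO p hp F _ hpF (by
      rw [Module.finrank_fintype_fun_eq_card]; simp only [_root_.Fintype.card_sum, _root_.Fintype.card_unique, _root_.Fintype.card_fin]; omega))

theorem pomega_plus (hp : 5 ≤ p) {T : Type*} [Group T] (h : IsPOmegaPlus T) : Meet p T := by
  obtain ⟨F, _, _, m, hm, ⟨e⟩⟩ := h
  refine Meet.congr e.symm ?_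
  by_cases hpF : (p : F) = 0
  · haveI : CharP F p := (CharP.charP_iff_prime_eq_zero (Fact.out : p.Prime)).2 hpF
    exact Cfsg.Agent.H152.MeetOmega.meet_POmega_plus hp hm
      (Cfsg.Agent.H126.SepOrth.sepO_char_plus hp (by omega))
  · exact Cfsg.Agent.H579.Mpo.meet_POmega_plus_cross hp hpF hm (regO p hp F _ hpF (by
      rw [Module.finrank_fintype_fun_eq_card]; simp only [_root_.Fintype.card_sum, _root_.Fintype.card_fin]; omega))

theorem pomega_minus (hp : 5 ≤ p) {T : Type*} [Group T] (h : IsPOmegaMinus T) : Meet p T := by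
  obtain ⟨F, _, _, m, a, b, hm, hab, ⟨e⟩⟩ := h
  refine Meet.congr e.symm ?_
  by_cases hpF : (p : F) = 0
  · haveI : CharP F p := (CharP.charP_iff_prime_eq_zero (Fact.out : p.Prime)).2 hpF
    exact Cfsg.Agent.H152.MeetOmega.meet_POmega_minus (by omega) a b hab
      (Cfsg.Agent.H126.SepOrth.sepO_char_minus hp (by omega) hab)
  · exact Cfsg.Agent.H579.Mpo.meet_POmega_minus_cross hp hpF (by omega) a b hab
      (regO p hp F _ hpF (by
        rw [Module.finrank_fintype_fun_eq_card]; simp only [_root_.Fintype.card_sum, _root_.Fintype.card_fin, _root_.Nat.reduceLeDiff]; omega))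

end Cfsg.Agent.H903.SylClass
end

-- part: H47/MeetFi
section
/-!
# Trivial Sylow intersections: `Fi24'`, `p = 7` (helper47, S5762)
-/

set_option autoImplicit false
set_option maxRecDepth 100000

namespace Cfsg.Agent.H47.MeetS.Fi

open Subgroup Cfsg Cfsg.Spor Cfsg.Agent.H903.SylMeet
open Cfsg.Agent.R08.FiTwentyFour (L)
open Cfsg.Agent.CpAutFiSeven

instance fact7 : Fact (Nat.Prime 7) := ⟨by norm_num⟩

instance finF : Finite Fi24 := R08.FiTwentyFour.finite_Fi24

instance finF' : Finite Spor.Fi24' := inferInstanceAs (Finite ↥(commutator Fi24))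

theorem card_C {d : Fi24} (hd : d ∈ L) : Nat.card Fi24 = 306936 * Nat.card (centralizer ({d} : Set Fi24)) := by
  have h1 := R08.TetBig.orb (⊤ : Subgroup Fi24) d L (fun y => by
    constructor
    · intro hy
      obtain ⟨g, hg⟩ := isConj_L hd hy
      exact ⟨g, mem_top g, hg⟩
    · rintro ⟨g, -, rfl⟩
      exact R08.FiTwentyFour.conj hd g)
  rwa [card_top, R08.FiTwentyFour.ncard_L, top_inf_eq] at h1

theorem card_norm_le {x d : Fi24} (hx : orderOf x = 7) (hd : d ∈ L) (hxd : x * d = d * x) :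
    Nat.card (normalizer (zpowers x : Set Fi24)) ≤ 42 * Nat.card (centralizer ({d} : Set Fi24)) := by
  classical
  obtain ⟨t, ht⟩ := tri hx hd hxd
  set K := normalizer (zpowers x : Set Fi24) with hK
  rw [R08.TetBig.orb K d {y | ∃ g ∈ K, g * d * g⁻¹ = y} (fun y => Iff.rfl)]
  refine Nat.mul_le_mul ?_ (Nat.card_le_card_of_injective (Subgroup.inclusion inf_le_right)
    (Subgroup.inclusion_injective _))
  let A : Finset Fi24 := (Finset.univ.filter fun i : Fin 7 × Fin 7 => i.1 ≠ i.2).image fun i => t i.1 i.2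
  have hA : A.card ≤ 42 := Finset.card_image_le.trans (by decide)
  refine le_trans ?_ hA
  rw [← Set.ncard_coe_finset A]
  refine Set.ncard_le_ncard ?_ (Finset.finite_toSet A)
  rintro _ ⟨g, hg, rfl⟩
  have h1 : g * d * g⁻¹ ∈ L := R08.FiTwentyFour.conj hd g
  have h2 : x * (g * d * g⁻¹) = g * d * g⁻¹ * x := by
    have h3 : g⁻¹ * x * g ∈ zpowers x := by
      have h4 := (mem_normalizer_iff.1 (inv_mem hg) x).1 (mem_zpowers x)
      rwa [inv_inv] at h4
    have h5 : zpowers x ≤ centralizer ({d} : Set Fi24) := zpowers_le.2 (mem_centralizer_singleton_iff.2 hxd)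
    have h6 := mem_centralizer_singleton_iff.1 (h5 h3)
    calc x * (g * d * g⁻¹) = g * ((g⁻¹ * x * g) * d) * g⁻¹ := by group
      _ = g * (d * (g⁻¹ * x * g)) * g⁻¹ := by rw [h6]
      _ = g * d * g⁻¹ * x := by group
  obtain ⟨i, j, hij, h3⟩ := ht.surj _ h1 h2
  rw [Finset.mem_coe]
  exact Finset.mem_image.2 ⟨(i, j), Finset.mem_filter.2 ⟨Finset.mem_univ _, hij⟩, h3.symm⟩

theorem index_le {x : Spor.Fi24'} (hx : orderOf x = 7) : 3250 ≤ (normalizer (zpowers x : Set Spor.Fi24')).index := by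
  have hn : Nat.card Spor.Fi24' = 1255205709190661721292800 := R08.FiTwentyFour.card_commutator
  have h0 : (normalizer (zpowers x : Set Spor.Fi24')).index ≠ 0 := index_ne_zero_of_finite
  by_cases h : ∃ d ∈ L, (x : Fi24) * d = d * x
  · obtain ⟨d, hd, hxd⟩ := h
    have h1 := card_norm_le ((Subgroup.orderOf_coe x).trans hx) hd hxd
    have h2 : Nat.card (normalizer (zpowers x : Set Spor.Fi24')) ≤
        Nat.card (normalizer (zpowers (x : Fi24) : Set Fi24)) :=
      card_normalizer_map (commutator Fi24).subtype Subtype.val_injective x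
    have h3 := card_C hd
    rw [card_F] at h3
    have h4 := (normalizer (zpowers x : Set Spor.Fi24')).card_mul_index
    rw [hn] at h4
    by_contra hlt
    push Not at hlt
    have h5 : Nat.card (normalizer (zpowers x : Set Spor.Fi24')) * (normalizer (zpowers x : Set Spor.Fi24')).index ≤
        42 * Nat.card (centralizer ({d} : Set Fi24)) * 3249 :=
      Nat.mul_le_mul (h2.trans h1) (by omega)
    omega
  · push Not at h
    have h1 := not_four_cent hx h
    have h2 : 2 ^ 19 ∣ (normalizer (zpowers x : Set Spor.Fi24')).index :=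
      pow_dvd_index (p := 7) hx (a := 19) (b := 1) (c := 1) Nat.prime_two (by rw [hn]; norm_num) (by norm_num) h1
    have h3 := Nat.le_of_dvd (Nat.pos_of_ne_zero h0) h2
    omega

end Cfsg.Agent.H47.MeetS.Fi

namespace Cfsg.Agent.H47.MeetS

open Cfsg Cfsg.Agent.H903.SylMeet

theorem meet7_Fi24 {G : Type*} [Group G] [Finite G] [IsSimpleGroup G] (h : Spor.IsoFi24' G) : Meet 7 G := by
  obtain ⟨e⟩ := h
  have hn : Nat.card Spor.Fi24' = 1255205709190661721292800 := R08.FiTwentyFour.card_commutator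
  have hsim : IsSimpleGroup Spor.Fi24' := R08.FiTwentyFour.isFi24'.1
  have hs1 : IsSporadicGroup Spor.Fi24' := by
    have : Spor.IsoFi24' Spor.Fi24' := ⟨MulEquiv.refl _⟩
    unfold IsSporadicGroup; simp only [this, true_or, or_true]
  refine Meet.congr e.symm (meet_of_index (not_comm_spor hs1) (H498.SporOut.index_le_two hs1) (by norm_num) (k := 3)
    (s := 57) (n := 3250) (by rw [hn]; norm_num) (by norm_num) (fun y hy => Fi.index_le hy) (by norm_num))

end Cfsg.Agent.H47.MeetS
end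

-- part: H47/MeetHe
section
/-!
# Trivial Sylow intersections: the Held group, `p = 7` (helper47, S5762)
-/

set_option autoImplicit false
set_option maxRecDepth 100000

namespace Cfsg.Agent.H47.MeetS.Held

open Subgroup Cfsg Cfsg.Agent.H903.SylMeet
open Cfsg.Spor.He (Gen)
open Cfsg.Agent.SporadicB.HePerm (act wd phi fixer mem_fixer allBelow of_allBelow)
open Cfsg.Agent.FixBN.HeStab Cfsg.Agent.KFacts.He.Lv Cfsg.Agent.CpAutHe.Cnt Cfsg.Agent.CpAutHe.Bound
open Cfsg.Agent.CpAutHe.Seven (simple_he ne_one_of_act)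

instance fact7 : Fact (Nat.Prime 7) := ⟨by norm_num⟩
instance fact17 : Fact (Nat.Prime 17) := ⟨by norm_num⟩

/-- the word of an element of order 17 -/
def U0 : List Gen := [.b, .c, .d, .f]

theorem chkU : chkB (pw U0 17) [] = true := by decide +kernel

theorem u0_pow : wd U0 ^ 17 = 1 := by
  have h := eq_of_chkB chkU
  rwa [wd_pw, wd_nil] at h

theorem u0_ne : wd U0 ≠ 1 := ne_one_of_act 5 (by decide +kernel)

theorem orderOf_u0 : orderOf (wd U0) = 17 := orderOf_eq_prime u0_pow u0_ne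

theorem chkF : allBelow 2058 (fun i => Nat.beq i 1334 || !(Nat.beq (act U0 i) i)) = true := by decide +kernel

theorem fixed {i : Fin 2058} (hi : phi (wd U0) i = i) : (i : ℕ) = 1334 := by
  have h := of_allBelow chkF i i.2
  rw [Bool.or_eq_true] at h
  rcases h with h | h
  · exact Nat.eq_of_beq_eq_true h
  · rw [act_eq, hi, Nat.beq_refl] at h
    exact absurd h (by decide)

theorem chkG : Nat.beq (act U0 1334) 1334 = true := by decide +kernel

theorem fixed' : phi (wd U0) (1334 : Fin 2058) = 1334 := by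
  apply Fin.ext
  have h := Nat.eq_of_beq_eq_true chkG
  rw [← act_eq]
  exact h

theorem card_stab : Nat.card ↥(phi.range ⊓ fixer 0) = 1958400 := by
  have h1 := chain3 (phi.range ⊓ fixer 0) (fun w hw => prod_mem_stab hw)
  have h2 := _root_.Cfsg.Agent.FixBN.HeStab.card_stab_le
  rw [fix3_eq_bot, card_bot] at h1
  omega

/-- elements of order 7 have no fixed point -/
theorem no_fix {x : Cfsg.Spor.He} (hx : orderOf x = 7) (i : Fin 2058) : phi x i ≠ i := by
  intro hi
  obtain ⟨k, hk⟩ := walk_spec 17 i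
  have hk0 : phi k i = 0 := by
    apply Fin.ext
    rw [hk]
    exact Nat.eq_of_beq_eq_true (of_allBelow chkWalk i i.2)
  have h1 : phi (k * x * k⁻¹) 0 = 0 := by
    rw [← hk0, map_mul, map_mul, map_inv, Equiv.Perm.mul_apply, Equiv.Perm.mul_apply, inv_app, hi]
  have h2 : phi (k * x * k⁻¹) ∈ phi.range ⊓ fixer 0 := ⟨⟨_, rfl⟩, h1⟩
  have h3 : orderOf (phi (k * x * k⁻¹)) = 7 := by
    rw [orderOf_injective phi phi_injective, ← hx]
    exact MulEquiv.orderOf_eq (MulAut.conj k) x
  have h4 : orderOf (⟨phi (k * x * k⁻¹), h2⟩ : ↥(phi.range ⊓ fixer 0)) = 7 := by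
    rw [Subgroup.orderOf_mk, h3]
  have h5 := _root_.orderOf_dvd_natCard (⟨phi (k * x * k⁻¹), h2⟩ : ↥(phi.range ⊓ fixer 0))
  rw [h4, card_stab] at h5
  norm_num at h5

theorem not_seventeen {x : Cfsg.Spor.He} (hx : orderOf x = 7) :
    ¬ 17 ∣ Nat.card (centralizer ({x} : Set Cfsg.Spor.He)) := by
  intro h
  obtain ⟨u, hu⟩ := exists_prime_orderOf_dvd_card' 17 h
  have hu' : orderOf (u : Cfsg.Spor.He) = 17 := by rw [Subgroup.orderOf_coe, hu]
  have hux := mem_centralizer_singleton_iff.1 u.2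
  obtain ⟨g, hg⟩ := CpAutON.Gen.conj_into (p := 17) (by rw [card_he]; norm_num) hu' orderOf_u0
  have h1 : zpowers (g * (u : Cfsg.Spor.He) * g⁻¹) = zpowers (wd U0) := by
    apply Subgroup.eq_of_le_of_card_ge
    · rwa [zpowers_le]
    · rw [Nat.card_zpowers, Nat.card_zpowers, orderOf_u0]
      have h2 : orderOf (g * (u : Cfsg.Spor.He) * g⁻¹) = 17 := by
        rw [← hu']; exact MulEquiv.orderOf_eq (MulAut.conj g) _
      rw [h2]
  have h2 : wd U0 ∈ centralizer ({g * x * g⁻¹} : Set Cfsg.Spor.He) := by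
    have h3 : zpowers (g * (u : Cfsg.Spor.He) * g⁻¹) ≤ centralizer ({g * x * g⁻¹} : Set Cfsg.Spor.He) := by
      rw [zpowers_le, mem_centralizer_singleton_iff]
      calc (g * (u : Cfsg.Spor.He) * g⁻¹) * (g * x * g⁻¹) = g * (u * x) * g⁻¹ := by group
        _ = g * (x * u) * g⁻¹ := by rw [hux]
        _ = (g * x * g⁻¹) * (g * (u : Cfsg.Spor.He) * g⁻¹) := by group
    rw [h1] at h3
    exact h3 (mem_zpowers _)
  have h3 : wd U0 * (g * x * g⁻¹) = (g * x * g⁻¹) * wd U0 := mem_centralizer_singleton_iff.1 h2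
  have h4 : phi (wd U0) (phi (g * x * g⁻¹) 1334) = phi (g * x * g⁻¹) 1334 := by
    rw [← Equiv.Perm.mul_apply, ← map_mul, h3, map_mul, Equiv.Perm.mul_apply, fixed']
  have h5 : phi (g * x * g⁻¹) (1334 : Fin 2058) = 1334 := Fin.ext (fixed h4)
  exact no_fix (x := g * x * g⁻¹) (by rw [← hx]; exact MulEquiv.orderOf_eq (MulAut.conj g) x) _ h5

theorem index_le {x : Cfsg.Spor.He} (hx : orderOf x = 7) :
    3250 ≤ (normalizer (zpowers x : Set Cfsg.Spor.He)).index := by
  have h0 : (normalizer (zpowers x : Set Cfsg.Spor.He)).index ≠ 0 := index_ne_zero_of_finite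
  by_cases ho : Odd (Nat.card ↥(centralizer ({x} : Set Cfsg.Spor.He)))
  · have h1 : 2 ^ 9 ∣ (normalizer (zpowers x : Set Cfsg.Spor.He)).index :=
      pow_dvd_index_of_odd (p := 7) hx (a := 9) (b := 1) Nat.prime_two (by rw [card_he]; norm_num) (by norm_num)
        (fun h => by
          rw [Nat.odd_iff] at ho
          omega)
    have h2 : 17 ^ 1 ∣ (normalizer (zpowers x : Set Cfsg.Spor.He)).index :=
      pow_dvd_index_of_odd (p := 7) hx (a := 1) (b := 0) (by norm_num) (by rw [card_he]; norm_num) (by norm_num)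
        (not_seventeen hx)
    have h3 : 2 ^ 9 * 17 ^ 1 ∣ (normalizer (zpowers x : Set Cfsg.Spor.He)).index :=
      Nat.Coprime.mul_dvd_of_dvd_of_dvd (by norm_num) h1 h2
    have h4 := Nat.le_of_dvd (Nat.pos_of_ne_zero h0) h3
    (clear * - h4; omega)
  · have h1 := CpAutHe.Seven.card_le hx ho
    have h2 := index_cent_le (p := 7) hx
    have h3 := (centralizer ({x} : Set Cfsg.Spor.He)).card_mul_index
    rw [card_he] at h3
    by_contra hlt
    push Not at hlt
    have h4 : Nat.card (centralizer ({x} : Set Cfsg.Spor.He)) * (centralizer ({x} : Set Cfsg.Spor.He)).index ≤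
        1176 * (3249 * 6) := Nat.mul_le_mul h1 (h2.trans (Nat.mul_le_mul_right _ (by omega)))
    omega

end Cfsg.Agent.H47.MeetS.Held

namespace Cfsg.Agent.H47.MeetS

open Cfsg Cfsg.Agent.H903.SylMeet

theorem meet7_He {G : Type*} [Group G] [Finite G] [IsSimpleGroup G] (h : Spor.IsoHe G) : Meet 7 G := by
  obtain ⟨e⟩ := h
  have hn : Nat.card Spor.He = 4030387200 := FixBN.HeStab.card_he
  have hsim : IsSimpleGroup Spor.He := CpAutHe.Seven.simple_he
  have hs1 : IsSporadicGroup Spor.He := by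
    have : Spor.IsoHe Spor.He := ⟨MulEquiv.refl _⟩
    unfold IsSporadicGroup; simp only [this, true_or, or_true]
  refine Meet.congr e.symm (meet_of_index (not_comm_spor hs1) (H498.SporOut.index_le_two hs1) (by norm_num) (k := 3)
    (s := 57) (n := 3250) (by rw [hn]; norm_num) (by norm_num) (fun y hy => Held.index_le hy) (by norm_num))

end Cfsg.Agent.H47.MeetS
end

-- part: H68/MeetTab
section
/-!
# Trivial intersections of Sylow subgroups of order `p ^ 3`: certificates by permutation tables (helper68)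
-/

set_option autoImplicit false

namespace Cfsg.Agent.H68.MeetTab

open Cfsg.Agent.SporadicA.PermTab Equiv Cfsg.Agent.H68.MeetB

section group

variable {G : Type*} [Group G]

theorem comm_pow {a b c : G} {m : ℕ} (hac : a * c = c * a) (hbc : b * c = c * b) (hba : b * a = a * b * c ^ m)
    (i j : ℕ) : b ^ j * a ^ i = a ^ i * b ^ j * c ^ (m * j * i) := by
  have hac' : ∀ k, c ^ k * a = a * c ^ k := fun k => ((show Commute a c from hac).pow_right k).eq.symm
  have hbc' : ∀ k, c ^ k * b = b * c ^ k := fun k => ((show Commute b c from hbc).pow_right k).eq.symm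
  have h1 : ∀ j : ℕ, b ^ j * a = a * b ^ j * c ^ (m * j) := by
    intro j
    induction j with
    | zero => simp
    | succ j ih =>
      calc b ^ (j + 1) * a = b ^ j * (b * a) := by rw [pow_succ, mul_assoc]
        _ = (b ^ j * a) * b * c ^ m := by rw [hba]; simp only [mul_assoc]
        _ = a * b ^ j * (c ^ (m * j) * b) * c ^ m := by rw [ih]; simp only [mul_assoc]
        _ = a * b ^ j * (b * c ^ (m * j)) * c ^ m := by rw [hbc']
        _ = a * b ^ (j + 1) * c ^ (m * (j + 1)) := by rw [pow_succ b, mul_add, pow_add, mul_one]; simp only [mul_assoc]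
  induction i with
  | zero => simp
  | succ i ih =>
    calc b ^ j * a ^ (i + 1) = (b ^ j * a ^ i) * a := by rw [pow_succ, mul_assoc]
      _ = a ^ i * b ^ j * (c ^ (m * j * i) * a) := by rw [ih]; simp only [mul_assoc]
      _ = a ^ i * (b ^ j * a) * c ^ (m * j * i) := by rw [hac']; simp only [mul_assoc]
      _ = a ^ (i + 1) * b ^ j * c ^ (m * j * (i + 1)) := by
        rw [h1, pow_succ a, mul_add, mul_one, Nat.add_comm (m * j * i), pow_add]
        simp only [mul_assoc]

/-- A group of order `p ^ 3` given by generators, meeting its conjugate by `x` trivially. -/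
theorem exists_sub {p : ℕ} (hp : p.Prime) {a b c x : G} {m : ℕ} (ha : a ^ p = 1) (hb : b ^ p = 1) (hc : c ^ p = 1)
    (hac : a * c = c * a) (hbc : b * c = c * b) (hba : b * a = a * b * c ^ m)
    (hx : ∀ i j k i' j' k' : ℕ, i < p → j < p → k < p → i' < p → j' < p → k' < p →
      x * (a ^ i * b ^ j * c ^ k) = (a ^ i' * b ^ j' * c ^ k') * x → i = 0 ∧ j = 0 ∧ k = 0) :
    ∃ P : Subgroup G, Nat.card P = p ^ 3 ∧ ∀ y ∈ P, x * y * x⁻¹ ∈ P → y = 1 := by
  have hp0 := hp.pos
  have hac' : ∀ k i, c ^ k * a ^ i = a ^ i * c ^ k :=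
    fun k i => ((show Commute a c from hac).pow_pow i k).eq.symm
  have hbc' : ∀ k i, c ^ k * b ^ i = b ^ i * c ^ k :=
    fun k i => ((show Commute b c from hbc).pow_pow i k).eq.symm
  have hmul : ∀ i j k i' j' k' : ℕ, (a ^ i * b ^ j * c ^ k) * (a ^ i' * b ^ j' * c ^ k') =
      a ^ (i + i') * b ^ (j + j') * c ^ (m * j * i' + k + k') := by
    intro i j k i' j' k'
    calc (a ^ i * b ^ j * c ^ k) * (a ^ i' * b ^ j' * c ^ k')
        = a ^ i * b ^ j * (c ^ k * a ^ i') * b ^ j' * c ^ k' := by simp only [mul_assoc]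
      _ = a ^ i * (b ^ j * a ^ i') * (c ^ k * b ^ j') * c ^ k' := by rw [hac']; simp only [mul_assoc]
      _ = a ^ i * a ^ i' * b ^ j * (c ^ (m * j * i') * b ^ j') * c ^ k * c ^ k' := by
        rw [comm_pow hac hbc hba, hbc' k]; simp only [mul_assoc]
      _ = a ^ (i + i') * b ^ (j + j') * c ^ (m * j * i' + k + k') := by
        rw [hbc', pow_add a, pow_add b, pow_add c, pow_add c]; simp only [mul_assoc]
  have hinv : ∀ (g : G), g ^ p = 1 → ∀ k, (g ^ k)⁻¹ = g ^ ((p - 1) * k) := by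
    intro g hg k
    rw [inv_eq_iff_mul_eq_one, ← pow_add]
    have : k + (p - 1) * k = p * k := by
      obtain ⟨q, rfl⟩ : ∃ q, p = q + 1 := ⟨p - 1, by omega⟩
      rw [Nat.add_sub_cancel]; ring
    rw [this, pow_mul, hg, one_pow]
  let P : Subgroup G :=
    { carrier := {g | ∃ i j k : ℕ, g = a ^ i * b ^ j * c ^ k}
      mul_mem' := by
        rintro _ _ ⟨i, j, k, rfl⟩ ⟨i', j', k', rfl⟩
        exact ⟨_, _, _, hmul i j k i' j' k'⟩
      one_mem' := ⟨0, 0, 0, by simp⟩
      inv_mem' := by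
        rintro _ ⟨i, j, k, rfl⟩
        refine ⟨(p - 1) * i, (p - 1) * j, m * ((p - 1) * j) * ((p - 1) * i) + (p - 1) * k, ?_⟩
        rw [mul_inv_rev, mul_inv_rev, hinv a ha, hinv b hb, hinv c hc, comm_pow hac hbc hba]
        rw [← mul_assoc, ← mul_assoc, hac', mul_assoc (a ^ ((p - 1) * i)), hbc', pow_add]
        simp only [mul_assoc]
        rw [← pow_add, ← pow_add, Nat.add_comm] }
  have hmem : ∀ g, g ∈ P ↔ ∃ i j k : ℕ, g = a ^ i * b ^ j * c ^ k := fun g => Iff.rfl
  have hred : ∀ g ∈ P, ∃ i j k : ℕ, i < p ∧ j < p ∧ k < p ∧ g = a ^ i * b ^ j * c ^ k := by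
    rintro g ⟨i, j, k, rfl⟩
    exact ⟨i % p, j % p, k % p, Nat.mod_lt _ hp0, Nat.mod_lt _ hp0, Nat.mod_lt _ hp0, by
      rw [← pow_eq_pow_mod i ha, ← pow_eq_pow_mod j hb, ← pow_eq_pow_mod k hc]⟩
  have hone : ∀ i j k : ℕ, i < p → j < p → k < p → a ^ i * b ^ j * c ^ k = 1 → i = 0 ∧ j = 0 ∧ k = 0 := by
    intro i j k hi hj hk h
    exact hx i j k 0 0 0 hi hj hk hp0 hp0 hp0 (by rw [h]; simp)
  have hz : ∀ i i' : ℕ, i < p → i' < p → (p - i' + i) % p = 0 → i = i' := by
    intro i i' hi hi' h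
    have h1 : p ∣ p - i' + i := Nat.dvd_of_mod_eq_zero h
    obtain ⟨q, hq⟩ := h1
    have hq1 : q = 1 := by
      rcases Nat.lt_trichotomy q 1 with h2 | h2 | h2
      · have : q = 0 := by omega
        rw [this, mul_zero] at hq
        omega
      · exact h2
      · have h3 : p * 2 ≤ p * q := Nat.mul_le_mul_left p h2
        omega
    rw [hq1, mul_one] at hq
    omega
  have hinj : ∀ i j k i' j' k' : ℕ, i < p → j < p → k < p → i' < p → j' < p → k' < p →
      a ^ i * b ^ j * c ^ k = a ^ i' * b ^ j' * c ^ k' → i = i' ∧ j = j' ∧ k = k' := by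
    intro i j k i' j' k' hi hj hk hi' hj' hk' h
    have h1 : a ^ (p - i' + i) * b ^ (p - j' + j) * c ^ (p - k' + k) = 1 := by
      calc a ^ (p - i' + i) * b ^ (p - j' + j) * c ^ (p - k' + k)
          = a ^ (p - i') * (a ^ i * b ^ j * (b ^ (p - j') * c ^ k)) * c ^ (p - k') := by
            rw [pow_add, Nat.add_comm (p - j'), Nat.add_comm (p - k'), pow_add b, pow_add c]
            simp only [mul_assoc]
        _ = a ^ (p - i') * (a ^ i * b ^ j * c ^ k) * b ^ (p - j') * c ^ (p - k') := by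
            rw [← hbc']; simp only [mul_assoc]
        _ = (a ^ (p - i') * a ^ i') * b ^ j' * (c ^ k' * b ^ (p - j')) * c ^ (p - k') := by
            rw [h]; simp only [mul_assoc]
        _ = (a ^ (p - i') * a ^ i') * (b ^ j' * b ^ (p - j')) * (c ^ k' * c ^ (p - k')) := by
            rw [hbc']; simp only [mul_assoc]
        _ = 1 := by
            rw [← pow_add, ← pow_add, ← pow_add, Nat.sub_add_cancel hi'.le, Nat.add_sub_cancel' hj'.le,
              Nat.add_sub_cancel' hk'.le, ha, hb, hc]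
            simp
    rw [pow_eq_pow_mod _ ha, pow_eq_pow_mod _ hb, pow_eq_pow_mod _ hc] at h1
    obtain ⟨h2, h3, h4⟩ := hone _ _ _ (Nat.mod_lt _ hp0) (Nat.mod_lt _ hp0) (Nat.mod_lt _ hp0) h1
    exact ⟨hz _ _ hi hi' h2, hz _ _ hj hj' h3, hz _ _ hk hk' h4⟩
  refine ⟨P, ?_, ?_⟩
  · let f : Fin p × Fin p × Fin p → P := fun t => ⟨a ^ (t.1 : ℕ) * b ^ (t.2.1 : ℕ) * c ^ (t.2.2 : ℕ), _, _, _, rfl⟩
    have hf : Function.Bijective f := by
      constructor
      · rintro ⟨i, j, k⟩ ⟨i', j', k'⟩ h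
        obtain ⟨h1, h2, h3⟩ := hinj _ _ _ _ _ _ i.2 j.2 k.2 i'.2 j'.2 k'.2 (congrArg Subtype.val h)
        rw [Fin.ext h1, Fin.ext h2, Fin.ext h3]
      · rintro ⟨g, hg⟩
        obtain ⟨i, j, k, hi, hj, hk, h⟩ := hred g hg
        exact ⟨(⟨i, hi⟩, ⟨j, hj⟩, ⟨k, hk⟩), Subtype.ext h.symm⟩
    rw [← Nat.card_congr (Equiv.ofBijective f hf), Nat.card_prod, Nat.card_prod, Nat.card_eq_fintype_card,
      Fintype.card_fin]
    ring
  · intro y hy hxy
    obtain ⟨i, j, k, hi, hj, hk, h⟩ := hred y hy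
    obtain ⟨i', j', k', hi', hj', hk', h'⟩ := hred _ hxy
    obtain ⟨h1, h2, h3⟩ := hx i j k i' j' k' hi hj hk hi' hj' hk' (by rw [← h, ← h']; group)
    rw [h, h1, h2, h3]
    simp

end group

noncomputable section

/-- `i`-th iterate of the table `T` -/
def it (T i p : ℕ) : ℕ := Nat.rec p (fun _ r => lk T r) i

/-- the relations of `a, b, c` -/
def chkRel (n p A B C m : ℕ) : Bool :=
  allB (fun i => band (Nat.beq (it A p i) i) (band (Nat.beq (it B p i) i) (band (Nat.beq (it C p i) i)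
    (band (Nat.beq (lk A (lk C i)) (lk C (lk A i))) (band (Nat.beq (lk B (lk C i)) (lk C (lk B i)))
      (Nat.beq (lk B (lk A i)) (lk A (lk B (it C m i))))))))) n

/-- hash of the images of three points -/
def hsh (n md p1 p2 p3 : ℕ) (f : ℕ → ℕ) : ℕ :=
  Nat.mod (Nat.add (f p1) (Nat.mul n (Nat.add (f p2) (Nat.mul n (f p3))))) md

def bit (M v : ℕ) : Bool := Nat.beq (Nat.land (Nat.shiftRight M v) 1) 1

/-- image of `q` under `a ^ i b ^ j c ^ k` -/
def ev3 (A B C i j k q : ℕ) : ℕ := it A i (it B j (it C k q))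

/-- The hashes of `E x` are in `M`. -/
def chkV (n p A B C X md p1 p2 p3 M : ℕ) : Bool :=
  allB (fun i => allB (fun j => allB (fun k => bit M (hsh n md p1 p2 p3 (fun q => ev3 A B C i j k (lk X q)))) p) p) p

/-- The hashes of `x E`, `E ≠ 1`, are not in `M`. -/
def chkU (n p A B C X md p1 p2 p3 M : ℕ) : Bool :=
  allB (fun i => allB (fun j => allB (fun k => cond (bit M (hsh n md p1 p2 p3 (fun q => lk X (ev3 A B C i j k q))))
    (Nat.beq (Nat.add i (Nat.add j k)) 0) true) p) p) p

theorem coe_it {n : ℕ} {T : ℕ} {t : Perm (Fin n)} (h : ∀ i : Fin n, (t i : ℕ) = lk T i) (k : ℕ) (i : Fin n) :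
    ((t ^ k) i : ℕ) = it T k i := by
  induction k with
  | zero => rfl
  | succ k ih => rw [pow_succ', Perm.mul_apply, h, ih]; rfl

theorem meetIn_of_tab {n p : ℕ} [Fact p.Prime] {Q : Subgroup (Perm (Fin n))} (A B C X m md p1 p2 p3 M : ℕ)
    (hA : InG Q A) (hB : InG Q B) (hC : InG Q C) (hX : InG Q X)
    (hp : band (Nat.blt p1 n) (band (Nat.blt p2 n) (Nat.blt p3 n)) = true)
    (h1 : chkRel n p A B C m = true) (hV : chkV n p A B C X md p1 p2 p3 M = true)
    (hU : chkU n p A B C X md p1 p2 p3 M = true) (hcard : ¬ p ^ 4 ∣ Nat.card Q) : MeetIn p Q := by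
  have hpp : p.Prime := Fact.out
  obtain ⟨a, haQ, ha⟩ := hA
  obtain ⟨b, hbQ, hb⟩ := hB
  obtain ⟨c, hcQ, hc⟩ := hC
  obtain ⟨x, hxQ, hx⟩ := hX
  rw [band_eq_true, band_eq_true, Nat.blt_eq, Nat.blt_eq, Nat.blt_eq] at hp
  have hr := fun i : Fin n => (allB_iff _ _).1 h1 i i.2
  simp only [band_eq_true, Nat.beq_eq] at hr
  have hev : ∀ (i j k : ℕ) (q : Fin n), ((a ^ i * b ^ j * c ^ k) q : ℕ) = ev3 A B C i j k q := by
    intro i j k q
    rw [Perm.mul_apply, Perm.mul_apply, coe_it ha, coe_it hb, coe_it hc]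
    rfl
  obtain ⟨P, hP, hPx⟩ := exists_sub (G := Q) hpp (a := ⟨a, haQ⟩) (b := ⟨b, hbQ⟩) (c := ⟨c, hcQ⟩) (x := ⟨x, hxQ⟩)
    (m := m)
    (Subtype.ext (Equiv.ext fun i => Fin.ext (by
      change ((a ^ p) i : ℕ) = i
      rw [coe_it ha]; exact (hr i).1)))
    (Subtype.ext (Equiv.ext fun i => Fin.ext (by
      change ((b ^ p) i : ℕ) = i
      rw [coe_it hb]; exact (hr i).2.1)))
    (Subtype.ext (Equiv.ext fun i => Fin.ext (by
      change ((c ^ p) i : ℕ) = i
      rw [coe_it hc]; exact (hr i).2.2.1)))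
    (Subtype.ext (Equiv.ext fun i => Fin.ext (by
      change ((a * c) i : ℕ) = (c * a) i
      rw [Perm.mul_apply, Perm.mul_apply, ha, hc, hc, ha]; exact (hr i).2.2.2.1)))
    (Subtype.ext (Equiv.ext fun i => Fin.ext (by
      change ((b * c) i : ℕ) = (c * b) i
      rw [Perm.mul_apply, Perm.mul_apply, hb, hc, hc, hb]; exact (hr i).2.2.2.2.1)))
    (Subtype.ext (Equiv.ext fun i => Fin.ext (by
      change ((b * a) i : ℕ) = (a * b * c ^ m) i
      rw [Perm.mul_apply, Perm.mul_apply, Perm.mul_apply, hb, ha, ha, hb, coe_it hc]; exact (hr i).2.2.2.2.2)))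
    (by
      intro i j k i' j' k' hi hj hk hi' hj' hk' h
      have h2 : ∀ q : ℕ, q < n → lk X (ev3 A B C i j k q) = ev3 A B C i' j' k' (lk X q) := by
        intro q hq
        have h3 : x * (a ^ i * b ^ j * c ^ k) = (a ^ i' * b ^ j' * c ^ k') * x := congrArg Subtype.val h
        have h4 : ((x * (a ^ i * b ^ j * c ^ k)) ⟨q, hq⟩ : ℕ) = ((a ^ i' * b ^ j' * c ^ k') * x) ⟨q, hq⟩ := by rw [h3]
        rw [Perm.mul_apply, hx, hev, Perm.mul_apply _ x, hev, hx] at h4
        exact h4
      have h5 := (allB_iff _ _).1 ((allB_iff _ _).1 ((allB_iff _ _).1 hV i' hi') j' hj') k' hk'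
      have h6 := (allB_iff _ _).1 ((allB_iff _ _).1 ((allB_iff _ _).1 hU i hi) j hj) k hk
      have h7 : hsh n md p1 p2 p3 (fun q => lk X (ev3 A B C i j k q)) =
          hsh n md p1 p2 p3 (fun q => ev3 A B C i' j' k' (lk X q)) := by
        unfold hsh
        simp only [h2 p1 hp.1, h2 p2 hp.2.1, h2 p3 hp.2.2]
      rw [h7, h5] at h6
      have h8 : i + (j + k) = 0 := Nat.eq_of_beq_eq_true h6
      omega)
  have : Finite Q := inferInstance
  refine MeetIn.of_one P (IsPGroup.of_card hP) ?_ ⟨⟨x, hxQ⟩, hPx⟩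
  rintro ⟨q, hq⟩
  apply hcard
  rw [← P.card_mul_index, hP, hq]
  exact ⟨q, by ring⟩

end

end Cfsg.Agent.H68.MeetTab
end

-- part: H68/MeetHS
section
/-!
# Sylow 5-subgroups of the Higman–Sims group: trivial intersections (helper68)
-/

set_option autoImplicit false

namespace Cfsg.Agent.H68.MeetHS

open Cfsg.Agent.SporadicA.PermTab Cfsg.Agent.HN.HS100 Cfsg.Agent.HN Equiv Cfsg.Agent.H68.MeetB
  Cfsg.Agent.H68.MeetTab Cfsg.Agent.H903.SylMeet

noncomputable section

def hA : ℕ := 0x60501085f092074020150a4158058200b8130098160300900602703805c2580a06c1081a03d036000190370c6114048300c00682182904a0bc1a82a0660ec0803f0a20a01181f00c1400105a09c1001584a08e0142685507c164078460701500883a05c0380402d078174310570b60e4130070820c4298440320b03082202413c2f01e0900342c001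
def hB : ℕ := 0x7615c2c0070341282b0430101301b8410ba0580f82502e0cc1d0420261241b03d0b803c1a05a04e0742f05b00606c2383801a0480f002008030188510160b030029088080158550380041a81407c13c080320c2044318060a60642282e0441200485904c0381802d0781882580a0480e42804e0420fc2f84005e134028520300a80005402a08c14046
def hC : ℕ := 0x280100e80d0a6108128160a210c030090a818c1b83607c030180200a401c2d0030ac06c0c05c000084280380c40b8028220041380a8390141541a0190541301f82d08009c148590261600703d0200201a84708c0a0160440560bc0886101612c2282400205c0e01a0240ec2e81e0661241906004c0f01181f09e1202f03a0be16c2504d0ae0c42080f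
def hM : ℕ := 0x2000e0000200000000000000000200000000024001000010000000200200021001000800200241000200000000000010004010800000000002000000800000100000000000000002000020000008000000200000000000040000000402002000004100000000000024000028000010020020002000000000000000200800000000000000000040000000000000000080020000000002000000000040004000000000000000040000000200000800080040000000000000000000000000000000000000800000400200000000088400004000004000000002400000000208000000000040000100000000090240a00000000006880000000080040000000000000000822002004000053000001400000000802100012010400021000208000000000000000202018400000020000000000000020000001000000000100000000000011000000002000000010100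

theorem in_hA : InG Q hA := word_of (L := [tX, tY, tY, tY, tY, tY, tW, tW, tW, tW, tW, tX, tY, tY, tY, tY, tY, tW, tW, tW, tX, tW, tW, tX, tW, tW, tW, tW, tW, tY, tX, tW, tY, tX])
  (mem3 inX inY inW) (by simp only [_root_.List.cons_subset, _root_.List.mem_cons, _root_.List.not_mem_nil, _root_.or_false, _root_.true_or, _root_.or_true, _root_.List.nil_subset, _root_.List.subset_cons_of_subset, _root_.and_self]) (by decide +kernel)
theorem in_hB : InG Q hB := word_of (L := [tW, tW, tW, tW, tW, tX, tW, tW, tW, tW, tW, tX, tW, tW, tW, tW, tW, tY, tY, tY, tY, tW, tW, tW, tW, tW, tY, tY, tY, tY, tY, tX, tW, tW, tX, tW, tW, tY, tW, tY, tY, tW, tX, tW, tX, tW])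
  (mem3 inX inY inW) (by simp) (by decide +kernel)
theorem in_hC : InG Q hC := word_of (L := [tY, tW, tX, tW, tW, tY, tW, tX, tW, tW, tY, tW, tX, tW, tW, tY, tW, tX, tW, tW])
  (mem3 inX inY inW) (by simp) (by decide +kernel)

theorem meetIn_Q : MeetIn 5 Q :=
  have : Fact (Nat.Prime 5) := ⟨by norm_num⟩
  meetIn_of_tab hA hB hC tX 3 2662 3 50 99 hM in_hA in_hB in_hC inX
    (by decide +kernel) (by decide +kernel) (by decide +kernel) (by decide +kernel)
    (by rw [AutBound.card_Q]; norm_num)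


theorem meetIn_HS {G : Type*} [Group G] (h : Cfsg.Spor.IsoHS G) : MeetIn 5 G := by
  obtain ⟨e⟩ := h
  obtain ⟨f⟩ := AutHS.nonempty_Q.1
  exact meetIn_Q.congr (f.trans e.symm)

theorem meet5_HS {G : Type*} [Group G] [Finite G] [IsSimpleGroup G] (h : Cfsg.Spor.IsoHS G) : Meet 5 G := by
  have : Fact (Nat.Prime 5) := ⟨by norm_num⟩
  refine MeetIn.meet (Cfsg.Agent.BpSpor.Inn.hs h 5 (by norm_num) (by norm_num)) ?_ (meetIn_HS h)
  obtain ⟨e⟩ := h
  obtain ⟨f⟩ := AutHS.nonempty_Q.1
  apply not_comm_of_card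
  rw [Nat.card_congr (e.trans f.symm).toEquiv, AutBound.card_Q]
  norm_num

end

end Cfsg.Agent.H68.MeetHS
end

-- part: H68/MeetMcL
section
/-!
# Sylow 5-subgroups of the McLaughlin group: trivial intersections (helper68)
-/

set_option autoImplicit false

namespace Cfsg.Agent.H68.MeetMcL

open Cfsg.Agent.SporadicA.PermTab Cfsg.Agent.SporadicStructure.PermChain Cfsg.Agent.McLType.Chain
  Cfsg.Agent.McLType.X275 Cfsg.Agent.McLType.Gens Cfsg.Agent.McLType.Model Cfsg.Agent.McLType.ThreeElts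
  Cfsg.Agent.H68.MeetB Cfsg.Agent.H68.MeetTab Cfsg.Agent.H903.SylMeet

noncomputable section

theorem inG_word (w : List (Fin 7)) (T : ℕ)
    (h : allB (fun i => Nat.beq (evalWord 9 tabs (w.map (fun k => (k : ℕ))) i) (lk T i)) 275 = true) : InG K0 T :=
  ⟨(w.map σ).prod, word_mem_K0 w, fun i => by
    rw [evalWord_σ]
    exact Nat.eq_of_beq_eq_true ((allB_iff _ _).1 h i i.2)⟩

def mA : ℕ := 0x3f4840751484284f8f11ac1c4848f00f214c6801d220330390911d02942c8860ce2ec468ff1ca43c8585b20c248450621844004185620a3702e8c40901e85589b0ee2800b0081783786c86d21a1a4820f416c17c5784e0e644469866202388708610a21b83e8a62243b42808b1804304a90e1a24085e8851303e45488719e15c570fe13a41c5906f01a3d8648b8084154550e01943ec278b505c3ac2907c0360041281e13c2003f0e30121e03f8cb1a80d8148db12e2840389a1f03bc1e04618a264360f51ce3740a8890041702a0701aa29c340581f4110030df06e038618ce102398150740d60b0108b1080288498a31dc3482081f1082586b8fc04409c1983a1d2080228350141a8130ac01e08c2606411040c598c61e41805c80311e0445f0c81600f42d08c062178668ec17e05c5687618e040540ba1821346c08e1d40ac3183801804c0a09c0ca0b419028096048410341200e43d84308e0681f8491280147b8da1682dc0c83e1c80100c03b060128120f30380bc05800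
def mB : ℕ := 0xc48887a0660b86d8341061e0770be06a3804007b0ca1e43605d0f83ac178e506c3b42402c0fc1285d8c81e219c6002b06e2d8190280cc188390f60ee3905c8dd10831c778731bc18c878611e81a4598f219e3e47e8d10bc1f4320ec17840c370c91fc1d87502d1840c0260491f03145c04b0c00a8148bd17438c7b8e80e82dc378cb1602c86e07f19a3cc8101d022014218010a006c1e01604a04c0a81a08e07c020551160981201003c284018561361682b8270120e40380f03202c4d01408c23c000f50be1c0650d00e23f0588810ea2fc780ce1f43fc8610910437c6c9061a84383686b200440858cc1f62d0850b51d21a06906a1b4354808aa018088118a401c13c2e05412a14c4a03a0402b0290e215c304708c602e034548880840602083d0102981f0380382742708c188360841041cc39c618d61a62bc8691215a41c6b90513e2880308608816c4c0511402ac47058080008050451200ec4505911225c0908d14a2141f89212c24c4c8870422a04e0a709a27851891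
def mC : ℕ := 0x1bc3681601a1cc338021da0dc5e82a2101642b01f1c21e439063146340408110b601c2f86403c2bc630361fa1681782b12a0a4108511d83242b82e020020090871f22cc2982310a0002307d1f61dc300920ba20c3e10c0ec3701a020202124830681002a0660d81601a43884d1a21fc370d303841c3586c0603584b90e19e35c3d9050d4444691100e0354810c000a0600484e0623d03301903a0e07b09d080140160a918a294728ba0b83a07309a18409c770a60fc2b8420fe098304078962143dc3a0480642200304f0f42ac308251400ec780c411a0040d0bc0880385f8140ea3802a0df1bc2907d0620440a0779041223a8588581ce3fc7484202e27c0a88b16c0982184106643c448c31443c46e8d90bc334290da07a1e04780b1320905902d20636c868b41263e0798cb0060305f09e07e2606a10b194208790b515a0d4800940360f0470b911411c5d8130742a82589b1900107108607c028250a11181544e0e31d62dc6709017031c7e0651ea0e4229121c829c56109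
def mX : ℕ := 0x448879092224308690e2084208810a20e4187f90b2063f88010120a4087e8fa1883f0628f618e3e0730bb1c82e4740f01de3b8600be1bc2dc6f8f11863d4610f31c438c5c0bc1d23ac6e8b61522385509015827c4489e114288458a413429c460a5136280508c61ee3207c8fb1ce3945d0ed17e3b05e8e01e8304790e11d4370558a811e2745188811a2984e0d716a3646d8b419c2b8660d0162348648ca1ac350590ad19633c4c09910e24c4289412c218488d8166368578cd1a234c6a8b012e2484a8840cc208340800c21dc3c07a0c61f03907d0fc1943a8740c41e42c85c0a0154278570a8160270810ce20c3b0600f61cc3f8640b61682b0700be1783886a0d81743706b0a61442906f0da1a42684109611c218420940f02283a092120260400760f81e84607e1101c03906606c1301306e0c8188180340580b827032054128140580d41480b0460180500e01e0040e80406c0bc1583005a0b8150280680300880503e080038120480840400901a0880801c0060080f000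
def mM : ℕ := 0x810005000004012002000012000004420000000020000810000000400410000000040202000000008520010080000000008010000001101000210000000800020e00120400000088000000000a0010000020000002000000068024800000000100080100001000400001000002000050010000400820010400128440404200000010000008000042004003022000000002000440002840000000000040080022510000000000000000000041200040000000100000940000010000200000400001024800

theorem in_mA : InG K0 mA := inG_word [6, 0, 5, 6, 5, 0, 2, 5, 3, 6, 2, 1, 3, 5] _ (by decide +kernel)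
theorem in_mB : InG K0 mB := inG_word [6, 1, 0, 6, 5, 6, 3, 5, 0, 2, 4, 1, 3, 2] _ (by decide +kernel)
theorem in_mC : InG K0 mC := inG_word [1, 6, 3, 2, 6, 5, 6, 3, 0, 5, 4, 3, 4, 6, 2, 3, 1, 6, 5, 4, 3, 2, 4] _ (by decide +kernel)
theorem in_mX : InG K0 mX := inG_word [0] _ (by decide +kernel)

/-- `G1 ≃* K0` -/
noncomputable def eK : G1 ≃* K0 :=
  (MonoidHom.ofInjective ψ_injective).trans
    (MulEquiv.subgroupCongr (by rw [← map_top, MonoidHom.range_eq_map]))

theorem card_K0 : Nat.card K0 = 898128000 := by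
  rw [← Nat.card_congr eK.toEquiv, card_G1]

theorem meetIn_K0 : MeetIn 5 K0 :=
  have : Fact (Nat.Prime 5) := ⟨by norm_num⟩
  meetIn_of_tab mA mB mC mX 3 1595 173 160 184 mM in_mA in_mB in_mC in_mX
    (by decide +kernel) (by decide +kernel) (by decide +kernel) (by decide +kernel)
    (by rw [card_K0]; norm_num)

theorem meetIn_McL {G : Type*} [Group G] (h : Cfsg.Spor.IsoMcL G) : MeetIn 5 G := by
  obtain ⟨e⟩ := h
  obtain ⟨f⟩ := isoMcL_G1
  exact meetIn_K0.congr ((eK.symm.trans f).trans e.symm)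

theorem meet5_McL {G : Type*} [Group G] [Finite G] [IsSimpleGroup G] (h : Cfsg.Spor.IsoMcL G) : Meet 5 G := by
  have : Fact (Nat.Prime 5) := ⟨by norm_num⟩
  refine MeetIn.meet ?_ ?_ (meetIn_McL h)
  · intro α hα
    obtain ⟨-, -, hcard, ⟨L⟩⟩ := Cfsg.Agent.TypeM.FactsMcL.facts h
    obtain ⟨g, hg⟩ := Cfsg.Agent.UGT.End.McLOuter.inner_of_odd L hcard α (by rw [hα]; decide)
    exact ⟨g, hg.symm⟩
  obtain ⟨e⟩ := h
  obtain ⟨f⟩ := isoMcL_G1
  apply not_comm_of_card
  rw [Nat.card_congr (e.trans f.symm).toEquiv, card_G1]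
  norm_num

end

end Cfsg.Agent.H68.MeetMcL
end

-- part: H68/MeetRu
section
/-!
# Sylow 5-subgroups of the Rudvalis group: trivial intersections (helper68)
-/

set_option autoImplicit false

namespace Cfsg.Agent.H68.MeetRu

open Subgroup Cfsg Cfsg.Agent.H68.MeetB Cfsg.Agent.H903.SylMeet Cfsg.Agent.SporadicB

theorem card_H : Nat.card RuOrder.H = 145926144000 := by
  rw [← Nat.card_congr RuLat.Main.equiv.toEquiv, Cfsg.Agent.S1627.result.2.1]

theorem meetIn_H : MeetIn 5 RuOrder.H := by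
  have : Fact (Nat.Prime 5) := ⟨by norm_num⟩
  have := Cfsg.Agent.CpAutRuFive.finite_H
  refine MeetIn.of_centralizer (n := 3) (b := 8906625) (by rw [card_H]; norm_num) (fun y hy => ?_)
    (by rw [card_H]; norm_num)
  rcases Cfsg.Agent.CpAutRuFive.card_cases hy with h | h
  · apply Nat.le_of_dvd (by norm_num)
    have h1 : Nat.card ↥(centralizer ({y} : Set RuOrder.H)) ∣ 2 ^ 14 * 8906625 := by
      have h2 := card_subgroup_dvd_card (centralizer ({y} : Set RuOrder.H))
      rw [card_H] at h2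
      exact h2
    exact (Nat.Coprime.pow_right 14 h.coprime_two_right).dvd_of_dvd_mul_left h1
  · exact h.trans (by norm_num)

theorem meetIn_Ru {G : Type*} [Group G] (h : Spor.IsoRu G) : MeetIn 5 G := by
  obtain ⟨e⟩ := h
  exact meetIn_H.congr (e.trans RuLat.Main.equiv).symm

theorem meet5_Ru {G : Type*} [Group G] [Finite G] [IsSimpleGroup G] (h : Spor.IsoRu G) : Meet 5 G := by
  have : Fact (Nat.Prime 5) := ⟨by norm_num⟩
  refine MeetIn.meet ?_ ?_ (meetIn_Ru h)
  · obtain ⟨e⟩ := h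
    exact (show Cfsg.Agent.CpAut.AutInner 5 RuOrder.H from
      fun x _ => Cfsg.Agent.OddHalf.Table.OutRu.inner x).congr (e.trans RuLat.Main.equiv).symm
  · obtain ⟨e⟩ := h
    apply not_comm_of_card
    rw [Nat.card_congr (e.trans RuLat.Main.equiv).toEquiv, card_H]
    norm_num

end Cfsg.Agent.H68.MeetRu
end

-- part: H903/SylSpor
section
set_option autoImplicit false

namespace Cfsg.Agent.H903.SylSpor

open Cfsg Cfsg.Agent.H903.SylMeet Cfsg.Agent.NotCT

theorem mem_of_dvd {p : ℕ} (hp : p.Prime) (L : List (ℕ × ℕ)) (hL : ∀ x ∈ L, x.1.Prime)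
    (h : p ∣ (L.map fun x => x.1 ^ x.2).prod) : ∃ x ∈ L, p = x.1 := by
  induction L with
  | nil => exact absurd (by simpa using h) hp.one_lt.ne'
  | cons a L ih =>
    rw [List.map_cons, List.prod_cons, hp.dvd_mul] at h
    rcases h with h | h
    · refine ⟨a, List.mem_cons_self, ?_⟩
      exact (Nat.prime_dvd_prime_iff_eq hp (hL a List.mem_cons_self)).1 (hp.dvd_of_dvd_pow h)
    · obtain ⟨x, hx, he⟩ := ih (fun x hx => hL x (List.mem_cons_of_mem _ hx)) h
      exact ⟨x, List.mem_cons_of_mem _ hx, he⟩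

theorem cube {p N : ℕ} (hp : p.Prime) (h5 : 5 ≤ p) (L : List (ℕ × ℕ)) (S : List ℕ)
    (hN : (L.map fun x => x.1 ^ x.2).prod = N) (hL : ∀ x ∈ L, x.1.Prime)
    (hS : ∀ x ∈ L, x.1 < 5 ∨ x.1 ∈ S ∨ N % x.1 ^ 3 ≠ 0) (h : p ^ 3 ∣ N) : p ∈ S := by
  obtain ⟨x, hx, rfl⟩ := mem_of_dvd hp L hL (hN ▸ (dvd_pow_self p (by norm_num)).trans h)
  rcases hS x hx with h1 | h1 | h1
  · omega
  · exact h1
  · exact absurd (Nat.mod_eq_zero_of_dvd h) h1

variable {G : Type*} [Group G] [Finite G] [IsSimpleGroup G] {p : ℕ} [Fact p.Prime]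

theorem cube_m11 (h : Spor.IsoM11 G) (hp : 5 ≤ p) (hc : p ^ 3 ∣ Nat.card G) : p ∈ ([] : List ℕ) := by
  rw [Orders.m11 h] at hc
  refine cube (Fact.out : p.Prime) hp [(2, 4), (3, 2), (5, 1), (11, 1)] [] (by norm_num) ?_ (by decide) hc
  simp only [List.forall_mem_cons, List.not_mem_nil, false_imp_iff, implies_true, and_true]
  norm_num

theorem cube_m12 (h : Spor.IsoM12 G) (hp : 5 ≤ p) (hc : p ^ 3 ∣ Nat.card G) : p ∈ ([] : List ℕ) := by
  rw [Orders.m12 h] at hc
  refine cube (Fact.out : p.Prime) hp [(2, 6), (3, 3), (5, 1), (11, 1)] [] (by norm_num) ?_ (by decide) hc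
  simp only [List.forall_mem_cons, List.not_mem_nil, false_imp_iff, implies_true, and_true]
  norm_num

theorem cube_m22 (h : Spor.IsoM22 G) (hp : 5 ≤ p) (hc : p ^ 3 ∣ Nat.card G) : p ∈ ([] : List ℕ) := by
  rw [Orders.m22 h] at hc
  refine cube (Fact.out : p.Prime) hp [(2, 7), (3, 2), (5, 1), (7, 1), (11, 1)] [] (by norm_num) ?_ (by decide) hc
  simp only [List.forall_mem_cons, List.not_mem_nil, false_imp_iff, implies_true, and_true]
  norm_num

theorem cube_m23 (h : Spor.IsoM23 G) (hp : 5 ≤ p) (hc : p ^ 3 ∣ Nat.card G) : p ∈ ([] : List ℕ) := by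
  rw [Orders.m23 h] at hc
  refine cube (Fact.out : p.Prime) hp [(2, 7), (3, 2), (5, 1), (7, 1), (11, 1), (23, 1)] [] (by norm_num) ?_ (by decide) hc
  simp only [List.forall_mem_cons, List.not_mem_nil, false_imp_iff, implies_true, and_true]
  norm_num

theorem cube_m24 (h : Spor.IsoM24 G) (hp : 5 ≤ p) (hc : p ^ 3 ∣ Nat.card G) : p ∈ ([] : List ℕ) := by
  rw [Orders.m24 h] at hc
  refine cube (Fact.out : p.Prime) hp [(2, 10), (3, 3), (5, 1), (7, 1), (11, 1), (23, 1)] [] (by norm_num) ?_ (by decide) hc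
  simp only [List.forall_mem_cons, List.not_mem_nil, false_imp_iff, implies_true, and_true]
  norm_num

theorem cube_j1 (h : Spor.IsoJ1 G) (hp : 5 ≤ p) (hc : p ^ 3 ∣ Nat.card G) : p ∈ ([] : List ℕ) := by
  rw [Orders.j1 h] at hc
  refine cube (Fact.out : p.Prime) hp [(2, 3), (3, 1), (5, 1), (7, 1), (11, 1), (19, 1)] [] (by norm_num) ?_ (by decide) hc
  simp only [List.forall_mem_cons, List.not_mem_nil, false_imp_iff, implies_true, and_true]
  norm_num

theorem cube_j2 (h : Spor.IsoJ2 G) (hp : 5 ≤ p) (hc : p ^ 3 ∣ Nat.card G) : p ∈ ([] : List ℕ) := by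
  rw [Orders.j2 h] at hc
  refine cube (Fact.out : p.Prime) hp [(2, 7), (3, 3), (5, 2), (7, 1)] [] (by norm_num) ?_ (by decide) hc
  simp only [List.forall_mem_cons, List.not_mem_nil, false_imp_iff, implies_true, and_true]
  norm_num

theorem cube_j3 (h : Spor.IsoJ3 G) (hp : 5 ≤ p) (hc : p ^ 3 ∣ Nat.card G) : p ∈ ([] : List ℕ) := by
  rw [Orders.j3 h] at hc
  refine cube (Fact.out : p.Prime) hp [(2, 7), (3, 5), (5, 1), (17, 1), (19, 1)] [] (by norm_num) ?_ (by decide) hc
  simp only [List.forall_mem_cons, List.not_mem_nil, false_imp_iff, implies_true, and_true]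
  norm_num

theorem cube_j4 (h : Spor.IsoJ4 G) (hp : 5 ≤ p) (hc : p ^ 3 ∣ Nat.card G) : p ∈ ([11] : List ℕ) := by
  rw [Orders.j4 h] at hc
  refine cube (Fact.out : p.Prime) hp [(2, 21), (3, 3), (5, 1), (7, 1), (11, 3), (23, 1), (29, 1), (31, 1), (37, 1), (43, 1)] [11] (by norm_num) ?_ (by decide) hc
  simp only [List.forall_mem_cons, List.not_mem_nil, false_imp_iff, implies_true, and_true]
  norm_num

theorem cube_co1 (h : Spor.IsoCo1 G) (hp : 5 ≤ p) (hc : p ^ 3 ∣ Nat.card G) : p ∈ ([5] : List ℕ) := by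
  rw [Orders.co1 h] at hc
  refine cube (Fact.out : p.Prime) hp [(2, 21), (3, 9), (5, 4), (7, 2), (11, 1), (13, 1), (23, 1)] [5] (by norm_num) ?_ (by decide) hc
  simp only [List.forall_mem_cons, List.not_mem_nil, false_imp_iff, implies_true, and_true]
  norm_num

theorem cube_co2 (h : Spor.IsoCo2 G) (hp : 5 ≤ p) (hc : p ^ 3 ∣ Nat.card G) : p ∈ ([5] : List ℕ) := by
  rw [Orders.co2 h] at hc
  refine cube (Fact.out : p.Prime) hp [(2, 18), (3, 6), (5, 3), (7, 1), (11, 1), (23, 1)] [5] (by norm_num) ?_ (by decide) hc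
  simp only [List.forall_mem_cons, List.not_mem_nil, false_imp_iff, implies_true, and_true]
  norm_num

theorem cube_co3 (h : Spor.IsoCo3 G) (hp : 5 ≤ p) (hc : p ^ 3 ∣ Nat.card G) : p ∈ ([5] : List ℕ) := by
  rw [Orders.co3 h] at hc
  refine cube (Fact.out : p.Prime) hp [(2, 10), (3, 7), (5, 3), (7, 1), (11, 1), (23, 1)] [5] (by norm_num) ?_ (by decide) hc
  simp only [List.forall_mem_cons, List.not_mem_nil, false_imp_iff, implies_true, and_true]
  norm_num

theorem cube_mcl (h : Spor.IsoMcL G) (hp : 5 ≤ p) (hc : p ^ 3 ∣ Nat.card G) : p ∈ ([5] : List ℕ) := by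
  rw [Orders.mcl h] at hc
  refine cube (Fact.out : p.Prime) hp [(2, 7), (3, 6), (5, 3), (7, 1), (11, 1)] [5] (by norm_num) ?_ (by decide) hc
  simp only [List.forall_mem_cons, List.not_mem_nil, false_imp_iff, implies_true, and_true]
  norm_num

theorem cube_hs (h : Spor.IsoHS G) (hp : 5 ≤ p) (hc : p ^ 3 ∣ Nat.card G) : p ∈ ([5] : List ℕ) := by
  rw [Orders.hs h] at hc
  refine cube (Fact.out : p.Prime) hp [(2, 9), (3, 2), (5, 3), (7, 1), (11, 1)] [5] (by norm_num) ?_ (by decide) hc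
  simp only [List.forall_mem_cons, List.not_mem_nil, false_imp_iff, implies_true, and_true]
  norm_num

theorem cube_suz (h : Spor.IsoSuz G) (hp : 5 ≤ p) (hc : p ^ 3 ∣ Nat.card G) : p ∈ ([] : List ℕ) := by
  rw [Orders.suz h] at hc
  refine cube (Fact.out : p.Prime) hp [(2, 13), (3, 7), (5, 2), (7, 1), (11, 1), (13, 1)] [] (by norm_num) ?_ (by decide) hc
  simp only [List.forall_mem_cons, List.not_mem_nil, false_imp_iff, implies_true, and_true]
  norm_num

theorem cube_he (h : Spor.IsoHe G) (hp : 5 ≤ p) (hc : p ^ 3 ∣ Nat.card G) : p ∈ ([7] : List ℕ) := by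
  rw [Orders.he h] at hc
  refine cube (Fact.out : p.Prime) hp [(2, 10), (3, 3), (5, 2), (7, 3), (17, 1)] [7] (by norm_num) ?_ (by decide) hc
  simp only [List.forall_mem_cons, List.not_mem_nil, false_imp_iff, implies_true, and_true]
  norm_num

theorem cube_ru (h : Spor.IsoRu G) (hp : 5 ≤ p) (hc : p ^ 3 ∣ Nat.card G) : p ∈ ([5] : List ℕ) := by
  rw [Orders.ru h] at hc
  refine cube (Fact.out : p.Prime) hp [(2, 14), (3, 3), (5, 3), (7, 1), (13, 1), (29, 1)] [5] (by norm_num) ?_ (by decide) hc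
  simp only [List.forall_mem_cons, List.not_mem_nil, false_imp_iff, implies_true, and_true]
  norm_num

theorem cube_on (h : Spor.IsoON G) (hp : 5 ≤ p) (hc : p ^ 3 ∣ Nat.card G) : p ∈ ([7] : List ℕ) := by
  rw [Orders.on h] at hc
  refine cube (Fact.out : p.Prime) hp [(2, 9), (3, 4), (5, 1), (7, 3), (11, 1), (19, 1), (31, 1)] [7] (by norm_num) ?_ (by decide) hc
  simp only [List.forall_mem_cons, List.not_mem_nil, false_imp_iff, implies_true, and_true]
  norm_num

theorem cube_ly (h : Spor.IsoLy G) (hp : 5 ≤ p) (hc : p ^ 3 ∣ Nat.card G) : p ∈ ([5] : List ℕ) := by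
  rw [Orders.ly h] at hc
  refine cube (Fact.out : p.Prime) hp [(2, 8), (3, 7), (5, 6), (7, 1), (11, 1), (31, 1), (37, 1), (67, 1)] [5] (by norm_num) ?_ (by decide) hc
  simp only [List.forall_mem_cons, List.not_mem_nil, false_imp_iff, implies_true, and_true]
  norm_num

theorem cube_fi22 (h : Spor.IsoFi22 G) (hp : 5 ≤ p) (hc : p ^ 3 ∣ Nat.card G) : p ∈ ([] : List ℕ) := by
  rw [Orders.fi22 h] at hc
  refine cube (Fact.out : p.Prime) hp [(2, 17), (3, 9), (5, 2), (7, 1), (11, 1), (13, 1)] [] (by norm_num) ?_ (by decide) hc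
  simp only [List.forall_mem_cons, List.not_mem_nil, false_imp_iff, implies_true, and_true]
  norm_num

theorem cube_fi23 (h : Spor.IsoFi23 G) (hp : 5 ≤ p) (hc : p ^ 3 ∣ Nat.card G) : p ∈ ([] : List ℕ) := by
  rw [Orders.fi23 h] at hc
  refine cube (Fact.out : p.Prime) hp [(2, 18), (3, 13), (5, 2), (7, 1), (11, 1), (13, 1), (17, 1), (23, 1)] [] (by norm_num) ?_ (by decide) hc
  simp only [List.forall_mem_cons, List.not_mem_nil, false_imp_iff, implies_true, and_true]
  norm_num

theorem cube_fi24 (h : Spor.IsoFi24' G) (hp : 5 ≤ p) (hc : p ^ 3 ∣ Nat.card G) : p ∈ ([7] : List ℕ) := by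
  rw [Orders.fi24 h] at hc
  refine cube (Fact.out : p.Prime) hp [(2, 21), (3, 16), (5, 2), (7, 3), (11, 1), (13, 1), (17, 1), (23, 1), (29, 1)] [7] (by norm_num) ?_ (by decide) hc
  simp only [List.forall_mem_cons, List.not_mem_nil, false_imp_iff, implies_true, and_true]
  norm_num

theorem cube_hn (h : Spor.IsoHN G) (hp : 5 ≤ p) (hc : p ^ 3 ∣ Nat.card G) : p ∈ ([5] : List ℕ) := by
  rw [Orders.hn h] at hc
  refine cube (Fact.out : p.Prime) hp [(2, 14), (3, 6), (5, 6), (7, 1), (11, 1), (19, 1)] [5] (by norm_num) ?_ (by decide) hc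
  simp only [List.forall_mem_cons, List.not_mem_nil, false_imp_iff, implies_true, and_true]
  norm_num

theorem cube_th (h : Spor.IsoTh G) (hp : 5 ≤ p) (hc : p ^ 3 ∣ Nat.card G) : p ∈ ([5] : List ℕ) := by
  rw [Orders.th h] at hc
  refine cube (Fact.out : p.Prime) hp [(2, 15), (3, 10), (5, 3), (7, 2), (13, 1), (19, 1), (31, 1)] [5] (by norm_num) ?_ (by decide) hc
  simp only [List.forall_mem_cons, List.not_mem_nil, false_imp_iff, implies_true, and_true]
  norm_num

theorem cube_b (h : Spor.IsoB G) (hp : 5 ≤ p) (hc : p ^ 3 ∣ Nat.card G) : p ∈ ([5] : List ℕ) := by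
  rw [Orders.b h] at hc
  refine cube (Fact.out : p.Prime) hp [(2, 41), (3, 13), (5, 6), (7, 2), (11, 1), (13, 1), (17, 1), (19, 1), (23, 1), (31, 1), (47, 1)] [5] (by norm_num) ?_ (by decide) hc
  simp only [List.forall_mem_cons, List.not_mem_nil, false_imp_iff, implies_true, and_true]
  norm_num

theorem cube_m (h : Spor.IsoM G) (hp : 5 ≤ p) (hc : p ^ 3 ∣ Nat.card G) : p ∈ ([5, 7, 13] : List ℕ) := by
  rw [Orders.m h] at hc
  refine cube (Fact.out : p.Prime) hp [(2, 46), (3, 20), (5, 9), (7, 6), (11, 2), (13, 3), (17, 1), (19, 1), (23, 1), (29, 1), (31, 1), (41, 1), (47, 1), (59, 1), (71, 1)] [5, 7, 13] (by norm_num) ?_ (by decide) hc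
  simp only [List.forall_mem_cons, List.not_mem_nil, false_imp_iff, implies_true, and_true]
  norm_num

/-- **All sporadic groups**, `p ≥ 5`. -/
theorem meet_spor (hp : 5 ≤ p) (h : IsSporadicGroup G) : Meet p G := by
  by_cases hc : p ^ 3 ∣ Nat.card G
  swap
  · exact Cfsg.Agent.H47.MeetS.meet_spor_abelian hp h hc
  rcases h with h | h | h | h | h | h | h | h | h | h | h | h | h | h | h | h | h | h | h | h | h | h | h | h | h | h
  · exact absurd (cube_m11 h hp hc) List.not_mem_nil
  · exact absurd (cube_m12 h hp hc) List.not_mem_nil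
  · exact absurd (cube_m22 h hp hc) List.not_mem_nil
  · exact absurd (cube_m23 h hp hc) List.not_mem_nil
  · exact absurd (cube_m24 h hp hc) List.not_mem_nil
  · exact absurd (cube_j1 h hp hc) List.not_mem_nil
  · exact absurd (cube_j2 h hp hc) List.not_mem_nil
  · exact absurd (cube_j3 h hp hc) List.not_mem_nil
  · obtain rfl : p = 11 := by simpa using cube_j4 h hp hc
    exact Cfsg.Agent.H47.MeetS.meet11_J4 h
  · obtain rfl : p = 5 := by simpa using cube_co1 h hp hc
    exact Cfsg.Agent.H47.MeetS.meet5_Co1 h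
  · obtain rfl : p = 5 := by simpa using cube_co2 h hp hc
    exact Cfsg.Agent.H47.MeetS.meet5_Co2 h
  · obtain rfl : p = 5 := by simpa using cube_co3 h hp hc
    exact Cfsg.Agent.H47.MeetS.meet5_Co3 h
  · obtain rfl : p = 5 := by simpa using cube_mcl h hp hc
    exact Cfsg.Agent.H68.MeetMcL.meet5_McL h
  · obtain rfl : p = 5 := by simpa using cube_hs h hp hc
    exact Cfsg.Agent.H68.MeetHS.meet5_HS h
  · exact absurd (cube_suz h hp hc) List.not_mem_nil
  · obtain rfl : p = 7 := by simpa using cube_he h hp hc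
    exact Cfsg.Agent.H47.MeetS.meet7_He h
  · obtain rfl : p = 5 := by simpa using cube_ru h hp hc
    exact Cfsg.Agent.H68.MeetRu.meet5_Ru h
  · obtain rfl : p = 7 := by simpa using cube_on h hp hc
    exact Cfsg.Agent.H47.MeetS.meet7_ON h
  · obtain rfl : p = 5 := by simpa using cube_ly h hp hc
    exact Cfsg.Agent.H68.MeetLy.meet5_Ly h
  · exact absurd (cube_fi22 h hp hc) List.not_mem_nil
  · exact absurd (cube_fi23 h hp hc) List.not_mem_nil
  · obtain rfl : p = 7 := by simpa using cube_fi24 h hp hc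
    exact Cfsg.Agent.H47.MeetS.meet7_Fi24 h
  · obtain rfl : p = 5 := by simpa using cube_hn h hp hc
    exact Cfsg.Agent.H68.MeetHN.meet5_HN h
  · obtain rfl : p = 5 := by simpa using cube_th h hp hc
    exact Cfsg.Agent.H68.MeetTh.meet5_Th h
  · obtain rfl : p = 5 := by simpa using cube_b h hp hc
    exact Cfsg.Agent.H68.MeetBaby.meet5_B h
  · have hs := cube_m h hp hc
    simp only [List.mem_cons, List.not_mem_nil, or_false] at hs
    rcases hs with rfl | rfl | rfl
    · exact Cfsg.Agent.H68.MeetMon.meet5_M h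
    · exact Cfsg.Agent.H47.MeetS.Mon.meet7_M h
    · exact Cfsg.Agent.H47.MeetS.Mon.meet13_M h

end Cfsg.Agent.H903.SylSpor
end

-- part: H903/SylFin
section
set_option autoImplicit false

namespace Cfsg.Agent.H903.SylFin

open Cfsg Cfsg.Lie Cfsg.Agent.H903.SylMeet

/-- **Main theorem** for known simple groups. -/
theorem meet_known {p : ℕ} [Fact p.Prime] {T : Type*} [Group T] [Finite T] [IsSimpleGroup T] (hp : 5 ≤ p)
    (hT : ¬ IsMulCommutative T) (h : IsKnownSimple' T) : Meet p T := by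
  rcases h with h | h | h | h | h | h | h | h | h | h
  · exfalso
    apply hT
    haveI : Fact (Nat.card T).Prime := ⟨h⟩
    haveI := isCyclic_of_prime_card (α := T) rfl
    exact ⟨⟨fun a b => (IsCyclic.commGroup (α := T)).mul_comm a b⟩⟩
  · exact SylClass.alt hp h
  · exact SylClass.psl hp h
  · exact SylClass.psp hp h
  · exact SylClass.psu hp h
  · exact SylClass.pomega_odd hp h
  · exact SylClass.pomega_plus hp h
  · exact SylClass.pomega_minus hp h
  · exact SylExc.meet_exc hp h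
  · exact SylSpor.meet_spor hp h

end Cfsg.Agent.H903.SylFin
end
end
end
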